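import Mathlib

/-!
A `p`-group with a self-centralizing subgroup of order `p ^ 2` has maximal class.
-/

set_option autoImplicit false

namespace CfsgLib.PGroup

universe u

variable {p : ℕ} [Fact p.Prime]

/-- If `A` has order `p ^ 2` and `a ∈ A` is not central, and `A` is the centralizer of `a`, then
the normalizer of `A` has order at most `p ^ 3`. -/
theorem card_normalizer_le {X : Type*} [Group X] [Finite X] (hX : IsPGroup p X) (A : Subgroup X)
    (hA : Nat.card A = p ^ 2) (a : X) (ha : a ∈ A) (ha1 : a ≠ 1)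
    (hC : Subgroup.centralizer ({a} : Set X) ≤ A) :
    Nat.card (Subgroup.normalizer (A : Set X)) ≤ p ^ 3 := by
  have hp : p.Prime := Fact.out
  set N := Subgroup.normalizer (A : Set X) with hN
  set S := N ⊓ Subgroup.centralizer ({a} : Set X) with hS
  let φ : N ⧸ S.subgroupOf N → A := Quotient.lift
    (fun e : N => (⟨(e : X) * a * (e : X)⁻¹, ((Subgroup.mem_normalizer_iff.mp e.2) a).mp ha⟩ : A))
    (fun e f (hef : (QuotientGroup.leftRel (S.subgroupOf N)) e f) => by
      have hef' : (e : X)⁻¹ * f ∈ S := by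
        have h1 : e⁻¹ * f ∈ S.subgroupOf N := QuotientGroup.leftRel_apply.mp hef
        exact h1
      have := Subgroup.mem_centralizer_singleton_iff.mp hef'.2
      refine Subtype.ext ?_
      show (e : X) * a * (e : X)⁻¹ = f * a * (f : X)⁻¹
      rw [show (f : X) * a * (f : X)⁻¹ = e * ((e : X)⁻¹ * f * a) * (f : X)⁻¹ by group, this]
      group)
  have hinj : Function.Injective φ := by
    rintro ⟨e⟩ ⟨f⟩ hef
    have hef' : (e : X) * a * (e : X)⁻¹ = f * a * (f : X)⁻¹ := congrArg Subtype.val hef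
    refine QuotientGroup.eq.mpr (Subgroup.mem_inf.mpr ⟨(e⁻¹ * f).2,
      Subgroup.mem_centralizer_singleton_iff.mpr ?_⟩)
    show (e : X)⁻¹ * f * a = a * ((e : X)⁻¹ * f)
    rw [show (e : X)⁻¹ * f * a = (e : X)⁻¹ * (f * a * (f : X)⁻¹) * f by group, ← hef']
    group
  have hns : ¬ Function.Surjective φ := by
    intro hs
    obtain ⟨⟨e⟩, he⟩ := hs 1
    have he' : (e : X) * a * (e : X)⁻¹ = 1 := congrArg Subtype.val he
    exact ha1 (conj_eq_one_iff.mp he')
  have hlt : S.relIndex N < p ^ 2 := hA ▸ (lt_of_le_of_ne (Nat.card_le_card_of_injective φ hinj)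
    fun heq => hns ((Nat.bijective_iff_injective_and_card φ).mpr ⟨hinj, heq⟩).2)
  have hrel := Subgroup.relIndex_mul_relIndex ⊥ S N bot_le inf_le_left
  rw [Subgroup.relIndex_bot_left, Subgroup.relIndex_bot_left] at hrel
  obtain ⟨k, hk⟩ := IsPGroup.iff_card.mp (hX.to_subgroup N)
  obtain ⟨i, -, hi⟩ := (Nat.dvd_prime_pow hp).mp (hk ▸ Dvd.intro_left _ hrel : S.relIndex N ∣ p ^ k)
  have hi1 : i ≤ 1 := by
    by_contra hc
    exact absurd hlt (not_lt.mpr (hi ▸ Nat.pow_le_pow_right hp.pos (by omega)))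
  rw [← hrel, hi, show p ^ 3 = p ^ 2 * p ^ 1 by ring]
  exact Nat.mul_le_mul (hA ▸ Subgroup.card_le_of_le (inf_le_right.trans hC))
    (Nat.pow_le_pow_right hp.pos hi1)

theorem nilpotencyClass_of_self_centralizing : ∀ (n : ℕ) (X : Type u) [Group X] [Finite X],
    Nat.card X = p ^ n → ∀ A : Subgroup X, Nat.card A = p ^ 2 →
      Subgroup.centralizer (A : Set X) = A → Group.nilpotencyClass X = n - 1 := by
  have hp : p.Prime := Fact.out
  intro n
  induction n using Nat.strong_induction_on with
  | _ n ih =>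
  intro X _ _ hX A hA hC
  have hXp : IsPGroup p X := IsPGroup.of_card hX
  haveI : Group.IsNilpotent X := hXp.isNilpotent
  have hn2 : 2 ≤ n := by
    have := Subgroup.card_le_card_group A
    rw [hA, hX] at this
    exact (Nat.pow_le_pow_iff_right hp.one_lt).mp this
  haveI : Nontrivial X := Finite.one_lt_card_iff_nontrivial.mp
    (hX ▸ Nat.one_lt_pow (by omega) hp.one_lt)
  set Z := Subgroup.center X with hZ
  have hZA : Z ≤ A := hC ▸ fun z hz a _ => Subgroup.mem_center_iff.mp hz a
  by_cases hAZ : A ≤ Z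
  · have hAtop : A = ⊤ := by
      rw [← hC, eq_top_iff]
      exact fun x _ a ha => (Subgroup.mem_center_iff.mp (hAZ ha) x).symm
    have hn : n = 2 := by
      refine Nat.pow_right_injective hp.two_le (show p ^ n = p ^ 2 from ?_)
      rw [← hA, hAtop, Subgroup.card_top, hX]
    have hZt : Z = ⊤ := eq_top_iff.mpr (hAtop ▸ hAZ)
    haveI : Subsingleton (X ⧸ Z) := QuotientGroup.subsingleton_iff.mpr hZt
    have h0 : Group.nilpotencyClass (X ⧸ Z) = 0 := Group.nilpotencyClass_zero_iff_subsingleton.mpr ‹_›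
    rw [Group.nilpotencyClass_eq_quotient_center_plus_one, h0, hn]
  obtain ⟨a, haA, haZ⟩ := SetLike.not_le_iff_exists.mp hAZ
  have hZ1 : Z ≠ ⊥ := by
    haveI := hXp.center_nontrivial
    exact (Subgroup.nontrivial_iff_ne_bot _).mp this
  -- the centre has order `p`
  obtain ⟨j, hj⟩ := IsPGroup.iff_card.mp (hXp.to_subgroup Z)
  have hj1 : j = 1 := by
    have h1 : Nat.card Z < p ^ 2 := hA ▸ (lt_of_le_of_ne (Subgroup.card_le_of_le hZA)
      fun h => hAZ (Subgroup.eq_of_le_of_card_ge hZA h.ge).ge)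
    have h2 : 1 < Nat.card Z := Subgroup.one_lt_card_iff_ne_bot Z |>.mpr hZ1
    rw [hj] at h1 h2
    have := (Nat.pow_lt_pow_iff_right hp.one_lt).mp h1
    rcases j with _ | _ | j <;> first | rfl | omega | simp at h2
  rw [hj1, pow_one] at hj
  have hCa : Subgroup.centralizer ({a} : Set X) ≤ A := by
    intro x hx
    rw [← hC]
    intro b hb
    have hgen : A ≤ Subgroup.centralizer ({x} : Set X) := by
      set D := A ⊓ Subgroup.centralizer ({x} : Set X) with hD
      have hZD : Z ≤ D := le_inf hZA fun z hz => Subgroup.mem_centralizer_singleton_iff.mpr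
        (Subgroup.mem_center_iff.mp hz x).symm
      have haD : a ∈ D := ⟨haA, Subgroup.mem_centralizer_singleton_iff.mpr
        (Subgroup.mem_centralizer_singleton_iff.mp hx).symm⟩
      have : D = A := by
        refine Subgroup.eq_of_le_of_card_ge inf_le_left ?_
        obtain ⟨d, hd⟩ := IsPGroup.iff_card.mp (hXp.to_subgroup D)
        have hlt : Nat.card Z < Nat.card D := lt_of_le_of_ne (Subgroup.card_le_of_le hZD) fun h =>
          haZ ((Subgroup.eq_of_le_of_card_ge hZD h.ge).ge haD)
        rw [hj, hd] at hlt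
        rw [hA, hd]
        refine Nat.pow_le_pow_right hp.pos ?_
        by_contra hc
        exact absurd hlt (not_lt.mpr ((Nat.pow_le_pow_right hp.pos (by omega : d ≤ 1)).trans_eq
          (pow_one p)))
      exact this ▸ inf_le_right
    exact Subgroup.mem_centralizer_singleton_iff.mp (hgen hb)
  set N := Subgroup.normalizer (A : Set X) with hN
  have hAN : A ≤ N := Subgroup.le_normalizer
  have hN3 : Nat.card N = p ^ 3 := by
    refine le_antisymm (card_normalizer_le hXp A hA a haA (fun h => haZ (h ▸ one_mem Z)) hCa) ?_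
    obtain ⟨k, hk⟩ := IsPGroup.iff_card.mp (hXp.to_subgroup N)
    have hlt : A < N := Group.normalizerCondition_of_isNilpotent A (lt_top_iff_ne_top.mpr fun h => by
      apply hAZ
      intro b hb
      rw [hZ, Subgroup.mem_center_iff]
      intro g
      exact ((hC.ge hb) g (h.ge (Subgroup.mem_top g))))
    have h1 : Nat.card A < Nat.card N := lt_of_le_of_ne (Subgroup.card_le_of_le hlt.le) fun h =>
      hlt.ne (Subgroup.eq_of_le_of_card_ge hlt.le h.ge)
    rw [hA, hk] at h1
    rw [hk]
    exact Nat.pow_le_pow_right hp.pos (by have := (Nat.pow_lt_pow_iff_right hp.one_lt).mp h1; omega)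
  -- pass to the quotient by the centre
  set f := QuotientGroup.mk' Z with hf
  have hsurj : Function.Surjective f := QuotientGroup.mk'_surjective _
  have hXQ : Nat.card (X ⧸ Z) = p ^ (n - 1) := by
    have := Subgroup.card_eq_card_quotient_mul_card_subgroup Z
    rw [hX, hj] at this
    refine Nat.eq_of_mul_eq_mul_right hp.pos (this.symm.trans ?_)
    rw [← pow_succ, Nat.sub_add_cancel (by omega)]
  set B := N.map f with hB
  have hBc : Nat.card B = p ^ 2 := by
    have h1 : (f.ker).relIndex N = Nat.card B := Subgroup.relIndex_ker N f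
    rw [hf, QuotientGroup.ker_mk'] at h1
    have h2 := Subgroup.relIndex_mul_relIndex ⊥ Z N bot_le (hZA.trans hAN)
    rw [Subgroup.relIndex_bot_left, Subgroup.relIndex_bot_left, h1, hj, hN3] at h2
    exact Nat.eq_of_mul_eq_mul_left hp.pos (h2.trans (by ring))
  have hBab : B ≤ Subgroup.centralizer (B : Set (X ⧸ Z)) := by
    intro u hu v hv
    letI := IsPGroup.commGroupOfCardEqPrimeSq hBc
    exact congrArg Subtype.val (mul_comm (⟨v, hv⟩ : B) ⟨u, hu⟩)
  have hBC : Subgroup.centralizer (B : Set (X ⧸ Z)) = B := by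
    refine le_antisymm (fun u hu => ?_) hBab
    obtain ⟨g, rfl⟩ := hsurj u
    refine ⟨g, ?_, rfl⟩
    have key : ∀ b ∈ A, g * b * g⁻¹ ∈ A := fun b hb => by
      have h1 : f b * f g = f g * f b := hu (f b) ⟨b, hAN hb, rfl⟩
      have h2 : (g * b * g⁻¹) * b⁻¹ ∈ Z := by
        rw [← QuotientGroup.ker_mk' Z, ← hf, MonoidHom.mem_ker, map_mul, map_mul, map_mul, ← h1,
          map_inv, map_inv, mul_inv_cancel_right, mul_inv_cancel]
      simpa using mul_mem (hZA h2) hb
    show g ∈ Subgroup.normalizer (A : Set X)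
    rw [Subgroup.mem_normalizer_iff]
    refine fun b => ⟨fun hb => key b hb, fun hb => ?_⟩
    obtain ⟨⟨c, hc⟩, hcb⟩ := (Finite.injective_iff_surjective
      (f := fun c : A => (⟨g * c * g⁻¹, key c c.2⟩ : A))).mp
      (fun c d h => Subtype.ext (by simpa using congrArg Subtype.val h)) ⟨g * b * g⁻¹, hb⟩
    have : g * c * g⁻¹ = g * b * g⁻¹ := congrArg Subtype.val hcb
    simp only [mul_left_inj, mul_right_inj] at this
    exact this ▸ hc
  rw [Group.nilpotencyClass_eq_quotient_center_plus_one, ih (n - 1) (by omega) _ hXQ B hBc hBC]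
  have : 3 ≤ n := by
    have h3 := Subgroup.card_le_card_group N
    rw [hN3, hX] at h3
    exact (Nat.pow_le_pow_iff_right hp.one_lt).mp h3
  omega

end CfsgLib.PGroup
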