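import Mathlib
import Cfsg.Agent.Lib.PSolvable.Omega

/-!
Orders of the lower central series of a `p`-group; groups of maximal class.
-/

set_option autoImplicit false
set_option linter.style.haveILetI false

namespace CfsgLib.MaxClass

variable {G : Type*} [Group G] [Finite G] {p : ℕ} [hp : Fact p.Prime]

theorem card_lcs_succ_le {r : ℕ} (hG : Nat.card G = p ^ r) :
    ∀ i, Nat.card ↥((⊤ : Subgroup G).lowerCentralSeries (i + 1)) ≤ p ^ (r - 2 - i) := by
  have hP : IsPGroup p G := IsPGroup.of_card hG
  haveI := hP.isNilpotent
  obtain ⟨c, hc⟩ := (Subgroup.isNilpotent_iff_lowerCentralSeries (⊤ : Subgroup G)).mp inferInstance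
  intro i
  induction i with
  | zero =>
    rw [zero_add, Subgroup.top_lowerCentralSeries_one, Nat.sub_zero]
    obtain ⟨a, ha⟩ := IsPGroup.iff_card.mp (hP.to_subgroup (commutator G))
    rw [ha]
    refine Nat.pow_le_pow_right hp.out.pos ?_
    by_contra hcon
    -- the derived subgroup has index at most `p`
    have hbot : commutator G = ⊥ := by
      by_cases hle : Nat.card G ≤ p ^ 2
      · obtain ⟨k, hk⟩ := IsPGroup.iff_card.mp hP
        have hk2 : k ≤ 2 := (Nat.pow_le_pow_iff_right hp.out.one_lt).mp (hk ▸ hle)
        have hcomm : IsMulCommutative G := by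
          rcases Nat.lt_or_ge k 2 with h | h
          · haveI : IsCyclic G := by
              rcases Nat.lt_or_ge k 1 with h' | h'
              · haveI : Subsingleton G :=
                  (Nat.card_eq_one_iff_unique.mp (by rw [hk, show k = 0 by omega, pow_zero])).1
                exact isCyclic_of_subsingleton
              · exact isCyclic_of_prime_card (p := p) (by rw [hk, show k = 1 by omega, pow_one])
            exact ⟨⟨fun a b => (IsCyclic.commGroup (α := G)).mul_comm a b⟩⟩
          · exact IsPGroup.isMulCommutative_of_card_eq_prime_sq (p := p)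
              (by rw [hk, show k = 2 by omega])
        rw [commutator_def, Subgroup.commutator_eq_bot_iff_le_centralizer]
        exact fun x _ y _ => mul_comm' y x
      · have hr : 3 ≤ r := by
          by_contra h
          exact hle (hG ▸ Nat.pow_le_pow_right hp.out.pos (by omega))
        have har : a ≤ r := by
          have := (Nat.pow_dvd_pow_iff_le_right hp.out.one_lt).mp
            (show p ^ a ∣ p ^ r by rw [← ha, ← hG]; exact Subgroup.card_subgroup_dvd_card _)
          exact this
        have hidx : (commutator G).index ∣ p := by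
          have h1 := (commutator G).card_mul_index
          rw [ha, hG, show r = a + (r - a) by omega, pow_add] at h1
          rw [Nat.eq_of_mul_eq_mul_left (pow_pos hp.out.pos a) h1]
          exact (pow_dvd_pow p (show r - a ≤ 1 by omega)).trans (by rw [pow_one])
        obtain ⟨x, hx⟩ : ∃ x, commutator G ⊔ Subgroup.zpowers x = ⊤ := by
          by_cases htop : commutator G = ⊤
          · exact ⟨1, by rw [htop, top_sup_eq]⟩
          · obtain ⟨x, hx⟩ : ∃ x, x ∉ commutator G := by
              by_contra h
              push Not at h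
              exact htop (eq_top_iff.mpr fun y _ => h y)
            refine ⟨x, ?_⟩
            have hle' : commutator G ≤ commutator G ⊔ Subgroup.zpowers x := le_sup_left
            have h2 := Subgroup.relIndex_mul_index hle'
            rcases (Nat.dvd_prime hp.out).mp ((Subgroup.index_dvd_of_le hle').trans hidx) with h | h
            · exact Subgroup.index_eq_one.mp h
            · exfalso
              have h3 : (commutator G).index = p :=
                Nat.dvd_antisymm hidx (h ▸ Subgroup.index_dvd_of_le hle')
              rw [h, h3] at h2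
              exact hx (Subgroup.relIndex_eq_one.mp (Nat.eq_of_mul_eq_mul_right hp.out.pos
                (h2.trans (one_mul p).symm)) (Subgroup.mem_sup_right (Subgroup.mem_zpowers x)))
        have hcyc : Subgroup.zpowers x = ⊤ := by
          refine frattini_nongenerating (le_antisymm le_top (hx.ge.trans ?_))
          rw [sup_comm]
          exact sup_le_sup_left (PSolvable.commutator_le_frattini hP).1 _
        rw [commutator_def, Subgroup.commutator_eq_bot_iff_le_centralizer, ← hcyc]
        exact Subgroup.le_centralizer _
    rw [hbot, Subgroup.card_bot] at ha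
    have h0 : a = 0 := by
      by_contra h
      exact (Nat.one_lt_pow h hp.out.one_lt).ne ha
    omega
  | succ i ih =>
    rcases eq_or_ne ((⊤ : Subgroup G).lowerCentralSeries (i + 1)) ⊥ with h | h
    · rw [Subgroup.lowerCentralSeries_succ, h, Subgroup.commutator_bot_left, Subgroup.card_bot]
      exact Nat.one_le_pow _ _ hp.out.pos
    · have hle : (⊤ : Subgroup G).lowerCentralSeries (i + 1 + 1) ≤
          (⊤ : Subgroup G).lowerCentralSeries (i + 1) :=
        (⊤ : Subgroup G).lowerCentralSeries_antitone (Nat.le_succ _)
      have hlt : (⊤ : Subgroup G).lowerCentralSeries (i + 1 + 1) <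
          (⊤ : Subgroup G).lowerCentralSeries (i + 1) := by
        refine lt_of_le_of_ne hle fun heq => h ?_
        have hconst : ∀ j, (⊤ : Subgroup G).lowerCentralSeries (i + 1 + j) =
            (⊤ : Subgroup G).lowerCentralSeries (i + 1) := by
          intro j
          induction j with
          | zero => rfl
          | succ j ihj =>
            rw [← add_assoc, Subgroup.lowerCentralSeries_succ, ihj, ← Subgroup.lowerCentralSeries_succ,
              heq]
        exact le_bot_iff.mp ((hconst c).ge.trans
          (((⊤ : Subgroup G).lowerCentralSeries_antitone (by omega)).trans hc.le))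
      obtain ⟨a, ha⟩ := IsPGroup.iff_card.mp (hP.to_subgroup ((⊤ : Subgroup G).lowerCentralSeries (i + 1)))
      obtain ⟨b, hb⟩ :=
        IsPGroup.iff_card.mp (hP.to_subgroup ((⊤ : Subgroup G).lowerCentralSeries (i + 1 + 1)))
      rw [ha] at ih
      rw [hb]
      have hab : b < a := by
        by_contra hcon
        refine hlt.ne (Subgroup.eq_of_le_of_card_ge hle ?_)
        rw [ha, hb]
        exact Nat.pow_le_pow_right hp.out.pos (by omega)
      have := (Nat.pow_le_pow_iff_right hp.out.one_lt).mp ih
      exact Nat.pow_le_pow_right hp.out.pos (by omega)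

/-- The lower central series of a group of maximal class has exact orders. -/
theorem card_lcs_eq {n : ℕ} (hG : Nat.card G = p ^ n) (hcl : Group.nilpotencyClass G = n - 1)
    (hn : 3 ≤ n) :
    ∀ j, j + 2 ≤ n → Nat.card ↥((⊤ : Subgroup G).lowerCentralSeries (j + 1)) = p ^ (n - 2 - j) := by
  have hP : IsPGroup p G := IsPGroup.of_card hG
  haveI := hP.isNilpotent
  have hlast : (⊤ : Subgroup G).lowerCentralSeries (n - 2) ≠ ⊥ := fun h => by
    have := Subgroup.lowerCentralSeries_eq_bot_iff_nilpotencyClass_le.mp h
    omega
  suffices ∀ d j, j + d + 3 = n →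
      p ^ (n - 2 - j) ≤ Nat.card ↥((⊤ : Subgroup G).lowerCentralSeries (j + 1)) by
    intro j hj
    refine le_antisymm (card_lcs_succ_le hG j) ?_
    rcases Nat.lt_or_ge (j + 2) n with h | h
    · exact this (n - 3 - j) j (by omega)
    · rw [show n - 2 - j = 0 by omega, pow_zero]; exact Nat.card_pos
  intro d
  induction d with
  | zero =>
    intro j hj
    rw [show n - 2 - j = 1 by omega, pow_one, show j + 1 = n - 2 by omega]
    obtain ⟨a, ha⟩ := IsPGroup.iff_card.mp (hP.to_subgroup ((⊤ : Subgroup G).lowerCentralSeries (n - 2)))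
    have h1 := (Subgroup.one_lt_card_iff_ne_bot _).mpr hlast
    rw [ha] at h1 ⊢
    exact Nat.le_of_dvd (by omega) (dvd_pow_self p fun h0 => by simp [h0] at h1)
  | succ d ih =>
    intro j hj
    have h1 := ih (j + 1) (by omega)
    set X := (⊤ : Subgroup G).lowerCentralSeries (j + 1) with hX
    set Y := (⊤ : Subgroup G).lowerCentralSeries (j + 1 + 1) with hY
    have hle : Y ≤ X := (⊤ : Subgroup G).lowerCentralSeries_antitone (Nat.le_succ _)
    obtain ⟨a, ha⟩ := IsPGroup.iff_card.mp (hP.to_subgroup X)
    obtain ⟨b, hb⟩ := IsPGroup.iff_card.mp (hP.to_subgroup Y)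
    rw [hb] at h1
    rw [ha]
    have hb' := (Nat.pow_le_pow_iff_right hp.out.one_lt).mp h1
    refine Nat.pow_le_pow_right hp.out.pos ?_
    by_contra hcon
    have hab : a ≤ b := by omega
    have heq : Y = X := Subgroup.eq_of_le_of_card_ge hle (by
      rw [ha, hb]; exact Nat.pow_le_pow_right hp.out.pos hab)
    have hconst : ∀ i, (⊤ : Subgroup G).lowerCentralSeries (j + 1 + i) = X := by
      intro i
      induction i with
      | zero => rfl
      | succ i ihi => rw [← add_assoc, Subgroup.lowerCentralSeries_succ, ihi, hX,
          ← Subgroup.lowerCentralSeries_succ, ← hY, heq, hX]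
    obtain ⟨c, hc⟩ := (Subgroup.isNilpotent_iff_lowerCentralSeries (⊤ : Subgroup G)).mp inferInstance
    have hXb : X = ⊥ := le_bot_iff.mp ((hconst c).ge.trans
      (((⊤ : Subgroup G).lowerCentralSeries_antitone (by omega)).trans hc.le))
    rw [heq, hXb, Subgroup.card_bot] at hb
    have hb0 : b = 0 := by
      by_contra h
      exact (Nat.one_lt_pow h hp.out.one_lt).ne hb
    omega

/-- The lines of an elementary abelian group of order `p ^ 2`. -/
theorem card_lines {Q : Type*} [Group Q] [Finite Q] (hQ : Nat.card Q = p ^ 2)
    (he : ∀ x : Q, x ^ p = 1) : Nat.card {L : Subgroup Q // Nat.card L = p} = p + 1 := by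
  classical
  haveI := Fintype.ofFinite Q
  let f : {x : Q // x ≠ 1} → {L : Subgroup Q // Nat.card L = p} := fun x =>
    ⟨Subgroup.zpowers x.1, by rw [Nat.card_zpowers, orderOf_eq_prime (he x) x.2]⟩
  have hfib : ∀ L : {L : Subgroup Q // Nat.card L = p},
      Nat.card {x : {x : Q // x ≠ 1} // f x = L} = p - 1 := by
    rintro ⟨L, hL⟩
    have e : {x : {x : Q // x ≠ 1} // f x = ⟨L, hL⟩} ≃ {y : L // y ≠ 1} :=
      { toFun := fun x => ⟨⟨x.1.1, by
          have h1 : Subgroup.zpowers x.1.1 = L := congrArg Subtype.val x.2
          exact h1.le (Subgroup.mem_zpowers _)⟩, fun h => x.1.2 (congrArg Subtype.val h)⟩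
        invFun := fun y => ⟨⟨y.1.1, fun h => y.2 (Subtype.ext h)⟩, Subtype.ext (by
          refine Subgroup.eq_of_le_of_card_ge (Subgroup.zpowers_le.mpr y.1.2) ?_
          show Nat.card L ≤ Nat.card (Subgroup.zpowers y.1.1)
          rw [hL, Nat.card_zpowers,
            orderOf_eq_prime (he y.1.1) fun h => y.2 (Subtype.ext h)])⟩
        left_inv := fun x => rfl
        right_inv := fun y => rfl }
    rw [Nat.card_congr e, Nat.card_eq_fintype_card, Fintype.card_subtype_compl, ← hL,
      Nat.card_eq_fintype_card]
    simp
  have h1 : Nat.card {x : Q // x ≠ 1} = Nat.card {L : Subgroup Q // Nat.card L = p} * (p - 1) := by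
    haveI := Fintype.ofFinite {L : Subgroup Q // Nat.card L = p}
    rw [← Nat.card_congr (Equiv.sigmaFiberEquiv f), Nat.card_sigma,
      Finset.sum_congr rfl fun L _ => hfib L, Finset.sum_const, Finset.card_univ, smul_eq_mul,
      Nat.card_eq_fintype_card (α := {L : Subgroup Q // Nat.card L = p})]
  have h2 : Nat.card {x : Q // x ≠ 1} = p ^ 2 - 1 := by
    rw [Nat.card_eq_fintype_card, Fintype.card_subtype_compl, ← hQ, Nat.card_eq_fintype_card]
    simp
  rw [h2] at h1
  refine Nat.eq_of_mul_eq_mul_right (show 0 < p - 1 from by have := hp.out.two_le; omega)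
    (h1.symm.trans ?_)
  obtain ⟨k, hk⟩ : ∃ k, p = k + 1 := ⟨p - 1, by have := hp.out.one_lt; omega⟩
  rw [hk, Nat.add_sub_cancel, show (k + 1) ^ 2 = (k + 1 + 1) * k + 1 by ring, Nat.add_sub_cancel]

end CfsgLib.MaxClass
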