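import Mathlib
import Cfsg.Agent.Lib.PGroup.MaximalClass
import Cfsg.Agent.Lib.SmallTwo.DihedralRec
import Cfsg.Agent.Lib.Critical.Basic

/-!
`2`-groups of maximal class.
-/

set_option autoImplicit false
set_option linter.style.haveILetI false

open scoped commutatorElement

namespace CfsgLib.MaxClass

universe u

section IndexTwo

variable {X : Type*} [Group X]

/-- In a group with an abelian subgroup of index two, the order is twice the product of the orders
of the derived subgroup and the centre, and the derived subgroup is the image of `c ↦ [c, t]`. -/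
theorem index_two_facts [Finite X] (C : Subgroup X) (hC : C.index = 2) [IsMulCommutative C]
    {t : X} (ht : t ∉ C) (hna : commutator X ≠ ⊥) :
    Nat.card X = 2 * (Nat.card (commutator X) * Nat.card (Subgroup.center X)) ∧
      ∀ x ∈ commutator X, ∃ c ∈ C, x = c⁻¹ * (t * c * t⁻¹) := by
  haveI hCn : C.Normal := Subgroup.normal_of_index_eq_two hC
  have hcc : ∀ a ∈ C, ∀ b ∈ C, a * b = b * a := fun a ha b hb =>
    congrArg Subtype.val (mul_comm' (⟨a, ha⟩ : C) ⟨b, hb⟩)
  have hconj : ∀ c ∈ C, t * c * t⁻¹ ∈ C := fun c hc => hCn.conj_mem c hc t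
  let φ : C →* X :=
    { toFun := fun c => (c : X)⁻¹ * (t * c * t⁻¹)
      map_one' := by simp
      map_mul' := fun a b => by
        show ((a : X) * b)⁻¹ * (t * (a * b) * t⁻¹) =
          (a : X)⁻¹ * (t * a * t⁻¹) * ((b : X)⁻¹ * (t * b * t⁻¹))
        have h1 : (b : X)⁻¹ * ((a : X)⁻¹ * (t * a * t⁻¹)) = (a : X)⁻¹ * (t * a * t⁻¹) * (b : X)⁻¹ :=
          hcc _ (inv_mem b.2) _ (mul_mem (inv_mem a.2) (hconj a a.2))
        calc ((a : X) * b)⁻¹ * (t * (a * b) * t⁻¹)
            = (b : X)⁻¹ * ((a : X)⁻¹ * (t * a * t⁻¹)) * (t * b * t⁻¹) := by group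
          _ = _ := by rw [h1]; group }
  have hφC : φ.range ≤ C := by
    rintro _ ⟨c, rfl⟩
    exact mul_mem (inv_mem c.2) (hconj c c.2)
  have hsplit : ∀ x, x ∈ C ∨ x * t⁻¹ ∈ C := fun x => by
    rw [← inv_mem_iff (x := t)] at ht
    by_cases hx : x ∈ C
    · exact Or.inl hx
    · exact Or.inr ((Subgroup.mul_mem_iff_of_index_two hC).mpr (by tauto))
  haveI hn : φ.range.Normal := by
    constructor
    rintro _ ⟨c, rfl⟩ g
    have htc : t * φ c * t⁻¹ ∈ φ.range :=
      ⟨⟨t * c * t⁻¹, hconj c c.2⟩, show (t * (c : X) * t⁻¹)⁻¹ * (t * (t * c * t⁻¹) * t⁻¹) =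
        t * ((c : X)⁻¹ * (t * c * t⁻¹)) * t⁻¹ by group⟩
    rcases hsplit g with hg | hg
    · rw [hcc g hg _ (hφC ⟨c, rfl⟩), mul_inv_cancel_right]
      exact ⟨c, rfl⟩
    · rw [show g * φ c * g⁻¹ = (g * t⁻¹) * (t * φ c * t⁻¹) * (g * t⁻¹)⁻¹ by group,
        hcc _ hg _ (hφC htc), mul_inv_cancel_right]
      exact htc
  have hrange : φ.range = commutator X := by
    refine le_antisymm ?_ ?_
    · rintro _ ⟨c, rfl⟩
      rw [commutator_def]
      have h1 := Subgroup.commutator_mem_commutator (H₁ := (⊤ : Subgroup X)) (H₂ := ⊤)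
        (Subgroup.mem_top (c : X)⁻¹) (Subgroup.mem_top t)
      rw [show φ c = ⁅(c : X)⁻¹, t⁆ by
        show (c : X)⁻¹ * (t * c * t⁻¹) = _
        rw [commutatorElement_def]; group]
      exact h1
    · set f := QuotientGroup.mk' φ.range with hf
      have h1 : ∀ c ∈ C, f t * f c = f c * f t := fun c hc => by
        have h2 : f (φ ⟨c, hc⟩) = 1 := by
          rw [← MonoidHom.mem_ker, hf, QuotientGroup.ker_mk']; exact ⟨_, rfl⟩
        rw [show φ ⟨c, hc⟩ = c⁻¹ * (t * c * t⁻¹) from rfl, map_mul, map_inv, inv_mul_eq_one, map_mul,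
          map_mul, map_inv, eq_mul_inv_iff_mul_eq] at h2
        exact h2.symm
      have h2 : ∀ c ∈ C, ∀ x, f x * f c = f c * f x := fun c hc x => by
        rcases hsplit x with hx | hx
        · rw [← map_mul, ← map_mul, hcc c hc x hx]
        · rw [show f x = f (x * t⁻¹) * f t by rw [← map_mul, inv_mul_cancel_right], mul_assoc, h1 c hc,
            ← mul_assoc, ← map_mul f _ c, hcc _ hx c hc, map_mul f c, mul_assoc]
      have h3 : ∀ x y, f x * f y = f y * f x := fun x y => by
        rcases hsplit y with hy | hy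
        · exact h2 y hy x
        · rw [show f y = f (y * t⁻¹) * f t by rw [← map_mul, inv_mul_cancel_right]]
          rcases hsplit x with hx | hx
          · rw [← mul_assoc, ← h2 x hx (y * t⁻¹), mul_assoc, ← h2 x hx t, mul_assoc]
          · rw [show f x = f (x * t⁻¹) * f t by rw [← map_mul, inv_mul_cancel_right]]
            have e1 := h2 _ hx t
            have e2 := h2 _ hy t
            have e3 := h2 _ hy (x * t⁻¹)
            calc f (x * t⁻¹) * f t * (f (y * t⁻¹) * f t)
                = f (x * t⁻¹) * (f t * f (y * t⁻¹)) * f t := by group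
              _ = (f (x * t⁻¹) * f (y * t⁻¹)) * f t * f t := by rw [e2]; group
              _ = f (y * t⁻¹) * (f (x * t⁻¹) * f t) * f t := by rw [e3]; group
              _ = f (y * t⁻¹) * (f t * f (x * t⁻¹)) * f t := by rw [e1]
              _ = _ := by group
      rw [commutator_def, Subgroup.commutator_le]
      intro x _ y _
      rw [← QuotientGroup.ker_mk' φ.range, ← hf, MonoidHom.mem_ker, map_commutatorElement,
        commutatorElement_eq_one_iff_mul_comm.mpr (h3 x y)]
  have hker : φ.ker.map C.subtype = Subgroup.center X := by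
    refine le_antisymm ?_ fun z hz => ?_
    · rintro _ ⟨c, hc, rfl⟩
      have hc' : (c : X)⁻¹ * (t * c * t⁻¹) = 1 := hc
      rw [inv_mul_eq_one, eq_mul_inv_iff_mul_eq] at hc'
      rw [Subgroup.mem_center_iff]
      intro g
      show g * (c : X) = c * g
      rcases hsplit g with hg | hg
      · exact hcc g hg c c.2
      · calc g * (c : X) = g * t⁻¹ * (t * c) := by group
          _ = (g * t⁻¹) * c * t := by rw [← hc']; group
          _ = c * (g * t⁻¹) * t := by rw [hcc _ hg c c.2]
          _ = c * g := by group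
    · have hzC : z ∈ C := by
        by_contra hzC
        refine hna ?_
        rw [commutator_def, Subgroup.commutator_eq_bot_iff_le_centralizer]
        have hall : ∀ x, ∀ c ∈ C, x * c = c * x := fun x c hc => by
          rcases hsplit x with hx | hx
          · exact hcc x hx c hc
          · have htz : t * z⁻¹ ∈ C :=
              (Subgroup.mul_mem_iff_of_index_two hC).mpr (by rw [inv_mem_iff]; tauto)
            have hzc : z * c = c * z := (Subgroup.mem_center_iff.mp hz c).symm
            have htc : t * c = c * t :=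
              calc t * c = (t * z⁻¹) * (z * c) := by group
                _ = (t * z⁻¹) * c * z := by rw [hzc]; group
                _ = c * (t * z⁻¹) * z := by rw [hcc _ htz c hc]
                _ = c * t := by group
            calc x * c = (x * t⁻¹) * (t * c) := by group
              _ = (x * t⁻¹) * c * t := by rw [htc]; group
              _ = c * (x * t⁻¹) * t := by rw [hcc _ hx c hc]
              _ = c * x := by group
        intro x _ y _
        show y * x = x * y
        rcases hsplit x with hx | hx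
        · exact hall y x hx
        · rcases hsplit y with hy | hy
          · exact (hall x y hy).symm
          · have e1 := hall t _ hx
            have e2 := hall t _ hy
            have e3 := hcc _ hx _ hy
            calc y * x = (y * t⁻¹) * (t * (x * t⁻¹)) * t := by group
              _ = ((y * t⁻¹) * (x * t⁻¹)) * t * t := by rw [e1]; group
              _ = (x * t⁻¹) * ((y * t⁻¹) * t) * t := by rw [← e3]; group
              _ = (x * t⁻¹) * (t * (y * t⁻¹)) * t := by rw [e2]
              _ = _ := by group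
      refine ⟨⟨z, hzC⟩, ?_, rfl⟩
      show z⁻¹ * (t * z * t⁻¹) = 1
      rw [Subgroup.mem_center_iff.mp hz t]
      group
  refine ⟨?_, fun x hx => ?_⟩
  · have h1 := φ.ker.card_mul_index
    rw [Subgroup.index_ker, hrange] at h1
    rw [← C.card_mul_index, hC, ← hker, Subgroup.card_map_of_injective C.subtype_injective, ← h1]
    ring
  · obtain ⟨c, rfl⟩ := hrange.ge hx
    exact ⟨c, c.2, rfl⟩

end IndexTwo

variable {X : Type u} [Group X] [Finite X]

theorem class_lt_of_card {Q : Type*} [Group Q] [Finite Q] {k : ℕ} (hQ : Nat.card Q = 2 ^ k)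
    {m : ℕ} (hm : 1 ≤ m) (hkm : k ≤ m + 1) : Group.nilpotencyClass Q ≤ m := by
  haveI : Fact (Nat.Prime 2) := ⟨Nat.prime_two⟩
  haveI : Group.IsNilpotent Q := (IsPGroup.of_card hQ).isNilpotent
  refine Subgroup.lowerCentralSeries_eq_bot_iff_nilpotencyClass_le.mp ?_
  refine Subgroup.eq_bot_of_card_le _ ?_
  have := card_lcs_succ_le hQ (m - 1)
  rw [show k - 2 - (m - 1) = 0 by omega, pow_zero, Nat.sub_add_cancel hm] at this
  exact this

theorem commutator_ne_bot_of_class {Q : Type*} [Group Q] [Finite Q] [Group.IsNilpotent Q]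
    (h : 2 ≤ Group.nilpotencyClass Q) : commutator Q ≠ ⊥ := fun hb => by
  have := Subgroup.lowerCentralSeries_eq_bot_iff_nilpotencyClass_le.mp
    (show (⊤ : Subgroup Q).lowerCentralSeries 1 = ⊥ by rw [Subgroup.top_lowerCentralSeries_one, hb])
  omega

theorem card_commutator_of_maximal {n : ℕ} (hn : 3 ≤ n) (hX : Nat.card X = 2 ^ n)
    (hc : Group.nilpotencyClass X = n - 1) : Nat.card (commutator X) = 2 ^ (n - 2) := by
  haveI : Fact (Nat.Prime 2) := ⟨Nat.prime_two⟩
  have := card_lcs_eq hX hc hn 0 (by omega)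
  rwa [zero_add, Subgroup.top_lowerCentralSeries_one, Nat.sub_zero] at this

theorem commutator_ne_bot_of_card {n : ℕ} (hn : 3 ≤ n)
    (hc : Nat.card (commutator X) = 2 ^ (n - 2)) : commutator X ≠ ⊥ := fun hb => by
  rw [hb, Subgroup.card_bot] at hc
  exact (Nat.one_lt_pow (by omega) one_lt_two).ne hc

theorem comm_eq_of_commutator_eq_bot {Q : Type*} [Group Q] (h : commutator Q = ⊥) (a b : Q) :
    a * b = b * a := by
  rw [← commutatorElement_eq_one_iff_mul_comm, ← Subgroup.mem_bot, ← h, commutator_def]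
  exact Subgroup.commutator_mem_commutator (Subgroup.mem_top a) (Subgroup.mem_top b)

/-- Taussky: a `2`-group whose derived subgroup has index four has maximal class and a cyclic
subgroup of index two. -/
theorem taussky : ∀ (n : ℕ) (X : Type u) [Group X] [Finite X], 3 ≤ n → Nat.card X = 2 ^ n →
    Nat.card (commutator X) = 2 ^ (n - 2) →
      Group.nilpotencyClass X = n - 1 ∧ ∃ C : Subgroup X, IsCyclic C ∧ C.index = 2 := by
  haveI h2 : Fact (Nat.Prime 2) := ⟨Nat.prime_two⟩
  intro n
  induction n with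
  | zero => intros; omega
  | succ n ih =>
  intro X _ _ hn hX hX'
  have hXp : IsPGroup 2 X := IsPGroup.of_card hX
  haveI : Group.IsNilpotent X := hXp.isNilpotent
  have hne := commutator_ne_bot_of_card hn hX'
  rcases Nat.lt_or_ge n 3 with hn3 | hn3
  · obtain rfl : n = 2 := by omega
    refine ⟨le_antisymm (class_lt_of_card hX (by norm_num) (by norm_num)) ?_, ?_⟩
    · by_contra hcl
      refine hne ?_
      rw [← Subgroup.top_lowerCentralSeries_one, Subgroup.lowerCentralSeries_eq_bot_iff_nilpotencyClass_le]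
      omega
    · obtain ⟨x, hx⟩ : ∃ x : X, x ^ 2 ≠ 1 := by
        by_contra hall
        push Not at hall
        refine hne ?_
        rw [commutator_def, Subgroup.commutator_eq_bot_iff_le_centralizer]
        intro a _ b _
        have hinv : ∀ y : X, y⁻¹ = y := fun y => inv_eq_of_mul_eq_one_right (by rw [← sq]; exact hall y)
        show b * a = a * b
        rw [← hinv (b * a), mul_inv_rev, hinv, hinv]
      refine ⟨Subgroup.zpowers x, inferInstance, ?_⟩
      have hd : orderOf x ∣ 2 ^ 3 := hX ▸ orderOf_dvd_natCard x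
      obtain ⟨i, hi, hxi⟩ := (Nat.dvd_prime_pow Nat.prime_two).mp hd
      have hi2 : i = 2 := by
        rcases Nat.lt_or_ge i 2 with h | h
        · exact absurd (orderOf_dvd_iff_pow_eq_one.mp (hxi ▸ pow_dvd_pow 2 (by omega : i ≤ 1))) hx
        · rcases Nat.lt_or_ge i 3 with h' | h'
          · omega
          · exfalso
            haveI : IsCyclic X := isCyclic_of_orderOf_eq_card x (by rw [hxi, hX, show i = 3 by omega])
            refine hne ?_
            rw [commutator_def, Subgroup.commutator_eq_bot_iff_le_centralizer]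
            exact fun a _ b _ => (IsCyclic.commGroup (α := X)).mul_comm b a
      have := (Subgroup.zpowers x).card_mul_index
      rw [Nat.card_zpowers, hxi, hi2, hX] at this
      omega
  -- a central involution in the derived subgroup
  have hne' := CfsgLib.Critical.inf_center_ne_bot (commutator X) hne
  obtain ⟨a, ha⟩ := IsPGroup.iff_card.mp (hXp.to_subgroup (commutator X ⊓ Subgroup.center X))
  have ha0 : 2 ∣ Nat.card ↥(commutator X ⊓ Subgroup.center X) := by
    rw [ha]
    refine dvd_pow_self 2 ?_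
    rintro rfl
    exact hne' (Subgroup.eq_bot_of_card_eq _ (by rw [ha, pow_zero]))
  obtain ⟨⟨z, hz⟩, hzo⟩ := exists_prime_orderOf_dvd_card' 2 ha0
  rw [← Subgroup.orderOf_coe] at hzo
  obtain ⟨hzX', hzZ⟩ := Subgroup.mem_inf.mp hz
  have hzo' : orderOf z = 2 := hzo
  set W := Subgroup.zpowers z with hW
  haveI hWn : W.Normal := ⟨fun w hw g => by
    obtain ⟨j, rfl⟩ := Subgroup.mem_zpowers_iff.mp hw
    rw [Subgroup.mem_center_iff.mp (zpow_mem hzZ j) g, mul_inv_cancel_right]
    exact hw⟩
  have hWc : Nat.card W = 2 := by rw [hW, Nat.card_zpowers, hzo']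
  set f := QuotientGroup.mk' W with hf
  have hsurj : Function.Surjective f := QuotientGroup.mk'_surjective _
  have hQ : Nat.card (X ⧸ W) = 2 ^ n := by
    have := Subgroup.card_eq_card_quotient_mul_card_subgroup W
    rw [hX, hWc, pow_succ] at this
    omega
  have hQ' : Nat.card (commutator (X ⧸ W)) = 2 ^ (n - 2) := by
    have hmap : (commutator X).map f = commutator (X ⧸ W) := by
      rw [commutator_def, Subgroup.map_commutator, Subgroup.map_top_of_surjective f hsurj, ← commutator_def]
    have h1 : f.ker.relIndex (commutator X) = Nat.card ((commutator X).map f) :=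
      Subgroup.relIndex_ker (commutator X) f
    rw [hf, QuotientGroup.ker_mk', ← hf, hmap] at h1
    have h2 := Subgroup.relIndex_mul_relIndex ⊥ W (commutator X) bot_le (Subgroup.zpowers_le.mpr hzX')
    rw [Subgroup.relIndex_bot_left, Subgroup.relIndex_bot_left, h1, hWc, hX',
      show n + 1 - 2 = n - 2 + 1 by omega, pow_succ] at h2
    omega
  obtain ⟨hcl, Cb, hCb, hCbi⟩ := ih (X ⧸ W) hn3 hQ hQ'
  obtain ⟨cb, hcb⟩ := hCb.exists_generator
  obtain ⟨c, hc⟩ := hsurj (cb : X ⧸ W)
  set C := Cb.comap f with hC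
  have hCi : C.index = 2 := by rw [hC, Subgroup.index_comap_of_surjective _ hsurj, hCbi]
  have hcC : c ∈ C := by rw [hC, Subgroup.mem_comap, hc]; exact cb.2
  have hWC : W ≤ C := fun w hw => by
    rw [hC, Subgroup.mem_comap, hf, QuotientGroup.mk'_apply, (QuotientGroup.eq_one_iff w).mpr hw]
    exact one_mem _
  have hgen : ∀ u ∈ C, ∃ i : ℤ, ∃ w ∈ W, u = c ^ i * w := by
    intro u hu
    obtain ⟨i, hi⟩ := Subgroup.mem_zpowers_iff.mp (hcb ⟨f u, hu⟩)
    refine ⟨i, (c ^ i)⁻¹ * u, ?_, by group⟩
    rw [← QuotientGroup.ker_mk' W, ← hf, MonoidHom.mem_ker, map_mul, map_inv, map_zpow, hc]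
    have := congrArg Subtype.val hi
    rw [Subgroup.coe_zpow] at this
    rw [this]
    exact inv_mul_cancel _
  haveI hCc : IsMulCommutative C := ⟨⟨by
    rintro ⟨u, hu⟩ ⟨v, hv⟩
    obtain ⟨i, w, hw, rfl⟩ := hgen u hu
    obtain ⟨j, w', hw', rfl⟩ := hgen v hv
    refine Subtype.ext ?_
    show c ^ i * w * (c ^ j * w') = c ^ j * w' * (c ^ i * w)
    obtain ⟨k, rfl⟩ := Subgroup.mem_zpowers_iff.mp hw
    obtain ⟨l, rfl⟩ := Subgroup.mem_zpowers_iff.mp hw'
    have hcz : Commute c z := Subgroup.mem_center_iff.mp hzZ c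
    exact ((((Commute.refl c).zpow_zpow i j).mul_right (hcz.zpow_zpow i l)).mul_left
      ((hcz.symm.zpow_zpow k j).mul_right ((Commute.refl z).zpow_zpow k l))).eq⟩⟩
  obtain ⟨t, ht⟩ : ∃ t, t ∉ C := by
    by_contra hall
    push Not at hall
    rw [(Subgroup.eq_top_iff' C).mpr hall, Subgroup.index_top] at hCi
    omega
  obtain ⟨hcard, hX'C⟩ := index_two_facts C hCi ht hne
  have hZ2 : Nat.card (Subgroup.center X) = 2 := by
    rw [hX, hX', show n + 1 = (n + 1 - 2) + 2 by omega, pow_add, Nat.add_sub_cancel] at hcard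
    have hp := Nat.two_pow_pos (n + 1 - 2)
    nlinarith
  have hWZ : W = Subgroup.center X :=
    Subgroup.eq_of_le_of_card_ge (Subgroup.zpowers_le.mpr hzZ) (by rw [hWc, hZ2])
  haveI : Nontrivial X := Finite.one_lt_card_iff_nontrivial.mp
    (hX ▸ Nat.one_lt_pow (by omega) one_lt_two)
  refine ⟨?_, ?_⟩
  · rw [Group.nilpotencyClass_eq_quotient_center_plus_one,
      show Group.nilpotencyClass (X ⧸ Subgroup.center X) = Group.nilpotencyClass (X ⧸ W) from
        le_antisymm (Group.nilpotencyClass_le_of_surjective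
          (QuotientGroup.quotientMulEquivOfEq hWZ).toMonoidHom (MulEquiv.surjective _))
          (Group.nilpotencyClass_le_of_surjective
          (QuotientGroup.quotientMulEquivOfEq hWZ.symm).toMonoidHom (MulEquiv.surjective _)), hcl]
    omega
  refine ⟨C, ?_, hCi⟩
  by_contra hnc
  -- otherwise `c` has order `2 ^ (n - 1)`
  set N := 2 ^ (n - 2) with hNdef
  have hCcard : Nat.card C = 2 * (2 * N) := by
    have := C.card_mul_index
    rw [hCi, hX, show n + 1 = n - 2 + 3 by omega, pow_add] at this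
    omega
  have hcbord : orderOf (cb : X ⧸ W) = 2 * N := by
    rw [Subgroup.orderOf_coe, orderOf_eq_card_of_forall_mem_zpowers hcb]
    have := Cb.card_mul_index
    rw [hCbi, hQ, show n = n - 2 + 2 by omega, pow_add] at this
    omega
  have hpowne : ∀ u : X, f u = cb → u ^ N ≠ 1 := fun u hu h1 => by
    have h3 := orderOf_dvd_of_pow_eq_one (show (cb : X ⧸ W) ^ N = 1 by rw [← hu, ← map_pow, h1, map_one])
    rw [hcbord] at h3
    have := Nat.le_of_dvd (Nat.two_pow_pos _) h3
    have := Nat.two_pow_pos (n - 2)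
    omega
  have hcpow : c ^ (2 * N) = 1 := by
    by_contra hne2
    refine hnc ⟨⟨c, hcC⟩, fun u => ?_⟩
    have h1 : orderOf (⟨c, hcC⟩ : C) = Nat.card C := by
      have hdvd : orderOf (⟨c, hcC⟩ : C) ∣ 2 ^ n := by
        have := orderOf_dvd_natCard (⟨c, hcC⟩ : C)
        rwa [hCcard, show 2 * (2 * N) = 2 ^ (n - 2 + 2) by rw [hNdef, pow_add]; ring,
          show n - 2 + 2 = n by omega] at this
      obtain ⟨i, hi, hio⟩ := (Nat.dvd_prime_pow Nat.prime_two).mp hdvd
      rw [Subgroup.orderOf_mk] at hio ⊢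
      rcases eq_or_lt_of_le hi with rfl | hlt
      · rw [hio, hCcard, hNdef, show 2 ^ i = 2 ^ (i - 2 + 2) by rw [Nat.sub_add_cancel (by omega)],
          pow_add]
        ring
      · refine absurd (orderOf_dvd_iff_pow_eq_one.mp (hio ▸ ?_)) hne2
        rw [show 2 * N = 2 ^ (n - 2 + 1) by rw [hNdef, pow_succ]; ring]
        exact pow_dvd_pow 2 (by omega)
    exact (eq_top_iff.mp ((Subgroup.zpowers _).eq_top_of_card_eq (by rw [Nat.card_zpowers, h1]))
      (Subgroup.mem_top u))
  -- every element of `C` has its `N`-th power in `⟨c ^ N⟩`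
  have hCpow : ∀ u ∈ C, u ^ N = 1 ∨ u ^ N = c ^ N := by
    intro u hu
    obtain ⟨i, w, hw, rfl⟩ := hgen u hu
    obtain ⟨k, rfl⟩ := Subgroup.mem_zpowers_iff.mp hw
    have hcz : Commute c z := Subgroup.mem_center_iff.mp hzZ c
    have hzN : z ^ N = 1 := by
      rw [← orderOf_dvd_iff_pow_eq_one, hzo', hNdef]
      exact dvd_pow_self 2 (by omega)
    rw [(hcz.zpow_zpow i k).mul_pow, ← zpow_natCast, ← zpow_natCast (z ^ k), ← zpow_mul, ← zpow_mul,
      mul_comm i, mul_comm k, zpow_mul, zpow_mul, zpow_natCast, zpow_natCast, hzN, one_zpow, mul_one]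
    have h2 : (c ^ N) * (c ^ N) = 1 := by rw [← pow_add, ← two_mul, hcpow]
    rcases Int.even_or_odd i with ⟨j, rfl⟩ | ⟨j, rfl⟩
    · left
      rw [← two_mul, zpow_mul, zpow_two, h2, one_zpow]
    · right
      rw [zpow_add, zpow_one, zpow_mul, zpow_two, h2, one_zpow, one_mul]
  set b := c⁻¹ * (t * c * t⁻¹) with hb
  haveI hCn : C.Normal := Subgroup.normal_of_index_eq_two hCi
  have hbN : b ^ N = 1 := by
    have htcC : t * c * t⁻¹ ∈ C := hCn.conj_mem c hcC t
    have hcom : Commute c⁻¹ (t * c * t⁻¹) :=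
      congrArg Subtype.val (mul_comm' (⟨c⁻¹, inv_mem hcC⟩ : C) ⟨_, htcC⟩)
    rw [hb, hcom.mul_pow, inv_pow]
    rcases hCpow _ htcC with h | h
    · rw [conj_pow, conj_eq_one_iff] at h
      exact absurd h (hpowne c hc)
    · rw [h, inv_mul_cancel]
  have hle : commutator X ≤ Subgroup.zpowers b := by
    intro x hx
    obtain ⟨u, hu, rfl⟩ := hX'C x hx
    obtain ⟨i, w, hw, rfl⟩ := hgen u hu
    have hwz : t * w = w * t :=
      Subgroup.mem_center_iff.mp ((Subgroup.zpowers_le.mpr hzZ) hw) t
    refine Subgroup.mem_zpowers_iff.mpr ⟨i, ?_⟩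
    have htcC : t * c * t⁻¹ ∈ C := hCn.conj_mem c hcC t
    have hcom : Commute c⁻¹ (t * c * t⁻¹) :=
      congrArg Subtype.val (mul_comm' (⟨c⁻¹, inv_mem hcC⟩ : C) ⟨_, htcC⟩)
    rw [hb, hcom.mul_zpow, conj_zpow, inv_zpow]
    have hwc : Commute w (t * c ^ i * t⁻¹) :=
      (Subgroup.mem_center_iff.mp ((Subgroup.zpowers_le.mpr hzZ) hw) _).symm
    have hY : (c ^ i)⁻¹ * (t * c ^ i * t⁻¹) * w = w * ((c ^ i)⁻¹ * (t * c ^ i * t⁻¹)) :=
      Subgroup.mem_center_iff.mp ((Subgroup.zpowers_le.mpr hzZ) hw) _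
    rw [show t * (c ^ i * w) * t⁻¹ = t * c ^ i * (w * t⁻¹) by group,
      show w * t⁻¹ = t⁻¹ * w by
        rw [eq_inv_mul_iff_mul_eq, ← mul_assoc, hwz, mul_inv_cancel_right]]
    rw [show (c ^ i * w)⁻¹ * (t * c ^ i * (t⁻¹ * w)) = w⁻¹ * ((c ^ i)⁻¹ * (t * c ^ i * t⁻¹) * w) by group,
      hY, inv_mul_cancel_left]
  have := (Subgroup.card_le_of_le hle).trans_eq (Nat.card_zpowers b)
  have h4 := Nat.le_of_dvd (Nat.two_pow_pos _) (orderOf_dvd_of_pow_eq_one hbN)
  rw [hX', show n + 1 - 2 = n - 2 + 1 by omega, pow_succ] at this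
  have := Nat.two_pow_pos (n - 2)
  omega

/-- The quotient of a `2`-group of maximal class by its centre is dihedral. -/
theorem central_quotient_dihedral {n : ℕ} (hn : 3 ≤ n) (hX : Nat.card X = 2 ^ n)
    (hc : Group.nilpotencyClass X = n - 1) :
    Nonempty (X ⧸ Subgroup.center X ≃* DihedralGroup (2 ^ (n - 2))) := by
  have hX' := card_commutator_of_maximal hn hX hc
  obtain ⟨-, C, hCcyc, hCi⟩ := taussky n X hn hX hX'
  have hne := commutator_ne_bot_of_card hn hX'
  haveI hCc : IsMulCommutative C := ⟨⟨fun a b => (IsCyclic.commGroup (α := C)).mul_comm a b⟩⟩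
  haveI hCn : C.Normal := Subgroup.normal_of_index_eq_two hCi
  obtain ⟨t, ht⟩ : ∃ t, t ∉ C := by
    by_contra hall
    push Not at hall
    rw [(Subgroup.eq_top_iff' C).mpr hall, Subgroup.index_top] at hCi
    omega
  obtain ⟨hcard, -⟩ := index_two_facts C hCi ht hne
  have hZ2 : Nat.card (Subgroup.center X) = 2 := by
    rw [hX, hX', show n = (n - 2) + 2 by omega, pow_add, Nat.add_sub_cancel] at hcard
    have hp := Nat.two_pow_pos (n - 2)
    nlinarith
  obtain ⟨c, hgen⟩ := hCcyc.exists_generator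
  set Z := Subgroup.center X with hZ
  have hsq : ∀ x, x ∉ C → x * x ∈ Z := fun x hx => by
    have hxx : x * x ∈ C := (Subgroup.mul_mem_iff_of_index_two hCi).mpr Iff.rfl
    rw [hZ, Subgroup.mem_center_iff]
    intro g
    by_cases hg : g ∈ C
    · exact congrArg Subtype.val (mul_comm' (⟨g, hg⟩ : C) ⟨x * x, hxx⟩)
    · have hgx : g * x⁻¹ ∈ C := (Subgroup.mul_mem_iff_of_index_two hCi).mpr (by rw [inv_mem_iff]; tauto)
      have := congrArg Subtype.val (mul_comm' (⟨g * x⁻¹, hgx⟩ : C) ⟨x * x, hxx⟩)
      simp only [Subgroup.coe_mul] at this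
      calc g * (x * x) = (g * x⁻¹) * (x * x) * x := by group
        _ = (x * x) * (g * x⁻¹) * x := by rw [this]
        _ = x * x * g := by group
  have hZC : Z ≤ C := by
    intro z hz
    by_contra hzC
    refine hne ?_
    rw [commutator_def, Subgroup.commutator_eq_bot_iff_le_centralizer]
    intro x _ y _
    show y * x = x * y
    have key : ∀ u : X, ∃ a ∈ C, ∃ e, e ∈ Z ∧ u = a * e := fun u => by
      by_cases hu : u ∈ C
      · exact ⟨u, hu, 1, one_mem Z, (mul_one u).symm⟩
      · exact ⟨u * z⁻¹, (Subgroup.mul_mem_iff_of_index_two hCi).mpr (by rw [inv_mem_iff]; tauto),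
          z, hz, (inv_mul_cancel_right u z).symm⟩
    obtain ⟨a, ha, e, he, rfl⟩ := key x
    obtain ⟨b, hb, e', he', rfl⟩ := key y
    have hab : Commute b a := congrArg Subtype.val (mul_comm' (⟨b, hb⟩ : C) ⟨a, ha⟩)
    have hbe : Commute b e := Subgroup.mem_center_iff.mp he b
    have he'a : Commute e' a := (Subgroup.mem_center_iff.mp he' a).symm
    have hee : Commute e' e := Subgroup.mem_center_iff.mp he e'
    exact ((hab.mul_right hbe).mul_left (he'a.mul_right hee)).eq
  set f := QuotientGroup.mk' Z with hf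
  have hsurj : Function.Surjective f := QuotientGroup.mk'_surjective _
  have hCcard : Nat.card C = 2 * 2 ^ (n - 2) := by
    have := C.card_mul_index
    rw [hCi, hX, show n = n - 2 + 2 by omega, pow_add] at this
    omega
  have hmap : C.map f = Subgroup.zpowers (f c) := by
    have hCz : C = Subgroup.zpowers (c : X) := le_antisymm (fun u hu => by
        obtain ⟨i, hi⟩ := Subgroup.mem_zpowers_iff.mp (hgen ⟨u, hu⟩)
        exact Subgroup.mem_zpowers_iff.mpr ⟨i, by rw [← Subgroup.coe_zpow, hi]⟩)
        (Subgroup.zpowers_le.mpr c.2)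
    exact (congrArg (Subgroup.map f) hCz).trans (MonoidHom.map_zpowers f _)
  have hord : orderOf (f c) = 2 ^ (n - 2) := by
    have h1 : f.ker.relIndex C = Nat.card (C.map f) := Subgroup.relIndex_ker C f
    rw [hmap, Nat.card_zpowers, hf, QuotientGroup.ker_mk', ← hf] at h1
    have h2 := Subgroup.relIndex_mul_relIndex ⊥ Z C bot_le hZC
    rw [Subgroup.relIndex_bot_left, Subgroup.relIndex_bot_left, h1, hZ2, hCcard] at h2
    omega
  have hone : ∀ x ∈ Z, f x = 1 := fun x hx => (QuotientGroup.eq_one_iff x).mpr hx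
  have hb : f t * f t = 1 := by rw [← map_mul]; exact hone _ (hsq t ht)
  have hba : f t * f c * (f t)⁻¹ = (f c)⁻¹ := by
    have htc : t * c ∉ C := fun h => ht (by simpa using mul_mem h (inv_mem c.2))
    have h1 : f (t * c) * f (t * c) = 1 := by rw [← map_mul]; exact hone _ (hsq _ htc)
    rw [map_mul] at h1
    have hinv : (f t)⁻¹ = f t := inv_eq_of_mul_eq_one_right hb
    rw [hinv]
    refine eq_inv_of_mul_eq_one_left ?_
    rw [show f t * f c * f t * f c = f t * f c * (f t * f c) by group]
    exact h1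
  have hout : f t ∉ Subgroup.zpowers (f c) := by
    rw [← hmap]
    rintro ⟨u, hu, hut⟩
    refine ht ?_
    have : u⁻¹ * t ∈ Z := QuotientGroup.eq.mp hut
    simpa using mul_mem hu (hZC this)
  haveI : NeZero (2 ^ (n - 2)) := ⟨(Nat.two_pow_pos _).ne'⟩
  obtain ⟨F, hFi, -⟩ := CfsgLib.SmallTwo.exists_dihedral_hom_injective hord hb hba hout
  have hQ : Nat.card (X ⧸ Z) = Nat.card (DihedralGroup (2 ^ (n - 2))) := by
    rw [DihedralGroup.nat_card]
    have := Subgroup.card_eq_card_quotient_mul_card_subgroup Z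
    rw [hX, hZ2, show n = n - 2 + 2 by omega, pow_add] at this
    omega
  exact ⟨(MulEquiv.ofBijective F ((Nat.bijective_iff_injective_and_card F).mpr ⟨hFi, hQ.symm⟩)).symm⟩

/-- Maximal class is the same as Klein four abelianization. -/
theorem maximal_iff_klein {n : ℕ} (hn : 3 ≤ n) (hX : Nat.card X = 2 ^ n) :
    Group.nilpotencyClass X = n - 1 ↔ IsKleinFour (X ⧸ commutator X) := by
  haveI : Fact (Nat.Prime 2) := ⟨Nat.prime_two⟩
  have hXp : IsPGroup 2 X := IsPGroup.of_card hX
  have hmul := Subgroup.card_eq_card_quotient_mul_card_subgroup (commutator X)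
  rw [hX, show n = n - 2 + 2 by omega, pow_add] at hmul
  have hp := Nat.two_pow_pos (n - 2)
  constructor
  · intro hc
    have hX' := card_commutator_of_maximal hn hX hc
    have h4 : Nat.card (X ⧸ commutator X) = 4 := by
      rw [hX'] at hmul
      nlinarith
    refine ⟨h4, ?_⟩
    have hsq : ∀ q : X ⧸ commutator X, q ^ 2 = 1 := by
      intro q
      by_contra hq
      obtain ⟨x, rfl⟩ := QuotientGroup.mk'_surjective _ q
      have hord : orderOf (QuotientGroup.mk' (commutator X) x) = 4 := by
        have hd := orderOf_dvd_natCard (QuotientGroup.mk' (commutator X) x)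
        rw [h4, show (4 : ℕ) = 2 ^ 2 by norm_num] at hd
        obtain ⟨i, hi, hio⟩ := (Nat.dvd_prime_pow Nat.prime_two).mp hd
        rcases Nat.lt_or_ge i 2 with h | h
        · exact absurd (orderOf_dvd_iff_pow_eq_one.mp
            (hio ▸ pow_dvd_pow 2 (show i ≤ 1 by omega))) hq
        · rw [hio, show i = 2 by omega]; norm_num
      have htop : Subgroup.zpowers x ⊔ commutator X = ⊤ := by
        rw [← QuotientGroup.ker_mk' (commutator X), ← Subgroup.comap_map_eq, MonoidHom.map_zpowers,
          (Subgroup.zpowers _).eq_top_of_card_eq (by rw [Nat.card_zpowers, hord, h4]),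
          Subgroup.comap_top]
      haveI : Group.IsNilpotent X := hXp.isNilpotent
      have hcyc : Subgroup.zpowers x = ⊤ := by
        refine frattini_nongenerating (le_antisymm le_top (htop.ge.trans ?_))
        exact sup_le_sup_left (PSolvable.commutator_le_frattini hXp).1 _
      refine commutator_ne_bot_of_card hn hX' ?_
      rw [commutator_def, Subgroup.commutator_eq_bot_iff_le_centralizer, ← hcyc]
      exact Subgroup.le_centralizer _
    haveI : Nontrivial (X ⧸ commutator X) := Finite.one_lt_card_iff_nontrivial.mp (by omega)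
    refine Nat.dvd_antisymm (Monoid.exponent_dvd_of_forall_pow_eq_one hsq) ?_
    obtain ⟨q, hq⟩ := exists_ne (1 : X ⧸ commutator X)
    rw [← orderOf_eq_prime (hsq q) hq]
    exact Monoid.order_dvd_exponent q
  · intro h
    refine (taussky n X hn hX ?_).1
    rw [h.card_four] at hmul
    omega

end CfsgLib.MaxClass
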