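import Mathlib
import Cfsg.Agent.Lib.Coprime.Action
import Cfsg.Agent.Lib.OddOmega.Basic
import Cfsg.Agent.Lib.PSolvable.Omega

/-!
`p'`-automorphisms of `p`-groups with few generators.
-/

set_option autoImplicit false
set_option linter.style.haveILetI false

namespace CfsgLib.PGroup

/-- A group generated by `|S|` elements, abelian of exponent `p`, has order at most `p ^ |S|`. -/
theorem card_le_pow_of_closure {V : Type*} [CommGroup V] [Finite V] {p : ℕ} (hp : 0 < p)
    (he : ∀ v : V, v ^ p = 1) (S : Finset V) :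
    Nat.card ↥(Subgroup.closure (S : Set V)) ≤ p ^ S.card := by
  classical
  induction S using Finset.induction_on with
  | empty => simp
  | insert x S hx ih =>
    rw [Finset.card_insert_of_notMem hx, Finset.coe_insert, pow_succ, Set.insert_eq, Subgroup.closure_union,
      ← Subgroup.zpowers_eq_closure, sup_comm]
    refine le_trans ?_ (Nat.mul_le_mul ih (Nat.le_of_dvd hp (orderOf_dvd_of_pow_eq_one (he x))))
    rw [← Nat.card_zpowers, ← Nat.card_prod]
    let f : Subgroup.closure (S : Set V) × Subgroup.zpowers x → ↥(Subgroup.closure (S : Set V) ⊔ Subgroup.zpowers x) :=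
      fun t => ⟨t.1 * t.2, mul_mem (Subgroup.mem_sup_left t.1.2) (Subgroup.mem_sup_right t.2.2)⟩
    refine Nat.card_le_card_of_surjective f fun w => ?_
    obtain ⟨a, ha, b, hb, hab⟩ := Subgroup.mem_sup_of_normal_left.mp w.2
    exact ⟨(⟨a, ha⟩, ⟨b, hb⟩), Subtype.ext hab⟩

/-- The Frattini index of a `p`-group generated by `r` elements is at most `p ^ r`. -/
theorem frattini_index_le {Q : Type*} [Group Q] [Finite Q] {p : ℕ} [hp : Fact p.Prime]
    (hQ : IsPGroup p Q) (S : Finset Q) (hS : Subgroup.closure (S : Set Q) = ⊤) :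
    (frattini Q).index ≤ p ^ S.card := by
  classical
  haveI : IsMulCommutative (Q ⧸ frattini Q) := ⟨⟨fun a b => by
    obtain ⟨x, rfl⟩ := QuotientGroup.mk'_surjective _ a
    obtain ⟨y, rfl⟩ := QuotientGroup.mk'_surjective _ b
    rw [← commutatorElement_eq_one_iff_mul_comm, ← map_commutatorElement, ← MonoidHom.mem_ker,
      QuotientGroup.ker_mk']
    exact (CfsgLib.PSolvable.commutator_le_frattini hQ).1 (Subgroup.commutator_mem_commutator
      (Subgroup.mem_top x) (Subgroup.mem_top y))⟩⟩
  letI : CommGroup (Q ⧸ frattini Q) :=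
    { (inferInstance : Group (Q ⧸ frattini Q)) with mul_comm := fun a b => mul_comm' a b }
  have he : ∀ v : Q ⧸ frattini Q, v ^ p = 1 := fun v => by
    obtain ⟨x, rfl⟩ := QuotientGroup.mk'_surjective _ v
    rw [← map_pow, ← MonoidHom.mem_ker, QuotientGroup.ker_mk']
    exact CfsgLib.OddOmega.pow_mem_frattini hQ x
  have h1 := card_le_pow_of_closure hp.out.pos he (S.image (QuotientGroup.mk' (frattini Q)))
  rw [Finset.coe_image, ← MonoidHom.map_closure, hS,
    Subgroup.map_top_of_surjective _ (QuotientGroup.mk'_surjective _), Subgroup.card_top,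
    ← Subgroup.index_eq_card] at h1
  exact h1.trans (Nat.pow_le_pow_right hp.out.pos Finset.card_image_le)

/-- A `p'`-automorphism of a `p`-group with Frattini index at most `p ^ r` is trivial when its order
is prime to every `p ^ i - 1`, `1 ≤ i ≤ r`. -/
theorem eq_one_of_coprime {Q : Type*} [Group Q] [Finite Q] {p : ℕ} [hp : Fact p.Prime]
    (hQ : IsPGroup p Q) {r : ℕ} (hr : (frattini Q).index ≤ p ^ r) (φ : MulAut Q)
    (hφ : (orderOf φ).Coprime p) (h : ∀ i, 1 ≤ i → i ≤ r → (orderOf φ).Coprime (p ^ i - 1)) :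
    φ = 1 := by
  classical
  by_contra hne
  obtain ⟨q, hq, hqd⟩ := Nat.exists_prime_and_dvd (fun e => hne (orderOf_eq_one_iff.mp e))
  haveI : Fact q.Prime := ⟨hq⟩
  set ψ := φ ^ (orderOf φ / q) with hψ
  have hψo : orderOf ψ = q := orderOf_pow_orderOf_div (orderOf_pos φ).ne' hqd
  set Φ := frattini Q with hΦ
  let ι : MulAut Q →* MulAut (Q ⧸ Φ) :=
    { toFun := fun α => QuotientGroup.congr Φ Φ α
        (Subgroup.characteristic_iff_map_eq.mp inferInstance α)
      map_one' := MulEquiv.ext fun v => by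
        induction v using QuotientGroup.induction_on with
        | H x => rfl
      map_mul' := fun α β => MulEquiv.ext fun v => by
        induction v using QuotientGroup.induction_on with
        | H x => rfl }
  set A := Subgroup.zpowers (ι ψ) with hA
  have hAq : IsPGroup q A := by
    obtain ⟨e, -, he⟩ := (Nat.dvd_prime_pow hq (m := 1) (i := orderOf (ι ψ))).mp
      (by rw [pow_one]; exact hψo ▸ orderOf_map_dvd ι ψ)
    refine IsPGroup.of_card (n := e) ?_
    rw [hA, Nat.card_zpowers, he]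
  have hmod := hAq.card_modEq_card_fixedPoints (Q ⧸ Φ)
  let F : Subgroup (Q ⧸ Φ) :=
    { carrier := {v | ι ψ v = v}
      one_mem' := map_one _
      mul_mem' := fun {a b} (ha : ι ψ a = a) (hb : ι ψ b = b) => by
        show ι ψ (a * b) = a * b
        rw [map_mul, ha, hb]
      inv_mem' := fun {a} (ha : ι ψ a = a) => by
        show ι ψ a⁻¹ = a⁻¹
        rw [map_inv, ha] }
  have hfix : Nat.card (MulAction.fixedPoints A (Q ⧸ Φ)) = Nat.card F := by
    refine Nat.card_congr (Equiv.subtypeEquivRight fun v => ⟨fun hv => hv ⟨ι ψ, Subgroup.mem_zpowers _⟩,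
      fun hv a => ?_⟩)
    obtain ⟨k, hk⟩ := Subgroup.mem_zpowers_iff.mp a.2
    have : ∀ k : ℤ, (ι ψ ^ k) v = v := by
      intro k
      induction k using Int.induction_on with
      | zero => simp
      | succ i ih => rw [zpow_add_one, MulAut.mul_apply, (hv : ι ψ v = v), ih]
      | pred i ih =>
        rw [zpow_sub_one, MulAut.mul_apply, show (ι ψ)⁻¹ v = v by
          conv_lhs => rw [← (hv : ι ψ v = v)]
          exact MulEquiv.symm_apply_apply _ v, ih]
    show (a : MulAut (Q ⧸ Φ)) v = v
    rw [← hk, this]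
  have hFne : F ≠ ⊤ := by
    intro hF
    refine (show q ≠ 1 from hq.ne_one) ?_
    rw [← hψo, orderOf_eq_one_iff]
    refine CfsgLib.Coprime.mulAut_eq_one_of_frattini ψ ?_ fun k => ?_
    · obtain ⟨e, he⟩ := IsPGroup.iff_card.mp (hQ.to_subgroup (frattini Q))
      rw [he, hψo]
      exact Nat.Coprime.pow_right e (hφ.coprime_dvd_left hqd)
    · have h1 : ι ψ (QuotientGroup.mk k) = QuotientGroup.mk k := hF.ge (Subgroup.mem_top _)
      exact QuotientGroup.eq.mp h1.symm
  obtain ⟨d, hd⟩ := IsPGroup.iff_card.mp (hQ.to_quotient Φ)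
  obtain ⟨f, hf⟩ := IsPGroup.iff_card.mp ((hQ.to_quotient Φ).to_subgroup F)
  have hfd : f < d := by
    have := lt_of_le_of_ne (Subgroup.card_le_card_group F) fun e => hFne (Subgroup.eq_top_of_card_eq _ e)
    rw [hd, hf] at this
    exact (Nat.pow_lt_pow_iff_right hp.out.one_lt).mp this
  have hdr : d ≤ r := by
    rw [Subgroup.index_eq_card, hd] at hr
    exact (Nat.pow_le_pow_iff_right hp.out.one_lt).mp hr
  rw [hfix, hd, hf] at hmod
  have h2 : q ∣ p ^ d - p ^ f := (Nat.modEq_iff_dvd' (Nat.pow_le_pow_right hp.out.pos hfd.le)).mp hmod.symm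
  rw [show p ^ d - p ^ f = p ^ f * (p ^ (d - f) - 1) by
    rw [Nat.mul_sub, mul_one, ← pow_add, Nat.add_sub_cancel' hfd.le]] at h2
  rcases hq.dvd_mul.mp h2 with h3 | h3
  · exact hq.not_dvd_one ((Nat.Coprime.pow_right f hφ) ▸ Nat.dvd_gcd hqd h3)
  · exact hq.not_dvd_one ((h (d - f) (by omega) (by omega)) ▸ Nat.dvd_gcd hqd h3)

end CfsgLib.PGroup
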