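import Mathlib
import Cfsg.Prelude.Def_Transfer
import Cfsg.Agent.Lib.PSolvable.Omega

/-!
A noncyclic `p`-group, `p` odd, with a cyclic subgroup of index `p`: `x ↦ x ^ p` is a homomorphism
whose kernel has order `p ^ 2`.
-/

set_option autoImplicit false
set_option linter.style.haveILetI false

open scoped commutatorElement

namespace CfsgLib.CyclicMax

variable {S : Type*} [Group S] {p : ℕ}

theorem int_dvd_sub_one_mul_of_dvd_pow_sub_one (hp : p.Prime) (hp2 : p ≠ 2) {m : ℕ} {i : ℤ}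
    (h : ((p ^ m : ℕ) : ℤ) ∣ i ^ p - 1) : ((p ^ m : ℕ) : ℤ) ∣ (i - 1) * p := by
  haveI := Fact.mk hp
  rcases m.eq_zero_or_pos with rfl | hm
  · simp
  have hp1 : (p : ℤ) ∣ i - 1 := by
    have h1 : (p : ℤ) ∣ i ^ p - 1 := dvd_trans (Int.natCast_dvd_natCast.mpr (dvd_pow_self p hm.ne')) h
    rw [← ZMod.intCast_zmod_eq_zero_iff_dvd] at h1 ⊢
    push_cast at h1 ⊢
    rwa [ZMod.pow_card] at h1
  have hpi : ¬ (p : ℤ) ∣ i := fun hd => by
    have h1 : (p : ℤ) ∣ i - (i - 1) := dvd_sub hd hp1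
    rw [show i - (i - 1) = 1 by ring] at h1
    exact hp.not_dvd_one (Int.natCast_dvd_natCast.mp (by simpa using h1))
  have hlte := Int.emultiplicity_pow_sub_pow hp (hp.odd_of_ne_two hp2) hp1 hpi p
  rw [one_pow, ← Int.natCast_emultiplicity, ← emultiplicity_mul (Nat.prime_iff_prime_int.mp hp)]
    at hlte
  push_cast at h ⊢
  rw [pow_dvd_iff_le_emultiplicity] at h ⊢
  rwa [← hlte]

variable [Finite S] [hp : Fact p.Prime]

theorem pow_hom_ker (hS : IsPGroup p S) (hp2 : p ≠ 2) (hnc : ¬ IsCyclic S)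
    {A : Subgroup S} (hAc : IsCyclic A) (hA : A.index = p) :
    (∀ g h : S, (g * h) ^ p = g ^ p * h ^ p) ∧
      ∃ W : Subgroup S, Nat.card W = p ^ 2 ∧ Cfsg.IsElementaryAbelian p W ∧
        ∀ x, x ∈ W ↔ x ^ p = 1 := by
  obtain ⟨k, hk⟩ := IsPGroup.iff_card.mp hS
  haveI : A.Normal := by
    refine Subgroup.normal_of_index_eq_minFac_card ?_
    have hk0 : k ≠ 0 := by
      rintro rfl
      have := A.index_dvd_card
      rw [hA, hk, pow_zero] at this
      exact hp.out.not_dvd_one this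
    rw [hA, hk, Nat.Prime.pow_minFac hp.out hk0]
  obtain ⟨⟨a, ha⟩, hgen⟩ := hAc.exists_generator
  have hAz : A = Subgroup.zpowers a := by
    refine le_antisymm (fun g hg => ?_) (Subgroup.zpowers_le.mpr ha)
    obtain ⟨j, hj⟩ := Subgroup.mem_zpowers_iff.mp (hgen ⟨g, hg⟩)
    exact Subgroup.mem_zpowers_iff.mpr ⟨j, congrArg Subtype.val hj⟩
  obtain ⟨x, hx⟩ : ∃ x, x ∉ A := by
    by_contra h
    push Not at h
    rw [(Subgroup.eq_top_iff' A).mpr h, Subgroup.index_top] at hA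
    exact hp.out.one_lt.ne hA
  have hprod : ∀ g : S, ∃ (j : ℤ) (l : ℤ), g = a ^ j * x ^ l := by
    intro g
    have htop : A ⊔ Subgroup.zpowers x = ⊤ := by
      by_contra hne
      have hle : A ≤ A ⊔ Subgroup.zpowers x := le_sup_left
      rcases (Nat.dvd_prime hp.out).mp (hA ▸ Subgroup.index_dvd_of_le hle) with h1 | h1
      · exact hne (Subgroup.index_eq_one.mp h1)
      · have h2 := Subgroup.relIndex_mul_index hle
        rw [h1, hA] at h2
        have h3 := Nat.eq_of_mul_eq_mul_right hp.out.pos (h2.trans (one_mul p).symm)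
        exact hx (Subgroup.relIndex_eq_one.mp h3 (Subgroup.mem_sup_right (Subgroup.mem_zpowers x)))
    obtain ⟨b, hb, c, hc, rfl⟩ := Subgroup.mem_sup_of_normal_left.mp
      (htop ▸ Subgroup.mem_top g : g ∈ A ⊔ Subgroup.zpowers x)
    obtain ⟨j, rfl⟩ := Subgroup.mem_zpowers_iff.mp (hAz ▸ hb)
    obtain ⟨l, rfl⟩ := Subgroup.mem_zpowers_iff.mp hc
    exact ⟨j, l, rfl⟩
  obtain ⟨i, hi⟩ := Subgroup.mem_zpowers_iff.mp (hAz ▸ (inferInstance : A.Normal).conj_mem a ha x)
  have hconj : ∀ j : ℤ, x * a ^ j * x⁻¹ = a ^ (i * j) := fun j => by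
    rw [← conj_zpow, ← hi, ← zpow_mul]
  have hiter : ∀ n : ℕ, x ^ n * a * (x ^ n)⁻¹ = a ^ (i ^ n) := by
    intro n
    induction n with
    | zero => simp
    | succ n ih =>
      rw [pow_succ' x, pow_succ' i, ← hconj, ← ih]
      group
  have hxp : x ^ p ∈ A := by
    have := A.pow_index_mem x
    rwa [hA] at this
  obtain ⟨t, ht⟩ := Subgroup.mem_zpowers_iff.mp (hAz ▸ hxp)
  have hfix : a ^ (i ^ p) = a := by
    have hc : Commute (x ^ p) a := ht ▸ (Commute.refl a).zpow_left t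
    rw [← hiter, hc.eq, mul_inv_cancel_right]
  obtain ⟨m, hm⟩ := IsPGroup.iff_orderOf.mp hS a
  set d : S := a ^ (i - 1) with hd
  have hdp : d ^ p = 1 := by
    rw [hd, ← zpow_natCast, ← zpow_mul, ← orderOf_dvd_iff_zpow_eq_one, hm]
    refine int_dvd_sub_one_mul_of_dvd_pow_sub_one hp.out hp2 ?_
    rw [← hm, orderOf_dvd_iff_zpow_eq_one, zpow_sub, hfix, zpow_one, mul_inv_cancel]
  have hda : Commute d a := (Commute.refl a).zpow_left _
  have hdx : Commute d x := by
    have h1 : x * d * x⁻¹ = d ^ i := by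
      rw [hd, hconj, ← zpow_mul, mul_comm]
    rcases eq_or_ne d 1 with h | h
    · rw [h]; exact Commute.one_left x
    have hi1 : d ^ i = d := by
      have hp1 : ((p : ℕ) : ℤ) ∣ i - 1 := by
        have h2 : (p : ℤ) ∣ i ^ p - 1 := by
          refine dvd_trans ?_ (orderOf_dvd_iff_zpow_eq_one.mpr
            (show a ^ (i ^ p - 1) = 1 by rw [zpow_sub, hfix, zpow_one, mul_inv_cancel]))
          rw [hm]
          refine Int.natCast_dvd_natCast.mpr (dvd_pow_self p fun hm0 => h ?_)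
          rw [hm0, pow_zero] at hm
          rw [hd, orderOf_eq_one_iff.mp hm, one_zpow]
        haveI := Fact.mk hp.out
        rw [← ZMod.intCast_zmod_eq_zero_iff_dvd] at h2 ⊢
        push_cast at h2 ⊢
        rwa [ZMod.pow_card] at h2
      obtain ⟨r, hr⟩ := hp1
      rw [show i = (p : ℤ) * r + 1 by omega, zpow_add, zpow_one, zpow_mul, zpow_natCast, hdp,
        one_zpow, one_mul]
    rw [hi1, mul_inv_eq_iff_eq_mul] at h1
    exact h1.symm
  have hcen : ∀ g, Commute d g := fun g => by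
    obtain ⟨j, l, rfl⟩ := hprod g
    exact (hda.zpow_right j).mul_right (hdx.zpow_right l)
  set D := Subgroup.zpowers d with hD
  haveI : D.Normal := ⟨fun n hn g => by
    obtain ⟨j, rfl⟩ := Subgroup.mem_zpowers_iff.mp hn
    rw [← ((hcen g).zpow_left j).eq, mul_inv_cancel_right]
    exact hn⟩
  have hDprop : ∀ z ∈ D, z ^ p = 1 ∧ ∀ g, Commute z g := fun z hz => by
    obtain ⟨j, rfl⟩ := Subgroup.mem_zpowers_iff.mp hz
    refine ⟨?_, fun g => (hcen g).zpow_left j⟩
    rw [← zpow_natCast, ← zpow_mul, mul_comm, zpow_mul, zpow_natCast, hdp, one_zpow]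
  have hcomm : ∀ g h : S, ⁅g, h⁆ ∈ D := by
    intro g h
    have hax : Commute (QuotientGroup.mk' D x) (QuotientGroup.mk' D a) := by
      rw [← commutatorElement_eq_one_iff_commute, ← map_commutatorElement, QuotientGroup.mk'_apply,
        QuotientGroup.eq_one_iff]
      refine Subgroup.mem_zpowers_iff.mpr ⟨1, ?_⟩
      rw [zpow_one, hd, commutatorElement_def, ← hi, ← zpow_neg_one, ← zpow_add]
      ring_nf
    rw [← QuotientGroup.eq_one_iff, ← QuotientGroup.mk'_apply, map_commutatorElement,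
      commutatorElement_eq_one_iff_commute]
    obtain ⟨j, l, rfl⟩ := hprod g
    obtain ⟨j', l', rfl⟩ := hprod h
    simp only [map_mul, map_zpow]
    exact (((Commute.refl _).zpow_zpow j j').mul_right (hax.symm.zpow_zpow j l')).mul_left
      ((hax.zpow_zpow l j').mul_right ((Commute.refl _).zpow_zpow l l'))
  have hpow : ∀ g h : S, (g * h) ^ p = g ^ p * h ^ p := fun g h => by
    obtain ⟨hzp, hzc⟩ := hDprop _ (hcomm h g)
    rw [PSolvable.mul_pow_of_comm (hzc g) (hzc h)]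
    obtain ⟨r, hr⟩ : p ∣ p.choose 2 :=
      hp.out.dvd_choose_self (by norm_num) (lt_of_le_of_ne hp.out.two_le hp2.symm)
    rw [hr, pow_mul, hzp, one_pow, mul_one]
  refine ⟨hpow, ?_⟩
  let φ : S →* S := MonoidHom.mk' (fun g => g ^ p) hpow
  have htp : (p : ℤ) ∣ t := by
    by_contra h
    refine hnc ⟨⟨x, ?_⟩⟩
    have hcop : IsCoprime t ((p : ℤ) ^ m) :=
      ((Nat.prime_iff_prime_int.mp hp.out).coprime_iff_not_dvd.mpr h).symm.pow_right
    obtain ⟨u, v, huv⟩ := hcop
    have hau : a = x ^ ((p : ℤ) * u) := by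
      rw [zpow_mul, zpow_natCast, ← ht, ← zpow_mul]
      conv_lhs => rw [← zpow_one a, ← huv, zpow_add, mul_comm v]
      rw [zpow_mul a ((p : ℤ) ^ m), show a ^ ((p : ℤ) ^ m) = 1 by
        rw [← Nat.cast_pow, zpow_natCast, ← hm, pow_orderOf_eq_one], one_zpow, mul_one, mul_comm]
    intro g
    obtain ⟨j, l, rfl⟩ := hprod g
    refine Subgroup.mem_zpowers_iff.mpr ⟨(p : ℤ) * u * j + l, ?_⟩
    rw [zpow_add, zpow_mul x ((p : ℤ) * u), ← hau]
  have hrange : φ.range = Subgroup.zpowers (a ^ p) := by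
    refine le_antisymm ?_ (Subgroup.zpowers_le.mpr ⟨a, rfl⟩)
    rintro _ ⟨g, rfl⟩
    obtain ⟨j, l, rfl⟩ := hprod g
    obtain ⟨r, rfl⟩ := htp
    show (a ^ j * x ^ l) ^ p ∈ _
    have hflip : ∀ (b : S) (n : ℤ), (b ^ n) ^ p = (b ^ p) ^ n := fun b n => by
      rw [← zpow_natCast, ← zpow_mul, mul_comm, zpow_mul, zpow_natCast]
    rw [hpow, hflip, hflip]
    refine mul_mem (zpow_mem (Subgroup.mem_zpowers _) _) (zpow_mem ?_ _)
    rw [← ht, zpow_mul, zpow_natCast]
    exact zpow_mem (Subgroup.mem_zpowers _) _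
  have hcardA : Nat.card A = p ^ m := by rw [hAz, Nat.card_zpowers, hm]
  have hm1 : 1 ≤ m := by
    by_contra h
    refine hnc (isCyclic_of_prime_card (p := p) ?_)
    rw [← A.card_mul_index, hA, hcardA, show m = 0 by omega, pow_zero, one_mul]
  have hker : Nat.card φ.ker = p ^ 2 := by
    have h1 := φ.ker.card_mul_index
    rw [Subgroup.index_ker, hrange, Nat.card_zpowers, ← A.card_mul_index, hA, hcardA,
      orderOf_pow' a hp.out.ne_zero, hm,
      Nat.gcd_eq_right (dvd_pow_self p (by omega)),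
      show p ^ m = p ^ (m - 1) * p by rw [← pow_succ, Nat.sub_add_cancel hm1],
      Nat.mul_div_cancel _ hp.out.pos] at h1
    refine Nat.eq_of_mul_eq_mul_right (pow_pos hp.out.pos (m - 1)) (h1.trans ?_)
    ring
  exact ⟨φ.ker, hker, ⟨IsPGroup.isMulCommutative_of_card_eq_prime_sq hker, fun g hg => hg⟩,
    fun g => Iff.rfl⟩

end CfsgLib.CyclicMax
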