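import Mathlib
import Cfsg.Agent.Lib.PGroup.CyclicMax
import Cfsg.Agent.Lib.Critical.Basic

/-!
Normal elementary abelian subgroups of order `p ^ 2` in `p`-groups, `p` odd.
-/

set_option autoImplicit false
set_option linter.style.haveILetI false

namespace CfsgLib.CyclicMax

variable {R : Type*} [Group R] [Finite R] {p : ℕ} [hp : Fact p.Prime]

theorem exists_normal_relIndex_prime (hR : IsPGroup p R) (S : Subgroup R) [S.Normal] (hS : S ≠ ⊥) :
    ∃ M : Subgroup R, M.Normal ∧ M ≤ S ∧ M.relIndex S = p := by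
  obtain ⟨M, -, ⟨hMn, hMS⟩, hmax⟩ := Finite.exists_le_maximal
    (p := fun M : Subgroup R => M.Normal ∧ M < S) (a := ⊥) ⟨inferInstance, bot_lt_iff_ne_bot.mpr hS⟩
  haveI := hMn
  refine ⟨M, hMn, hMS.le, ?_⟩
  set f := QuotientGroup.mk' M with hf
  have hsurj : Function.Surjective f := QuotientGroup.mk'_surjective _
  haveI : (S.map f).Normal := Subgroup.Normal.map inferInstance f hsurj
  haveI : Group.IsNilpotent (R ⧸ M) := (hR.to_quotient M).isNilpotent
  have hSb : S.map f ≠ ⊥ := by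
    rw [Ne, Subgroup.map_eq_bot_iff, hf, QuotientGroup.ker_mk']
    exact hMS.not_ge
  have hne := Critical.inf_center_ne_bot (S.map f) hSb
  haveI : Nontrivial ↥(S.map f ⊓ Subgroup.center (R ⧸ M)) :=
    (Subgroup.nontrivial_iff_ne_bot _).mpr hne
  obtain ⟨n, hn0, hn⟩ := ((hR.to_quotient M).to_subgroup _).nontrivial_iff_card.mp
    (inferInstance : Nontrivial ↥(S.map f ⊓ Subgroup.center (R ⧸ M)))
  obtain ⟨z, hz⟩ := exists_prime_orderOf_dvd_card' (G := ↥(S.map f ⊓ Subgroup.center (R ⧸ M))) p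
    (hn ▸ dvd_pow_self p hn0.ne')
  set Z := Subgroup.zpowers (z : R ⧸ M) with hZ
  have hzS : (z : R ⧸ M) ∈ S.map f := (Subgroup.mem_inf.mp z.2).1
  have hzC : (z : R ⧸ M) ∈ Subgroup.center (R ⧸ M) := (Subgroup.mem_inf.mp z.2).2
  haveI : Z.Normal := ⟨fun w hw g => by
    obtain ⟨j, rfl⟩ := Subgroup.mem_zpowers_iff.mp hw
    rw [Subgroup.mem_center_iff.mp (zpow_mem hzC j) g, mul_inv_cancel_right]
    exact hw⟩
  have hle : Z.comap f ≤ S := by
    intro x hx
    obtain ⟨s, hs, hsx⟩ := (Subgroup.zpowers_le.mpr hzS : Z ≤ S.map f) hx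
    have h1 : s⁻¹ * x ∈ M := QuotientGroup.eq.mp hsx
    have h2 := mul_mem hs (hMS.le h1)
    rwa [mul_inv_cancel_left] at h2
  have hcardZ : Nat.card Z = p := by rw [hZ, Nat.card_zpowers, Subgroup.orderOf_coe, hz]
  have hlt : M < Z.comap f := by
    refine lt_of_le_of_ne (QuotientGroup.le_comap_mk' M Z) fun h => ?_
    have hzb : Z = ⊥ := by
      rw [← Subgroup.map_comap_eq_self_of_surjective hsurj Z, ← h, Subgroup.map_eq_bot_iff, hf,
        QuotientGroup.ker_mk']
    rw [hzb, Subgroup.card_bot] at hcardZ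
    exact hp.out.one_lt.ne hcardZ
  have heq : Z.comap f = S := by
    by_contra hne'
    exact hlt.not_ge (hmax ⟨inferInstance, lt_of_le_of_ne hle hne'⟩ hlt.le)
  have hker : f.ker.relIndex S = Nat.card (S.map f) := Subgroup.relIndex_ker S f
  rwa [hf, QuotientGroup.ker_mk', ← hf, ← heq, Subgroup.map_comap_eq_self_of_surjective hsurj,
    hcardZ, heq] at hker

theorem exists_normal_rank_two (hR : IsPGroup p R) (hp2 : p ≠ 2) :
    ∀ (S : Subgroup R), S.Normal → ¬ IsCyclic S →
      ∃ A : Subgroup R, A ≤ S ∧ A.Normal ∧ Cfsg.IsElementaryAbelian p A ∧ Nat.card A = p ^ 2 := by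
  intro S
  induction S using WellFoundedLT.induction with
  | ind S ih =>
  intro hSn hnc
  haveI := hSn
  have hne : S ≠ ⊥ := by
    rintro rfl
    exact hnc inferInstance
  obtain ⟨M, hMn, hMS, hidx⟩ := exists_normal_relIndex_prime hR S hne
  have hlt : M < S := lt_of_le_of_ne hMS fun h => by
    rw [h, Subgroup.relIndex_self] at hidx
    exact hp.out.one_lt.ne hidx
  by_cases hMc : IsCyclic M
  swap
  · obtain ⟨A, hA, h⟩ := ih M hlt hMn hMc
    exact ⟨A, hA.trans hMS, h⟩
  haveI := hMc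
  have hcyc : IsCyclic (M.subgroupOf S) :=
    isCyclic_of_surjective (Subgroup.subgroupOfEquivOfLe hMS).symm (MulEquiv.surjective _)
  obtain ⟨-, W, hW, hWe, hWmem⟩ := pow_hom_ker (hR.to_subgroup S) hp2 hnc hcyc hidx
  refine ⟨W.map S.subtype, Subgroup.map_subtype_le W, ⟨?_⟩, ⟨?_, ?_⟩, ?_⟩
  · rintro _ ⟨w, hw, rfl⟩ g
    refine ⟨⟨g * w * g⁻¹, hSn.conj_mem w w.2 g⟩, (hWmem _).mpr (Subtype.ext ?_), rfl⟩
    show (g * (w : R) * g⁻¹) ^ p = 1
    rw [conj_pow, show (w : R) ^ p = 1 from congrArg Subtype.val ((hWmem w).mp hw), mul_one,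
      mul_inv_cancel]
  · haveI := hWe.1
    exact Subgroup.map_isMulCommutative W _
  · rintro _ ⟨w, hw, rfl⟩
    rw [← map_pow, hWe.2 w hw, map_one]
  · rw [Subgroup.card_map_of_injective S.subtype_injective, hW]

/-- In a noncyclic metacyclic `p`-group, `p` odd, the solutions of `x ^ p = 1` form an elementary
abelian subgroup of order `p ^ 2`. -/
theorem metacyclic_omega (hR : IsPGroup p R) (hp2 : p ≠ 2) (N : Subgroup R) [N.Normal]
    (hN : IsCyclic N) (hq : IsCyclic (R ⧸ N)) (hnc : ¬ IsCyclic R) :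
    ∃ W : Subgroup R, Cfsg.IsElementaryAbelian p W ∧ Nat.card W = p ^ 2 ∧ ∀ x, x ^ p = 1 → x ∈ W := by
  obtain ⟨A, -, -, hAe, hAc⟩ := exists_normal_rank_two hR hp2 ⊤ inferInstance fun h =>
    hnc (isCyclic_of_surjective Subgroup.topEquiv (MulEquiv.surjective _))
  letI := hq.commGroup
  set f := QuotientGroup.mk' N with hf
  have hsurj : Function.Surjective f := QuotientGroup.mk'_surjective _
  let φ : (R ⧸ N) →* (R ⧸ N) := powMonoidHom p
  set T := φ.ker.comap f with hT
  have hTmem : ∀ x : R, x ^ p = 1 → x ∈ T := fun x hx => by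
    show (f x) ^ p = 1
    rw [← map_pow, hx, map_one]
  have hNT : N ≤ T := fun x hx => by
    show (f x) ^ p = 1
    rw [show f x = 1 from (QuotientGroup.eq_one_iff x).mpr hx, one_pow]
  have hncT : ¬ IsCyclic T := fun hT' => by
    have hAT : A ≤ T := fun a ha => hTmem a (hAe.2 a ha)
    haveI : IsCyclic A := by
      haveI := hT'
      exact isCyclic_of_surjective (Subgroup.subgroupOfEquivOfLe hAT) (MulEquiv.surjective _)
    obtain ⟨g, hg⟩ := IsCyclic.exists_ofOrder_eq_natCard (α := A)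
    have h1 : orderOf g ∣ p := orderOf_dvd_of_pow_eq_one (Subtype.ext (hAe.2 g g.2))
    rw [hg, hAc] at h1
    have h2 := Nat.le_of_dvd hp.out.pos h1
    nlinarith [hp.out.one_lt]
  have hidx : (N.subgroupOf T).index = p := by
    have h1 : N.relIndex T = Nat.card φ.ker := by
      have := Subgroup.relIndex_ker T f
      rwa [hf, QuotientGroup.ker_mk', ← hf, hT, Subgroup.map_comap_eq_self_of_surjective hsurj,
        ← hT] at this
    change N.relIndex T = p
    rw [h1]
    classical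
    haveI := Fintype.ofFinite (R ⧸ N)
    have hle : Nat.card φ.ker ≤ p := by
      refine le_trans (le_of_eq ?_) (IsCyclic.card_pow_eq_one_le (α := R ⧸ N) hp.out.pos)
      rw [Nat.card_eq_fintype_card, Fintype.card_subtype]
      congr 1
      exact Finset.filter_congr fun x _ => MonoidHom.mem_ker
    obtain ⟨k, hk⟩ := IsPGroup.iff_card.mp ((hR.to_quotient N).to_subgroup φ.ker)
    rw [hk] at hle ⊢
    rcases k with _ | k
    · exfalso
      refine hncT ?_
      have hTN : T ≤ N := Subgroup.relIndex_eq_one.mp (by rw [h1, hk, pow_zero])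
      haveI := hN
      exact isCyclic_of_surjective (Subgroup.subgroupOfEquivOfLe hTN) (MulEquiv.surjective _)
    · rw [show k = 0 by
        have h3 := (Nat.pow_le_pow_iff_right hp.out.one_lt).mp (le_of_le_of_eq hle (pow_one p).symm)
        omega, zero_add, pow_one]
  haveI := hN
  have hcyc : IsCyclic (N.subgroupOf T) :=
    isCyclic_of_surjective (Subgroup.subgroupOfEquivOfLe hNT).symm (MulEquiv.surjective _)
  obtain ⟨-, W, hW, hWe, hWmem⟩ := pow_hom_ker (hR.to_subgroup T) hp2 hncT hcyc hidx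
  refine ⟨W.map T.subtype, ⟨?_, ?_⟩, ?_, fun x hx =>
    ⟨⟨x, hTmem x hx⟩, (hWmem _).mpr (Subtype.ext hx), rfl⟩⟩
  · haveI := hWe.1
    exact Subgroup.map_isMulCommutative W _
  · rintro _ ⟨w, hw, rfl⟩
    rw [← map_pow, hWe.2 w hw, map_one]
  · rw [Subgroup.card_map_of_injective T.subtype_injective, hW]

end CfsgLib.CyclicMax
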