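import Mathlib
import Cfsg.Prelude.Def_PLocal
import Cfsg.Agent.Lib.Coprime.Action
import Cfsg.Agent.Lib.PGroup.NormalRankTwo
import Cfsg.Agent.Lib.Transfer.Sylow

/-!
Uniserial action of a `p`-group on a `p`-group.
-/

set_option autoImplicit false
set_option linter.style.haveILetI false

open scoped commutatorElement

namespace CfsgLib.Uniserial

variable {L : Type*} [Group L] {G : Subgroup L}

theorem exists_mul_of_mem {N H : Subgroup L} (h : H ≤ Subgroup.normalizer (N : Set L)) {x : L}
    (hx : x ∈ N ⊔ H) : ∃ n ∈ N, ∃ k ∈ H, n * k = x := by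
  rwa [← SetLike.mem_coe, Subgroup.coe_mul_of_right_le_normalizer_left _ _ h, Set.mem_mul] at hx

theorem iter_invariant {K : Subgroup L} (hK : G ≤ Subgroup.normalizer (K : Set L)) :
    ∀ i, G ≤ Subgroup.normalizer (Cfsg.iterCommutator K G i : Set L)
  | 0 => hK
  | i + 1 => Coprime.le_normalizer_commutator (iter_invariant hK i) Subgroup.le_normalizer

theorem iter_succ_le {K : Subgroup L} (hK : G ≤ Subgroup.normalizer (K : Set L)) (i : ℕ) :
    Cfsg.iterCommutator K G (i + 1) ≤ Cfsg.iterCommutator K G i :=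
  Coprime.commutator_le_left_of_le_normalizer (iter_invariant hK i)

theorem iter_le {K : Subgroup L} (hK : G ≤ Subgroup.normalizer (K : Set L)) :
    ∀ i, Cfsg.iterCommutator K G i ≤ K
  | 0 => le_rfl
  | i + 1 => (iter_succ_le hK i).trans (iter_le hK i)

variable [Finite L] {p : ℕ} [hp : Fact p.Prime]

/-- The commutator of `K` with `G` lies in every maximal `G`-invariant proper subgroup of `K`. -/
theorem exists_le_commutator_le (hG : IsPGroup p G) {H K : Subgroup L} (hK : IsPGroup p K)
    (hGK : G ≤ Subgroup.normalizer (K : Set L)) (hGH : G ≤ Subgroup.normalizer (H : Set L))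
    (hlt : H < K) :
    ∃ M : Subgroup L, H ≤ M ∧ M < K ∧ ⁅K, G⁆ ≤ M := by
  obtain ⟨M, hHM, ⟨hGM, hMK⟩, hmax⟩ := Finite.exists_le_maximal
    (p := fun M : Subgroup L => G ≤ Subgroup.normalizer (M : Set L) ∧ M < K) (a := H) ⟨hGH, hlt⟩
  refine ⟨M, hHM, hMK, ?_⟩
  have hKM : K ≤ Subgroup.normalizer (M : Set L) := by
    by_contra h
    have hgrow := Transfer.lt_inf_normalizer hK hMK
    have hinv : G ≤ Subgroup.normalizer ((K ⊓ Subgroup.normalizer (M : Set L) : Subgroup L) : Set L) :=
      Coprime.le_normalizer_inf_of_le hGK (hGM.trans Subgroup.le_normalizer)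
    exact hgrow.not_ge (hmax ⟨hinv, lt_of_le_of_ne inf_le_left fun e => h (e ▸ inf_le_right)⟩ hgrow.le)
  have hKG : ⁅K, G⁆ ≤ K := Coprime.commutator_le_left_of_le_normalizer hGK
  have hinv : G ≤ Subgroup.normalizer ((M ⊔ ⁅K, G⁆ : Subgroup L) : Set L) :=
    Coprime.le_normalizer_sup_of_le hGM
      (Coprime.le_normalizer_commutator hGK Subgroup.le_normalizer)
  rcases (sup_le hMK.le hKG : M ⊔ ⁅K, G⁆ ≤ K).lt_or_eq with h | h
  · exact le_sup_right.trans (hmax ⟨hinv, h⟩ le_sup_left)
  exfalso
  have hall : ∀ j, K ≤ M ⊔ Cfsg.iterCommutator K G j := by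
    intro j
    induction j with
    | zero => exact le_sup_right
    | succ j ih =>
      have hX : Cfsg.iterCommutator K G j ≤ Subgroup.normalizer (M : Set L) :=
        (iter_le hGK j).trans hKM
      refine h.ge.trans (sup_le le_sup_left (Subgroup.commutator_le.mpr fun y hy g hg => ?_))
      obtain ⟨m, hm, x, hx, rfl⟩ := exists_mul_of_mem hX (ih hy)
      rw [show ⁅m * x, g⁆ = m * ⁅x, g⁆ * m⁻¹ * ⁅m, g⁆ by simp only [commutatorElement_def]; group]
      refine mul_mem (mul_mem (mul_mem (Subgroup.mem_sup_left hm)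
        (Subgroup.mem_sup_right (Subgroup.commutator_mem_commutator hx hg)))
        (inv_mem (Subgroup.mem_sup_left hm))) (Subgroup.mem_sup_left ?_)
      exact Coprime.commutator_le_left_of_le_normalizer hGM (Subgroup.commutator_mem_commutator hm hg)
  set P := K ⊔ G with hP
  have hPp : IsPGroup p P := hK.to_sup_of_normal_left' hG hGK
  haveI : Group.IsNilpotent P := hPp.isNilpotent
  obtain ⟨n, hn⟩ := (Subgroup.isNilpotent_iff_lowerCentralSeries P).mp inferInstance
  have hiter : ∀ j, Cfsg.iterCommutator K G j ≤ P.lowerCentralSeries j := by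
    intro j
    induction j with
    | zero => exact le_sup_left
    | succ j ih =>
      rw [Subgroup.lowerCentralSeries_succ]
      exact Subgroup.commutator_mono ih le_sup_right
  exact hMK.not_ge ((hall n).trans (sup_le le_rfl ((hiter n).trans (hn.le.trans bot_le))))

theorem commutator_lt (hG : IsPGroup p G) {K : Subgroup L} (hK : IsPGroup p K)
    (hGK : G ≤ Subgroup.normalizer (K : Set L)) (hne : K ≠ ⊥) : ⁅K, G⁆ < K := by
  obtain ⟨M, -, hMK, hM⟩ := exists_le_commutator_le hG hK hGK
    (H := ⊥) (by rw [Subgroup.normalizer_eq_top]; exact le_top) (bot_lt_iff_ne_bot.mpr hne)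
  exact hM.trans_lt hMK

theorem card_mul_le (hG : IsPGroup p G) {K : Subgroup L} (hK : IsPGroup p K)
    (hGK : G ≤ Subgroup.normalizer (K : Set L)) (hne : K ≠ ⊥) :
    Nat.card ↥⁅K, G⁆ * p ≤ Nat.card K := by
  have hlt := commutator_lt hG hK hGK hne
  obtain ⟨a, ha⟩ := IsPGroup.iff_card.mp hK
  obtain ⟨b, hb⟩ := IsPGroup.iff_card.mp (hK.to_le hlt.le)
  rw [ha, hb, ← pow_succ]
  refine Nat.pow_le_pow_right hp.out.pos ?_
  by_contra hcon
  refine hlt.ne (Subgroup.eq_of_le_of_card_ge hlt.le ?_)
  rw [ha, hb]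
  exact Nat.pow_le_pow_right hp.out.pos (by omega)

theorem card_iter_le (hG : IsPGroup p G) {N : Subgroup L} (hN : IsPGroup p N)
    (hGN : G ≤ Subgroup.normalizer (N : Set L)) {n : ℕ} (hn : Nat.card N = p ^ n) :
    ∀ i, i ≤ n → Nat.card ↥(Cfsg.iterCommutator N G i) ≤ p ^ (n - i) := by
  intro i
  induction i with
  | zero => intro _; exact hn.le
  | succ i ih =>
    intro hi
    rcases eq_or_ne (Cfsg.iterCommutator N G i) ⊥ with h | h
    · show Nat.card ↥⁅Cfsg.iterCommutator N G i, G⁆ ≤ _
      rw [h, Subgroup.commutator_bot_left, Subgroup.card_bot]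
      exact Nat.one_le_pow _ _ hp.out.pos
    · have h1 := card_mul_le hG (hN.to_le (iter_le hGN i)) (iter_invariant hGN i) h
      refine Nat.le_of_mul_le_mul_right (h1.trans ((ih (by omega)).trans ?_)) hp.out.pos
      rw [← pow_succ]
      exact (congrArg _ (by omega)).le

/-- If the chain is long, it has exact orders and every invariant subgroup belongs to it. -/
theorem long_chain (hG : IsPGroup p G) {N : Subgroup L} (hN : IsPGroup p N)
    (hGN : G ≤ Subgroup.normalizer (N : Set L)) {n : ℕ} (hn : Nat.card N = p ^ n)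
    (h : Cfsg.iterCommutator N G (n - 1) ≠ ⊥ ∨ n = 0) :
    (∀ i, i ≤ n → Nat.card ↥(Cfsg.iterCommutator N G i) = p ^ (n - i)) ∧
      ∀ H ≤ N, G ≤ Subgroup.normalizer (H : Set L) → ∃ i ≤ n, H = Cfsg.iterCommutator N G i := by
  have hexact : ∀ d i, i + d + 1 = n → p ^ (n - i) ≤ Nat.card ↥(Cfsg.iterCommutator N G i) := by
    intro d
    induction d with
    | zero =>
      intro i hi
      have hne : Cfsg.iterCommutator N G i ≠ ⊥ := by
        rcases h with h | h
        · rwa [show n - 1 = i by omega] at h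
        · omega
      have := (Subgroup.one_lt_card_iff_ne_bot _).mpr hne
      obtain ⟨a, ha⟩ := IsPGroup.iff_card.mp (hN.to_le (iter_le hGN i))
      rw [ha] at this ⊢
      refine Nat.pow_le_pow_right hp.out.pos ?_
      rcases a with _ | a
      · simp at this
      · omega
    | succ d ih =>
      intro i hi
      have h1 := ih (i + 1) (by omega)
      have hne : Cfsg.iterCommutator N G i ≠ ⊥ := fun h0 => by
        change _ ≤ Nat.card ↥⁅Cfsg.iterCommutator N G i, G⁆ at h1
        rw [h0, Subgroup.commutator_bot_left, Subgroup.card_bot] at h1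
        have := Nat.one_lt_pow (show n - (i + 1) ≠ 0 by omega) hp.out.one_lt
        omega
      refine le_trans ?_ (card_mul_le hG (hN.to_le (iter_le hGN i)) (iter_invariant hGN i) hne)
      rw [show n - i = n - (i + 1) + 1 by omega, pow_succ]
      exact Nat.mul_le_mul_right p h1
  have hcard : ∀ i, i ≤ n → Nat.card ↥(Cfsg.iterCommutator N G i) = p ^ (n - i) := by
    intro i hi
    refine le_antisymm (card_iter_le hG hN hGN hn i hi) ?_
    rcases hi.lt_or_eq with hlt | heq
    · exact hexact (n - i - 1) i (by omega)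
    · rw [heq, Nat.sub_self, pow_zero]; exact Nat.card_pos
  refine ⟨hcard, fun H hH hGH => ?_⟩
  classical
  have hex : ∃ i, n ≤ i ∨ ¬ H ≤ Cfsg.iterCommutator N G (i + 1) := ⟨n, Or.inl le_rfl⟩
  set i := Nat.find hex with hi
  have hin : i ≤ n := Nat.find_min' hex (Or.inl le_rfl)
  have hHi : H ≤ Cfsg.iterCommutator N G i := by
    rcases Nat.eq_zero_or_pos i with h0 | h0
    · rw [h0]; exact hH
    · have h1 := Nat.find_min hex (show i - 1 < i by omega)
      push Not at h1
      rw [show i = i - 1 + 1 by omega]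
      exact h1.2
  refine ⟨i, hin, ?_⟩
  by_contra hne
  obtain ⟨M, hHM, hMK, hM⟩ := exists_le_commutator_le hG (hN.to_le (iter_le hGN i))
    (iter_invariant hGN i) hGH (lt_of_le_of_ne hHi hne)
  have hiN : i < n := by
    by_contra hge
    have h1 := hcard i hin
    rw [show n - i = 0 by omega, pow_zero, Subgroup.card_eq_one] at h1
    exact not_lt_bot (h1 ▸ hMK)
  obtain ⟨a, ha⟩ := IsPGroup.iff_card.mp (hN.to_le (hMK.le.trans (iter_le hGN i)))
  have hlt : Nat.card M < p ^ (n - i) := by
    rw [← hcard i hin]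
    by_contra hge
    exact hMK.ne (Subgroup.eq_of_le_of_card_ge hMK.le (not_lt.mp hge))
  rw [ha, Nat.pow_lt_pow_iff_right hp.out.one_lt] at hlt
  have heq : Cfsg.iterCommutator N G (i + 1) = M := Subgroup.eq_of_le_of_card_ge hM (by
    rw [ha, hcard (i + 1) hiN]
    exact Nat.pow_le_pow_right hp.out.pos (by omega))
  rcases Nat.find_spec hex with h1 | h1
  · rw [← hi] at h1; omega
  · rw [← hi] at h1
    exact h1 (heq ▸ hHM)

/-- Every subgroup of the chain is normal in `N`. -/
theorem chain_normal (hG : IsPGroup p G) {N : Subgroup L} (hN : IsPGroup p N)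
    (hGN : G ≤ Subgroup.normalizer (N : Set L)) {n : ℕ} (hn : Nat.card N = p ^ n)
    (h : Cfsg.iterCommutator N G (n - 1) ≠ ⊥ ∨ n = 0) :
    ∀ i, i ≤ n → N ≤ Subgroup.normalizer (Cfsg.iterCommutator N G i : Set L) := by
  obtain ⟨hcard, hclass⟩ := long_chain hG hN hGN hn h
  set P := N ⊔ G with hP
  have hPp : IsPGroup p P := hN.to_sup_of_normal_left' hG hGN
  intro i
  induction i with
  | zero => intro _; exact Subgroup.le_normalizer
  | succ i ih =>
    intro hi
    set C := Cfsg.iterCommutator N G i with hC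
    have hCP : C ≤ P := (iter_le hGN i).trans le_sup_left
    haveI : (C.subgroupOf P).Normal := (Subgroup.normal_subgroupOf_iff_le_normalizer hCP).mpr
      (sup_le (ih (by omega)) (iter_invariant hGN i))
    have hne : C.subgroupOf P ≠ ⊥ := fun h0 => by
      have h1 := hcard i (by omega)
      rw [← hC, ← Nat.card_congr (Subgroup.subgroupOfEquivOfLe hCP).toEquiv, h0,
        Subgroup.card_bot] at h1
      exact (Nat.one_lt_pow (show n - i ≠ 0 by omega) hp.out.one_lt).ne h1
    obtain ⟨M, hMn, hMle, hMidx⟩ := CyclicMax.exists_normal_relIndex_prime hPp _ hne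
    set M' := M.map P.subtype with hM'
    have hM'C : M' ≤ C := by
      refine (Subgroup.map_mono hMle).trans ?_
      rw [Subgroup.map_subgroupOf_eq_of_le hCP]
    have hM'n : P ≤ Subgroup.normalizer (M' : Set L) :=
      (Subgroup.normal_subgroupOf_iff_le_normalizer (Subgroup.map_subtype_le M)).mp (by
        rw [Subgroup.subgroupOf, Subgroup.comap_map_eq_self_of_injective P.subtype_injective]
        exact hMn)
    obtain ⟨j, hj, hMj⟩ := hclass M' (hM'C.trans (iter_le hGN i)) (le_sup_right.trans hM'n)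
    have hjc : Nat.card M' * p = Nat.card C := by
      rw [hM', Subgroup.card_map_of_injective P.subtype_injective, ← hMidx,
        ← Nat.card_congr (Subgroup.subgroupOfEquivOfLe hCP).toEquiv,
        ← (M.subgroupOf (C.subgroupOf P)).card_mul_index,
        Nat.card_congr (Subgroup.subgroupOfEquivOfLe hMle).toEquiv]
      rfl
    rw [hMj, hcard j hj, hC, hcard i (by omega), ← pow_succ] at hjc
    have hji : j = i + 1 := by
      have := Nat.pow_right_injective hp.out.two_le hjc
      omega
    rw [← hji, ← hMj]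
    exact le_sup_left.trans hM'n

end CfsgLib.Uniserial
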