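import Mathlib
import Cfsg.Agent.Lib.PGroup.Uniserial
import Cfsg.Agent.Lib.PSolvable.Omega

/-!
Alperin's lemma on maximal normal elementary abelian subgroups (`p` odd) and consequences.
-/

set_option autoImplicit false
set_option linter.style.haveILetI false

open scoped commutatorElement

namespace CfsgLib.AlperinElem

variable {R : Type*} [Group R] {p : ℕ}

/-- If the elements of order `p` of a normal subgroup `N` are central, then `x ^ p = (c x) ^ p = 1`
with `c ∈ N` forces `c ^ p = 1`. -/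
theorem pow_eq_one_of_mul_pow [Finite R] [hp : Fact p.Prime] (hp2 : p ≠ 2) {C N : Subgroup R}
    (hC : IsPGroup p C) (hNC : C ≤ Subgroup.normalizer (N : Set R))
    (hcen : ∀ z ∈ N, z ^ p = 1 → ∀ u ∈ C, Commute z u) :
    ∀ P : Subgroup R, P ≤ C → ∀ c x : R, c ∈ N → c ∈ P → x ∈ P → x ^ p = 1 → (c * x) ^ p = 1 →
      c ^ p = 1 := by
  intro P
  induction P using WellFoundedLT.induction with
  | ind P ih =>
  intro hPC c x hcN hc hx hxp hcxp
  set d := ⁅c, x⁆ with hd
  have hdN : d ∈ N := by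
    rw [hd, show ⁅c, x⁆ = c * (x * c⁻¹ * x⁻¹) by rw [commutatorElement_def]; group]
    exact mul_mem hcN ((Subgroup.mem_normalizer_iff.mp (hNC (hPC hx)) _).mp (inv_mem hcN))
  have hdp : d ^ p = 1 := by
    by_cases hd1 : d = 1
    · rw [hd1, one_pow]
    set Q := Subgroup.closure ({d, x} : Set R) with hQ
    have hdP : d ∈ P := mul_mem (mul_mem (mul_mem hc hx) (inv_mem hc)) (inv_mem hx)
    have hQP : Q ≤ P := (Subgroup.closure_le _).mpr (by
      rintro y (rfl | rfl)
      · exact hdP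
      · exact hx)
    have hlt : Q < P := by
      refine lt_of_le_of_ne hQP fun heq => hd1 ?_
      -- `P = ⟨x⟩ P'` would be cyclic
      haveI hPp : IsPGroup p P := hC.to_le hPC
      have htop : Subgroup.zpowers (⟨x, hx⟩ : P) ⊔ frattini P = ⊤ := by
        refine eq_top_iff.mpr fun y _ => ?_
        have hy : (y : R) ∈ Q := heq ▸ y.2
        have hle : Q ≤ ((Subgroup.zpowers (⟨x, hx⟩ : P) ⊔ frattini P).map P.subtype) := by
          refine (Subgroup.closure_le _).mpr ?_
          rintro z (rfl | rfl)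
          · exact ⟨⁅(⟨c, hc⟩ : P), ⟨x, hx⟩⁆, Subgroup.mem_sup_right
              ((PSolvable.commutator_le_frattini hPp).1 (by
                rw [commutator_def]
                exact Subgroup.commutator_mem_commutator (Subgroup.mem_top _) (Subgroup.mem_top _))),
              rfl⟩
          · exact ⟨⟨z, hx⟩, Subgroup.mem_sup_left (Subgroup.mem_zpowers _), rfl⟩
        obtain ⟨w, hw, hwy⟩ := hle hy
        rwa [← Subtype.ext hwy]
      have hcyc := frattini_nongenerating htop
      obtain ⟨j, hj⟩ := Subgroup.mem_zpowers_iff.mp (hcyc.ge (Subgroup.mem_top (⟨c, hc⟩ : P)))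
      have hcj : x ^ j = c := congrArg Subtype.val hj
      rw [hd, ← hcj, commutatorElement_eq_one_iff_commute]
      exact (Commute.refl x).zpow_left j
    refine ih Q hlt (hQP.trans hPC) d x hdN (Subgroup.subset_closure (by simp))
      (Subgroup.subset_closure (by simp)) hxp ?_
    rw [show d * x = c * x * c⁻¹ by rw [hd, commutatorElement_def]; group, conj_pow, hxp, mul_one,
      mul_inv_cancel]
  have hdc := hcen d hdN hdp
  have he : ⁅x, c⁆ = d⁻¹ := (commutatorElement_inv c x).symm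
  have h1 : Commute ⁅x, c⁆ c := he ▸ (hdc c (hPC hc)).inv_left
  have h2 : Commute ⁅x, c⁆ x := he ▸ (hdc x (hPC hx)).inv_left
  obtain ⟨r, hr⟩ : p ∣ p.choose 2 :=
    hp.out.dvd_choose_self (by norm_num) (lt_of_le_of_ne hp.out.two_le hp2.symm)
  rw [PSolvable.mul_pow_of_comm h1 h2, hxp, mul_one, he, hr, pow_mul, inv_pow, hdp, inv_one,
    one_pow, mul_one] at hcxp
  exact hcxp

variable [Finite R] [hp : Fact p.Prime]

/-- Above a normal `N` inside a normal `K` some element is central modulo `N`. -/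
theorem exists_central_mod (hR : IsPGroup p R) {N K : Subgroup R} [N.Normal] [K.Normal] (h : N < K) :
    ∃ x ∈ K, x ∉ N ∧ ∀ r : R, ⁅x, r⁆ ∈ N := by
  classical
  haveI := Fintype.ofFinite (Subgroup R)
  obtain ⟨M, hM1, hM2⟩ := Finset.exists_min_image
    (Finset.univ.filter fun M : Subgroup R => M.Normal ∧ N < M ∧ M ≤ K) (fun M => Nat.card M)
    ⟨K, Finset.mem_filter.mpr ⟨Finset.mem_univ _, inferInstance, h, le_rfl⟩⟩
  simp only [Finset.mem_filter, Finset.mem_univ, true_and] at hM1 hM2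
  obtain ⟨hMn, hNM, hMK⟩ := hM1
  haveI := hMn
  obtain ⟨M', hNM', hM'M, hcom⟩ := Uniserial.exists_le_commutator_le (G := (⊤ : Subgroup R))
    (hR.to_subgroup _) (hR.to_subgroup M) (by rw [Subgroup.normalizer_eq_top])
    (H := N) (by rw [Subgroup.normalizer_eq_top]) hNM
  have hle : ⁅M, (⊤ : Subgroup R)⁆ ≤ N := by
    by_contra hne
    set L := N ⊔ ⁅M, (⊤ : Subgroup R)⁆ with hL
    have hLM : L ≤ M' := sup_le hNM' hcom
    have h1 := hM2 L ⟨inferInstance, lt_of_le_of_ne le_sup_left fun e => hne (le_sup_right.trans e.ge),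
      hLM.trans (hM'M.le.trans hMK)⟩
    have h2 : L = M := Subgroup.eq_of_le_of_card_ge (hLM.trans hM'M.le) h1
    exact hM'M.not_ge (h2 ▸ hLM)
  obtain ⟨x, hx, hxN⟩ := SetLike.exists_of_lt hNM
  exact ⟨x, hMK hx, hxN, fun r => hle (Subgroup.commutator_mem_commutator hx (Subgroup.mem_top r))⟩

/-- **Alperin.** A maximal normal elementary abelian subgroup contains every element of order `p`
of its centralizer, `p` odd. -/
theorem mem_of_maximal (hR : IsPGroup p R) (hp2 : p ≠ 2) {B : Subgroup R} [B.Normal]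
    (hB : Cfsg.IsElementaryAbelian p B)
    (hmax : ∀ B' : Subgroup R, B'.Normal → Cfsg.IsElementaryAbelian p B' → B ≤ B' → B' = B)
    {x : R} (hxB : x ∈ Subgroup.centralizer (B : Set R)) (hxp : x ^ p = 1) : x ∈ B := by
  by_contra hxn
  classical
  haveI := Fintype.ofFinite (Subgroup R)
  obtain ⟨D, hD1, hD2⟩ := Finset.exists_min_image
    (Finset.univ.filter fun D : Subgroup R =>
      D.Normal ∧ D ≤ Subgroup.centralizer (B : Set R) ∧ ∃ y ∈ D, y ^ p = 1 ∧ y ∉ B)
    (fun D => Nat.card D)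
    ⟨Subgroup.centralizer (B : Set R),
      Finset.mem_filter.mpr ⟨Finset.mem_univ _, inferInstance, le_rfl, x, hxB, hxp, hxn⟩⟩
  simp only [Finset.mem_filter, Finset.mem_univ, true_and] at hD1 hD2
  obtain ⟨hDn, hDC, y, hyD, hyp, hyB⟩ := hD1
  haveI := hDn
  set N := ⁅D, (⊤ : Subgroup R)⁆ with hN
  have hDne : D ≠ ⊥ := fun h => hyB (by rw [h, Subgroup.mem_bot] at hyD; rw [hyD]; exact one_mem B)
  have hlt : N < D := Uniserial.commutator_lt (G := (⊤ : Subgroup R)) (hR.to_subgroup _)
    (hR.to_subgroup D) (by rw [Subgroup.normalizer_eq_top]) hDne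
  have hΩ : ∀ z ∈ N, z ^ p = 1 → z ∈ B := fun z hz hzp => by
    by_contra hzB
    exact hlt.not_ge (Subgroup.eq_of_le_of_card_ge hlt.le
      (hD2 N ⟨inferInstance, hlt.le.trans hDC, z, hz, hzp, hzB⟩)).ge
  have hc : ∀ r : R, ⁅r, y⁆ ∈ B := fun r => by
    have hrN : ⁅r, y⁆ ∈ N := by
      rw [← commutatorElement_inv]
      exact inv_mem (Subgroup.commutator_mem_commutator hyD (Subgroup.mem_top r))
    refine hΩ _ hrN (pow_eq_one_of_mul_pow hp2 (hR.to_subgroup (Subgroup.centralizer (B : Set R)))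
      Subgroup.le_normalizer_of_normal
      (fun z hz hzp u hu => hu z (hΩ z hz hzp)) _ le_rfl _ y hrN (hDC (hlt.le hrN)) (hDC hyD) hyp ?_)
    rw [show ⁅r, y⁆ * y = r * y * r⁻¹ by rw [commutatorElement_def]; group, conj_pow, hyp, mul_one,
      mul_inv_cancel]
  set B' := Subgroup.closure ((B : Set R) ∪ {y}) with hB'
  have hB'c : IsMulCommutative B' := Subgroup.isMulCommutative_closure (by
    haveI := hB.1
    rintro u (hu | rfl) v (hv | rfl)
    · exact congrArg Subtype.val (mul_comm' (⟨u, hu⟩ : B) ⟨v, hv⟩)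
    · exact hDC hyD u hu
    · exact (hDC hyD v hv).symm
    · rfl)
  have hB'n : B'.Normal := by
    refine ⟨fun z hz r => ?_⟩
    have h1 : B' ≤ B'.comap (MulAut.conj r).toMonoidHom := by
      refine (Subgroup.closure_le _).mpr ?_
      rintro u (hu | rfl)
      · exact Subgroup.subset_closure (Or.inl ((inferInstance : B.Normal).conj_mem u hu r))
      · show r * u * r⁻¹ ∈ B'
        rw [show r * u * r⁻¹ = ⁅r, u⁆ * u by rw [commutatorElement_def]; group]
        exact mul_mem (Subgroup.subset_closure (Or.inl (hc r))) (Subgroup.subset_closure (Or.inr rfl))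
    exact h1 hz
  have hB'e : Cfsg.IsElementaryAbelian p B' := ⟨hB'c, fun u hu => by
    induction hu using Subgroup.closure_induction with
    | mem v hv =>
      rcases hv with hv | rfl
      · exact hB.2 v hv
      · exact hyp
    | one => exact one_pow p
    | mul v w hv hw iv iw =>
      haveI := hB'c
      have hvw : Commute v w := congrArg Subtype.val (mul_comm' (⟨v, hv⟩ : B') ⟨w, hw⟩)
      rw [hvw.mul_pow, iv, iw, one_mul]
    | inv v _ iv => rw [inv_pow, iv, inv_one]⟩
  exact hyB ((hmax B' hB'n hB'e fun u hu => Subgroup.subset_closure (Or.inl hu)).le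
    (Subgroup.subset_closure (Or.inr rfl)))

/-- The centralizer of a normal subgroup of order `p ^ 2` has index at most `p`. -/
theorem centralizer_index_le (hR : IsPGroup p R) {E : Subgroup R} [E.Normal]
    (hE : Cfsg.IsElementaryAbelian p E) (hE2 : Nat.card E = p ^ 2) :
    (Subgroup.centralizer (E : Set R)).index ∣ p := by
  set Z := ⁅E, (⊤ : Subgroup R)⁆ with hZ
  have hEne : E ≠ ⊥ := fun h => by
    rw [h, Subgroup.card_bot] at hE2
    exact (Nat.one_lt_pow two_ne_zero hp.out.one_lt).ne hE2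
  have hle := Uniserial.card_mul_le (G := (⊤ : Subgroup R)) (hR.to_subgroup _)
    (hR.to_subgroup E) (by rw [Subgroup.normalizer_eq_top]) hEne
  rw [hE2, pow_two] at hle
  have hZp : Nat.card Z ≤ p := Nat.le_of_mul_le_mul_right hle hp.out.pos
  have hZE : Z ≤ E := Subgroup.commutator_le_left E ⊤
  by_cases hZb : Z = ⊥
  · have : Subgroup.centralizer (E : Set R) = ⊤ := by
      rw [Subgroup.centralizer_eq_top_iff_subset]
      intro e he
      exact Subgroup.mem_center_iff.mpr fun r =>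
        (commutatorElement_eq_one_iff_commute.mp (Subgroup.mem_bot.mp
          (hZb ▸ Subgroup.commutator_mem_commutator he (Subgroup.mem_top r)))).symm.eq
    rw [this, Subgroup.index_top]
    exact one_dvd p
  have hZc : ∀ z ∈ Z, ∀ r : R, Commute z r := by
    have h1 := Uniserial.card_mul_le (G := (⊤ : Subgroup R)) (hR.to_subgroup _)
      (hR.to_subgroup Z) (by rw [Subgroup.normalizer_eq_top]) hZb
    intro z hz r
    have h2 : Nat.card ↥⁅Z, (⊤ : Subgroup R)⁆ ≤ 1 :=
      Nat.le_of_mul_le_mul_right ((h1.trans hZp).trans (one_mul p).ge) hp.out.pos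
    exact commutatorElement_eq_one_iff_commute.mp (Subgroup.mem_bot.mp
      ((Subgroup.eq_bot_of_card_le _ h2) ▸ Subgroup.commutator_mem_commutator hz (Subgroup.mem_top r)))
  obtain ⟨e, he, heZ⟩ : ∃ e ∈ E, e ∉ Z := by
    by_contra h
    push Not at h
    have := Subgroup.card_le_of_le (show E ≤ Z from h)
    rw [hE2] at this
    have hp1 := hp.out.one_lt
    nlinarith
  have hsup : Z ⊔ Subgroup.zpowers e = E := by
    refine Subgroup.eq_of_le_of_card_ge (sup_le hZE (Subgroup.zpowers_le.mpr he)) ?_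
    obtain ⟨a, ha⟩ := IsPGroup.iff_card.mp (hR.to_subgroup (Z ⊔ Subgroup.zpowers e))
    obtain ⟨b, hb⟩ := IsPGroup.iff_card.mp (hR.to_subgroup Z)
    have hb1 : 1 ≤ b := by
      by_contra h
      exact hZb (Subgroup.card_eq_one.mp (by rw [hb, show b = 0 by omega, pow_zero]))
    have hab : b < a := by
      by_contra hcon
      exact heZ ((Subgroup.eq_of_le_of_card_ge le_sup_left
        (by rw [ha, hb]; exact Nat.pow_le_pow_right hp.out.pos (by omega))).ge
          (Subgroup.mem_sup_right (Subgroup.mem_zpowers e)))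
    rw [hE2, ha]
    exact Nat.pow_le_pow_right hp.out.pos (by omega)
  haveI : IsMulCommutative Z := ⟨⟨fun u v => Subtype.ext (hZc u u.2 v).eq⟩⟩
  let f : R →* Z := MonoidHom.mk' (fun r => ⟨⁅e, r⁆, Subgroup.commutator_mem_commutator he (Subgroup.mem_top r)⟩)
    fun r s => Subtype.ext (by
      show ⁅e, r * s⁆ = ⁅e, r⁆ * ⁅e, s⁆
      rw [show ⁅e, r * s⁆ = ⁅e, r⁆ * (r * ⁅e, s⁆ * r⁻¹) by simp only [commutatorElement_def]; group,
        ← (hZc _ (Subgroup.commutator_mem_commutator he (Subgroup.mem_top s)) r).eq,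
        mul_inv_cancel_right])
  have hker : Subgroup.centralizer (E : Set R) = f.ker := by
    ext r
    rw [MonoidHom.mem_ker]
    constructor
    · intro hr
      exact Subtype.ext (commutatorElement_eq_one_iff_commute.mpr (hr e he))
    · intro hr u hu
      rw [SetLike.mem_coe, ← hsup] at hu
      have hcomm : Commute e r := commutatorElement_eq_one_iff_commute.mp (congrArg Subtype.val hr)
      haveI : Z.Normal := inferInstance
      obtain ⟨z, hz, w, hw, rfl⟩ := Subgroup.mem_sup_of_normal_left.mp hu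
      obtain ⟨j, rfl⟩ := Subgroup.mem_zpowers_iff.mp hw
      exact ((hZc z hz r).mul_left (hcomm.zpow_left j)).eq
  rw [hker, Subgroup.index_ker]
  refine (Subgroup.card_subgroup_dvd_card f.range).trans ?_
  obtain ⟨b, hb⟩ := IsPGroup.iff_card.mp (hR.to_subgroup Z)
  rw [hb] at hZp ⊢
  have hb1 := (Nat.pow_le_pow_iff_right hp.out.one_lt).mp (le_of_le_of_eq hZp (pow_one p).symm)
  exact (pow_dvd_pow p hb1).trans (by rw [pow_one])

theorem exists_large_elementary (hR : IsPGroup p R) (hr : ¬ Cfsg.PRankLE p 2 R) :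
    ∃ A : Subgroup R, Cfsg.IsElementaryAbelian p A ∧ p ^ 3 ≤ Nat.card A := by
  unfold Cfsg.PRankLE at hr
  push Not at hr
  obtain ⟨A, hAc, hAe, hA⟩ := hr
  refine ⟨A, ⟨hAc, hAe⟩, ?_⟩
  obtain ⟨a, ha⟩ := IsPGroup.iff_card.mp (hR.to_subgroup A)
  rw [ha] at hA ⊢
  exact Nat.pow_le_pow_right hp.out.pos ((Nat.pow_lt_pow_iff_right hp.out.one_lt).mp hA)

/-- For `p` odd and rank at least three, a normal subgroup of order `p ^ 2` lies in a normal
elementary abelian subgroup of order at least `p ^ 3`. -/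
theorem exists_normal_rank_three (hR : IsPGroup p R) (hp2 : p ≠ 2) (hr : ¬ Cfsg.PRankLE p 2 R)
    {E : Subgroup R} [E.Normal] (hE : Cfsg.IsElementaryAbelian p E) (hE2 : Nat.card E = p ^ 2) :
    ∃ B : Subgroup R, E ≤ B ∧ B.Normal ∧ Cfsg.IsElementaryAbelian p B ∧ p ^ 3 ≤ Nat.card B := by
  obtain ⟨B, hEB, ⟨hBn, hBe⟩, hmax⟩ := Finite.exists_le_maximal
    (p := fun B : Subgroup R => B.Normal ∧ Cfsg.IsElementaryAbelian p B) (a := E) ⟨inferInstance, hE⟩
  refine ⟨B, hEB, hBn, hBe, ?_⟩
  by_contra hlt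
  obtain ⟨b, hb⟩ := IsPGroup.iff_card.mp (hR.to_subgroup B)
  rw [hb, not_le, Nat.pow_lt_pow_iff_right hp.out.one_lt] at hlt
  have hEeq : E = B := Subgroup.eq_of_le_of_card_ge hEB (by
    rw [hb, hE2]; exact Nat.pow_le_pow_right hp.out.pos (by omega))
  subst hEeq
  have hΩ : ∀ x ∈ Subgroup.centralizer (E : Set R), x ^ p = 1 → x ∈ E := fun x hx hxp =>
    mem_of_maximal hR hp2 hE (fun B' h1 h2 h3 => le_antisymm (hmax ⟨h1, h2⟩ h3) h3) hx hxp
  obtain ⟨A, ⟨hAc, hAe⟩, hA⟩ := exists_large_elementary hR hr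
  set C := A ⊓ Subgroup.centralizer (E : Set R) with hC
  have hCE : C ≤ E := fun x hx => hΩ x (Subgroup.mem_inf.mp hx).2 (hAe x (Subgroup.mem_inf.mp hx).1)
  haveI : (Subgroup.centralizer (E : Set R)).Normal := inferInstance
  have hidx : C.relIndex A ∣ p := by
    rw [hC, Subgroup.inf_relIndex_left]
    exact (Subgroup.relIndex_dvd_index_of_normal _ A).trans (centralizer_index_le hR hE hE2)
  have hcard : Nat.card C * C.relIndex A = Nat.card A := by
    rw [← (C.subgroupOf A).card_mul_index,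
      Nat.card_congr (Subgroup.subgroupOfEquivOfLe (inf_le_left : C ≤ A)).toEquiv]
    rfl
  obtain ⟨c, hc⟩ := IsPGroup.iff_card.mp (hR.to_subgroup C)
  have hle : p ^ 3 ≤ p ^ c * p := by
    rw [← hc]
    exact hA.trans (hcard ▸ Nat.mul_le_mul_left _ (Nat.le_of_dvd hp.out.pos hidx))
  rw [← pow_succ] at hle
  have hc2 := (Nat.pow_le_pow_iff_right hp.out.one_lt).mp hle
  have hCeq : C = E := Subgroup.eq_of_le_of_card_ge hCE (by
    rw [hc, hE2]; exact Nat.pow_le_pow_right hp.out.pos (by omega))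
  have hEA : E ≤ A := hCeq ▸ inf_le_left
  have hAE : A ≤ E := fun x hx => hΩ x (fun u hu =>
    congrArg Subtype.val (mul_comm' (⟨u, hEA hu⟩ : A) ⟨x, hx⟩)) (hAe x hx)
  have := hA.trans (Subgroup.card_le_of_le hAE)
  rw [hE2, Nat.pow_le_pow_iff_right hp.out.one_lt] at this
  omega

end CfsgLib.AlperinElem
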