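import Mathlib
import Cfsg.Agent.Lib.PGroup.NormalRankTwo
import Cfsg.Agent.Lib.PGroup.AlperinElementary
import Cfsg.Prelude.Def_OddOrderLocal
import Cfsg.Prelude.Def_PLocal

/-!
For `p > 3`, a `p`-group with at most `p ^ 2` solutions of `x ^ p = 1` is metacyclic, and so are its
quotients (Blackburn).
-/

set_option autoImplicit false
set_option linter.style.haveILetI false

open scoped commutatorElement

namespace CfsgLib.Blackburn

universe u

variable {p : ℕ}

/-- Collection in the abelian normal part: `(w y) ^ n = w ^ n c ^ C(n,2) d ^ C(n,3) y ^ n`. -/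
theorem mul_pow_collect {G : Type*} [Group G] {w y c d : G} (hwc : Commute w c) (hwd : Commute w d)
    (hcd : Commute c d) (hyd : Commute y d) (hyw : y * w * y⁻¹ = c * w) (hyc : y * c * y⁻¹ = d * c) :
    ∀ n : ℕ, (w * y) ^ n = w ^ n * c ^ n.choose 2 * d ^ n.choose 3 * y ^ n := by
  intro n
  induction n with
  | zero => simp
  | succ n ih =>
    have h1 : y * (w ^ n * c ^ n.choose 2 * d ^ n.choose 3) * y⁻¹ =
        (c ^ n * w ^ n) * (d ^ n.choose 2 * c ^ n.choose 2) * d ^ n.choose 3 := by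
      have e1 : y * w ^ n * y⁻¹ = c ^ n * w ^ n := by
        rw [← conj_pow, hyw, hwc.symm.mul_pow]
      have e2 : y * c ^ n.choose 2 * y⁻¹ = d ^ n.choose 2 * c ^ n.choose 2 := by
        rw [← conj_pow, hyc, hcd.symm.mul_pow]
      have e3 : y * d ^ n.choose 3 * y⁻¹ = d ^ n.choose 3 := by
        rw [(hyd.pow_right _).eq, mul_inv_cancel_right]
      calc y * (w ^ n * c ^ n.choose 2 * d ^ n.choose 3) * y⁻¹
          = (y * w ^ n * y⁻¹) * (y * c ^ n.choose 2 * y⁻¹) * (y * d ^ n.choose 3 * y⁻¹) := by group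
        _ = _ := by rw [e1, e2, e3]
    calc (w * y) ^ (n + 1) = w * (y * (w ^ n * c ^ n.choose 2 * d ^ n.choose 3) * y⁻¹) * (y * y ^ n) := by
          rw [pow_succ', ih]; group
      _ = w * (c ^ n * w ^ n) * (d ^ n.choose 2 * c ^ n.choose 2) * d ^ n.choose 3 * y ^ (n + 1) := by
          rw [h1, ← pow_succ']; group
      _ = w * w ^ n * (c ^ n * c ^ n.choose 2) * (d ^ n.choose 2 * d ^ n.choose 3) * y ^ (n + 1) := by
          rw [((hwc.pow_pow n n).symm).eq, ((hcd.pow_pow (n.choose 2) (n.choose 2)).symm).eq]; group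
      _ = _ := by
          rw [← pow_succ', ← pow_add, ← pow_add, Nat.choose_succ_succ n 1, Nat.choose_succ_succ n 2,
            Nat.choose_one_right]

variable [hp : Fact p.Prime]

theorem not_cyclic_of_exponent {R : Type*} [Group R] [Finite R] {H : Subgroup R}
    (he : ∀ x ∈ H, x ^ p = 1) (hc : p < Nat.card H) : ¬ IsCyclic H := by
  intro h
  obtain ⟨g, hg⟩ := h.exists_ofOrder_eq_natCard
  have h1 : orderOf g ∣ p := orderOf_dvd_of_pow_eq_one (Subtype.ext (he g g.2))
  rw [hg] at h1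
  exact absurd (Nat.le_of_dvd hp.out.pos h1) (not_le.mpr hc)

theorem card_omega_le {R : Type*} [Group R] [Finite R] (hR : IsPGroup p R) (hc : IsCyclic R) :
    Nat.card ↥(Cfsg.omegaOne p (⊤ : Subgroup R)) ≤ p := by
  letI := hc.commGroup
  have hle : Cfsg.omegaOne p (⊤ : Subgroup R) ≤ (powMonoidHom p : R →* R).ker :=
    (Subgroup.closure_le _).mpr fun x hx => hx.2
  refine (Subgroup.card_le_of_le hle).trans ?_
  by_contra hlt
  have := hR
  exact not_cyclic_of_exponent (p := p) (H := (powMonoidHom p : R →* R).ker) (fun x hx => hx)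
    (not_le.mp hlt) inferInstance

/-- The quotient by a central subgroup of order `p`. -/
theorem quotient_step {R : Type*} [Group R] [Finite R] (hp3 : 3 < p) (hR : IsPGroup p R)
    (hO : Nat.card ↥(Cfsg.omegaOne p (⊤ : Subgroup R)) ≤ p ^ 2) (T : Subgroup R) [T.Normal]
    (hT : Nat.card T = p) :
    Nat.card ↥(Cfsg.omegaOne p (⊤ : Subgroup (R ⧸ T))) ≤ p ^ 2 := by
  by_contra hbig
  have hp2 : p ≠ 2 := by omega
  set f := QuotientGroup.mk' T with hf
  have hsurj : Function.Surjective f := QuotientGroup.mk'_surjective T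
  have hQ : IsPGroup p (R ⧸ T) := hR.to_quotient T
  have hncQ : ¬ IsCyclic (R ⧸ T) := fun h => hbig ((card_omega_le hQ h).trans (Nat.le_self_pow two_ne_zero p))
  obtain ⟨E, -, hEn, hEe, hEc⟩ := CyclicMax.exists_normal_rank_two hQ hp2 (⊤ : Subgroup (R ⧸ T))
    inferInstance fun h => hncQ (by
      haveI := h
      exact isCyclic_of_surjective Subgroup.topEquiv (MulEquiv.surjective _))
  haveI := hEn
  haveI := hEe.1
  obtain ⟨y₀, hy₀p, hy₀E⟩ : ∃ y : R ⧸ T, y ^ p = 1 ∧ y ∉ E := by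
    by_contra hcon
    push Not at hcon
    exact hbig ((Subgroup.card_le_of_le ((Subgroup.closure_le _).mpr fun x hx => hcon x hx.2)).trans hEc.le)
  set Yb := E ⊔ Subgroup.zpowers y₀ with hYb
  have hEne : E ≠ ⊥ := fun h => by
    rw [h, Subgroup.card_bot] at hEc
    exact (Nat.one_lt_pow two_ne_zero hp.out.one_lt).ne hEc
  have hZc : ∀ z ∈ ⁅E, (⊤ : Subgroup (R ⧸ T))⁆, ∀ r, Commute z r := by
    intro z hz r
    set Z := ⁅E, (⊤ : Subgroup (R ⧸ T))⁆ with hZ
    have h0 := Uniserial.card_mul_le (G := (⊤ : Subgroup (R ⧸ T))) (hQ.to_subgroup _)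
      (hQ.to_subgroup E) (by rw [Subgroup.normalizer_eq_top]) hEne
    rw [hEc, pow_two] at h0
    have hZp := Nat.le_of_mul_le_mul_right h0 hp.out.pos
    by_cases hZb : Z = ⊥
    · rw [hZb, Subgroup.mem_bot] at hz
      rw [hz]; exact Commute.one_left r
    have h1 := Uniserial.card_mul_le (G := (⊤ : Subgroup (R ⧸ T))) (hQ.to_subgroup _)
      (hQ.to_subgroup Z) (by rw [Subgroup.normalizer_eq_top]) hZb
    have h2 : Nat.card ↥⁅Z, (⊤ : Subgroup (R ⧸ T))⁆ ≤ 1 :=
      Nat.le_of_mul_le_mul_right ((h1.trans hZp).trans (one_mul p).ge) hp.out.pos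
    exact commutatorElement_eq_one_iff_commute.mp (Subgroup.mem_bot.mp
      ((Subgroup.eq_bot_of_card_le _ h2) ▸ Subgroup.commutator_mem_commutator hz (Subgroup.mem_top r)))
  have hYbexp : ∀ x ∈ Yb, x ^ p = 1 := by
    intro x hx
    obtain ⟨e, he, z, hz, rfl⟩ := Subgroup.mem_sup_of_normal_left.mp hx
    obtain ⟨j, rfl⟩ := Subgroup.mem_zpowers_iff.mp hz
    have hc : ⁅y₀ ^ j, e⁆ ∈ ⁅E, (⊤ : Subgroup (R ⧸ T))⁆ := by
      rw [← commutatorElement_inv]
      exact inv_mem (Subgroup.commutator_mem_commutator he (Subgroup.mem_top _))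
    have hcp : ⁅y₀ ^ j, e⁆ ^ p = 1 :=
      hEe.2 _ ((Subgroup.commutator_le_left E ⊤) hc)
    obtain ⟨r, hr⟩ : p ∣ p.choose 2 :=
      hp.out.dvd_choose_self (by norm_num) (lt_of_le_of_ne hp.out.two_le hp2.symm)
    rw [PSolvable.mul_pow_of_comm (hZc _ hc e) (hZc _ hc _), hEe.2 e he, hr, pow_mul, hcp, one_pow,
      ← zpow_natCast, ← zpow_mul, mul_comm, zpow_mul, zpow_natCast, hy₀p, one_zpow]
    simp
  have hYbcard : Nat.card Yb = p ^ 3 := by
    rw [hYb, Coprime.card_sup_of_normalizer Subgroup.le_normalizer_of_normal ?_, hEc, Nat.card_zpowers,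
      orderOf_eq_prime hy₀p (fun h => hy₀E (h ▸ one_mem E)), ← pow_succ]
    rw [eq_bot_iff]
    intro x hx
    obtain ⟨hxE, hxz⟩ := Subgroup.mem_inf.mp hx
    by_contra hx1
    haveI : Fact (Nat.card (Subgroup.zpowers y₀)).Prime :=
      ⟨by rw [Nat.card_zpowers, orderOf_eq_prime hy₀p (fun h => hy₀E (h ▸ one_mem E))]; exact hp.out⟩
    rcases (Subgroup.zpowers x).subgroupOf (Subgroup.zpowers y₀) |>.eq_bot_or_eq_top_of_prime_card
      with h | h
    · have h1 : (⟨x, hxz⟩ : Subgroup.zpowers y₀) ∈ (⊥ : Subgroup (Subgroup.zpowers y₀)) :=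
        h ▸ (Subgroup.mem_zpowers x : x ∈ Subgroup.zpowers x)
      rw [Subgroup.mem_bot] at h1
      exact hx1 (Subgroup.mem_bot.mpr (congrArg Subtype.val h1))
    · exact hy₀E ((Subgroup.zpowers_le.mpr hxE)
        (Subgroup.subgroupOf_eq_top.mp h (Subgroup.mem_zpowers y₀)))
  set Y := Yb.comap f with hY
  have hTY : T ≤ Y := QuotientGroup.le_comap_mk' T Yb
  have hYcard : Nat.card Y = p ^ 4 := by
    have h1 : f.ker.relIndex Y = Nat.card (Y.map f) := Subgroup.relIndex_ker Y f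
    rw [hf, QuotientGroup.ker_mk', ← hf, hY, Subgroup.map_comap_eq_self_of_surjective hsurj,
      hYbcard, ← hY] at h1
    rw [← (T.subgroupOf Y).card_mul_index, Nat.card_congr (Subgroup.subgroupOfEquivOfLe hTY).toEquiv,
      hT]
    change p * T.relIndex Y = _
    rw [h1, ← pow_succ']
  have hYp : IsPGroup p Y := hR.to_subgroup Y
  have hpowT : ∀ x : Y, (x : R) ^ p ∈ T := fun x => by
    rw [← QuotientGroup.eq_one_iff, QuotientGroup.mk_pow]
    exact hYbexp _ x.2
  have hTexp : ∀ t ∈ T, t ^ p = 1 := fun t ht => by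
    have := congrArg Subtype.val (pow_card_eq_one' (x := (⟨t, ht⟩ : T)))
    rwa [hT] at this
  have hYnc : ¬ IsCyclic Y := by
    intro hc
    obtain ⟨g, hg⟩ := hc.exists_ofOrder_eq_natCard
    rw [hYcard] at hg
    have h1 : (g : R) ^ (p * p) = 1 := by rw [pow_mul]; exact hTexp _ (hpowT g)
    have h2 := orderOf_dvd_of_pow_eq_one h1
    rw [Subgroup.orderOf_coe, hg, ← pow_two, Nat.pow_dvd_pow_iff_le_right hp.out.one_lt] at h2
    omega
  obtain ⟨W, -, hWn, hWe, hWc⟩ := CyclicMax.exists_normal_rank_two hYp hp2 (⊤ : Subgroup Y)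
    inferInstance fun h => hYnc (by
      haveI := h
      exact isCyclic_of_surjective Subgroup.topEquiv (MulEquiv.surjective _))
  haveI := hWn
  haveI := hWe.1
  have hWeq : W.map Y.subtype = Cfsg.omegaOne p (⊤ : Subgroup R) := by
    refine Subgroup.eq_of_le_of_card_ge ?_ ?_
    · rintro _ ⟨x, hx, rfl⟩
      exact Subgroup.subset_closure ⟨Subgroup.mem_top _, by rw [← map_pow, hWe.2 x hx, map_one]⟩
    · rw [Subgroup.card_map_of_injective Y.subtype_injective, hWc]; exact hO
  have hmemW : ∀ x : Y, x ^ p = 1 → x ∈ W := by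
    intro x hx
    have h1 : (x : R) ∈ W.map Y.subtype := hWeq ▸ Subgroup.subset_closure
      ⟨Subgroup.mem_top _, congrArg Subtype.val hx⟩
    obtain ⟨z, hz, hzx⟩ := h1
    rwa [← Subtype.ext hzx]
  set TY := T.subgroupOf Y with hTY'
  have hTYle : TY ≤ W := fun t ht => hmemW t (Subtype.ext (hTexp _ ht))
  have hTYcard : Nat.card TY = p := by
    rw [hTY', Nat.card_congr (Subgroup.subgroupOfEquivOfLe hTY).toEquiv, hT]
  have hidx : W.index = p ^ 2 := by
    have := W.card_mul_index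
    rw [hWc, hYcard, show p ^ 4 = p ^ 2 * p ^ 2 by ring] at this
    exact Nat.eq_of_mul_eq_mul_left (pow_pos hp.out.pos 2) this
  set C := Subgroup.centralizer (W : Set Y) with hC
  have hWC : W ≤ C := Subgroup.le_centralizer W
  obtain ⟨w, hwC, hwW⟩ : ∃ w, w ∈ C ∧ w ∉ W := by
    by_contra hcon
    push Not at hcon
    have hCW : C = W := le_antisymm hcon hWC
    have h1 := AlperinElem.centralizer_index_le hYp hWe hWc
    rw [← hC, hCW, hidx] at h1
    have := Nat.le_of_dvd hp.out.pos h1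
    nlinarith [hp.out.one_lt]
  set C' := W ⊔ Subgroup.zpowers w with hC'
  have hC'top : C' ≠ ⊤ := by
    intro htop
    have hcyc : Nat.card (Y ⧸ W) ≤ p := by
      have hgen : ∀ x : Y ⧸ W, x ∈ Subgroup.zpowers (QuotientGroup.mk' W w) := fun x => by
        obtain ⟨x, rfl⟩ := QuotientGroup.mk'_surjective W x
        have hx : x ∈ C' := htop ▸ Subgroup.mem_top x
        obtain ⟨a, ha, z, hz, rfl⟩ := Subgroup.mem_sup_of_normal_left.mp hx
        obtain ⟨j, rfl⟩ := Subgroup.mem_zpowers_iff.mp hz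
        rw [map_mul, map_zpow, show QuotientGroup.mk' W a = 1 from (QuotientGroup.eq_one_iff a).mpr ha,
          one_mul]
        exact zpow_mem (Subgroup.mem_zpowers _) j
      rw [← Subgroup.card_top (G := Y ⧸ W),
        ← (eq_top_iff.mpr fun x _ => hgen x : Subgroup.zpowers (QuotientGroup.mk' W w) = ⊤),
        Nat.card_zpowers]
      refine Nat.le_of_dvd hp.out.pos (orderOf_dvd_of_pow_eq_one ?_)
      rw [← map_pow, QuotientGroup.mk'_apply, QuotientGroup.eq_one_iff]
      exact hTYle (hpowT w)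
    rw [← Subgroup.index_eq_card, hidx] at hcyc
    nlinarith [hp.out.one_lt]
  obtain ⟨y, hy⟩ : ∃ y, y ∉ C' := by
    by_contra hcon
    push Not at hcon
    exact hC'top (eq_top_iff.mpr fun x _ => hcon x)
  have hWne : W ≠ ⊥ := fun h => hwW (by
    rw [h, Subgroup.card_bot] at hWc
    exact absurd hWc (Nat.one_lt_pow two_ne_zero hp.out.one_lt).ne)
  have hWZ : ∀ z ∈ W, ∀ u v : Y, Commute ⁅u, z⁆ v := by
    intro z hz u v
    have hmem : ⁅u, z⁆ ∈ ⁅W, (⊤ : Subgroup Y)⁆ := by
      rw [← commutatorElement_inv]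
      exact inv_mem (Subgroup.commutator_mem_commutator hz (Subgroup.mem_top u))
    have h0 := Uniserial.card_mul_le (G := (⊤ : Subgroup Y)) (hYp.to_subgroup _)
      (hYp.to_subgroup W) (by rw [Subgroup.normalizer_eq_top]) hWne
    rw [hWc, pow_two] at h0
    have hZp := Nat.le_of_mul_le_mul_right h0 hp.out.pos
    by_cases hZb : ⁅W, (⊤ : Subgroup Y)⁆ = ⊥
    · rw [hZb, Subgroup.mem_bot] at hmem
      rw [hmem]; exact Commute.one_left v
    have h1 := Uniserial.card_mul_le (G := (⊤ : Subgroup Y)) (hYp.to_subgroup _)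
      (hYp.to_subgroup ⁅W, (⊤ : Subgroup Y)⁆) (by rw [Subgroup.normalizer_eq_top]) hZb
    have h2 : Nat.card ↥⁅⁅W, (⊤ : Subgroup Y)⁆, (⊤ : Subgroup Y)⁆ ≤ 1 :=
      Nat.le_of_mul_le_mul_right ((h1.trans hZp).trans (one_mul p).ge) hp.out.pos
    exact commutatorElement_eq_one_iff_commute.mp (Subgroup.mem_bot.mp
      ((Subgroup.eq_bot_of_card_le _ h2) ▸ Subgroup.commutator_mem_commutator hmem (Subgroup.mem_top v)))
  haveI : IsMulCommutative (Y ⧸ W) := IsPGroup.isMulCommutative_of_card_eq_prime_sq (p := p)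
    (by rw [← Subgroup.index_eq_card]; exact hidx)
  have hcomW : ∀ u v : Y, ⁅u, v⁆ ∈ W := fun u v => by
    rw [← QuotientGroup.eq_one_iff, ← QuotientGroup.mk'_apply W, map_commutatorElement,
      commutatorElement_eq_one_iff_commute]
    exact mul_comm' _ _
  -- `w ^ p` generates `T`
  have hwp : w ^ p ≠ 1 := fun h => hwW (hmemW w h)
  haveI : Fact (Nat.card TY).Prime := ⟨hTYcard ▸ hp.out⟩
  have hgenT : Subgroup.zpowers (w ^ p) = TY := by
    refine Subgroup.eq_of_le_of_card_ge (Subgroup.zpowers_le.mpr (hpowT w)) ?_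
    rw [Nat.card_zpowers, hTYcard]
    have hd : orderOf (w ^ p) ∣ p := orderOf_dvd_of_pow_eq_one
      (Subtype.ext (hTexp _ (hpowT w)))
    rcases (Nat.dvd_prime hp.out).mp hd with h | h
    · exact absurd (orderOf_eq_one_iff.mp h) hwp
    · exact h.ge
  obtain ⟨j, hj⟩ := Subgroup.mem_zpowers_iff.mp
    (hgenT.ge (inv_mem (hpowT y) : (y ^ p)⁻¹ ∈ TY))
  set v := w ^ j with hv
  have hvC : v ∈ C := zpow_mem hwC j
  have hcW := hcomW y v
  have hz : (v * y) ^ p = 1 := by
    rw [mul_pow_collect (w := v) (y := y) (c := ⁅y, v⁆) (d := ⁅y, ⁅y, v⁆⁆)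
      (hvC _ hcW).symm (hWZ _ hcW y v).symm (hWZ _ hcW y _).symm (hWZ _ hcW y y).symm
      (by rw [commutatorElement_def]; group)
      (by simp only [commutatorElement_def]; group) p]
    obtain ⟨r₂, hr₂⟩ : p ∣ p.choose 2 := hp.out.dvd_choose_self (by norm_num) (by omega)
    obtain ⟨r₃, hr₃⟩ : p ∣ p.choose 3 := hp.out.dvd_choose_self (by norm_num) hp3
    rw [hr₂, hr₃, pow_mul, pow_mul, hWe.2 _ hcW,
      hWe.2 _ (hcomW y ⁅y, v⁆), one_pow, one_pow, mul_one, mul_one, hv, ← zpow_natCast,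
      ← zpow_mul, mul_comm, zpow_mul, zpow_natCast, hj, inv_mul_cancel]
  have hvy := hmemW _ hz
  refine hy ?_
  have := mul_mem (inv_mem (Subgroup.mem_sup_right (zpow_mem (Subgroup.mem_zpowers w) j) : v ∈ C'))
    (Subgroup.mem_sup_left hvy : v * y ∈ C')
  rwa [inv_mul_cancel_left] at this

theorem quotient_omega_aux (hp3 : 3 < p) : ∀ n : ℕ, ∀ (R : Type u) [Group R] [Finite R],
    Nat.card R = n → IsPGroup p R → Nat.card ↥(Cfsg.omegaOne p (⊤ : Subgroup R)) ≤ p ^ 2 →
      ∀ (T : Subgroup R) [T.Normal],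
        Nat.card ↥(Cfsg.omegaOne p (⊤ : Subgroup (R ⧸ T))) ≤ p ^ 2 := by
  intro n
  induction n using Nat.strong_induction_on with
  | _ n ih =>
  intro R _ _ hn hR hO T _
  have hiso : ∀ (A B : Type u) [Group A] [Group B] (e : A ≃* B),
      Nat.card ↥(Cfsg.omegaOne p (⊤ : Subgroup B)) ≤ Nat.card ↥(Cfsg.omegaOne p (⊤ : Subgroup A)) := by
    intro A B _ _ e
    rw [show Cfsg.omegaOne p (⊤ : Subgroup B) = (Cfsg.omegaOne p (⊤ : Subgroup A)).map e.toMonoidHom from ?_,
      Subgroup.card_map_of_injective e.injective]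
    rw [Cfsg.omegaOne, Cfsg.omegaOne, MonoidHom.map_closure]
    congr 1
    ext x
    constructor
    · intro hx
      exact ⟨e.symm x, ⟨Subgroup.mem_top _, by rw [← map_pow, hx.2, map_one]⟩, e.apply_symm_apply x⟩
    · rintro ⟨z, hz, rfl⟩
      exact ⟨Subgroup.mem_top _, by rw [← map_pow, hz.2, map_one]⟩
  by_cases hT : T = ⊥
  · subst hT
    exact (hiso R (R ⧸ (⊥ : Subgroup R)) QuotientGroup.quotientBot.symm).trans hO
  haveI := hR.isNilpotent
  have hne := Critical.inf_center_ne_bot T hT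
  haveI : Nontrivial ↥(T ⊓ Subgroup.center R) := (Subgroup.nontrivial_iff_ne_bot _).mpr hne
  obtain ⟨k, hk0, hk⟩ := (hR.to_subgroup (T ⊓ Subgroup.center R)).nontrivial_iff_card.mp inferInstance
  obtain ⟨z, hz⟩ := exists_prime_orderOf_dvd_card' (G := ↥(T ⊓ Subgroup.center R)) p (hk ▸ dvd_pow_self p hk0.ne')
  set T₀ := Subgroup.zpowers (z : R) with hT₀
  have hzT : (z : R) ∈ T := (Subgroup.mem_inf.mp z.2).1
  have hzC : (z : R) ∈ Subgroup.center R := (Subgroup.mem_inf.mp z.2).2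
  haveI : T₀.Normal := ⟨fun u hu r => by
    obtain ⟨i, rfl⟩ := Subgroup.mem_zpowers_iff.mp hu
    rw [Subgroup.mem_center_iff.mp (zpow_mem hzC i) r, mul_inv_cancel_right]
    exact hu⟩
  have hT₀c : Nat.card T₀ = p := by rw [hT₀, Nat.card_zpowers, Subgroup.orderOf_coe, hz]
  have hstep := quotient_step hp3 hR hO T₀ hT₀c
  have hle : T₀ ≤ T := Subgroup.zpowers_le.mpr hzT
  haveI : (T.map (QuotientGroup.mk' T₀)).Normal :=
    Subgroup.Normal.map inferInstance _ (QuotientGroup.mk'_surjective T₀)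
  have hlt : Nat.card (R ⧸ T₀) < n := by
    rw [← hn, Subgroup.card_eq_card_quotient_mul_card_subgroup T₀, hT₀c]
    exact lt_mul_of_one_lt_right Nat.card_pos hp.out.one_lt
  exact (hiso _ _ (QuotientGroup.quotientQuotientEquivQuotient T₀ T hle)).trans
    (ih _ hlt (R ⧸ T₀) rfl (hR.to_quotient T₀) hstep (T.map (QuotientGroup.mk' T₀)))

theorem quotient_omega (hp3 : 3 < p) {R : Type u} [Group R] [Finite R] (hR : IsPGroup p R)
    (hO : Nat.card ↥(Cfsg.omegaOne p (⊤ : Subgroup R)) ≤ p ^ 2) (T : Subgroup R) [T.Normal] :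
    Nat.card ↥(Cfsg.omegaOne p (⊤ : Subgroup (R ⧸ T))) ≤ p ^ 2 :=
  quotient_omega_aux hp3 _ R rfl hR hO T

/-- The Frattini quotient has order at most `p ^ 2`. -/
theorem frattini_index_le (hp3 : 3 < p) {R : Type u} [Group R] [Finite R] (hR : IsPGroup p R)
    (hO : Nat.card ↥(Cfsg.omegaOne p (⊤ : Subgroup R)) ≤ p ^ 2) : (frattini R).index ≤ p ^ 2 := by
  refine le_of_eq_of_le ?_ (quotient_omega hp3 hR hO (frattini R))
  rw [Subgroup.index_eq_card, ← Subgroup.card_top (G := R ⧸ frattini R)]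
  congr 1
  refine congrArg (fun H : Subgroup (R ⧸ frattini R) => ↥H) (le_antisymm ?_ le_top)
  intro x _
  obtain ⟨g, rfl⟩ := QuotientGroup.mk'_surjective _ x
  refine Subgroup.subset_closure ⟨Subgroup.mem_top _, ?_⟩
  rw [← map_pow, QuotientGroup.mk'_apply, QuotientGroup.eq_one_iff]
  exact (PSolvable.commutator_le_frattini hR).2 g

/-- An element outside the Frattini subgroup generating a normal subgroup gives a metacyclic
decomposition. -/
theorem isMetacyclic_of_mem {R : Type u} [Group R] [Finite R] (hR : IsPGroup p R)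
    (hΦ : (frattini R).index ≤ p ^ 2) (u : R) (hu : u ∉ frattini R)
    (hun : (Subgroup.zpowers u).Normal) : Cfsg.IsMetacyclic R := by
  haveI := hun
  refine ⟨Subgroup.zpowers u, hun, inferInstance, ?_⟩
  set M := frattini R ⊔ Subgroup.zpowers u with hM
  have hlt : frattini R < M :=
    lt_of_le_of_ne le_sup_left fun h => hu (h ▸ Subgroup.mem_sup_right (Subgroup.mem_zpowers u))
  have hMidx : M.index ∣ p := by
    have h1 := Subgroup.relIndex_mul_index hlt.le
    obtain ⟨a, ha⟩ := hR.index M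
    obtain ⟨b, hb⟩ := hR.index (frattini R)
    rw [hb] at hΦ
    have hb2 := (Nat.pow_le_pow_iff_right hp.out.one_lt).mp hΦ
    rw [ha]
    refine (pow_dvd_pow p ?_).trans (pow_one p).dvd
    by_contra hcon
    rw [ha, hb] at h1
    have h2 : (frattini R).relIndex M * p ^ a ≤ p ^ a := by
      rw [h1]; exact Nat.pow_le_pow_right hp.out.pos (by omega)
    have h4 : (frattini R).relIndex M ≤ 1 :=
      Nat.le_of_mul_le_mul_right (h2.trans (one_mul _).ge) (pow_pos hp.out.pos a)
    have h5 : (frattini R).relIndex M ≠ 0 := by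
      intro h0
      rw [h0, zero_mul] at h1
      exact (pow_pos hp.out.pos b).ne h1
    exact hlt.not_ge (Subgroup.relIndex_eq_one.mp (by omega))
  obtain ⟨v, hv⟩ : ∃ v, M ⊔ Subgroup.zpowers v = ⊤ := by
    by_cases htop : M = ⊤
    · exact ⟨1, by rw [htop, top_sup_eq]⟩
    obtain ⟨v, hv⟩ : ∃ v, v ∉ M := by
      by_contra h
      push Not at h
      exact htop (eq_top_iff.mpr fun x _ => h x)
    refine ⟨v, ?_⟩
    have hle : M ≤ M ⊔ Subgroup.zpowers v := le_sup_left
    rcases (Nat.dvd_prime hp.out).mp ((Subgroup.index_dvd_of_le hle).trans hMidx) with h | h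
    · exact Subgroup.index_eq_one.mp h
    · exfalso
      have h2 := Subgroup.relIndex_mul_index hle
      rw [h, Nat.dvd_antisymm hMidx (h ▸ Subgroup.index_dvd_of_le hle)] at h2
      exact hv (Subgroup.relIndex_eq_one.mp (Nat.eq_of_mul_eq_mul_right hp.out.pos
        (h2.trans (one_mul p).symm)) (Subgroup.mem_sup_right (Subgroup.mem_zpowers v)))
  have hgen : Subgroup.zpowers u ⊔ Subgroup.zpowers v = ⊤ := frattini_nongenerating (by
    rw [sup_assoc, sup_comm _ (frattini R), ← sup_assoc, sup_comm _ (frattini R)]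
    exact hv)
  refine ⟨⟨QuotientGroup.mk' (Subgroup.zpowers u) v, fun x => ?_⟩⟩
  obtain ⟨g, rfl⟩ := QuotientGroup.mk'_surjective _ x
  obtain ⟨a, ha, b, hb, rfl⟩ := Subgroup.mem_sup_of_normal_left.mp
    (hgen ▸ Subgroup.mem_top g : g ∈ Subgroup.zpowers u ⊔ Subgroup.zpowers v)
  obtain ⟨i, rfl⟩ := Subgroup.mem_zpowers_iff.mp hb
  refine Subgroup.mem_zpowers_iff.mpr ⟨i, ?_⟩
  rw [map_mul, map_zpow, show QuotientGroup.mk' (Subgroup.zpowers u) a = 1 from
    (QuotientGroup.eq_one_iff a).mpr ha, one_mul]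

theorem isMetacyclic_aux (hp3 : 3 < p) : ∀ n : ℕ, ∀ (R : Type u) [Group R] [Finite R],
    Nat.card R = n → IsPGroup p R → Nat.card ↥(Cfsg.omegaOne p (⊤ : Subgroup R)) ≤ p ^ 2 →
      Cfsg.IsMetacyclic R := by
  intro n
  induction n using Nat.strong_induction_on with
  | _ n ih =>
  intro R _ _ hn hR hO
  have hΦ := frattini_index_le hp3 hR hO
  haveI := hR.isNilpotent
  by_cases htriv : frattini R = ⊤
  · have : (⊥ : Subgroup R) = ⊤ := frattini_nongenerating (by rw [htriv, bot_sup_eq])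
    refine ⟨⊥, inferInstance, inferInstance, ?_⟩
    haveI : Subsingleton R := ⟨fun a b => by
      have ha : a ∈ (⊥ : Subgroup R) := this ▸ Subgroup.mem_top a
      have hb : b ∈ (⊥ : Subgroup R) := this ▸ Subgroup.mem_top b
      rw [Subgroup.mem_bot.mp ha, Subgroup.mem_bot.mp hb]⟩
    haveI : Subsingleton (R ⧸ (⊥ : Subgroup R)) := Quotient.instSubsingletonQuotient _
    exact isCyclic_of_subsingleton
  obtain ⟨x₀, hx₀⟩ : ∃ x, x ∉ frattini R := by
    by_contra h
    push Not at h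
    exact htriv (eq_top_iff.mpr fun x _ => h x)
  by_cases hab : commutator R = ⊥
  · refine isMetacyclic_of_mem hR hΦ x₀ hx₀ ⟨fun u hu r => ?_⟩
    have h1 : ⁅r, u⁆ = 1 := Subgroup.mem_bot.mp (hab ▸ (commutator_def R ▸
      Subgroup.commutator_mem_commutator (Subgroup.mem_top r) (Subgroup.mem_top u)))
    rw [commutatorElement_def, mul_inv_eq_one] at h1
    rw [h1]; exact hu
  have hne := Critical.inf_center_ne_bot (commutator R) hab
  haveI : Nontrivial ↥(commutator R ⊓ Subgroup.center R) := (Subgroup.nontrivial_iff_ne_bot _).mpr hne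
  obtain ⟨k, hk0, hk⟩ := (hR.to_subgroup (commutator R ⊓ Subgroup.center R)).nontrivial_iff_card.mp inferInstance
  obtain ⟨z, hz⟩ := exists_prime_orderOf_dvd_card' (G := ↥(commutator R ⊓ Subgroup.center R)) p (hk ▸ dvd_pow_self p hk0.ne')
  set t : R := (z : R) with ht
  have htR : t ∈ commutator R := (Subgroup.mem_inf.mp z.2).1
  have htC : t ∈ Subgroup.center R := (Subgroup.mem_inf.mp z.2).2
  have hto : orderOf t = p := by rw [ht, Subgroup.orderOf_coe, hz]
  set T := Subgroup.zpowers t with hT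
  have hTc : ∀ u ∈ T, ∀ r : R, Commute r u := fun u hu r => by
    obtain ⟨i, rfl⟩ := Subgroup.mem_zpowers_iff.mp hu
    exact (show Commute r t from Subgroup.mem_center_iff.mp htC r).zpow_right i
  haveI : T.Normal := ⟨fun u hu r => by rw [(hTc u hu r).eq, mul_inv_cancel_right]; exact hu⟩
  have hlt : Nat.card (R ⧸ T) < n := by
    rw [← hn, Subgroup.card_eq_card_quotient_mul_card_subgroup T, hT, Nat.card_zpowers, hto]
    exact lt_mul_of_one_lt_right Nat.card_pos hp.out.one_lt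
  obtain ⟨Nb, hNbn, hNbc, hNbq⟩ := ih _ hlt (R ⧸ T) rfl (hR.to_quotient T) (quotient_omega hp3 hR hO T)
  haveI := hNbn
  set f := QuotientGroup.mk' T with hf
  have hsurj : Function.Surjective f := QuotientGroup.mk'_surjective T
  set N := Nb.comap f with hN
  haveI hNn : N.Normal := hNbn.comap f
  have hTN : T ≤ N := QuotientGroup.le_comap_mk' T Nb
  obtain ⟨⟨ab, hab'⟩, habgen⟩ := hNbc.exists_generator
  obtain ⟨a, rfl⟩ := hsurj ab
  have hNgen : ∀ x ∈ N, ∃ i : ℤ, ∃ s ∈ T, x = a ^ i * s := by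
    intro x hx
    obtain ⟨i, hi⟩ := Subgroup.mem_zpowers_iff.mp (habgen ⟨f x, hx⟩)
    have hi' : f (a ^ i) = f x := (map_zpow f a i).trans (congrArg Subtype.val hi)
    exact ⟨i, (a ^ i)⁻¹ * x, QuotientGroup.eq.mp hi', (mul_inv_cancel_left _ _).symm⟩
  obtain ⟨bb, hbb⟩ := hNbq.exists_generator
  obtain ⟨bb', rfl⟩ := QuotientGroup.mk'_surjective Nb bb
  obtain ⟨b, rfl⟩ := hsurj bb'
  have hRgen : ∀ x : R, ∃ y ∈ N, ∃ l : ℤ, x = b ^ l * y := by
    intro x
    obtain ⟨l, hl⟩ := Subgroup.mem_zpowers_iff.mp (hbb (QuotientGroup.mk' Nb (f x)))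
    have hl' : (f b) ^ l = f (b ^ l) := (map_zpow f b l).symm
    rw [← map_zpow, hl'] at hl
    refine ⟨(b ^ l)⁻¹ * x, ?_, l, (mul_inv_cancel_left _ _).symm⟩
    show f ((b ^ l)⁻¹ * x) ∈ Nb
    rw [map_mul, map_inv]
    exact QuotientGroup.eq.mp hl
  by_cases htA : t ∈ Subgroup.zpowers a
  · -- `N` is cyclic
    have hNeq : N = Subgroup.zpowers a := by
      refine le_antisymm (fun x hx => ?_) (Subgroup.zpowers_le.mpr hab')
      obtain ⟨i, s, hs, rfl⟩ := hNgen x hx
      exact mul_mem (zpow_mem (Subgroup.mem_zpowers a) i) (Subgroup.zpowers_le.mpr htA hs)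
    refine ⟨N, hNn, hNeq ▸ inferInstance, ?_⟩
    refine ⟨⟨QuotientGroup.mk' N b, fun x => ?_⟩⟩
    obtain ⟨g, rfl⟩ := QuotientGroup.mk'_surjective N x
    obtain ⟨y, hy, l, rfl⟩ := hRgen g
    refine Subgroup.mem_zpowers_iff.mpr ⟨l, ?_⟩
    rw [map_mul, map_zpow, show QuotientGroup.mk' N y = 1 from (QuotientGroup.eq_one_iff y).mpr hy,
      mul_one]
  -- `N = ⟨a⟩ × T`; the derived subgroup is `T`
  have hNc : ∀ x ∈ N, ∀ y ∈ N, Commute x y := by
    intro x hx y hy
    obtain ⟨i, s, hs, rfl⟩ := hNgen x hx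
    obtain ⟨j, s', hs', rfl⟩ := hNgen y hy
    exact (((Commute.refl a).zpow_zpow i j).mul_right (hTc s' hs' _)).mul_left
      (((hTc s hs (a ^ j)).symm).mul_right (hTc s' hs' s))
  haveI : IsMulCommutative N := ⟨⟨fun x y => Subtype.ext (hNc x x.2 y y.2).eq⟩⟩
  have hcN : ∀ x ∈ N, ⁅b, x⁆ ∈ N := fun x hx => by
    rw [commutatorElement_def]; exact mul_mem (hNn.conj_mem x hx b) (inv_mem hx)
  let g : N →* N := MonoidHom.mk' (fun x => ⟨⁅b, (x : R)⁆, hcN x x.2⟩) fun x y => Subtype.ext (by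
    show ⁅b, (x : R) * y⁆ = ⁅b, (x : R)⁆ * ⁅b, (y : R)⁆
    rw [show ⁅b, (x : R) * y⁆ = ⁅b, (x : R)⁆ * (x * ⁅b, (y : R)⁆ * (x : R)⁻¹) by
      simp only [commutatorElement_def]; group, (hNc _ x.2 _ (hcN y y.2)).eq, mul_inv_cancel_right])
  set c : R := ⁅b, a⁆ with hc
  have hcN' : c ∈ N := hcN a hab'
  have hgrange : ∀ x ∈ N, ⁅b, x⁆ ∈ Subgroup.zpowers c := by
    intro x hx
    obtain ⟨i, s, hs, rfl⟩ := hNgen x hx
    have h1 : g ⟨a ^ i * s, hx⟩ = (g ⟨a, hab'⟩) ^ i * g ⟨s, hTN hs⟩ := by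
      rw [← map_zpow, ← map_mul]; congr 1
    have h2 : ⁅b, s⁆ = 1 := commutatorElement_eq_one_iff_commute.mpr (hTc s hs b)
    refine Subgroup.mem_zpowers_iff.mpr ⟨i, ?_⟩
    have h3 := congrArg Subtype.val h1
    change ⁅b, a ^ i * s⁆ = c ^ i * ⁅b, s⁆ at h3
    rw [h3, h2, mul_one]
  set X := Subgroup.zpowers c with hX
  have hXN : X ≤ N := Subgroup.zpowers_le.mpr hcN'
  haveI hXn : X.Normal := by
    refine ⟨fun u hu r => ?_⟩
    have key : ∀ k : R, (k = b ∨ k ∈ N) → X ≤ X.comap (MulAut.conj k).toMonoidHom := by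
      intro k hk
      rw [hX, Subgroup.zpowers_le]
      show k * c * k⁻¹ ∈ X
      rcases hk with hk | hk
      · rw [hk, show b * c * b⁻¹ = ⁅b, b * a * b⁻¹⁆ by rw [hc]; simp only [commutatorElement_def]; group]
        exact hgrange _ (hNn.conj_mem a hab' b)
      · rw [(hNc k hk c hcN').eq, mul_inv_cancel_right]
        exact Subgroup.mem_zpowers c
    have hb : b ∈ Subgroup.normalizer (X : Set R) := by
      refine CfsgLib.Transfer.map_conj_eq_self_iff.mp (Subgroup.eq_of_le_of_card_ge ?_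
        (Subgroup.card_map_of_injective (MulAut.conj b).injective).ge)
      exact Subgroup.map_le_iff_le_comap.mpr (key b (Or.inl rfl))
    obtain ⟨y, hy, l, rfl⟩ := hRgen r
    have hy' : y * u * y⁻¹ ∈ X := key y (Or.inr hy) hu
    have h5 := (Subgroup.mem_normalizer_iff.mp (zpow_mem hb l) _).mp hy'
    rwa [show b ^ l * y * u * (b ^ l * y)⁻¹ = b ^ l * (y * u * y⁻¹) * (b ^ l)⁻¹ by group]
  have hcomm : commutator R ≤ X := by
    set q := QuotientGroup.mk' X
    have hqc : ∀ x ∈ N, Commute (q b) (q x) := fun x hx => by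
      rw [← commutatorElement_eq_one_iff_commute, ← map_commutatorElement, QuotientGroup.mk'_apply,
        QuotientGroup.eq_one_iff]
      exact hgrange x hx
    rw [commutator_def]
    refine Subgroup.commutator_le.mpr fun r _ s _ => ?_
    rw [← QuotientGroup.eq_one_iff, ← QuotientGroup.mk'_apply X, map_commutatorElement,
      commutatorElement_eq_one_iff_commute]
    obtain ⟨y, hy, l, rfl⟩ := hRgen r
    obtain ⟨y', hy', l', rfl⟩ := hRgen s
    rw [map_mul, map_mul, map_zpow, map_zpow]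
    exact (((Commute.refl (q b)).zpow_zpow l l').mul_right ((hqc y' hy').zpow_left l)).mul_left
      (((hqc y hy).symm.zpow_right l').mul_right ((hNc y hy y' hy').map q))
  have hcp : c ^ p = 1 := by
    by_contra hcp
    obtain ⟨m, hm⟩ := IsPGroup.iff_orderOf.mp hR c
    obtain ⟨i, hi⟩ := Subgroup.mem_zpowers_iff.mp (hcomm htR)
    have hpi : (p : ℤ) ∣ i := by
      have h1 : c ^ (i * p) = 1 := by
        rw [zpow_mul, hi, zpow_natCast, ← hto, pow_orderOf_eq_one]
      rw [← orderOf_dvd_iff_zpow_eq_one, hm] at h1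
      have hm2 : 2 ≤ m := by
        by_contra hlt
        refine hcp (orderOf_dvd_iff_pow_eq_one.mp ?_)
        rw [hm]
        exact (pow_dvd_pow p (show m ≤ 1 by omega)).trans (pow_one p).dvd
      push_cast at h1
      rw [show m = (m - 1) + 1 by omega, pow_succ] at h1
      exact dvd_trans (dvd_pow_self _ (by omega))
        (Int.dvd_of_mul_dvd_mul_right (by exact_mod_cast hp.out.ne_zero) h1)
    obtain ⟨i', rfl⟩ := hpi
    obtain ⟨j, s, hs, hcs⟩ := hNgen c hcN'
    have hsp : s ^ p = 1 := by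
      obtain ⟨e, rfl⟩ := Subgroup.mem_zpowers_iff.mp hs
      rw [← zpow_natCast, ← zpow_mul, mul_comm, zpow_mul, zpow_natCast, ← hto, pow_orderOf_eq_one,
        one_zpow]
    apply htA
    rw [← hi, zpow_mul, zpow_natCast, hcs, ((hTc s hs (a ^ j))).mul_pow, hsp, mul_one]
    exact zpow_mem (pow_mem (zpow_mem (Subgroup.mem_zpowers a) j) p) i'
  have hXT : X = T := by
    refine (Subgroup.eq_of_le_of_card_ge (Subgroup.zpowers_le.mpr (hcomm htR)) ?_).symm
    rw [Nat.card_zpowers, Nat.card_zpowers, hto]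
    exact Nat.le_of_dvd hp.out.pos (orderOf_dvd_of_pow_eq_one hcp)
  have hcomT : ∀ r s : R, ⁅r, s⁆ ∈ T := fun r s =>
    hXT ▸ hcomm (commutator_def R ▸ Subgroup.commutator_mem_commutator (Subgroup.mem_top r) (Subgroup.mem_top s))
  have hmul : ∀ r s : R, (r * s) ^ p = r ^ p * s ^ p := fun r s => by
    obtain ⟨q, hq⟩ : p ∣ p.choose 2 := hp.out.dvd_choose_self (by norm_num) (by omega)
    have hcen := hcomT s r
    have hcp' : ⁅s, r⁆ ^ p = 1 := by
      obtain ⟨e, he⟩ := Subgroup.mem_zpowers_iff.mp hcen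
      rw [← he, ← zpow_natCast, ← zpow_mul, mul_comm, zpow_mul, zpow_natCast, ← hto,
        pow_orderOf_eq_one, one_zpow]
    rw [PSolvable.mul_pow_of_comm (hTc _ hcen r).symm (hTc _ hcen s).symm, hq, pow_mul, hcp',
      one_pow, mul_one]
  let φ : R →* R := MonoidHom.mk' (fun r => r ^ p) hmul
  have hrangeΦ : φ.range = frattini R := by
    refine Subgroup.eq_of_le_of_card_ge ?_ ?_
    · rintro _ ⟨r, rfl⟩
      exact (PSolvable.commutator_le_frattini hR).2 r
    · have h1 := φ.ker.card_mul_index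
      rw [Subgroup.index_ker] at h1
      have h2 := (frattini R).card_mul_index
      have hker : Nat.card φ.ker ≤ p ^ 2 := le_trans (Subgroup.card_le_of_le
        (show φ.ker ≤ Cfsg.omegaOne p (⊤ : Subgroup R) from
          fun r hr => Subgroup.subset_closure ⟨Subgroup.mem_top r, hr⟩)) hO
      have hidx : p ^ 2 ≤ (frattini R).index := by
        obtain ⟨e, he⟩ := hR.index (frattini R)
        rw [he]
        refine Nat.pow_le_pow_right hp.out.pos ?_
        by_contra hlt'
        -- Frattini index at most `p` would make `R` cyclic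
        have hd : (frattini R).index ∣ p := by
          rw [he]; exact (pow_dvd_pow p (show e ≤ 1 by omega)).trans (pow_one p).dvd
        have htop : Subgroup.zpowers x₀ = ⊤ := by
          refine frattini_nongenerating (Subgroup.index_eq_one.mp ?_)
          have hle : frattini R ≤ Subgroup.zpowers x₀ ⊔ frattini R := le_sup_right
          rcases (Nat.dvd_prime hp.out).mp ((Subgroup.index_dvd_of_le hle).trans hd) with h | h
          · exact h
          · exfalso
            have h3 := Subgroup.relIndex_mul_index hle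
            rw [h, Nat.dvd_antisymm hd (h ▸ Subgroup.index_dvd_of_le hle)] at h3
            exact hx₀ (Subgroup.relIndex_eq_one.mp (Nat.eq_of_mul_eq_mul_right hp.out.pos
              (h3.trans (one_mul p).symm)) (Subgroup.mem_sup_left (Subgroup.mem_zpowers x₀)))
        apply hab
        rw [commutator_def, Subgroup.commutator_eq_bot_iff_le_centralizer, ← htop]
        exact Subgroup.le_centralizer _
      refine Nat.le_of_mul_le_mul_right (c := p ^ 2) ?_ (pow_pos hp.out.pos 2)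
      calc Nat.card ↥(frattini R) * p ^ 2 ≤ Nat.card ↥(frattini R) * (frattini R).index :=
            Nat.mul_le_mul_left _ hidx
        _ = Nat.card φ.ker * Nat.card φ.range := h2.trans h1.symm
        _ ≤ p ^ 2 * Nat.card φ.range := Nat.mul_le_mul_right _ hker
        _ = _ := mul_comm _ _
  -- climb from `t` to an element outside the Frattini subgroup
  have hclimb : ∀ k : ℕ, ∀ u : R, u ≠ 1 → u ∈ frattini R → Nat.card R ≤ orderOf u + k →
      ∃ v, v ∉ frattini R ∧ u ∈ Subgroup.zpowers v := by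
    intro k
    induction k with
    | zero =>
      intro u _ hu hcard
      exfalso
      have h1 : orderOf u ≤ Nat.card ↥(frattini R) :=
        Nat.le_of_dvd Nat.card_pos (Subgroup.orderOf_dvd_natCard _ hu)
      have h3 : frattini R = ⊤ := Subgroup.eq_top_of_card_eq _
        (le_antisymm (Subgroup.card_le_card_group _) (by omega))
      exact htriv h3
    | succ k ihk =>
      intro u hu1 hu hcard
      obtain ⟨w, hw⟩ : u ∈ φ.range := hrangeΦ.ge hu
      have hw' : w ^ p = u := hw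
      by_cases hwΦ : w ∈ frattini R
      · have hw1 : w ≠ 1 := fun h => hu1 (by rw [← hw', h, one_pow])
        have hlt' : orderOf u < orderOf w := by
          rw [← hw', orderOf_pow' w hp.out.ne_zero]
          obtain ⟨e, he⟩ := IsPGroup.iff_orderOf.mp hR w
          have he0 : e ≠ 0 := fun h0 => hw1 (orderOf_eq_one_iff.mp (by rw [he, h0, pow_zero]))
          rw [Nat.gcd_eq_right (he ▸ dvd_pow_self p he0)]
          exact Nat.div_lt_self (orderOf_pos w) hp.out.one_lt
        obtain ⟨v, hv, hwv⟩ := ihk w hw1 hwΦ (by omega)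
        exact ⟨v, hv, hw' ▸ pow_mem hwv p⟩
      · exact ⟨w, hwΦ, hw' ▸ pow_mem (Subgroup.mem_zpowers w) p⟩
  have htΦ : t ∈ frattini R := (PSolvable.commutator_le_frattini hR).1 htR
  have ht1 : t ≠ 1 := fun h => hp.out.one_lt.ne (by rw [← hto, h, orderOf_one])
  obtain ⟨v, hv, htv⟩ := hclimb (Nat.card R) t ht1 htΦ (by omega)
  refine isMetacyclic_of_mem hR hΦ v hv ⟨fun u hu r => ?_⟩
  rw [show r * u * r⁻¹ = ⁅r, u⁆ * u by rw [commutatorElement_def]; group]
  exact mul_mem (Subgroup.zpowers_le.mpr htv (hcomT r u)) hu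

end CfsgLib.Blackburn
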