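import Mathlib
import Cfsg.Agent.Lib.PGroup.Blackburn

/-!
For odd `p`: if a `p`-group `R` with at most `p ^ 2` solutions of `x ^ p = 1` has a metacyclic quotient
by a central subgroup of order `p` of its derived group, then `R` is metacyclic.
The argument is that of `CfsgLib.Blackburn.isMetacyclic_aux`, with no condition on `p` beyond oddness.
-/

set_option autoImplicit false
set_option linter.style.haveILetI false

open scoped commutatorElement

namespace CfsgLib.RankTwoLift

universe u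

variable {p : ℕ} [hp : Fact p.Prime]

theorem isMetacyclic_of_quotient (hp2 : p ≠ 2) {R : Type u} [Group R] [Finite R] (hR : IsPGroup p R)
    (hO : Nat.card ↥(Cfsg.omegaOne p (⊤ : Subgroup R)) ≤ p ^ 2) {t : R} (htR : t ∈ commutator R)
    (htC : t ∈ Subgroup.center R) (hto : orderOf t = p) [hTn : (Subgroup.zpowers t).Normal]
    (hq : Cfsg.IsMetacyclic (R ⧸ Subgroup.zpowers t)) : Cfsg.IsMetacyclic R := by
  obtain ⟨Nb, hNbn, hNbc, hNbq⟩ := hq
  haveI := hR.isNilpotent
  have ht1' : t ≠ 1 := fun h => hp.out.one_lt.ne (by rw [← hto, h, orderOf_one])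
  have hab : commutator R ≠ ⊥ := fun h => ht1' (Subgroup.mem_bot.mp (h ▸ htR))
  set T := Subgroup.zpowers t with hT
  have hTc : ∀ u ∈ T, ∀ r : R, Commute r u := fun u hu r => by
    obtain ⟨i, rfl⟩ := Subgroup.mem_zpowers_iff.mp hu
    exact (show Commute r t from Subgroup.mem_center_iff.mp htC r).zpow_right i
  haveI := hNbn
  set f := QuotientGroup.mk' T with hf
  have hsurj : Function.Surjective f := QuotientGroup.mk'_surjective T
  set N := Nb.comap f with hN
  haveI hNn : N.Normal := hNbn.comap f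
  have hTN : T ≤ N := QuotientGroup.le_comap_mk' T Nb
  obtain ⟨⟨ab, hab'⟩, habgen⟩ := hNbc.exists_generator
  obtain ⟨a, rfl⟩ := hsurj ab
  have hNgen : ∀ x ∈ N, ∃ i : ℤ, ∃ s ∈ T, x = a ^ i * s := by
    intro x hx
    obtain ⟨i, hi⟩ := Subgroup.mem_zpowers_iff.mp (habgen ⟨f x, hx⟩)
    have hi' : f (a ^ i) = f x := (map_zpow f a i).trans (congrArg Subtype.val hi)
    exact ⟨i, (a ^ i)⁻¹ * x, QuotientGroup.eq.mp hi', (mul_inv_cancel_left _ _).symm⟩
  obtain ⟨bb, hbb⟩ := hNbq.exists_generator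
  obtain ⟨bb', rfl⟩ := QuotientGroup.mk'_surjective Nb bb
  obtain ⟨b, rfl⟩ := hsurj bb'
  have hRgen : ∀ x : R, ∃ y ∈ N, ∃ l : ℤ, x = b ^ l * y := by
    intro x
    obtain ⟨l, hl⟩ := Subgroup.mem_zpowers_iff.mp (hbb (QuotientGroup.mk' Nb (f x)))
    have hl' : (f b) ^ l = f (b ^ l) := (map_zpow f b l).symm
    rw [← map_zpow, hl'] at hl
    refine ⟨(b ^ l)⁻¹ * x, ?_, l, (mul_inv_cancel_left _ _).symm⟩
    show f ((b ^ l)⁻¹ * x) ∈ Nb
    rw [map_mul, map_inv]
    exact QuotientGroup.eq.mp hl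
  have hΦ : (frattini R).index ≤ p ^ 2 := by
    set q := QuotientGroup.mk' (frattini R) with hq'
    have hcard : ∀ v : R, Nat.card (Subgroup.zpowers (q v)) ≤ p := fun v => by
      rw [Nat.card_zpowers]
      refine Nat.le_of_dvd hp.out.pos (orderOf_dvd_of_pow_eq_one ?_)
      rw [← map_pow]
      exact (QuotientGroup.eq_one_iff _).mpr ((PSolvable.commutator_le_frattini hR).2 v)
    have hsurjq : Function.Surjective (fun w : Subgroup.zpowers (q b) × Subgroup.zpowers (q a) =>
        (w.1 : R ⧸ frattini R) * (w.2 : R ⧸ frattini R)) := by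
      intro x
      obtain ⟨g, rfl⟩ := QuotientGroup.mk'_surjective _ x
      obtain ⟨y, hy, l, rfl⟩ := hRgen g
      obtain ⟨i, s, hs, rfl⟩ := hNgen y hy
      refine ⟨(⟨q b ^ l, ⟨l, rfl⟩⟩, ⟨q a ^ i, ⟨i, rfl⟩⟩), ?_⟩
      have hs1 : q s = 1 := (QuotientGroup.eq_one_iff _).mpr
        ((PSolvable.commutator_le_frattini hR).1 ((Subgroup.zpowers_le.mpr htR) hs))
      show q b ^ l * q a ^ i = q (b ^ l * (a ^ i * s))
      rw [map_mul, map_mul, hs1, mul_one, map_zpow, map_zpow]
    rw [Subgroup.index_eq_card]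
    refine (Nat.card_le_card_of_surjective _ hsurjq).trans ?_
    rw [Nat.card_prod, pow_two]
    exact Nat.mul_le_mul (hcard b) (hcard a)
  have htriv : frattini R ≠ ⊤ := fun h => hab (by
    have h1 : (⊥ : Subgroup R) = ⊤ := frattini_nongenerating (by rw [h, bot_sup_eq])
    exact le_bot_iff.mp (h1 ▸ le_top))
  obtain ⟨x₀, hx₀⟩ : ∃ x, x ∉ frattini R := by
    by_contra h
    push Not at h
    exact htriv (eq_top_iff.mpr fun x _ => h x)
  by_cases htA : t ∈ Subgroup.zpowers a
  · -- `N` is cyclic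
    have hNeq : N = Subgroup.zpowers a := by
      refine le_antisymm (fun x hx => ?_) (Subgroup.zpowers_le.mpr hab')
      obtain ⟨i, s, hs, rfl⟩ := hNgen x hx
      exact mul_mem (zpow_mem (Subgroup.mem_zpowers a) i) (Subgroup.zpowers_le.mpr htA hs)
    refine ⟨N, hNn, hNeq ▸ inferInstance, ?_⟩
    refine ⟨⟨QuotientGroup.mk' N b, fun x => ?_⟩⟩
    obtain ⟨g, rfl⟩ := QuotientGroup.mk'_surjective N x
    obtain ⟨y, hy, l, rfl⟩ := hRgen g
    refine Subgroup.mem_zpowers_iff.mpr ⟨l, ?_⟩
    rw [map_mul, map_zpow, show QuotientGroup.mk' N y = 1 from (QuotientGroup.eq_one_iff y).mpr hy,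
      mul_one]
  -- `N = ⟨a⟩ × T`; the derived subgroup is `T`
  have hNc : ∀ x ∈ N, ∀ y ∈ N, Commute x y := by
    intro x hx y hy
    obtain ⟨i, s, hs, rfl⟩ := hNgen x hx
    obtain ⟨j, s', hs', rfl⟩ := hNgen y hy
    exact (((Commute.refl a).zpow_zpow i j).mul_right (hTc s' hs' _)).mul_left
      (((hTc s hs (a ^ j)).symm).mul_right (hTc s' hs' s))
  haveI : IsMulCommutative N := ⟨⟨fun x y => Subtype.ext (hNc x x.2 y y.2).eq⟩⟩
  have hcN : ∀ x ∈ N, ⁅b, x⁆ ∈ N := fun x hx => by
    rw [commutatorElement_def]; exact mul_mem (hNn.conj_mem x hx b) (inv_mem hx)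
  let g : N →* N := MonoidHom.mk' (fun x => ⟨⁅b, (x : R)⁆, hcN x x.2⟩) fun x y => Subtype.ext (by
    show ⁅b, (x : R) * y⁆ = ⁅b, (x : R)⁆ * ⁅b, (y : R)⁆
    rw [show ⁅b, (x : R) * y⁆ = ⁅b, (x : R)⁆ * (x * ⁅b, (y : R)⁆ * (x : R)⁻¹) by
      simp only [commutatorElement_def]; group, (hNc _ x.2 _ (hcN y y.2)).eq, mul_inv_cancel_right])
  set c : R := ⁅b, a⁆ with hc
  have hcN' : c ∈ N := hcN a hab'
  have hgrange : ∀ x ∈ N, ⁅b, x⁆ ∈ Subgroup.zpowers c := by
    intro x hx
    obtain ⟨i, s, hs, rfl⟩ := hNgen x hx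
    have h1 : g ⟨a ^ i * s, hx⟩ = (g ⟨a, hab'⟩) ^ i * g ⟨s, hTN hs⟩ := by
      rw [← map_zpow, ← map_mul]; congr 1
    have h2 : ⁅b, s⁆ = 1 := commutatorElement_eq_one_iff_commute.mpr (hTc s hs b)
    refine Subgroup.mem_zpowers_iff.mpr ⟨i, ?_⟩
    have h3 := congrArg Subtype.val h1
    change ⁅b, a ^ i * s⁆ = c ^ i * ⁅b, s⁆ at h3
    rw [h3, h2, mul_one]
  set X := Subgroup.zpowers c with hX
  have hXN : X ≤ N := Subgroup.zpowers_le.mpr hcN'
  haveI hXn : X.Normal := by
    refine ⟨fun u hu r => ?_⟩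
    have key : ∀ k : R, (k = b ∨ k ∈ N) → X ≤ X.comap (MulAut.conj k).toMonoidHom := by
      intro k hk
      rw [hX, Subgroup.zpowers_le]
      show k * c * k⁻¹ ∈ X
      rcases hk with hk | hk
      · rw [hk, show b * c * b⁻¹ = ⁅b, b * a * b⁻¹⁆ by rw [hc]; simp only [commutatorElement_def]; group]
        exact hgrange _ (hNn.conj_mem a hab' b)
      · rw [(hNc k hk c hcN').eq, mul_inv_cancel_right]
        exact Subgroup.mem_zpowers c
    have hb : b ∈ Subgroup.normalizer (X : Set R) := by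
      refine CfsgLib.Transfer.map_conj_eq_self_iff.mp (Subgroup.eq_of_le_of_card_ge ?_
        (Subgroup.card_map_of_injective (MulAut.conj b).injective).ge)
      exact Subgroup.map_le_iff_le_comap.mpr (key b (Or.inl rfl))
    obtain ⟨y, hy, l, rfl⟩ := hRgen r
    have hy' : y * u * y⁻¹ ∈ X := key y (Or.inr hy) hu
    have h5 := (Subgroup.mem_normalizer_iff.mp (zpow_mem hb l) _).mp hy'
    rwa [show b ^ l * y * u * (b ^ l * y)⁻¹ = b ^ l * (y * u * y⁻¹) * (b ^ l)⁻¹ by group]
  have hcomm : commutator R ≤ X := by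
    set q := QuotientGroup.mk' X
    have hqc : ∀ x ∈ N, Commute (q b) (q x) := fun x hx => by
      rw [← commutatorElement_eq_one_iff_commute, ← map_commutatorElement, QuotientGroup.mk'_apply,
        QuotientGroup.eq_one_iff]
      exact hgrange x hx
    rw [commutator_def]
    refine Subgroup.commutator_le.mpr fun r _ s _ => ?_
    rw [← QuotientGroup.eq_one_iff, ← QuotientGroup.mk'_apply X, map_commutatorElement,
      commutatorElement_eq_one_iff_commute]
    obtain ⟨y, hy, l, rfl⟩ := hRgen r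
    obtain ⟨y', hy', l', rfl⟩ := hRgen s
    rw [map_mul, map_mul, map_zpow, map_zpow]
    exact (((Commute.refl (q b)).zpow_zpow l l').mul_right ((hqc y' hy').zpow_left l)).mul_left
      (((hqc y hy).symm.zpow_right l').mul_right ((hNc y hy y' hy').map q))
  have hcp : c ^ p = 1 := by
    by_contra hcp
    obtain ⟨m, hm⟩ := IsPGroup.iff_orderOf.mp hR c
    obtain ⟨i, hi⟩ := Subgroup.mem_zpowers_iff.mp (hcomm htR)
    have hpi : (p : ℤ) ∣ i := by
      have h1 : c ^ (i * p) = 1 := by
        rw [zpow_mul, hi, zpow_natCast, ← hto, pow_orderOf_eq_one]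
      rw [← orderOf_dvd_iff_zpow_eq_one, hm] at h1
      have hm2 : 2 ≤ m := by
        by_contra hlt
        refine hcp (orderOf_dvd_iff_pow_eq_one.mp ?_)
        rw [hm]
        exact (pow_dvd_pow p (show m ≤ 1 by omega)).trans (pow_one p).dvd
      push_cast at h1
      rw [show m = (m - 1) + 1 by omega, pow_succ] at h1
      exact dvd_trans (dvd_pow_self _ (by omega))
        (Int.dvd_of_mul_dvd_mul_right (by exact_mod_cast hp.out.ne_zero) h1)
    obtain ⟨i', rfl⟩ := hpi
    obtain ⟨j, s, hs, hcs⟩ := hNgen c hcN'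
    have hsp : s ^ p = 1 := by
      obtain ⟨e, rfl⟩ := Subgroup.mem_zpowers_iff.mp hs
      rw [← zpow_natCast, ← zpow_mul, mul_comm, zpow_mul, zpow_natCast, ← hto, pow_orderOf_eq_one,
        one_zpow]
    apply htA
    rw [← hi, zpow_mul, zpow_natCast, hcs, ((hTc s hs (a ^ j))).mul_pow, hsp, mul_one]
    exact zpow_mem (pow_mem (zpow_mem (Subgroup.mem_zpowers a) j) p) i'
  have hXT : X = T := by
    refine (Subgroup.eq_of_le_of_card_ge (Subgroup.zpowers_le.mpr (hcomm htR)) ?_).symm
    rw [Nat.card_zpowers, Nat.card_zpowers, hto]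
    exact Nat.le_of_dvd hp.out.pos (orderOf_dvd_of_pow_eq_one hcp)
  have hcomT : ∀ r s : R, ⁅r, s⁆ ∈ T := fun r s =>
    hXT ▸ hcomm (commutator_def R ▸ Subgroup.commutator_mem_commutator (Subgroup.mem_top r) (Subgroup.mem_top s))
  have hmul : ∀ r s : R, (r * s) ^ p = r ^ p * s ^ p := fun r s => by
    obtain ⟨q, hq⟩ : p ∣ p.choose 2 := hp.out.dvd_choose_self (by norm_num) (lt_of_le_of_ne hp.out.two_le hp2.symm)
    have hcen := hcomT s r
    have hcp' : ⁅s, r⁆ ^ p = 1 := by
      obtain ⟨e, he⟩ := Subgroup.mem_zpowers_iff.mp hcen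
      rw [← he, ← zpow_natCast, ← zpow_mul, mul_comm, zpow_mul, zpow_natCast, ← hto,
        pow_orderOf_eq_one, one_zpow]
    rw [PSolvable.mul_pow_of_comm (hTc _ hcen r).symm (hTc _ hcen s).symm, hq, pow_mul, hcp',
      one_pow, mul_one]
  let φ : R →* R := MonoidHom.mk' (fun r => r ^ p) hmul
  have hrangeΦ : φ.range = frattini R := by
    refine Subgroup.eq_of_le_of_card_ge ?_ ?_
    · rintro _ ⟨r, rfl⟩
      exact (PSolvable.commutator_le_frattini hR).2 r
    · have h1 := φ.ker.card_mul_index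
      rw [Subgroup.index_ker] at h1
      have h2 := (frattini R).card_mul_index
      have hker : Nat.card φ.ker ≤ p ^ 2 := le_trans (Subgroup.card_le_of_le
        (show φ.ker ≤ Cfsg.omegaOne p (⊤ : Subgroup R) from
          fun r hr => Subgroup.subset_closure ⟨Subgroup.mem_top r, hr⟩)) hO
      have hidx : p ^ 2 ≤ (frattini R).index := by
        obtain ⟨e, he⟩ := hR.index (frattini R)
        rw [he]
        refine Nat.pow_le_pow_right hp.out.pos ?_
        by_contra hlt'
        -- Frattini index at most `p` would make `R` cyclic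
        have hd : (frattini R).index ∣ p := by
          rw [he]; exact (pow_dvd_pow p (show e ≤ 1 by omega)).trans (pow_one p).dvd
        have htop : Subgroup.zpowers x₀ = ⊤ := by
          refine frattini_nongenerating (Subgroup.index_eq_one.mp ?_)
          have hle : frattini R ≤ Subgroup.zpowers x₀ ⊔ frattini R := le_sup_right
          rcases (Nat.dvd_prime hp.out).mp ((Subgroup.index_dvd_of_le hle).trans hd) with h | h
          · exact h
          · exfalso
            have h3 := Subgroup.relIndex_mul_index hle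
            rw [h, Nat.dvd_antisymm hd (h ▸ Subgroup.index_dvd_of_le hle)] at h3
            exact hx₀ (Subgroup.relIndex_eq_one.mp (Nat.eq_of_mul_eq_mul_right hp.out.pos
              (h3.trans (one_mul p).symm)) (Subgroup.mem_sup_left (Subgroup.mem_zpowers x₀)))
        apply hab
        rw [commutator_def, Subgroup.commutator_eq_bot_iff_le_centralizer, ← htop]
        exact Subgroup.le_centralizer _
      refine Nat.le_of_mul_le_mul_right (c := p ^ 2) ?_ (pow_pos hp.out.pos 2)
      calc Nat.card ↥(frattini R) * p ^ 2 ≤ Nat.card ↥(frattini R) * (frattini R).index :=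
            Nat.mul_le_mul_left _ hidx
        _ = Nat.card φ.ker * Nat.card φ.range := h2.trans h1.symm
        _ ≤ p ^ 2 * Nat.card φ.range := Nat.mul_le_mul_right _ hker
        _ = _ := mul_comm _ _
  -- climb from `t` to an element outside the Frattini subgroup
  have hclimb : ∀ k : ℕ, ∀ u : R, u ≠ 1 → u ∈ frattini R → Nat.card R ≤ orderOf u + k →
      ∃ v, v ∉ frattini R ∧ u ∈ Subgroup.zpowers v := by
    intro k
    induction k with
    | zero =>
      intro u _ hu hcard
      exfalso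
      have h1 : orderOf u ≤ Nat.card ↥(frattini R) :=
        Nat.le_of_dvd Nat.card_pos (Subgroup.orderOf_dvd_natCard _ hu)
      have h3 : frattini R = ⊤ := Subgroup.eq_top_of_card_eq _
        (le_antisymm (Subgroup.card_le_card_group _) (by omega))
      exact htriv h3
    | succ k ihk =>
      intro u hu1 hu hcard
      obtain ⟨w, hw⟩ : u ∈ φ.range := hrangeΦ.ge hu
      have hw' : w ^ p = u := hw
      by_cases hwΦ : w ∈ frattini R
      · have hw1 : w ≠ 1 := fun h => hu1 (by rw [← hw', h, one_pow])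
        have hlt' : orderOf u < orderOf w := by
          rw [← hw', orderOf_pow' w hp.out.ne_zero]
          obtain ⟨e, he⟩ := IsPGroup.iff_orderOf.mp hR w
          have he0 : e ≠ 0 := fun h0 => hw1 (orderOf_eq_one_iff.mp (by rw [he, h0, pow_zero]))
          rw [Nat.gcd_eq_right (he ▸ dvd_pow_self p he0)]
          exact Nat.div_lt_self (orderOf_pos w) hp.out.one_lt
        obtain ⟨v, hv, hwv⟩ := ihk w hw1 hwΦ (by omega)
        exact ⟨v, hv, hw' ▸ pow_mem hwv p⟩
      · exact ⟨w, hwΦ, hw' ▸ pow_mem (Subgroup.mem_zpowers w) p⟩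
  have htΦ : t ∈ frattini R := (PSolvable.commutator_le_frattini hR).1 htR
  have ht1 : t ≠ 1 := fun h => hp.out.one_lt.ne (by rw [← hto, h, orderOf_one])
  obtain ⟨v, hv, htv⟩ := hclimb (Nat.card R) t ht1 htΦ (by omega)
  refine Blackburn.isMetacyclic_of_mem hR hΦ v hv ⟨fun u hu r => ?_⟩
  rw [show r * u * r⁻¹ = ⁅r, u⁆ * u by rw [commutatorElement_def]; group]
  exact mul_mem (Subgroup.zpowers_le.mpr htv (hcomT r u)) hu

end CfsgLib.RankTwoLift
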