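import Mathlib
import Cfsg.Agent.Lib.PGroup.NormalRankTwo
import Cfsg.Agent.Lib.PGroup.AlperinElementary
import Cfsg.Agent.Lib.Fusion.RankTwoInversion
import Cfsg.Prelude.Def_CaseTheorems

/-!
`p`-groups of rank two, `p` odd, with a normal subgroup `R` of order `p ^ 3` and exponent `p`:
either `G = R C_G(R)` with `C_G(R)` cyclic, or there is one twist.
-/

set_option autoImplicit false
set_option linter.style.haveILetI false

open scoped commutatorElement

namespace CfsgLib.RankTwoNormal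

variable {G : Type*} [Group G] [Finite G] {p : ℕ} [hp : Fact p.Prime]

omit [Finite G] in
theorem conj_zpow_central {u a f : G} (hf : ∀ g, Commute f g) (h : u * a * u⁻¹ = f * a) (m : ℤ) :
    u ^ m * a * (u ^ m)⁻¹ = f ^ m * a := by
  have hneg : u⁻¹ * a * u = f⁻¹ * a := by
    have h1 : u⁻¹ * a * u = u⁻¹ * (f⁻¹ * (u * a * u⁻¹)) * u := by rw [h, inv_mul_cancel_left]
    rw [h1, ← mul_assoc u⁻¹, ((hf u⁻¹).inv_left).eq.symm]
    group
  induction m using Int.induction_on with
  | zero => simp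
  | succ i ih =>
    calc u ^ ((i : ℤ) + 1) * a * (u ^ ((i : ℤ) + 1))⁻¹
        = u * (u ^ (i : ℤ) * a * (u ^ (i : ℤ))⁻¹) * u⁻¹ := by group
      _ = f ^ (i : ℤ) * (u * a * u⁻¹) := by
          rw [ih, ← mul_assoc u, (((hf u).zpow_left i).symm).eq]; group
      _ = f ^ ((i : ℤ) + 1) * a := by rw [h, zpow_add_one, mul_assoc]
  | pred i ih =>
    calc u ^ (-(i : ℤ) - 1) * a * (u ^ (-(i : ℤ) - 1))⁻¹
        = u⁻¹ * (u ^ (-(i : ℤ)) * a * (u ^ (-(i : ℤ)))⁻¹) * u := by group
      _ = f ^ (-(i : ℤ)) * (u⁻¹ * a * u) := by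
          rw [ih, ← mul_assoc u⁻¹, (((hf u⁻¹).zpow_left _).symm).eq]; group
      _ = f ^ (-(i : ℤ) - 1) * a := by rw [hneg, zpow_sub_one, mul_assoc]

/-- An element killed by `p` centralizing an elementary abelian subgroup of order `p ^ 2` lies in it. -/
theorem mem_of_centralizes (hrk : Cfsg.PRankLE p 2 G) {U : Subgroup G}
    (hUab : ∀ a ∈ U, ∀ b ∈ U, Commute a b) (hUexp : ∀ a ∈ U, a ^ p = 1) (hUc : Nat.card U = p ^ 2)
    {x : G} (hx : x ^ p = 1) (hxU : ∀ u ∈ U, Commute x u) : x ∈ U := by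
  set S : Set G := insert x (U : Set G) with hS
  have hSc : ∀ a ∈ S, ∀ b ∈ S, Commute a b := by
    rintro a (rfl | ha) b (rfl | hb)
    · exact Commute.refl _
    · exact hxU b hb
    · exact (hxU a ha).symm
    · exact hUab a ha b hb
  have h1 : Subgroup.closure S ≤ Subgroup.centralizer S :=
    (Subgroup.closure_le _).2 fun a ha => Subgroup.mem_centralizer_iff.2 fun b hb => (hSc b hb a ha).eq
  have h2 : Subgroup.closure S ≤ Subgroup.centralizer (Subgroup.closure S : Set G) :=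
    (Subgroup.closure_le _).2 fun a ha => Subgroup.mem_centralizer_iff.2 fun b hb =>
      (Subgroup.mem_centralizer_iff.1 (h1 hb) a ha).symm
  have hcomm : IsMulCommutative (Subgroup.closure S) :=
    ⟨⟨fun a b => Subtype.ext (Subgroup.mem_centralizer_iff.1 (h2 b.2) a a.2)⟩⟩
  have hexp : ∀ a ∈ Subgroup.closure S, a ^ p = 1 := by
    intro a ha
    induction ha using Subgroup.closure_induction with
    | mem a ha =>
      rcases ha with rfl | ha
      · exact hx
      · exact hUexp a ha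
    | one => exact one_pow p
    | mul a b ha hb iha ihb =>
      rw [(show Commute a b from Subgroup.mem_centralizer_iff.1 (h2 hb) a ha).mul_pow, iha, ihb, one_mul]
    | inv a ha iha => rw [inv_pow, iha, inv_one]
  have hle : U ≤ Subgroup.closure S := fun u hu => Subgroup.subset_closure (Set.mem_insert_of_mem _ hu)
  have heq := Subgroup.eq_of_le_of_card_ge hle ((hrk _ hcomm hexp).trans hUc.ge)
  exact heq.ge (Subgroup.subset_closure (Set.mem_insert _ _))

/-- Two independent commuting elements of order `p` span an elementary abelian group of order `p ^ 2`. -/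
theorem pair_data (hG : IsPGroup p G) (hrk : Cfsg.PRankLE p 2 G) {a b : G} (hab : Commute a b)
    (ha : orderOf a = p) (hb : b ^ p = 1) (hba : b ∉ Subgroup.zpowers a) :
    ∃ U : Subgroup G, a ∈ U ∧ b ∈ U ∧ (∀ u ∈ U, ∀ v ∈ U, Commute u v) ∧ (∀ u ∈ U, u ^ p = 1) ∧
      Nat.card U = p ^ 2 ∧ ∀ u ∈ U, ∃ i j : ℤ, u = a ^ i * b ^ j := by
  let U : Subgroup G :=
    { carrier := {u | ∃ i j : ℤ, u = a ^ i * b ^ j}
      one_mem' := ⟨0, 0, by simp⟩
      mul_mem' := by
        rintro _ _ ⟨i, j, rfl⟩ ⟨i', j', rfl⟩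
        refine ⟨i + i', j + j', ?_⟩
        rw [zpow_add, zpow_add, mul_assoc, ← mul_assoc (b ^ j), (hab.symm.zpow_zpow j i').eq]
        group
      inv_mem' := by
        rintro _ ⟨i, j, rfl⟩
        exact ⟨-i, -j, by rw [mul_inv_rev, (hab.symm.zpow_zpow j i).inv_inv.eq, zpow_neg, zpow_neg]⟩ }
  have hUab : ∀ u ∈ U, ∀ v ∈ U, Commute u v := by
    rintro _ ⟨i, j, rfl⟩ _ ⟨i', j', rfl⟩
    exact (((Commute.refl a).zpow_zpow i i').mul_right (hab.zpow_zpow i j')).mul_left
      ((hab.symm.zpow_zpow j i').mul_right ((Commute.refl b).zpow_zpow j j'))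
  have hap : a ^ p = 1 := ha ▸ pow_orderOf_eq_one a
  have hUexp : ∀ u ∈ U, u ^ p = 1 := by
    rintro _ ⟨i, j, rfl⟩
    rw [(hab.zpow_zpow i j).mul_pow, ← zpow_natCast, ← zpow_mul, mul_comm, zpow_mul, zpow_natCast, hap,
      ← zpow_natCast (b ^ j), ← zpow_mul, mul_comm, zpow_mul, zpow_natCast, hb, one_zpow, one_zpow,
      one_mul]
  have hle : Subgroup.zpowers a ≤ U := Subgroup.zpowers_le.2 ⟨1, 0, by simp⟩
  refine ⟨U, hle (Subgroup.mem_zpowers a), ⟨0, 1, by simp⟩, hUab, hUexp, le_antisymm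
    (hrk U ⟨⟨fun u v => Subtype.ext (hUab u u.2 v v.2)⟩⟩ hUexp) ?_, fun u hu => hu⟩
  obtain ⟨k, hk⟩ := IsPGroup.iff_card.1 (hG.to_subgroup U)
  rw [hk]
  refine Nat.pow_le_pow_right hp.out.pos ?_
  by_contra hk2
  have heq := Subgroup.eq_of_le_of_card_ge hle (by
    rw [hk, Nat.card_zpowers, ha]
    exact (Nat.pow_le_pow_right hp.out.pos (show k ≤ 1 by omega)).trans (pow_one p).le)
  exact hba (heq.ge ⟨0, 1, by simp⟩)

/-- A subgroup with a unique subgroup of order `p` is cyclic. -/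
theorem isCyclic_of_line (hG : IsPGroup p G) (hp2 : p ≠ 2) {C Z : Subgroup G} (hZ : Nat.card Z = p)
    (h : ∀ x ∈ C, x ^ p = 1 → x ∈ Z) : IsCyclic C := by
  by_contra hnc
  obtain ⟨A, -, -, hAe, hAc⟩ := CyclicMax.exists_normal_rank_two (hG.to_subgroup C) hp2 ⊤
    inferInstance fun hc => hnc (isCyclic_of_surjective Subgroup.topEquiv (MulEquiv.surjective _))
  have hle : A.map C.subtype ≤ Z := by
    rintro _ ⟨a, ha, rfl⟩
    exact h _ a.2 (by rw [← map_pow, hAe.2 a ha, map_one])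
  have h1 := Subgroup.card_le_of_le hle
  rw [Subgroup.card_map_of_injective C.subtype_injective, hAc, hZ] at h1
  nlinarith [hp.out.one_lt]

/-- In a `p`-group, commutators with a normal subgroup of order `p ^ 2` are central. -/
theorem comm_central {Q : Type*} [Group Q] [Finite Q] (hQ : IsPGroup p Q) {E : Subgroup Q} [E.Normal]
    (hE : Nat.card E = p ^ 2) {e : Q} (he : e ∈ E) (u r : Q) : Commute ⁅u, e⁆ r := by
  have hEne : E ≠ ⊥ := fun h => by
    rw [h, Subgroup.card_bot] at hE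
    exact (Nat.one_lt_pow two_ne_zero hp.out.one_lt).ne hE
  have hmem : ⁅u, e⁆ ∈ ⁅E, (⊤ : Subgroup Q)⁆ := by
    rw [← commutatorElement_inv]
    exact inv_mem (Subgroup.commutator_mem_commutator he (Subgroup.mem_top u))
  have h0 := Uniserial.card_mul_le (G := (⊤ : Subgroup Q)) (hQ.to_subgroup _) (hQ.to_subgroup E)
    (by rw [Subgroup.normalizer_eq_top]) hEne
  rw [hE, pow_two] at h0
  have hZp := Nat.le_of_mul_le_mul_right h0 hp.out.pos
  by_cases hZb : ⁅E, (⊤ : Subgroup Q)⁆ = ⊥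
  · rw [hZb, Subgroup.mem_bot] at hmem
    rw [hmem]; exact Commute.one_left r
  have h1 := Uniserial.card_mul_le (G := (⊤ : Subgroup Q)) (hQ.to_subgroup _)
    (hQ.to_subgroup ⁅E, (⊤ : Subgroup Q)⁆) (by rw [Subgroup.normalizer_eq_top]) hZb
  have h2 : Nat.card ↥⁅⁅E, (⊤ : Subgroup Q)⁆, (⊤ : Subgroup Q)⁆ ≤ 1 :=
    Nat.le_of_mul_le_mul_right ((h1.trans hZp).trans (one_mul p).ge) hp.out.pos
  exact commutatorElement_eq_one_iff_commute.mp (Subgroup.mem_bot.mp
    ((Subgroup.eq_bot_of_card_le _ h2) ▸ Subgroup.commutator_mem_commutator hmem (Subgroup.mem_top r)))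

/-- The standing data: `R` normal of order `p ^ 3` and exponent `p`, `z` generating its centre, and
`K` the subgroup acting trivially on `R / ⟨z⟩`. -/
structure Data (p : ℕ) {G : Type*} [Group G] (R : Subgroup G) (z : G) (K : Subgroup G) : Prop where
  z_mem : z ∈ R
  z_order : orderOf z = p
  z_central : ∀ g, Commute z g
  center : ∀ x ∈ R, (∀ y ∈ R, Commute x y) → x ∈ Subgroup.zpowers z
  comm : ∀ x : G, x ∈ R → ∀ y : G, y ∈ R → ⁅x, y⁆ ∈ Subgroup.zpowers z
  mem_K : ∀ g : G, g ∈ K ↔ ∀ x ∈ R, ⁅g, x⁆ ∈ Subgroup.zpowers z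
  K_index : K.index ∣ p
  two_step : ∀ g u : G, ∀ x ∈ R, ⁅g, ⁅u, x⁆⁆ ∈ Subgroup.zpowers z
  gen : ∀ x ∈ R, ∀ y ∈ R, ¬ Commute x y → Subgroup.closure ({x, y} : Set G) = R
  cyclic : IsCyclic (Subgroup.centralizer (R : Set G))
  line : ∀ c ∈ Subgroup.centralizer (R : Set G), c ^ p = 1 → c ∈ Subgroup.zpowers z
  split : ∀ g ∈ K, ∃ y ∈ R, y⁻¹ * g ∈ Subgroup.centralizer (R : Set G)

theorem exists_data (hG : IsPGroup p G) (hp2 : p ≠ 2) (hrk : Cfsg.PRankLE p 2 G) (R : Subgroup G)
    [R.Normal] (hRc : Nat.card R = p ^ 3) (hexp : ∀ r ∈ R, r ^ p = 1) :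
    ∃ (z : G) (K : Subgroup G), Data p R z K := by
  have hpp := hp.out
  haveI := hG.isNilpotent
  have hnab : ∃ a ∈ R, ∃ b ∈ R, ¬ Commute a b := by
    by_contra hall
    push Not at hall
    have h1 := hrk R ⟨⟨fun a b => Subtype.ext (hall a a.2 b b.2).eq⟩⟩ hexp
    rw [hRc] at h1
    exact absurd ((Nat.pow_le_pow_iff_right hpp.one_lt).1 h1) (by norm_num)
  have hRne : R ≠ ⊥ := fun h => by
    rw [h, Subgroup.card_bot] at hRc
    exact (Nat.one_lt_pow (by norm_num) hpp.one_lt).ne hRc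
  obtain ⟨⟨z, hz⟩, hz1⟩ := Subgroup.ne_bot_iff_exists_ne_one.1 (Critical.inf_center_ne_bot R hRne)
  obtain ⟨hzR, hzC⟩ := Subgroup.mem_inf.1 hz
  have hz1' : z ≠ 1 := fun h => hz1 (Subtype.ext h)
  have hzo : orderOf z = p := orderOf_eq_prime (hexp z hzR) hz1'
  have hzc : ∀ g, Commute z g := fun g => (Subgroup.mem_center_iff.1 hzC g).symm
  set N := Subgroup.zpowers z with hN
  have hNc : ∀ u ∈ N, ∀ g, Commute u g := fun u hu g => by
    obtain ⟨i, rfl⟩ := Subgroup.mem_zpowers_iff.1 hu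
    exact (hzc g).zpow_left i
  haveI : N.Normal := ⟨fun u hu g => by rw [← (hNc u hu g).eq, mul_inv_cancel_right]; exact hu⟩
  have hNR : N ≤ R := Subgroup.zpowers_le.2 hzR
  set q := QuotientGroup.mk' N with hq
  have hqs : Function.Surjective q := QuotientGroup.mk'_surjective N
  have hq1 : ∀ x, q x = 1 ↔ x ∈ N := fun x => QuotientGroup.eq_one_iff x
  set Rb := R.map q with hRb
  haveI : Rb.Normal := Subgroup.Normal.map inferInstance q hqs
  have hRbc : Nat.card Rb = p ^ 2 := by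
    have h1 : q.ker.relIndex R = Nat.card Rb := Subgroup.relIndex_ker R q
    rw [hq, QuotientGroup.ker_mk'] at h1
    have h2 := Subgroup.relIndex_mul_relIndex ⊥ N R bot_le hNR
    rw [Subgroup.relIndex_bot_left, Subgroup.relIndex_bot_left, h1, Nat.card_zpowers, hzo, hRc] at h2
    exact Nat.eq_of_mul_eq_mul_left hpp.pos (h2.trans (pow_succ' p 2))
  have hQ : IsPGroup p (G ⧸ N) := hG.to_quotient N
  have hRbab : ∀ a ∈ Rb, ∀ b ∈ Rb, Commute a b := fun a ha b hb =>
    congrArg Subtype.val (Fusion.comm_of_card_le_sq (p := p) (V := Rb) ⟨2, le_rfl, hRbc⟩ ⟨a, ha⟩ ⟨b, hb⟩)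
  have hRbe : Cfsg.IsElementaryAbelian p Rb := by
    refine ⟨⟨⟨fun a b => Subtype.ext (hRbab a a.2 b b.2)⟩⟩, ?_⟩
    rintro _ ⟨r, hr, rfl⟩
    rw [← map_pow, hexp r hr, map_one]
  set K := (Subgroup.centralizer (Rb : Set (G ⧸ N))).comap q with hK
  have hcq : ∀ a b : G, Commute (q a) (q b) ↔ ⁅a, b⁆ ∈ N := fun a b => by
    rw [← commutatorElement_eq_one_iff_commute, ← map_commutatorElement, hq1]
  have hmemK : ∀ g, g ∈ K ↔ ∀ x ∈ R, ⁅g, x⁆ ∈ N := by
    intro g
    rw [hK, Subgroup.mem_comap, Subgroup.mem_centralizer_iff]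
    constructor
    · exact fun h x hx => (hcq g x).1 (h _ ⟨x, hx, rfl⟩).symm
    · rintro h _ ⟨x, hx, rfl⟩
      exact ((hcq g x).2 (h x hx)).symm
  have hcenter : ∀ x ∈ R, (∀ y ∈ R, Commute x y) → x ∈ N := by
    intro x hxR hx
    by_contra hxN
    obtain ⟨U, -, -, hUab, hUexp, hUc, hUm⟩ := pair_data hG hrk (hzc x) hzo (hexp x hxR) hxN
    have hle : R ≤ U := fun y hy => mem_of_centralizes hrk hUab hUexp hUc (hexp y hy) fun u hu => by
      obtain ⟨i, j, rfl⟩ := hUm u hu
      exact ((hzc y).symm.zpow_right i).mul_right ((hx y hy).symm.zpow_right j)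
    have h1 := Subgroup.card_le_of_le hle
    rw [hRc, hUc] at h1
    exact absurd ((Nat.pow_le_pow_iff_right hpp.one_lt).1 h1) (by norm_num)
  have hgen : ∀ x ∈ R, ∀ y ∈ R, ¬ Commute x y → Subgroup.closure ({x, y} : Set G) = R := by
    intro x hx y hy hxy
    have hle : Subgroup.closure ({x, y} : Set G) ≤ R :=
      (Subgroup.closure_le _).2 (by rintro _ (rfl | rfl) <;> assumption)
    obtain ⟨k, hk, hkc⟩ := (Nat.dvd_prime_pow hpp).1 (hRc ▸ Subgroup.card_dvd_of_le hle)
    refine Subgroup.eq_of_le_of_card_ge hle ?_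
    rw [hRc, hkc]
    refine Nat.pow_le_pow_right hpp.pos ?_
    by_contra hk2
    exact hxy (congrArg Subtype.val (Fusion.comm_of_card_le_sq ⟨k, by omega, hkc⟩
      ⟨x, Subgroup.subset_closure (Or.inl rfl)⟩ ⟨y, Subgroup.subset_closure (Or.inr rfl)⟩))
  obtain ⟨a, ha, b, hb, hab⟩ := hnab
  have hline : ∀ c ∈ Subgroup.centralizer (R : Set G), c ^ p = 1 → c ∈ N := by
    intro c hc hcp
    have haN : a ∉ N := fun h => hab (hNc a h b)
    obtain ⟨U, hzU, haU, hUab, hUexp, hUc, hUm⟩ := pair_data hG hrk (hzc a) hzo (hexp a ha) haN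
    have hcU := mem_of_centralizes hrk hUab hUexp hUc hcp fun u hu => by
      obtain ⟨i, j, rfl⟩ := hUm u hu
      exact ((hzc c).symm.zpow_right i).mul_right
        ((show Commute c a from (Subgroup.mem_centralizer_iff.1 hc a ha).symm).zpow_right j)
    obtain ⟨i, j, rfl⟩ := hUm c hcU
    exact hcenter _ (R.mul_mem (R.zpow_mem hzR i) (R.zpow_mem ha j)) fun y hy =>
      (Subgroup.mem_centralizer_iff.1 hc y hy).symm
  set e := ⁅a, b⁆ with he
  have heN : e ∈ N := (hcq a b).1 (hRbab _ ⟨a, ha, rfl⟩ _ ⟨b, hb, rfl⟩)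
  have hegen : Subgroup.zpowers e = N := by
    refine Subgroup.eq_of_le_of_card_ge (Subgroup.zpowers_le.2 heN) ?_
    rw [Nat.card_zpowers, Nat.card_zpowers, hzo,
      orderOf_eq_prime (hexp e (hNR heN)) fun h => hab (commutatorElement_eq_one_iff_commute.1 h)]
  refine ⟨z, K, hzR, hzo, hzc, hcenter, fun x hx y hy => (hcq x y).1 (hRbab _ ⟨x, hx, rfl⟩ _ ⟨y, hy, rfl⟩),
    hmemK, ?_, ?_, hgen, isCyclic_of_line hG hp2 (Z := N) (by rw [Nat.card_zpowers, hzo]) hline, hline, ?_⟩
  · rw [hK, Subgroup.index_comap_of_surjective _ hqs]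
    exact AlperinElem.centralizer_index_le hQ hRbe hRbc
  · intro g u x hx
    rw [← hcq g, map_commutatorElement]
    exact (comm_central hQ hRbc (Subgroup.mem_map_of_mem q hx) (q u) (q g)).symm
  · intro g hg
    have hga := (hmemK g).1 hg a ha
    have hgb := (hmemK g).1 hg b hb
    rw [← hegen] at hga hgb
    obtain ⟨i, hi⟩ := Subgroup.mem_zpowers_iff.1 hga
    obtain ⟨j, hj⟩ := Subgroup.mem_zpowers_iff.1 hgb
    have hec : ∀ r, Commute e r := hNc e heN
    have hea : b * a * b⁻¹ = e⁻¹ * a := by rw [he, commutatorElement_def]; group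
    have heb : a * b * a⁻¹ = e * b := by rw [he, commutatorElement_def]; group
    refine ⟨a ^ j * b ^ (-i), R.mul_mem (R.zpow_mem ha j) (R.zpow_mem hb _), ?_⟩
    have hya : a ^ j * b ^ (-i) * a * (a ^ j * b ^ (-i))⁻¹ = e ^ i * a := by
      rw [show a ^ j * b ^ (-i) * a * (a ^ j * b ^ (-i))⁻¹ =
        a ^ j * (b ^ (-i) * a * (b ^ (-i))⁻¹) * (a ^ j)⁻¹ by group,
        conj_zpow_central (fun r => (hec r).inv_left) hea, inv_zpow', neg_neg, ← mul_assoc,
        (((hec (a ^ j)).zpow_left i).symm).eq]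
      group
    have hyb : a ^ j * b ^ (-i) * b * (a ^ j * b ^ (-i))⁻¹ = e ^ j * b := by
      rw [show a ^ j * b ^ (-i) * b * (a ^ j * b ^ (-i))⁻¹ = a ^ j * b * (a ^ j)⁻¹ by group,
        conj_zpow_central hec heb]
    have hgab : R ≤ Subgroup.centralizer {(a ^ j * b ^ (-i))⁻¹ * g} := by
      rw [← hgen a ha b hb hab, Subgroup.closure_le]
      have key : ∀ (w y f : G), y * w * y⁻¹ = f * w → f = ⁅g, w⁆ → w * (y⁻¹ * g) = y⁻¹ * g * w := by
        intro w y f h hf
        have h2 : y * w * y⁻¹ = g * w * g⁻¹ := by rw [h, hf, commutatorElement_def]; group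
        calc w * (y⁻¹ * g) = y⁻¹ * (y * w * y⁻¹) * g := by group
          _ = y⁻¹ * g * w := by rw [h2]; group
      rintro _ (rfl | rfl) <;> refine Subgroup.mem_centralizer_singleton_iff.2 ?_
      · exact key _ _ _ hya hi
      · exact key _ _ _ hyb hj
    exact Subgroup.mem_centralizer_iff.2 fun r hr =>
      Subgroup.mem_centralizer_singleton_iff.1 (hgab hr)

namespace Data

variable {R : Subgroup G} {z : G} {K : Subgroup G}

omit [Finite G] hp in
theorem zpowers_commute (h : Data p R z K) {c : G} (hc : c ∈ Subgroup.zpowers z) (g : G) :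
    Commute c g := by
  obtain ⟨i, rfl⟩ := Subgroup.mem_zpowers_iff.1 hc
  exact (h.z_central g).zpow_left i

omit [Finite G] hp in
theorem zpowers_le (h : Data p R z K) : Subgroup.zpowers z ≤ R := Subgroup.zpowers_le.2 h.z_mem

omit [Finite G] hp in
theorem z_mem_centralizer (h : Data p R z K) : z ∈ Subgroup.centralizer (R : Set G) :=
  Subgroup.mem_centralizer_iff.2 fun r _ => (h.z_central r).eq.symm

omit [Finite G] hp in
theorem R_le (h : Data p R z K) : R ≤ K := fun r hr => (h.mem_K r).2 fun x hx => h.comm r hr x hx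

omit [Finite G] hp in
theorem centralizer_le (h : Data p R z K) : Subgroup.centralizer (R : Set G) ≤ K := fun c hc =>
  (h.mem_K c).2 fun x hx => by
    rw [commutatorElement_eq_one_iff_commute.2 (Subgroup.mem_centralizer_iff.1 hc x hx).symm]
    exact one_mem _

omit [Finite G] hp in
theorem sup_eq (h : Data p R z K) : R ⊔ Subgroup.centralizer (R : Set G) = K :=
  le_antisymm (sup_le h.R_le h.centralizer_le) fun g hg => by
    obtain ⟨y, hy, hyg⟩ := h.split g hg
    simpa using mul_mem (Subgroup.mem_sup_left (T := Subgroup.centralizer (R : Set G)) hy)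
      (Subgroup.mem_sup_right (S := R) hyg)

theorem card_K (h : Data p R z K) [R.Normal] (hRc : Nat.card R = p ^ 3) :
    Nat.card K = p ^ 2 * Nat.card (Subgroup.centralizer (R : Set G)) := by
  set C := Subgroup.centralizer (R : Set G) with hC
  have hinf : R ⊓ C = Subgroup.zpowers z := le_antisymm
    (fun x hx => h.center x hx.1 fun y hy => (Subgroup.mem_centralizer_iff.1 hx.2 y hy).symm)
    (Subgroup.zpowers_le.2 ⟨h.z_mem, h.z_mem_centralizer⟩)
  have h1 : R.relIndex K = R.relIndex C := by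
    rw [← h.sup_eq, sup_comm, Subgroup.relIndex_sup_right]
  have h2 : Nat.card R * R.relIndex K = Nat.card K := by
    have := Subgroup.relIndex_mul_relIndex ⊥ R K bot_le h.R_le
    rwa [Subgroup.relIndex_bot_left, Subgroup.relIndex_bot_left] at this
  have h3 : p * R.relIndex C = Nat.card C := by
    have := Subgroup.relIndex_mul_relIndex ⊥ (R ⊓ C) C bot_le inf_le_right
    rwa [Subgroup.relIndex_bot_left, Subgroup.relIndex_bot_left, Subgroup.inf_relIndex_right, hinf,
      Nat.card_zpowers, h.z_order] at this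
  rw [← h2, h1, hRc, ← h3]
  ring

omit hp in
/-- Normalizing an element acting nontrivially on `R / ⟨z⟩`. -/
theorem step (h : Data p R z K) [R.Normal] (hp' : p.Prime) (hG : IsPGroup p G)
    (hrk : Cfsg.PRankLE p 2 G) (hexp : ∀ r ∈ R, r ^ p = 1) {g : G} (hg : g ∉ K) :
    ∃ x ∈ R, ∃ y ∈ R, ∃ g', ¬ Commute x y ∧ g' * g⁻¹ ∈ R ∧ Commute g' y ∧ x⁻¹ * g' * x = g' * y ∧
      g' ∉ K ∧ g' ^ p ∈ Subgroup.centralizer (R : Set G) := by
  haveI := Fact.mk hp'
  obtain ⟨x, hx, hgx⟩ : ∃ x ∈ R, ⁅g, x⁆ ∉ Subgroup.zpowers z := by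
    by_contra hall
    push Not at hall
    exact hg ((h.mem_K g).2 hall)
  set y := g⁻¹ * x⁻¹ * g * x with hy
  have hyR : y ∈ R := by
    refine R.mul_mem ?_ hx
    simpa using ‹R.Normal›.conj_mem _ (R.inv_mem hx) g⁻¹
  have hy2 : ⁅g, y⁆ ∈ Subgroup.zpowers z := by
    have : y = ⁅g⁻¹, x⁻¹⁆ := by rw [hy, commutatorElement_def]; group
    rw [this]
    exact h.two_step g g⁻¹ x⁻¹ (R.inv_mem hx)
  have hyN : y ∉ Subgroup.zpowers z := by
    intro hyN
    refine hgx ?_
    have h1 : ⁅g, x⁆ = g * x * y * x⁻¹ * g⁻¹ * 1 := by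
      rw [hy, commutatorElement_def]; group
    rw [h1, mul_one, show g * x * y * x⁻¹ * g⁻¹ = (g * x) * y * (g * x)⁻¹ by group,
      ← (h.zpowers_commute hyN (g * x)).eq, mul_inv_cancel_right]
    exact hyN
  have hxy : ¬ Commute x y := by
    intro hxy
    obtain ⟨U, -, -, hUab, hUexp, hUc, hUm⟩ :=
      pair_data hG hrk (h.z_central y) h.z_order (hexp y hyR) hyN
    have hxU := mem_of_centralizes hrk hUab hUexp hUc (hexp x hx) fun u hu => by
      obtain ⟨i, j, rfl⟩ := hUm u hu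
      exact ((h.z_central x).symm.zpow_right i).mul_right (hxy.zpow_right j)
    obtain ⟨i, j, hxe⟩ := hUm x hxU
    refine hgx ?_
    rw [hxe]
    have hf := h.zpowers_commute hy2
    have h1 : g * y * g⁻¹ = ⁅g, y⁆ * y := by rw [commutatorElement_def]; group
    have h2 : g * (z ^ i * y ^ j) * g⁻¹ = z ^ i * (⁅g, y⁆ ^ j * y ^ j) := by
      rw [← (hf y).mul_zpow, ← h1, conj_zpow, ← mul_assoc g,
        (((h.z_central g).zpow_left i).symm).eq]
      group
    rw [commutatorElement_def g, h2,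
      show z ^ i * (⁅g, y⁆ ^ j * y ^ j) * (z ^ i * y ^ j)⁻¹ = z ^ i * ⁅g, y⁆ ^ j * (z ^ i)⁻¹ by group,
      (((h.z_central (⁅g, y⁆ ^ j)).zpow_left i)).eq, mul_inv_cancel_right]
    exact zpow_mem hy2 j
  set f := ⁅x, y⁆ with hf
  have hfN : f ∈ Subgroup.zpowers z := h.comm x hx y hyR
  have hfgen : Subgroup.zpowers f = Subgroup.zpowers z := by
    refine Subgroup.eq_of_le_of_card_ge (Subgroup.zpowers_le.2 hfN) ?_
    rw [Nat.card_zpowers, Nat.card_zpowers, h.z_order,
      orderOf_eq_prime (hexp f (h.zpowers_le hfN)) fun e => hxy (commutatorElement_eq_one_iff_commute.1 e)]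
  obtain ⟨j, hj⟩ := Subgroup.mem_zpowers_iff.1 (hfgen.ge hy2)
  set g' := x ^ (-j) * g with hg'
  have hxf : x * y * x⁻¹ = f * y := by rw [hf, commutatorElement_def]; group
  have hgy : g * y * g⁻¹ = f ^ j * y := by rw [hj, commutatorElement_def]; group
  have hg'y : Commute g' y := by
    refine mul_inv_eq_iff_eq_mul.1 ?_
    rw [hg', show x ^ (-j) * g * y * (x ^ (-j) * g)⁻¹ = x ^ (-j) * (g * y * g⁻¹) * (x ^ (-j))⁻¹ by group,
      hgy, ← mul_assoc, (((h.zpowers_commute hfN (x ^ (-j))).zpow_left j).symm).eq,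
      show f ^ j * x ^ (-j) * y * (x ^ (-j))⁻¹ = f ^ j * (x ^ (-j) * y * (x ^ (-j))⁻¹) by group,
      conj_zpow_central (h.zpowers_commute hfN) hxf, ← mul_assoc, ← zpow_add, add_neg_cancel,
      zpow_zero, one_mul]
  have hg'x : x⁻¹ * g' * x = g' * y := by rw [hg', hy]; group
  refine ⟨x, hx, y, hyR, g', hxy, ?_, hg'y, hg'x, fun hK => hg ?_, ?_⟩
  · rw [hg']; simpa using R.zpow_mem hx (-j)
  · have h1 := mul_mem (h.R_le (R.zpow_mem hx j)) hK
    rwa [hg', ← mul_assoc, ← zpow_add, add_neg_cancel, zpow_zero, one_mul] at h1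
  · have hle : R ≤ Subgroup.centralizer {g' ^ p} := by
      rw [← h.gen x hx y hyR hxy, Subgroup.closure_le]
      intro a ha
      simp only [Set.mem_insert_iff, Set.mem_singleton_iff] at ha
      rcases ha with e | e <;> rw [SetLike.mem_coe, Subgroup.mem_centralizer_singleton_iff, e]
      · have h1 : x⁻¹ * g' ^ p * x = g' ^ p := by
          rw [show x⁻¹ * g' ^ p * x = (x⁻¹ * g' * x) ^ p by
            conv_rhs => rw [show x⁻¹ * g' * x = x⁻¹ * g' * x⁻¹⁻¹ by rw [inv_inv], conj_pow, inv_inv],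
            hg'x, hg'y.mul_pow, hexp y hyR, mul_one]
        conv_lhs => rw [← h1]
        group
      · exact (hg'y.pow_left p).eq.symm
    exact Subgroup.mem_centralizer_iff.2 fun r hr => Subgroup.mem_centralizer_singleton_iff.1 (hle hr)

end Data

omit [Finite G] hp in
theorem conj_pow_three {x a y f : G} (hf : ∀ g, Commute f g) (hay : Commute a y)
    (ha : x⁻¹ * a * x = a * y) (hy : x⁻¹ * y * x = y * f) :
    ∀ m : ℕ, (x ^ m)⁻¹ * y * x ^ m = y * f ^ m ∧ (x ^ m)⁻¹ * a * x ^ m = a * y ^ m * f ^ m.choose 2 := by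
  intro m
  induction m with
  | zero => simp
  | succ m ih =>
    have hfx : ∀ k : ℕ, x⁻¹ * f ^ k * x = f ^ k := fun k => by
      rw [(((hf x⁻¹).pow_left k).symm).eq, inv_mul_cancel_right]
    constructor
    · calc (x ^ (m + 1))⁻¹ * y * x ^ (m + 1) = x⁻¹ * ((x ^ m)⁻¹ * y * x ^ m) * x := by
            rw [pow_succ]; group
        _ = (x⁻¹ * y * x) * (x⁻¹ * f ^ m * x) := by rw [ih.1]; group
        _ = y * f ^ (m + 1) := by rw [hy, hfx, mul_assoc, ← pow_succ']
    · calc (x ^ (m + 1))⁻¹ * a * x ^ (m + 1) = x⁻¹ * ((x ^ m)⁻¹ * a * x ^ m) * x := by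
            rw [pow_succ]; group
        _ = (x⁻¹ * a * x) * (x⁻¹ * y * x⁻¹⁻¹) ^ m * (x⁻¹ * f ^ m.choose 2 * x) := by
            rw [ih.2, conj_pow, inv_inv]; group
        _ = a * y * (y ^ m * f ^ m) * f ^ m.choose 2 := by
            rw [ha, inv_inv, hy, hfx, ((hf y).symm).mul_pow]
        _ = a * y ^ (m + 1) * f ^ (m + 1).choose 2 := by
            rw [show (m + 1).choose 2 = m + m.choose 2 by
              rw [Nat.choose_succ_succ' m 1, Nat.choose_one_right], pow_succ' y m, pow_add]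
            simp only [mul_assoc]

/-- The two families. -/
theorem families (hp2 : p ≠ 2) {n : ℕ} (hn : Nat.card G = p ^ n) (hrk : Cfsg.PRankLE p 2 G)
    (R : Subgroup G) [R.Normal] (hRc : Nat.card R = p ^ 3) (hexp : ∀ r ∈ R, r ^ p = 1) :
    (3 ≤ n ∧ ∃ x y z : G, Subgroup.closure ({x, y, z} : Set G) = ⊤ ∧ x ^ p = 1 ∧ y ^ p = 1 ∧
        z ^ p ^ (n - 2) = 1 ∧ x * z = z * x ∧ y * z = z * y ∧ x⁻¹ * y * x = y * z ^ p ^ (n - 3)) ∨
    (4 ≤ n ∧ ∃ (s : ℕ) (x y z : G), (s = 1 ∨ ¬ IsSquare (s : ZMod p)) ∧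
        Subgroup.closure ({x, y, z} : Set G) = ⊤ ∧ x ^ p = 1 ∧ y ^ p = 1 ∧ z ^ p ^ (n - 2) = 1 ∧
        y * z = z * y ∧ x⁻¹ * y * x = y * z ^ (s * p ^ (n - 3)) ∧ x⁻¹ * z * x = y * z) := by
  classical
  have hpp := hp.out
  have hG : IsPGroup p G := IsPGroup.of_card hn
  obtain ⟨z, K, h⟩ := exists_data hG hp2 hrk R hRc hexp
  set C := Subgroup.centralizer (R : Set G) with hC
  haveI := h.cyclic
  obtain ⟨k, hk⟩ := IsPGroup.iff_card.1 (hG.to_subgroup C)
  have hk1 : 1 ≤ k := by
    by_contra hk0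
    have h1 := Subgroup.orderOf_dvd_natCard C h.z_mem_centralizer
    rw [hk, show k = 0 by omega, pow_zero, h.z_order] at h1
    exact hpp.not_dvd_one h1
  obtain ⟨⟨w, hwC⟩, hw⟩ := IsCyclic.exists_ofOrder_eq_natCard (α := C)
  rw [Subgroup.orderOf_mk, hk] at hw
  have hwgen : Subgroup.zpowers w = C := Subgroup.eq_of_le_of_card_ge (Subgroup.zpowers_le.2 hwC)
    (by rw [Nat.card_zpowers, hw, hk])
  have hcardK := h.card_K hRc
  rw [← hC, hk] at hcardK
  have hgenall : ∀ (x y : G), x ∈ R → y ∈ R → ¬ Commute x y → ∀ (c : G),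
      w ∈ Subgroup.zpowers c → K ≤ Subgroup.closure ({x, y, c} : Set G) := by
    intro x y hx hy hxy c hwc
    refine h.sup_eq.ge.trans (sup_le ?_ (hwgen.ge.trans (Subgroup.zpowers_le.2 ?_)))
    · refine (h.gen x hx y hy hxy).ge.trans (Subgroup.closure_mono ?_)
      rintro _ (rfl | rfl) <;> simp
    · exact Subgroup.zpowers_le.2 (Subgroup.subset_closure (by simp)) hwc
  by_cases hK : K = ⊤
  · -- the central product
    left
    rw [hK, Subgroup.card_top, hn, ← pow_add] at hcardK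
    have hn2 := Nat.pow_right_injective hpp.two_le hcardK
    obtain ⟨a, ha, b, hb, hab⟩ : ∃ a ∈ R, ∃ b ∈ R, ¬ Commute a b := by
      by_contra hall
      push Not at hall
      have h1 := hrk R ⟨⟨fun a b => Subtype.ext (hall a a.2 b b.2).eq⟩⟩ hexp
      rw [hRc] at h1
      exact absurd ((Nat.pow_le_pow_iff_right hpp.one_lt).1 h1) (by norm_num)
    set f := b⁻¹ * (a⁻¹ * b * a) with hfdef
    have hfN : f ∈ Subgroup.zpowers z := by
      have h1 := h.comm b⁻¹ (R.inv_mem hb) a⁻¹ (R.inv_mem ha)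
      rwa [commutatorElement_def, inv_inv, inv_inv, show b⁻¹ * a⁻¹ * b * a = f by rw [hfdef]; group] at h1
    have hf1 : f ≠ 1 := fun e => hab (by
      show a * b = b * a
      calc a * b = a * (b * f) := by rw [e, mul_one]
        _ = b * a := by rw [hfdef]; group)
    set v := w ^ p ^ (k - 1) with hv
    have hvo : orderOf v = p := by
      rw [hv, orderOf_pow' _ (pow_ne_zero _ hpp.ne_zero), hw,
        Nat.gcd_eq_right (pow_dvd_pow p (by omega : k - 1 ≤ k)), Nat.pow_div (by omega) hpp.pos,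
        show k - (k - 1) = 1 by omega, pow_one]
    have hvgen : Subgroup.zpowers v = Subgroup.zpowers z := by
      refine Subgroup.eq_of_le_of_card_ge (Subgroup.zpowers_le.2
        (h.line v (C.pow_mem hwC _) (hvo ▸ pow_orderOf_eq_one v))) ?_
      rw [Nat.card_zpowers, Nat.card_zpowers, hvo, h.z_order]
    obtain ⟨i, hi : v ^ i = f⟩ := mem_powers_iff_mem_zpowers.2 (hvgen.ge hfN)
    have hpi : ¬ p ∣ i := fun hd => hf1 (by rw [← hi, ← orderOf_dvd_iff_pow_eq_one, hvo]; exact hd)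
    have hwi : w ∈ Subgroup.zpowers (w ^ i) := by
      have hcop : (orderOf w).Coprime i := by
        rw [hw]; exact (Nat.Coprime.pow_left k (hpp.coprime_iff_not_dvd.2 hpi))
      obtain ⟨m, hm⟩ := exists_pow_eq_self_of_coprime hcop.symm
      exact Subgroup.mem_zpowers_iff.2 ⟨m, by rw [zpow_natCast, hm]⟩
    refine ⟨by omega, a, b, w ^ i, eq_top_iff.2 (hK ▸ hgenall a b ha hb hab (w ^ i) hwi), hexp a ha,
      hexp b hb, ?_, ?_, ?_, ?_⟩
    · rw [show n - 2 = k by omega, ← pow_mul, mul_comm, pow_mul, ← hw, pow_orderOf_eq_one, one_pow]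
    · exact ((show Commute a w from Subgroup.mem_centralizer_iff.1 hwC a ha).pow_right i).eq
    · exact ((show Commute b w from Subgroup.mem_centralizer_iff.1 hwC b hb).pow_right i).eq
    · rw [show n - 3 = k - 1 by omega, ← pow_mul, mul_comm, pow_mul, ← hv, hi, hfdef]
      group
  · -- the twist
    right
    have hKi : K.index = p := ((Nat.dvd_prime hpp).1 h.K_index).resolve_left fun e =>
      hK (Subgroup.index_eq_one.1 e)
    have hKn : K.Normal := by
      refine Subgroup.normal_of_index_eq_minFac_card ?_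
      have hn0 : n ≠ 0 := by
        rintro rfl
        exact hpp.not_dvd_one (hKi ▸ (pow_zero p ▸ hn) ▸ K.index_dvd_card)
      rw [hKi, hn, Nat.pow_minFac hn0, hpp.minFac_eq]
    have hKpow : ∀ {u : G}, u ∉ K → ∀ {i : ℤ}, u ^ i ∈ K → (p : ℤ) ∣ i := by
      intro u hu i hi
      haveI := hKn
      have hup : (QuotientGroup.mk' K u) ^ p = 1 := by
        rw [← hKi, Subgroup.index_eq_card]; exact pow_card_eq_one'
      have hord : orderOf (QuotientGroup.mk' K u) = p :=
        orderOf_eq_prime hup fun e => hu ((QuotientGroup.eq_one_iff u).1 e)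
      rw [← hord, orderOf_dvd_iff_zpow_eq_one, ← map_zpow]
      exact (QuotientGroup.eq_one_iff _).2 hi
    have hnn : n = k + 3 := by
      have h1 := K.card_mul_index
      rw [hcardK, hKi, hn, ← pow_add, ← pow_succ] at h1
      have := Nat.pow_right_injective hpp.two_le h1
      omega
    obtain ⟨g, hg⟩ : ∃ g, g ∉ K := by
      by_contra hall
      push Not at hall
      exact hK (eq_top_iff.2 fun x _ => hall x)
    obtain ⟨x, hx, y, hy, g', hxy, -, hgy, hgx, hg'K, hg'p⟩ := h.step hpp hG hrk hexp hg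
    rw [← hC] at hg'p
    haveI hCn : C.Normal := by rw [hC]; infer_instance
    set A := C ⊔ Subgroup.zpowers g' with hA
    have hAy : A ≤ Subgroup.centralizer {y} := sup_le
      (fun c hc => Subgroup.mem_centralizer_singleton_iff.2 (Subgroup.mem_centralizer_iff.1 hc y hy).symm)
      (Subgroup.zpowers_le.2 (Subgroup.mem_centralizer_singleton_iff.2 hgy.eq))
    have hAform : ∀ a ∈ A, ∃ c ∈ C, ∃ i : ℤ, a = c * g' ^ i := by
      intro a ha
      obtain ⟨c, hc, u, hu, rfl⟩ := Subgroup.mem_sup_of_normal_left.1 ha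
      obtain ⟨i, rfl⟩ := Subgroup.mem_zpowers_iff.1 hu
      exact ⟨c, hc, i, rfl⟩
    have hCg : ∀ {i : ℤ}, (p : ℤ) ∣ i → g' ^ i ∈ C := by
      rintro _ ⟨m, rfl⟩
      rw [zpow_mul, zpow_natCast]
      exact C.zpow_mem hg'p m
    have hyA : y ∉ A := by
      intro hyA
      obtain ⟨c, hc, i, hci⟩ := hAform y hyA
      have hgi : g' ^ i ∈ K := by
        have := mul_mem (K.inv_mem (h.centralizer_le hc)) (h.R_le hy)
        rwa [hci, inv_mul_cancel_left] at this
      have hyC : y ∈ C := hci ▸ C.mul_mem hc (hCg (hKpow hg'K hgi))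
      exact hxy (Subgroup.mem_centralizer_iff.1 hyC x hx)
    have hyN : y ∉ Subgroup.zpowers z := fun hyN => hxy (h.zpowers_commute hyN x).symm
    have hAline : ∀ a ∈ A, a ^ p = 1 → a ∈ Subgroup.zpowers z := by
      intro a ha hap
      obtain ⟨U, -, -, hUab, hUexp, hUc, hUm⟩ :=
        pair_data hG hrk (h.z_central y) h.z_order (hexp y hy) hyN
      have hay : Commute a y := (Subgroup.mem_centralizer_singleton_iff.1 (hAy ha))
      have haU := mem_of_centralizes hrk hUab hUexp hUc hap fun u hu => by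
        obtain ⟨i, j, rfl⟩ := hUm u hu
        exact ((h.z_central a).symm.zpow_right i).mul_right (hay.zpow_right j)
      obtain ⟨i, j, rfl⟩ := hUm a haU
      have hyj : y ^ j ∈ A := by
        have := A.mul_mem (A.zpow_mem (Subgroup.mem_sup_left h.z_mem_centralizer) (-i)) ha
        rwa [← mul_assoc, ← zpow_add, neg_add_cancel, zpow_zero, one_mul] at this
      by_cases hpj : (p : ℤ) ∣ j
      · obtain ⟨m, rfl⟩ := hpj
        rw [zpow_mul y, zpow_natCast, hexp y hy, one_zpow, mul_one]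
        exact zpow_mem (Subgroup.mem_zpowers z) i
      · exfalso
        obtain ⟨s, t, hst⟩ :=
          (((Nat.prime_iff_prime_int.1 hpp).irreducible.coprime_iff_not_dvd).2 hpj : IsCoprime (p : ℤ) j)
        refine hyA ?_
        have e : y = (y ^ j) ^ t := by
          rw [← zpow_mul, show j * t = 1 - (p : ℤ) * s by linear_combination hst, zpow_sub, zpow_one,
            zpow_mul, zpow_natCast, hexp y hy, one_zpow, inv_one, mul_one]
        rw [e]
        exact A.zpow_mem hyj t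
    haveI := isCyclic_of_line hG hp2 (C := A) (Z := Subgroup.zpowers z)
      (by rw [Nat.card_zpowers, h.z_order]) hAline
    obtain ⟨⟨a, haA⟩, hao⟩ := IsCyclic.exists_ofOrder_eq_natCard (α := A)
    rw [Subgroup.orderOf_mk] at hao
    have hagen : Subgroup.zpowers a = A := Subgroup.eq_of_le_of_card_ge (Subgroup.zpowers_le.2 haA)
      (by rw [Nat.card_zpowers, hao])
    obtain ⟨c, hc, i, hai⟩ := hAform a haA
    have hpi : ¬ (p : ℤ) ∣ i := fun hd => hg'K (h.centralizer_le (show g' ∈ C from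
      (hagen.ge.trans (Subgroup.zpowers_le.2 (hai ▸ C.mul_mem hc (hCg hd))))
        (Subgroup.mem_sup_right (Subgroup.mem_zpowers g'))))
    have haK : a ∉ K := fun haK => hpi (hKpow hg'K (by
      have := mul_mem (K.inv_mem (h.centralizer_le hc)) haK
      rwa [hai, inv_mul_cancel_left] at this))
    have hap : a ^ p ∈ C := by
      letI := IsCyclic.commGroup (α := A)
      have hcomm : Commute c (g' ^ i) := congrArg Subtype.val
        (mul_comm (⟨c, Subgroup.mem_sup_left hc⟩ : A)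
          ⟨g' ^ i, A.zpow_mem (Subgroup.mem_sup_right (Subgroup.mem_zpowers g')) i⟩)
      rw [hai, hcomm.mul_pow]
      refine C.mul_mem (C.pow_mem hc p) ?_
      rw [← zpow_natCast (g' ^ i), ← zpow_mul]
      exact hCg (dvd_mul_left _ _)
    have hoa : orderOf a = p ^ (k + 1) := by
      obtain ⟨l, hl⟩ := IsPGroup.iff_orderOf.1 hG a
      have h1 : orderOf a ∣ p ^ (k + 1) := orderOf_dvd_of_pow_eq_one (by
        rw [pow_succ', pow_mul, ← hk]
        exact congrArg Subtype.val (pow_card_eq_one' (x := (⟨a ^ p, hap⟩ : C))))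
      rw [hl] at h1 ⊢
      have h2 := (Nat.pow_dvd_pow_iff_le_right hpp.one_lt).1 h1
      congr 1
      refine le_antisymm h2 ?_
      by_contra hlk
      have hCA : C = A := Subgroup.eq_of_le_of_card_ge le_sup_left (by
        rw [hk, ← hagen, Nat.card_zpowers, hl]
        exact Nat.pow_le_pow_right hpp.pos (by omega))
      exact hg'K (h.centralizer_le (hCA.ge (Subgroup.mem_sup_right (Subgroup.mem_zpowers g'))))
    set v := a ^ p ^ k with hv
    have hvo : orderOf v = p := by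
      rw [hv, orderOf_pow' _ (pow_ne_zero _ hpp.ne_zero), hoa,
        Nat.gcd_eq_right (pow_dvd_pow p (by omega : k ≤ k + 1)), Nat.pow_div (by omega) hpp.pos,
        show k + 1 - k = 1 by omega, pow_one]
    have hvgen : Subgroup.zpowers v = Subgroup.zpowers z := by
      refine Subgroup.eq_of_le_of_card_ge (Subgroup.zpowers_le.2
        (hAline v (A.pow_mem haA _) (hvo ▸ pow_orderOf_eq_one v))) ?_
      rw [Nat.card_zpowers, Nat.card_zpowers, hvo, h.z_order]
    -- the new `y`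
    set y' := y ^ i with hy'
    have hy'R : y' ∈ R := R.zpow_mem hy i
    have hay : Commute a y' := (show Commute a y from
      Subgroup.mem_centralizer_singleton_iff.1 (hAy haA)).zpow_right i
    have hxa : x⁻¹ * a * x = a * y' := by
      have h1 : x⁻¹ * c * x = c := by
        rw [mul_assoc, ← Subgroup.mem_centralizer_iff.1 hc x hx, inv_mul_cancel_left]
      have h2 : x⁻¹ * g' ^ i * x = g' ^ i * y ^ i := by
        rw [← hgy.mul_zpow, ← hgx]
        have := conj_zpow (a := x⁻¹) (b := g') (i := i)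
        rw [inv_inv] at this
        exact this.symm
      rw [hai, show x⁻¹ * (c * g' ^ i) * x = (x⁻¹ * c * x) * (x⁻¹ * g' ^ i * x) by group, h1, h2,
        hy', mul_assoc]
    set f := y'⁻¹ * (x⁻¹ * y' * x) with hfdef
    have hfN : f ∈ Subgroup.zpowers z := by
      have h1 := h.comm y'⁻¹ (R.inv_mem hy'R) x⁻¹ (R.inv_mem hx)
      rwa [commutatorElement_def, inv_inv, inv_inv,
        show y'⁻¹ * x⁻¹ * y' * x = f by rw [hfdef]; group] at h1
    have hxy' : x⁻¹ * y' * x = y' * f := by rw [hfdef, mul_inv_cancel_left]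
    have hxy'' : ¬ Commute x y' := by
      intro hc'
      obtain ⟨s, t, hst⟩ :=
        (((Nat.prime_iff_prime_int.1 hpp).irreducible.coprime_iff_not_dvd).2 hpi : IsCoprime (p : ℤ) i)
      refine hxy ?_
      have e : y = y' ^ t := by
        rw [hy', ← zpow_mul, show i * t = 1 - (p : ℤ) * s by linear_combination hst, zpow_sub, zpow_one,
          zpow_mul, zpow_natCast, hexp y hy, one_zpow, inv_one, mul_one]
      rw [e]
      exact hc'.zpow_right t
    obtain ⟨s, hs : v ^ s = f⟩ := mem_powers_iff_mem_zpowers.2 (hvgen.ge hfN)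
    have hps : (s : ZMod p) ≠ 0 := by
      intro hs0
      rw [ZMod.natCast_eq_zero_iff] at hs0
      refine hxy'' ?_
      have hf1 : f = 1 := by rw [← hs, ← orderOf_dvd_iff_pow_eq_one, hvo]; exact hs0
      show x * y' = y' * x
      calc x * y' = x * (x⁻¹ * y' * x) := by rw [hxy', hf1, mul_one]
        _ = y' * x := by group
    have hClea : w ∈ Subgroup.zpowers a := hagen.ge (Subgroup.mem_sup_left hwC)
    have hgen2 : ∀ x₁ ∈ R, ∀ y₁ ∈ R, ¬ Commute x₁ y₁ → Subgroup.closure ({x₁, y₁, a} : Set G) = ⊤ := by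
      intro x₁ hx₁ y₁ hy₁ hne
      set H := Subgroup.closure ({x₁, y₁, a} : Set G) with hH
      have hle : K ≤ H := hgenall x₁ y₁ hx₁ hy₁ hne a hClea
      have h1 : H.index ∣ p := hKi ▸ Subgroup.index_dvd_of_le hle
      rcases (Nat.dvd_prime hpp).1 h1 with e | e
      · exact Subgroup.index_eq_one.1 e
      · exfalso
        have heq : K = H := Subgroup.eq_of_le_of_card_ge hle (by
          have h2 := K.card_mul_index
          have h3 := H.card_mul_index
          rw [hKi] at h2; rw [e] at h3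
          exact (Nat.eq_of_mul_eq_mul_right hpp.pos (h3.trans h2.symm)).le)
        exact haK (heq ▸ Subgroup.subset_closure (by simp))
    have hapow : a ^ p ^ (n - 2) = 1 := by
      rw [show n - 2 = k + 1 by omega, ← hoa, pow_orderOf_eq_one]
    have hn3 : n - 3 = k := by omega
    refine ⟨by omega, ?_⟩
    by_cases hsq : IsSquare (s : ZMod p)
    · obtain ⟨t, ht⟩ := hsq
      set m := (t⁻¹).val with hm
      have ht0 : t ≠ 0 := by rintro rfl; exact hps (by rw [ht, mul_zero])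
      have hfc := h.zpowers_commute hfN
      obtain ⟨hm1, hm2⟩ := conj_pow_three hfc hay hxa hxy' m
      set y'' := y' ^ m * f ^ m.choose 2 with hy''
      have hy''R : y'' ∈ R := R.mul_mem (R.pow_mem hy'R m) (R.pow_mem (h.zpowers_le hfN) _)
      have hsm : ((s * (m * m) : ℕ) : ZMod p) = 1 := by
        push_cast
        rw [hm, ZMod.natCast_val, ZMod.cast_id, ht]
        field_simp
      have hfm : f ^ (m * m) = v := by
        rw [← hs, ← pow_mul]
        conv_rhs => rw [← pow_one v]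
        rw [pow_eq_pow_iff_modEq, hvo, ← ZMod.natCast_eq_natCast_iff, hsm, Nat.cast_one]
      have hrel : (x ^ m)⁻¹ * y'' * x ^ m = y'' * v := by
        rw [hy'', show (x ^ m)⁻¹ * (y' ^ m * f ^ m.choose 2) * x ^ m =
          ((x ^ m)⁻¹ * y' ^ m * x ^ m) * ((x ^ m)⁻¹ * f ^ m.choose 2 * x ^ m) by group,
          (((hfc (x ^ m)⁻¹).pow_left (m.choose 2)).symm).eq, inv_mul_cancel_right,
          show (x ^ m)⁻¹ * y' ^ m * x ^ m = ((x ^ m)⁻¹ * y' * x ^ m) ^ m by
            have := conj_pow (a := (x ^ m)⁻¹) (b := y') (i := m)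
            rw [inv_inv] at this
            exact this.symm,
          hm1, ((hfc y').pow_left m).symm.mul_pow, ← pow_mul, hfm, mul_assoc,
          (h.zpowers_commute (hvgen.le (Subgroup.mem_zpowers v)) (f ^ m.choose 2)).eq, ← mul_assoc]
      have hne : ¬ Commute (x ^ m) y'' := by
        intro hc'
        have hv1 : v = 1 := by
          refine mul_left_cancel (a := y'') ?_
          rw [← hrel, mul_one, mul_assoc, ← hc'.eq, inv_mul_cancel_left]
        rw [hv1, orderOf_one] at hvo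
        exact hpp.one_lt.ne hvo
      refine ⟨1, x ^ m, y'', a, Or.inl rfl, hgen2 _ (R.pow_mem hx m) _ hy''R hne,
        hexp _ (R.pow_mem hx m), hexp _ hy''R, hapow, ?_, ?_, ?_⟩
      · exact (((hay.symm).pow_left m).mul_left ((hfc a).pow_left _)).eq
      · rw [one_mul, hn3, ← hv, hrel]
      · rw [hm2, hy'', mul_assoc a]
        exact (((hay.symm).pow_left m).mul_left ((hfc a).pow_left _)).eq.symm
    · refine ⟨s, x, y', a, Or.inr hsq, hgen2 x hx y' hy'R hxy'', hexp x hx, hexp y' hy'R, hapow,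
        hay.eq.symm, ?_, ?_⟩
      · rw [hn3, mul_comm, pow_mul, ← hv, hs, hxy']
      · rw [hxa]; exact hay.eq

end CfsgLib.RankTwoNormal
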