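import Mathlib
import Cfsg.Agent.Lib.PGroup.RankTwoNormal
import Cfsg.Agent.Lib.PGroup.Blackburn
import Cfsg.Agent.Lib.PGroup.MaximalClass

/-!
Blackburn: a `3`-group of rank at most two is metacyclic, of maximal class, or has a normal
subgroup of order `27` and exponent `3` with a large centralizer.
-/

set_option autoImplicit false
set_option linter.style.haveILetI false

open scoped commutatorElement

namespace CfsgLib.RankTwoThree

universe u

variable {G : Type u} [Group G] [Finite G] {p : ℕ} [hp : Fact p.Prime]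

/-- `R` has order `p ^ 3`, exponent `p` and its centralizer has an element of order `p ^ 2`. -/
def Big (p : ℕ) (G : Type*) [Group G] : Prop :=
  ∃ R : Subgroup G, Nat.card R = p ^ 3 ∧ (∀ r ∈ R, r ^ p = 1) ∧
    ∃ c ∈ Subgroup.centralizer (R : Set G), orderOf c = p ^ 2

omit [Finite G] hp in
theorem prankLE_subgroup (hrk : Cfsg.PRankLE p 2 G) (H : Subgroup G) : Cfsg.PRankLE p 2 H := by
  intro A hA hAe
  haveI := hA
  have h1 := hrk (A.map H.subtype) (Subgroup.map_isMulCommutative A _) (by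
    rintro _ ⟨a, ha, rfl⟩; rw [← map_pow, hAe a ha, map_one])
  rwa [Subgroup.card_map_of_injective H.subtype_injective] at h1

/-- With a large centralizer, `R` normal is the set of elements killed by `p`. -/
theorem mem_of_pow_eq_one (hG : IsPGroup p G) (hp2 : p ≠ 2) (hrk : Cfsg.PRankLE p 2 G)
    (R : Subgroup G) [R.Normal] (hRc : Nat.card R = p ^ 3) (hexp : ∀ r ∈ R, r ^ p = 1) {c : G}
    (hc : c ∈ Subgroup.centralizer (R : Set G)) (hco : orderOf c = p ^ 2) {x : G} (hx : x ^ p = 1) :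
    x ∈ R := by
  obtain ⟨z, K, h⟩ := RankTwoNormal.exists_data hG hp2 hrk R hRc hexp
  have hpp := hp.out
  set C := Subgroup.centralizer (R : Set G) with hC
  haveI := h.cyclic
  haveI : C.Normal := by rw [hC]; infer_instance
  by_cases hxK : x ∈ K
  · obtain ⟨y, hy, hw⟩ := h.split x hxK
    have hwp : (y⁻¹ * x) ^ p = 1 := by
      have h1 : x = y * (y⁻¹ * x) := (mul_inv_cancel_left y x).symm
      rw [h1, (show Commute y (y⁻¹ * x) from Subgroup.mem_centralizer_iff.1 hw y hy).mul_pow,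
        hexp y hy, one_mul] at hx
      exact hx
    have := R.mul_mem hy (h.zpowers_le (h.line _ hw hwp))
    rwa [mul_inv_cancel_left] at this
  exfalso
  obtain ⟨a, ha, y, hy, g', hay, hgx, hgy, -, hg'K, hg'C⟩ := h.step hpp hG hrk hexp hxK
  rw [← hC] at hg'C
  have hg'R : g' ^ p ∈ R := by
    rw [← QuotientGroup.eq_one_iff, ← QuotientGroup.mk'_apply R, map_pow,
      show QuotientGroup.mk' R g' = QuotientGroup.mk' R x by
        rw [← mul_inv_eq_one, ← map_inv, ← map_mul]; exact (QuotientGroup.eq_one_iff _).2 hgx,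
      ← map_pow, hx, map_one]
  have hg'z : g' ^ p ∈ Subgroup.zpowers z := h.center _ hg'R fun r hr =>
    (Subgroup.mem_centralizer_iff.1 hg'C r hr).symm
  have hcpo : orderOf (c ^ p) = p := by
    rw [orderOf_pow' _ hpp.ne_zero, hco, Nat.gcd_eq_right (dvd_pow_self p two_ne_zero), sq,
      Nat.mul_div_cancel _ hpp.pos]
  have hcgen : Subgroup.zpowers (c ^ p) = Subgroup.zpowers z := by
    refine Subgroup.eq_of_le_of_card_ge (Subgroup.zpowers_le.2
      (h.line _ (C.pow_mem hc p) (by rw [← pow_mul, ← sq, ← hco, pow_orderOf_eq_one]))) ?_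
    rw [Nat.card_zpowers, Nat.card_zpowers, hcpo, h.z_order]
  obtain ⟨l, hl⟩ := Subgroup.mem_zpowers_iff.1 (hcgen.ge (inv_mem hg'z))
  set u := c ^ l with hu
  have huC : u ∈ C := C.zpow_mem hc l
  have hup : u ^ p = (g' ^ p)⁻¹ := by
    rw [hu, ← zpow_natCast, ← zpow_mul, mul_comm, zpow_mul, zpow_natCast, hl]
  have hupz : u ^ p ∈ Subgroup.zpowers z := hup ▸ inv_mem hg'z
  set ζ := ⁅g', u⁆ with hζ
  have hζC : ζ ∈ C := by
    rw [hζ, commutatorElement_def]
    exact C.mul_mem (‹C.Normal›.conj_mem u huC g') (C.inv_mem huC)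
  have hζp : ζ ^ p = 1 := by
    letI := IsCyclic.commGroup (α := C)
    have hcm : Commute (g' * u * g'⁻¹) u⁻¹ := congrArg Subtype.val
      (mul_comm (⟨_, ‹C.Normal›.conj_mem u huC g'⟩ : C) ⟨u⁻¹, C.inv_mem huC⟩)
    rw [hζ, commutatorElement_def, hcm.mul_pow, conj_pow, inv_pow,
      (h.zpowers_commute hupz g').symm.eq, mul_inv_cancel_right, mul_inv_cancel]
  have hζz : ζ ∈ Subgroup.zpowers z := h.line ζ hζC hζp
  have hprod : (u * g') ^ p = 1 := by
    obtain ⟨r, hr⟩ : p ∣ p.choose 2 :=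
      hpp.dvd_choose_self two_ne_zero (lt_of_le_of_ne hpp.two_le hp2.symm)
    rw [PSolvable.mul_pow_of_comm (h.zpowers_commute hζz u) (h.zpowers_commute hζz g'), hr, pow_mul,
      hζp, one_pow, mul_one, hup, inv_mul_cancel]
  have hyN : y ∉ Subgroup.zpowers z := fun e => hay (h.zpowers_commute e a).symm
  obtain ⟨U, -, -, hUab, hUexp, hUc, hUm⟩ :=
    RankTwoNormal.pair_data hG hrk (h.z_central y) h.z_order (hexp y hy) hyN
  have hin := RankTwoNormal.mem_of_centralizes hrk hUab hUexp hUc hprod fun w hw => by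
    obtain ⟨i, j, rfl⟩ := hUm w hw
    exact ((h.z_central _).symm.zpow_right i).mul_right
      (((show Commute u y from (Subgroup.mem_centralizer_iff.1 huC y hy).symm).mul_left hgy).zpow_right j)
  obtain ⟨i, j, hij⟩ := hUm _ hin
  refine hg'K ?_
  have hR' : u * g' ∈ K := hij ▸ h.R_le (R.mul_mem (R.zpow_mem h.z_mem i) (R.zpow_mem hy j))
  simpa using mul_mem (K.inv_mem (h.centralizer_le huC)) hR'

/-- A subgroup of order `p ^ 3` and exponent `p` with large centralizer is normal. -/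
theorem normal_of_big (hG : IsPGroup p G) (hp2 : p ≠ 2) (hrk : Cfsg.PRankLE p 2 G)
    (R : Subgroup G) (hRc : Nat.card R = p ^ 3) (hexp : ∀ r ∈ R, r ^ p = 1) {c : G}
    (hc : c ∈ Subgroup.centralizer (R : Set G)) (hco : orderOf c = p ^ 2) : R.Normal := by
  set N := Subgroup.normalizer (R : Set G) with hN
  haveI := hG.isNilpotent
  have hRN : R ≤ N := Subgroup.le_normalizer
  have hcN : c ∈ N := Subgroup.mem_normalizer_iff.2 fun r => by
    constructor
    · intro hr
      rwa [← Subgroup.mem_centralizer_iff.1 hc r hr, mul_inv_cancel_right]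
    · intro hr
      have h1 := Subgroup.mem_centralizer_iff.1 hc _ hr
      have h2 : r = c * r * c⁻¹ := by
        calc r = c⁻¹ * (c * r * c⁻¹ * c) := by group
          _ = c * r * c⁻¹ := by rw [h1]; group
      rwa [← h2] at hr
  haveI : (R.subgroupOf N).Normal := Subgroup.normal_in_normalizer
  have hmem : ∀ x ∈ N, x ^ p = 1 → x ∈ R := fun x hxN hxp =>
    mem_of_pow_eq_one (G := N) (hG.to_subgroup N) hp2 (prankLE_subgroup hrk N) (R.subgroupOf N)
      (by rw [Nat.card_congr (Subgroup.subgroupOfEquivOfLe hRN).toEquiv, hRc])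
      (fun r hr => Subtype.ext (hexp r hr)) (c := ⟨c, hcN⟩)
      (Subgroup.mem_centralizer_iff.2 fun r hr =>
        Subtype.ext (Subgroup.mem_centralizer_iff.1 hc r hr))
      (by rw [Subgroup.orderOf_mk, hco]) (x := ⟨x, hxN⟩) (Subtype.ext hxp)
  rw [← Subgroup.normalizer_eq_top_iff]
  refine normalizerCondition_iff_only_full_group_self_normalizing.1 normalizerCondition_of_isNilpotent N
    (le_antisymm ?_ Subgroup.le_normalizer)
  intro g hg
  refine CfsgLib.Transfer.map_conj_eq_self_iff.1 (Subgroup.eq_of_le_of_card_ge ?_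
    (Subgroup.card_map_of_injective (MulAut.conj g).injective).ge)
  rintro _ ⟨r, hr, rfl⟩
  refine hmem _ ((Subgroup.mem_normalizer_iff.1 hg r).1 (hRN hr)) ?_
  show (g * r * g⁻¹) ^ p = 1
  rw [conj_pow, hexp r hr, mul_one, mul_inv_cancel]

/-- An element with centralizer of order at most `p ^ 2` forces maximal class. -/
theorem maximal_of_small_centralizer : ∀ n : ℕ, ∀ (G : Type u) [Group G] [Finite G],
    Nat.card G = p ^ n → 2 ≤ n → ∀ t : G, Nat.card (Subgroup.centralizer ({t} : Set G)) ≤ p ^ 2 →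
    (⊤ : Subgroup G).lowerCentralSeries (n - 2) ≠ ⊥ := by
  have hpp := hp.out
  intro n
  induction n using Nat.strong_induction_on with
  | _ n ih =>
  intro G _ _ hn hn2 t ht
  have hGp : IsPGroup p G := IsPGroup.of_card hn
  haveI : Nontrivial G := Finite.one_lt_card_iff_nontrivial.1 (hn ▸ Nat.one_lt_pow (by omega) hpp.one_lt)
  rcases eq_or_lt_of_le hn2 with rfl | hn3
  · rw [Nat.sub_self, Subgroup.lowerCentralSeries_zero]; exact top_ne_bot
  intro hbot
  set Z := Subgroup.center G with hZ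
  have htZ : t ∉ Z := fun htZ => by
    have h1 : Subgroup.centralizer ({t} : Set G) = ⊤ := eq_top_iff.2 fun g _ =>
      Subgroup.mem_centralizer_singleton_iff.2 (Subgroup.mem_center_iff.1 htZ g)
    rw [h1, Subgroup.card_top, hn, Nat.pow_le_pow_iff_right hpp.one_lt] at ht
    omega
  have hlt : Z < Subgroup.centralizer ({t} : Set G) := lt_of_le_of_ne (Subgroup.center_le_centralizer _)
    fun e => htZ (e.ge (Subgroup.mem_centralizer_singleton_iff.2 rfl))
  have hZc : Nat.card Z = p := by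
    haveI := hGp.center_nontrivial
    obtain ⟨a, ha⟩ := IsPGroup.iff_card.1 (hGp.to_subgroup Z)
    obtain ⟨b, hb⟩ := IsPGroup.iff_card.1 (hGp.to_subgroup (Subgroup.centralizer ({t} : Set G)))
    have hab : a < b := by
      by_contra hcon
      exact hlt.ne (Subgroup.eq_of_le_of_card_ge hlt.le (by
        rw [ha, hb]; exact Nat.pow_le_pow_right hpp.pos (by omega)))
    rw [hb, Nat.pow_le_pow_iff_right hpp.one_lt] at ht
    have : a ≠ 0 := fun h0 => by
      rw [h0, pow_zero] at ha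
      exact (Finite.one_lt_card (α := Z)).ne ha.symm
    rw [ha, show a = 1 by omega, pow_one]
  set f := QuotientGroup.mk' Z with hf
  have hQ : Nat.card (G ⧸ Z) = p ^ (n - 1) := by
    have h1 := Subgroup.card_eq_card_quotient_mul_card_subgroup Z
    rw [hn, hZc] at h1
    refine Nat.eq_of_mul_eq_mul_right hpp.pos (h1.symm.trans ?_)
    rw [← pow_succ]; congr 1; omega
  set C := (Subgroup.centralizer ({f t} : Set (G ⧸ Z))).comap f with hC
  have hmemC : ∀ g, g ∈ C ↔ ⁅g, t⁆ ∈ Z := fun g => by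
    rw [hC, Subgroup.mem_comap, Subgroup.mem_centralizer_singleton_iff,
      ← commutatorElement_eq_one_iff_mul_comm, ← map_commutatorElement]
    exact QuotientGroup.eq_one_iff _
  let φ : C →* Z := MonoidHom.mk' (fun g => ⟨⁅(g : G), t⁆, (hmemC g).1 g.2⟩) fun a b => Subtype.ext (by
    show ⁅(a : G) * b, t⁆ = ⁅(a : G), t⁆ * ⁅(b : G), t⁆
    have hbc : ∀ g, Commute ⁅(b : G), t⁆ g := fun g => (Subgroup.mem_center_iff.1 ((hmemC b).1 b.2) g).symm
    rw [show ⁅(a : G) * b, t⁆ = a * ⁅(b : G), t⁆ * (a : G)⁻¹ * ⁅(a : G), t⁆ by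
      simp only [commutatorElement_def]; group, ← (hbc a).eq, mul_inv_cancel_right, (hbc _).eq])
  have hker : Nat.card φ.ker ≤ p ^ 2 := by
    refine le_trans ?_ ht
    refine Nat.card_le_card_of_injective (fun g => (⟨((g : C) : G), Subgroup.mem_centralizer_singleton_iff.2
      (commutatorElement_eq_one_iff_mul_comm.1 (congrArg Subtype.val (MonoidHom.mem_ker.1 g.2)))⟩ :
        Subgroup.centralizer ({t} : Set G))) fun a b h => ?_
    exact Subtype.ext (Subtype.ext (congrArg Subtype.val h :))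
  have hCb : Nat.card C ≤ p ^ 3 := by
    have h1 := φ.ker.card_mul_index
    rw [Subgroup.index_ker] at h1
    rw [← h1, pow_succ p 2]
    exact Nat.mul_le_mul hker ((Subgroup.card_le_card_group φ.range).trans hZc.le)
  have hsmall : Nat.card (Subgroup.centralizer ({f t} : Set (G ⧸ Z))) ≤ p ^ 2 := by
    have h1 : f.ker.relIndex C = Nat.card (Subgroup.centralizer ({f t} : Set (G ⧸ Z))) := by
      rw [Subgroup.relIndex_ker, hC, Subgroup.map_comap_eq_self_of_surjective (QuotientGroup.mk'_surjective Z)]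
    have hle : Z ≤ C := QuotientGroup.le_comap_mk' Z _
    have h2 := Subgroup.relIndex_mul_relIndex ⊥ Z C bot_le hle
    rw [Subgroup.relIndex_bot_left, Subgroup.relIndex_bot_left, hZc] at h2
    rw [hf, QuotientGroup.ker_mk', ← hf] at h1
    rw [h1] at h2
    refine Nat.le_of_mul_le_mul_left ?_ hpp.pos
    rw [h2, ← pow_succ']
    exact hCb
  have hih := ih (n - 1) (by omega) (G ⧸ Z) hQ (by omega) (f t) hsmall
  apply hih
  rw [show n - 1 - 2 = n - 3 by omega]
  have hle : (⊤ : Subgroup G).lowerCentralSeries (n - 3) ≤ Z := by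
    intro x hx
    refine Subgroup.mem_center_iff.2 fun g => ?_
    have h1 : ⁅x, g⁆ ∈ (⊤ : Subgroup G).lowerCentralSeries (n - 3 + 1) :=
      Subgroup.commutator_mem_commutator hx (Subgroup.mem_top g)
    rw [show n - 3 + 1 = n - 2 by omega, hbot, Subgroup.mem_bot] at h1
    exact (commutatorElement_eq_one_iff_mul_comm.1 h1).symm
  rw [← Subgroup.map_top_of_surjective f (QuotientGroup.mk'_surjective Z),
    ← Subgroup.map_lowerCentralSeries, Subgroup.map_eq_bot_iff, hf, QuotientGroup.ker_mk']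
  exact hle

/-- An element of order `p` outside the centralizer of a normal elementary subgroup of order `p ^ 2`. -/
theorem outside {n : ℕ} (hn : Nat.card G = p ^ n) (hn2 : 2 ≤ n) (hp2 : p ≠ 2)
    (hrk : Cfsg.PRankLE p 2 G) {E : Subgroup G} [E.Normal] (hE : Cfsg.IsElementaryAbelian p E)
    (hE2 : Nat.card E = p ^ 2) {t : G} (ht : t ^ p = 1) (htE : t ∉ E) :
    (⊤ : Subgroup G).lowerCentralSeries (n - 2) ≠ ⊥ ∨ Big p G := by
  have hpp := hp.out
  have hG : IsPGroup p G := IsPGroup.of_card hn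
  have hEab : ∀ a ∈ E, ∀ b ∈ E, Commute a b := fun a ha b hb =>
    congrArg Subtype.val (hE.1.is_comm.comm ⟨a, ha⟩ ⟨b, hb⟩)
  obtain ⟨e, he, hne⟩ : ∃ e ∈ E, ¬ Commute t e := by
    by_contra hall
    push Not at hall
    exact htE (RankTwoNormal.mem_of_centralizes hrk hEab hE.2 hE2 ht hall)
  set T := Subgroup.zpowers t with hT
  have hto : orderOf t = p := orderOf_eq_prime ht fun e => htE (e ▸ E.one_mem)
  set R := E ⊔ T with hR
  have hEc : ∀ v ∈ E, ∀ u r : G, Commute ⁅u, v⁆ r := fun v hv u r => RankTwoNormal.comm_central hG hE2 hv u r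
  have hexp : ∀ x ∈ R, x ^ p = 1 := by
    intro x hx
    obtain ⟨v, hv, w, hw, rfl⟩ := Subgroup.mem_sup_of_normal_left.1 hx
    obtain ⟨j, rfl⟩ := Subgroup.mem_zpowers_iff.1 hw
    have hc : ⁅t ^ j, v⁆ ^ p = 1 := hE.2 _ (by
      rw [commutatorElement_def]; exact E.mul_mem (‹E.Normal›.conj_mem v hv _) (E.inv_mem hv))
    obtain ⟨r, hr⟩ : p ∣ p.choose 2 :=
      hpp.dvd_choose_self two_ne_zero (lt_of_le_of_ne hpp.two_le hp2.symm)
    rw [PSolvable.mul_pow_of_comm (hEc v hv _ v) (hEc v hv _ _), hE.2 v hv, hr, pow_mul, hc, one_pow,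
      ← zpow_natCast, ← zpow_mul, mul_comm, zpow_mul, zpow_natCast, ht, one_zpow]
    simp
  have hRc : Nat.card R = p ^ 3 := by
    have h1 : E.relIndex R = E.relIndex T := by rw [hR, sup_comm, Subgroup.relIndex_sup_right]
    have h2 := Subgroup.relIndex_mul_relIndex ⊥ E R bot_le le_sup_left
    rw [Subgroup.relIndex_bot_left, Subgroup.relIndex_bot_left, h1, hE2] at h2
    have hinf : E ⊓ T = ⊥ := by
      rcases (Nat.dvd_prime hpp).1 ((Nat.card_zpowers t).trans hto ▸
        Subgroup.card_dvd_of_le (inf_le_right : E ⊓ T ≤ T)) with h | h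
      · exact Subgroup.eq_bot_of_card_eq _ h
      · exact absurd ((Subgroup.eq_of_le_of_card_ge (inf_le_right : E ⊓ T ≤ T)
          (by rw [h, hT, Nat.card_zpowers, hto])).ge (Subgroup.mem_zpowers t)).1 htE
    rw [← Subgroup.inf_relIndex_right, hinf, Subgroup.relIndex_bot_left, hT, Nat.card_zpowers, hto] at h2
    rw [← h2]; ring
  set CE := Subgroup.centralizer (E : Set G) with hCE
  set Ct := Subgroup.centralizer ({t} : Set G) with hCt
  by_cases hsmall : Nat.card Ct ≤ p ^ 2
  · exact Or.inl (maximal_of_small_centralizer n G hn hn2 t hsmall)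
  right
  set D := CE ⊓ Ct with hD
  have hDR : D ≤ Subgroup.centralizer (R : Set G) := by
    refine Subgroup.le_centralizer_iff.1 (sup_le ?_ (Subgroup.zpowers_le.2 ?_))
    · exact fun v hv => Subgroup.mem_centralizer_iff.2 fun d hd =>
        ((Subgroup.mem_centralizer_iff.1 hd.1) v hv).symm
    · exact Subgroup.mem_centralizer_iff.2 fun d hd =>
        (Subgroup.mem_centralizer_singleton_iff.1 hd.2)
  have hDc : p ^ 2 ≤ Nat.card D := by
    have h1 : CE.relIndex Ct ≤ p := Nat.le_of_dvd hpp.pos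
      ((Subgroup.relIndex_dvd_index_of_normal CE Ct).trans (AlperinElem.centralizer_index_le hG hE hE2))
    have h2 := Subgroup.relIndex_mul_relIndex ⊥ D Ct bot_le inf_le_right
    rw [Subgroup.relIndex_bot_left, Subgroup.relIndex_bot_left, hD, Subgroup.inf_relIndex_right,
      ← hD] at h2
    obtain ⟨b, hb⟩ := IsPGroup.iff_card.1 (hG.to_subgroup D)
    rw [hb]
    refine Nat.pow_le_pow_right hpp.pos ?_
    by_contra hb2
    refine hsmall ?_
    rw [← h2, hb, pow_two]
    exact Nat.mul_le_mul ((Nat.pow_le_pow_right hpp.pos (show b ≤ 1 by omega)).trans (pow_one p).le) h1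
  have hDcyc : IsCyclic D := by
    obtain ⟨z, hzE, hzne⟩ : ∃ z ∈ E, z ≠ 1 := ⟨e, he, fun h => hne (h ▸ Commute.one_right t)⟩
    obtain ⟨⟨w, hw⟩, hw1⟩ := Subgroup.ne_bot_iff_exists_ne_one.1
      (show E ⊓ Subgroup.center G ≠ ⊥ from by
        haveI := hG.isNilpotent
        exact Critical.inf_center_ne_bot E fun h => hzne (by rwa [h, Subgroup.mem_bot] at hzE))
    refine RankTwoNormal.isCyclic_of_line hG hp2 (Z := Subgroup.zpowers w) ?_ ?_
    · rw [Nat.card_zpowers, orderOf_eq_prime (hE.2 w (Subgroup.mem_inf.1 hw).1) fun h => hw1 (Subtype.ext h)]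
    intro x hx hxp
    have hxE : x ∈ E := RankTwoNormal.mem_of_centralizes hrk hEab hE.2 hE2 hxp fun v hv =>
      (Subgroup.mem_centralizer_iff.1 hx.1 v hv).symm
    by_contra hxw
    have hwo : orderOf w = p :=
      orderOf_eq_prime (hE.2 w (Subgroup.mem_inf.1 hw).1) fun h => hw1 (Subtype.ext h)
    obtain ⟨U, -, -, -, -, hUc, hUm⟩ := RankTwoNormal.pair_data hG hrk
      ((Subgroup.mem_center_iff.1 (Subgroup.mem_inf.1 hw).2 x).symm : Commute w x) hwo hxp hxw
    have hUE : U = E := Subgroup.eq_of_le_of_card_ge (fun v hv => by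
      obtain ⟨i, j, rfl⟩ := hUm v hv
      exact E.mul_mem (E.zpow_mem (Subgroup.mem_inf.1 hw).1 i) (E.zpow_mem hxE j)) (by rw [hE2, hUc])
    obtain ⟨i, j, hij⟩ := hUm e (hUE.symm ▸ he)
    refine hne (hij ▸ ?_)
    exact ((show Commute t w from Subgroup.mem_center_iff.1 (Subgroup.mem_inf.1 hw).2 t).zpow_right i).mul_right
      ((show Commute t x from (Subgroup.mem_centralizer_singleton_iff.1 hx.2).symm).zpow_right j)
  obtain ⟨⟨d, hdD⟩, hd⟩ := IsCyclic.exists_ofOrder_eq_natCard (α := D)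
  rw [Subgroup.orderOf_mk] at hd
  obtain ⟨b, hb⟩ := IsPGroup.iff_card.1 (hG.to_subgroup D)
  rw [hb, Nat.pow_le_pow_iff_right hpp.one_lt] at hDc
  refine ⟨R, hRc, hexp, d ^ p ^ (b - 2), hDR (D.pow_mem hdD _), ?_⟩
  rw [orderOf_pow' _ (pow_ne_zero _ hpp.ne_zero), hd, hb,
    Nat.gcd_eq_right (pow_dvd_pow p (by omega : b - 2 ≤ b)), Nat.pow_div (by omega) hpp.pos,
    show b - (b - 2) = 2 by omega]

/-- In a group of class two, `p` odd, the order is bounded by the solutions of `x ^ p = 1` and the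
possible `p`-th powers. -/
theorem card_le_of_class_two {H : Type*} [Group H] [Finite H] (hp2 : p ≠ 2)
    (hc : ∀ a b g : H, Commute ⁅a, b⁆ g) (hcp : ∀ a b : H, ⁅a, b⁆ ^ p = 1) {L M : Subgroup H}
    (hL : ∀ x : H, x ^ p = 1 → x ∈ L) (hM : ∀ x : H, x ^ p ∈ M) :
    Nat.card H ≤ Nat.card L * Nat.card M := by
  obtain ⟨r, hr⟩ : p ∣ p.choose 2 :=
    hp.out.dvd_choose_self two_ne_zero (lt_of_le_of_ne hp.out.two_le hp2.symm)
  let φ : H →* H := MonoidHom.mk' (fun x => x ^ p) fun a b => by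
    show (a * b) ^ p = a ^ p * b ^ p
    rw [PSolvable.mul_pow_of_comm (hc b a a) (hc b a b), hr, pow_mul, hcp, one_pow, mul_one]
  have h1 := φ.ker.card_mul_index
  rw [Subgroup.index_ker] at h1
  rw [← h1]
  refine Nat.mul_le_mul (Subgroup.card_le_of_le fun x hx => hL x hx) (Subgroup.card_le_of_le ?_)
  rintro _ ⟨x, rfl⟩
  exact hM x

/-- An abelian `p`-group with at most `p ^ 2` solutions of `x ^ p = 1` is metacyclic. -/
theorem isMetacyclic_comm (hG : IsPGroup p G) (hab : ∀ a b : G, Commute a b) {E : Subgroup G}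
    (hE2 : Nat.card E ≤ p ^ 2) (hE : ∀ x : G, x ^ p = 1 → x ∈ E) : Cfsg.IsMetacyclic G := by
  let φ : G →* G := MonoidHom.mk' (fun x => x ^ p) fun a b => (hab a b).mul_pow p
  have hΦ : (frattini G).index ≤ p ^ 2 := by
    have hle : φ.range ≤ frattini G := by
      rintro _ ⟨x, rfl⟩
      exact (PSolvable.commutator_le_frattini hG).2 x
    refine (Nat.le_of_dvd (Nat.pos_of_ne_zero Subgroup.index_ne_zero_of_finite)
      (Subgroup.index_dvd_of_le hle)).trans ?_
    have h1 := φ.ker.card_mul_index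
    rw [Subgroup.index_ker] at h1
    have h2 := φ.range.card_mul_index
    rw [← h1, mul_comm (Nat.card φ.ker)] at h2
    rw [Nat.eq_of_mul_eq_mul_left Nat.card_pos h2]
    exact (Subgroup.card_le_of_le fun x hx => hE x hx).trans hE2
  by_cases htriv : frattini G = ⊤
  · have h : (⊥ : Subgroup G) = ⊤ := frattini_nongenerating (by rw [htriv, bot_sup_eq])
    refine ⟨⊥, inferInstance, inferInstance, ?_⟩
    refine ⟨⟨1, fun x => ?_⟩⟩
    obtain ⟨g, rfl⟩ := QuotientGroup.mk'_surjective _ x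
    exact ⟨0, by rw [show QuotientGroup.mk' (⊥ : Subgroup G) g = 1 from
      (QuotientGroup.eq_one_iff g).2 (h.ge (Subgroup.mem_top g))]; simp⟩
  obtain ⟨x, hx⟩ : ∃ x, x ∉ frattini G := by
    by_contra h
    push Not at h
    exact htriv (eq_top_iff.2 fun x _ => h x)
  exact Blackburn.isMetacyclic_of_mem hG hΦ x hx ⟨fun u hu r => by
    rw [(hab r u).eq, mul_inv_cancel_right]; exact hu⟩

end CfsgLib.RankTwoThree
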