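import Mathlib
import Cfsg.Agent.Lib.PGroup.RankTwoThree
import Cfsg.Agent.Lib.PGroup.RankTwoLift

/-!
Blackburn's theorem on `p`-groups of rank at most two, `p` odd, by induction on the order.
-/

set_option autoImplicit false
set_option linter.style.haveILetI false

open scoped commutatorElement

namespace CfsgLib.RankTwoBlackburn

open CfsgLib.RankTwoThree

universe u

variable {p : ℕ} [hp : Fact p.Prime]

/-- A group of order `p ^ 3` with an element of order `p ^ 2` is metacyclic. -/
theorem isMetacyclic_cube {Q : Type u} [Group Q] [Finite Q] (hQ : Nat.card Q = p ^ 3) {x : Q}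
    (hx : x ^ p ≠ 1) : Cfsg.IsMetacyclic Q := by
  have hpp := hp.out
  obtain ⟨a, ha⟩ := IsPGroup.iff_orderOf.1 (IsPGroup.of_card hQ) x
  have ha2 : 2 ≤ a := by
    by_contra h
    exact hx (orderOf_dvd_iff_pow_eq_one.1 (ha ▸ (pow_dvd_pow p (show a ≤ 1 by omega)).trans (pow_one p).dvd))
  set u := x ^ p ^ (a - 2) with hu
  have huo : orderOf u = p ^ 2 := by
    rw [hu, orderOf_pow' _ (pow_ne_zero _ hpp.ne_zero), ha,
      Nat.gcd_eq_right (pow_dvd_pow p (by omega : a - 2 ≤ a)), Nat.pow_div (by omega) hpp.pos,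
      show a - (a - 2) = 2 by omega]
  set N := Subgroup.zpowers u with hN
  have hi : N.index = p := by
    have h1 := N.card_mul_index
    rw [hN, Nat.card_zpowers, huo, hQ, pow_succ p 2] at h1
    exact Nat.eq_of_mul_eq_mul_left (pow_pos hpp.pos 2) h1
  haveI hNn : N.Normal := Subgroup.normal_of_index_eq_minFac_card (by
    rw [hi, hQ, Nat.pow_minFac (by norm_num), hpp.minFac_eq])
  exact ⟨N, hNn, inferInstance, isCyclic_of_prime_card (p := p) (by rw [← Subgroup.index_eq_card, hi])⟩

/-- A group of order `p ^ a` with centre of order at least `p ^ 2` has class at most `a - 2`. -/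
theorem lcs_eq_bot {P : Type u} [Group P] [Finite P] {a : ℕ} (hP : Nat.card P = p ^ a) (ha : 3 ≤ a)
    (hZ : p ^ 2 ≤ Nat.card (Subgroup.center P)) : (⊤ : Subgroup P).lowerCentralSeries (a - 2) = ⊥ := by
  have hpp := hp.out
  obtain ⟨r, hr⟩ := IsPGroup.iff_card.1 ((IsPGroup.of_card hP).to_quotient (Subgroup.center P))
  have hra : r + 2 ≤ a := by
    rw [← Nat.pow_le_pow_iff_right hpp.one_lt, pow_add, ← hP,
      Subgroup.card_eq_card_quotient_mul_card_subgroup (Subgroup.center P), hr]
    exact Nat.mul_le_mul_left _ hZ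
  set f := QuotientGroup.mk' (Subgroup.center P) with hf
  refine le_bot_iff.1 ?_
  rcases Nat.lt_or_ge r 2 with hr2 | hr2
  · have hcyc : IsCyclic (P ⧸ Subgroup.center P) := by
      rcases Nat.lt_or_ge r 1 with h | h
      · haveI : Subsingleton (P ⧸ Subgroup.center P) :=
          (Nat.card_eq_one_iff_unique.1 (by rw [hr, show r = 0 by omega, pow_zero])).1
        exact isCyclic_of_subsingleton
      · exact isCyclic_of_prime_card (p := p) (by rw [hr, show r = 1 by omega, pow_one])
    haveI := hcyc
    have hab : ∀ x y : P, Commute x y := fun x y =>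
      commutative_of_cyclic_center_quotient f (by rw [hf, QuotientGroup.ker_mk']) x y
    refine ((⊤ : Subgroup P).lowerCentralSeries_antitone (show 1 ≤ a - 2 by omega)).trans ?_
    refine le_of_eq (Subgroup.lowerCentralSeries_succ_eq_bot _ fun x _ => ?_)
    exact Subgroup.mem_center_iff.2 fun y => (hab x y).symm.eq
  · have hle : (⊤ : Subgroup P).lowerCentralSeries (r - 1) ≤ Subgroup.center P := by
      intro x hx
      have h1 := Subgroup.card_le_of_le (H := ((⊤ : Subgroup P).lowerCentralSeries (r - 1)).map f)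
        (Subgroup.lowerCentralSeries.map f (r - 1))
      have h2 := MaxClass.card_lcs_succ_le hr (r - 2)
      rw [show r - 2 + 1 = r - 1 by omega, Nat.sub_self, pow_zero] at h2
      have h3 := (Subgroup.eq_bot_of_card_le _ (h1.trans h2)).le (Subgroup.mem_map_of_mem f hx)
      rw [Subgroup.mem_bot, hf, QuotientGroup.mk'_apply, QuotientGroup.eq_one_iff] at h3
      exact h3
    have h4 := Subgroup.lowerCentralSeries_succ_eq_bot _ hle
    rw [show r - 1 + 1 = r by omega] at h4
    exact h4 ▸ (⊤ : Subgroup P).lowerCentralSeries_antitone (show r ≤ a - 2 by omega)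

/-- In a maximal class quotient by `T ≤ G'`, `p`-th powers lie in the derived group. -/
theorem pow_mem_commutator {G : Type u} [Group G] [Finite G] {T : Subgroup G} [T.Normal]
    (hT : T ≤ commutator G) {m : ℕ} (hQ : Nat.card (G ⧸ T) = p ^ m) (hm : 3 ≤ m)
    (hcl : (⊤ : Subgroup (G ⧸ T)).lowerCentralSeries (m - 2) ≠ ⊥) (g : G) : g ^ p ∈ commutator G := by
  have hpp := hp.out
  set f := QuotientGroup.mk' T with hf
  have hQp : IsPGroup p (G ⧸ T) := IsPGroup.of_card hQ
  haveI := hQp.isNilpotent
  have hclass : Group.nilpotencyClass (G ⧸ T) = m - 1 := by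
    refine le_antisymm (Subgroup.lowerCentralSeries_eq_bot_iff_nilpotencyClass_le.1 ?_) ?_
    · refine Subgroup.eq_bot_of_card_le _ ((le_of_eq ?_).trans
        ((MaxClass.card_lcs_succ_le hQ (m - 2)).trans (by rw [Nat.sub_self, pow_zero])))
      rw [show m - 2 + 1 = m - 1 by omega]
    · by_contra h
      exact hcl (Subgroup.lowerCentralSeries_eq_bot_iff_nilpotencyClass_le.2 (by omega))
  have hD := MaxClass.card_lcs_eq hQ hclass hm 0 (by omega)
  rw [zero_add, Subgroup.top_lowerCentralSeries_one, Nat.sub_zero] at hD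
  set D := commutator (G ⧸ T) with hDdef
  have hDi : D.index = p ^ 2 := by
    have h1 := D.card_mul_index
    rw [hD, hQ] at h1
    refine Nat.eq_of_mul_eq_mul_left (pow_pos hpp.pos (m - 2)) (h1.trans ?_)
    rw [← pow_add]; congr 1; omega
  have hkey : (f g) ^ p ∈ D := by
    by_contra hgp
    have hnab : D ≠ ⊥ := fun h => by
      rw [h, Subgroup.card_bot] at hD
      exact (Nat.one_lt_pow (by omega) hpp.one_lt).ne hD
    refine hnab ?_
    set q := QuotientGroup.mk' D with hq
    obtain ⟨a, ha⟩ := IsPGroup.iff_orderOf.1 (hQp.to_quotient D) (q (f g))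
    have ha2 : 2 ≤ a := by
      by_contra h
      refine hgp ((QuotientGroup.eq_one_iff _).1 ?_)
      exact (map_pow q (f g) p).trans (orderOf_dvd_iff_pow_eq_one.1
        (ha ▸ (pow_dvd_pow p (show a ≤ 1 by omega)).trans (pow_one p).dvd))
    have htop : Subgroup.zpowers (q (f g)) = ⊤ := Subgroup.eq_top_of_le_card _ (by
      rw [Nat.card_zpowers, ha, ← Subgroup.index_eq_card, hDi]
      exact Nat.pow_le_pow_right hpp.pos ha2)
    have hgen : Subgroup.zpowers (f g) = ⊤ := by
      refine frattini_nongenerating (eq_top_iff.2 fun x _ => ?_)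
      obtain ⟨i, hi⟩ := Subgroup.mem_zpowers_iff.1 (htop.ge (Subgroup.mem_top (q x)))
      rw [← map_zpow] at hi
      have h2 : (f g ^ i)⁻¹ * x ∈ D := QuotientGroup.eq.1 hi
      have := Subgroup.mul_mem_sup (zpow_mem (Subgroup.mem_zpowers (f g)) i)
        ((PSolvable.commutator_le_frattini hQp).1 h2)
      rwa [mul_inv_cancel_left] at this
    rw [hDdef, commutator_def, Subgroup.commutator_eq_bot_iff_le_centralizer, ← hgen]
    exact Subgroup.le_centralizer _
  rw [← map_pow, hDdef, commutator_def, ← Subgroup.map_top_of_surjective f (QuotientGroup.mk'_surjective T),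
    ← Subgroup.map_commutator] at hkey
  obtain ⟨d, hd, hdg⟩ := hkey
  have h2 : d⁻¹ * g ^ p ∈ T := QuotientGroup.eq.1 hdg
  have := (commutator G).mul_mem hd (hT h2)
  rwa [mul_inv_cancel_left] at this

theorem classify_aux (hp2 : p ≠ 2) : ∀ n : ℕ, ∀ (G : Type u) [Group G] [Finite G], Nat.card G = p ^ n →
    Cfsg.PRankLE p 2 G →
    (2 ≤ n ∧ (⊤ : Subgroup G).lowerCentralSeries (n - 2) ≠ ⊥) ∨ Cfsg.IsMetacyclic G ∨ Big p G := by
  have hpp := hp.out
  intro n
  induction n using Nat.strong_induction_on with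
  | _ n ih =>
  intro G _ _ hn hrk
  have hG : IsPGroup p G := IsPGroup.of_card hn
  haveI := hG.isNilpotent
  by_cases hcyc : IsCyclic G
  · refine Or.inr (Or.inl ⟨⊤, inferInstance, isCyclic_of_surjective (Subgroup.topEquiv (G := G)).symm
      (MulEquiv.surjective _), ?_⟩)
    haveI : Subsingleton (G ⧸ (⊤ : Subgroup G)) := QuotientGroup.subsingleton_quotient_top
    exact isCyclic_of_subsingleton
  obtain ⟨E, -, hEn, hE, hE2⟩ := CyclicMax.exists_normal_rank_two hG hp2 (⊤ : Subgroup G) inferInstance
    fun h => hcyc (isCyclic_of_surjective Subgroup.topEquiv (MulEquiv.surjective _))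
  haveI := hEn
  have hn2 : 2 ≤ n := by
    rw [← Nat.pow_le_pow_iff_right hpp.one_lt, ← hE2, ← hn]
    exact Subgroup.card_le_card_group E
  by_cases hall : ∀ x : G, x ^ p = 1 → x ∈ E
  swap
  · push Not at hall
    obtain ⟨t, ht, htE⟩ := hall
    rcases outside hn hn2 hp2 hrk hE hE2 ht htE with h | h
    · exact Or.inl ⟨hn2, h⟩
    · exact Or.inr (Or.inr h)
  have hEab : ∀ a ∈ E, ∀ b ∈ E, Commute a b := fun a ha b hb =>
    congrArg Subtype.val (hE.1.is_comm.comm ⟨a, ha⟩ ⟨b, hb⟩)
  have hO : Nat.card ↥(Cfsg.omegaOne p (⊤ : Subgroup G)) ≤ p ^ 2 :=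
    (Subgroup.card_le_of_le ((Subgroup.closure_le _).2 fun x hx => hall x hx.2)).trans hE2.le
  by_cases hab : commutator G = ⊥
  · refine Or.inr (Or.inl (isMetacyclic_comm hG (fun a b => ?_) hE2.le hall))
    exact commutatorElement_eq_one_iff_commute.1 (Subgroup.mem_bot.1 (hab ▸ (commutator_def G ▸
      Subgroup.commutator_mem_commutator (Subgroup.mem_top a) (Subgroup.mem_top b))))
  -- a central subgroup of order `p` in the derived group
  haveI : Nontrivial ↥(commutator G ⊓ Subgroup.center G) :=
    (Subgroup.nontrivial_iff_ne_bot _).mpr (Critical.inf_center_ne_bot _ hab)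
  obtain ⟨k, hk0, hk⟩ := (hG.to_subgroup (commutator G ⊓ Subgroup.center G)).nontrivial_iff_card.mp inferInstance
  obtain ⟨⟨t, ht⟩, hto⟩ := exists_prime_orderOf_dvd_card' (G := ↥(commutator G ⊓ Subgroup.center G)) p
    (hk ▸ dvd_pow_self p hk0.ne')
  rw [Subgroup.orderOf_mk] at hto
  obtain ⟨htR, htC⟩ := Subgroup.mem_inf.1 ht
  set T := Subgroup.zpowers t with hT
  have hTC : T ≤ Subgroup.center G := Subgroup.zpowers_le.2 htC
  haveI : T.Normal := ⟨fun u hu r => by
    rw [Subgroup.mem_center_iff.1 (hTC hu) r, mul_inv_cancel_right]; exact hu⟩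
  have hTcard : Nat.card T = p := by rw [hT, Nat.card_zpowers, hto]
  have hTexp : ∀ u ∈ T, u ^ p = 1 := fun u hu => by
    have := congrArg Subtype.val (pow_card_eq_one' (x := (⟨u, hu⟩ : T)))
    rwa [hTcard] at this
  have hTE : T ≤ E := fun u hu => hall u (hTexp u hu)
  set f := QuotientGroup.mk' T with hf
  have hfs : Function.Surjective f := QuotientGroup.mk'_surjective T
  have hf1 : ∀ x, f x = 1 ↔ x ∈ T := fun x => QuotientGroup.eq_one_iff x
  have hQ : Nat.card (G ⧸ T) = p ^ (n - 1) := by
    have h1 := Subgroup.card_eq_card_quotient_mul_card_subgroup T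
    rw [hn, hTcard] at h1
    refine Nat.eq_of_mul_eq_mul_right hpp.pos (h1.symm.trans ?_)
    rw [← pow_succ]; congr 1; omega
  have hcomap : ∀ A : Subgroup (G ⧸ T), Nat.card (A.comap f) = p * Nat.card A := by
    intro A
    have h1 : f.ker.relIndex (A.comap f) = Nat.card A := by
      rw [Subgroup.relIndex_ker, Subgroup.map_comap_eq_self_of_surjective hfs]
    have h2 := Subgroup.relIndex_mul_relIndex ⊥ T (A.comap f) bot_le (QuotientGroup.le_comap_mk' T A)
    rw [Subgroup.relIndex_bot_left, Subgroup.relIndex_bot_left, hTcard] at h2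
    rw [← h2, ← h1, hf, QuotientGroup.ker_mk']
  -- the quotient has rank at most two
  have hrkQ : Cfsg.PRankLE p 2 (G ⧸ T) := by
    intro A hA hAe
    have hmemT : ∀ a b : A.comap f, ⁅(a : G), (b : G)⁆ ∈ T := fun a b => by
      rw [← hf1, map_commutatorElement, commutatorElement_eq_one_iff_mul_comm]
      exact congrArg Subtype.val (hA.is_comm.comm (⟨f a, a.2⟩ : A) ⟨f b, b.2⟩)
    have h1 := card_le_of_class_two (H := A.comap f) hp2
      (fun a b g => Subtype.ext (Subgroup.mem_center_iff.1 (hTC (hmemT a b)) g).symm)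
      (fun a b => Subtype.ext (hTexp _ (hmemT a b)))
      (L := E.subgroupOf (A.comap f)) (M := T.subgroupOf (A.comap f))
      (fun x hx => hall x (congrArg Subtype.val hx))
      (fun x => (hf1 _).1 (by
        show f ((x : G) ^ p) = 1
        rw [map_pow]; exact hAe _ x.2))
    have h2 : ∀ B : Subgroup G, Nat.card (B.subgroupOf (A.comap f)) ≤ Nat.card B := fun B =>
      Nat.card_le_card_of_injective (fun x => (⟨((x : A.comap f) : G), x.2⟩ : B))
        fun x y h => Subtype.ext (Subtype.ext (congrArg Subtype.val h :))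
    have h3 := h1.trans (Nat.mul_le_mul (h2 E) (h2 T))
    rw [hcomap, hE2, hTcard, mul_comm (p ^ 2)] at h3
    exact Nat.le_of_mul_le_mul_left h3 hpp.pos
  haveI hTn' : (Subgroup.zpowers t).Normal := ‹T.Normal›
  have hlift : Cfsg.IsMetacyclic (G ⧸ T) → Cfsg.IsMetacyclic G := fun h =>
    RankTwoLift.isMetacyclic_of_quotient hp2 hG hO htR htC hto h
  by_cases hmeta : Cfsg.IsMetacyclic (G ⧸ T)
  · exact Or.inr (Or.inl (hlift hmeta))
  have hn4 : 4 ≤ n := by
    by_contra hn4
    refine hmeta (isMetacyclic_comm (IsPGroup.of_card hQ) (fun a b => ?_) (E := ⊤) ?_ fun x _ => Subgroup.mem_top x)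
    · exact Fusion.comm_of_card_le_sq ⟨n - 1, by omega, hQ⟩ a b
    · rw [Subgroup.card_top, hQ]; exact Nat.pow_le_pow_right hpp.pos (by omega)
  obtain ⟨e, he, heT⟩ : ∃ e ∈ E, e ∉ T := by
    by_contra hcon
    push Not at hcon
    have h1 := Subgroup.card_le_of_le (fun x hx => hcon x hx : E ≤ T)
    rw [hE2, hTcard] at h1
    nlinarith [hpp.one_lt]
  rcases ih (n - 1) (by omega) (G ⧸ T) hQ hrkQ with ⟨-, hcl⟩ | h | ⟨Rb, hRbc, hRbe, cb, hcb, hcbo⟩
  · -- the quotient has maximal class
    left
    refine ⟨hn2, fun hbot => ?_⟩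
    rw [show n - 1 - 2 = n - 3 by omega] at hcl
    set L := (⊤ : Subgroup G).lowerCentralSeries (n - 3) with hL
    have hLT : ¬ L ≤ T := fun hle => hcl (by
      rw [← Subgroup.map_top_of_surjective f hfs, ← Subgroup.map_lowerCentralSeries,
        Subgroup.map_eq_bot_iff, hf, QuotientGroup.ker_mk']
      exact hle)
    have hbot' : ⁅L, (⊤ : Subgroup G)⁆ = ⊥ := by
      rw [hL, ← Subgroup.lowerCentralSeries_succ, show n - 3 + 1 = n - 2 by omega, hbot]
    have hLC : L ≤ Subgroup.center G := fun x hx => Subgroup.mem_center_iff.2 fun g =>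
      (commutatorElement_eq_one_iff_mul_comm.1 (Subgroup.mem_bot.1
        (hbot' ▸ Subgroup.commutator_mem_commutator hx (Subgroup.mem_top g)))).symm
    set L' := (⊤ : Subgroup G).lowerCentralSeries (n - 4) with hL'
    have hLL : L = ⁅L', (⊤ : Subgroup G)⁆ := by
      rw [hL, hL', ← Subgroup.lowerCentralSeries_succ]; congr 1; omega
    have hkill : ⁅L', commutator G⁆ = ⊥ := by
      rw [Subgroup.commutator_comm, commutator_def]
      refine Subgroup.commutator_commutator_eq_bot_of_rotate ?_ ?_
      · rw [Subgroup.commutator_comm ⊤ L', ← hLL, hbot']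
      · rw [← hLL, hbot']
    have hLE : L ≤ E := by
      refine fun x hx => hall x ?_
      rw [hLL, Subgroup.commutator_def] at hx
      have hxC : ∀ y ∈ L, y ∈ Subgroup.center G := fun y hy => hLC hy
      induction hx using Subgroup.closure_induction with
      | mem x hx =>
        obtain ⟨a, ha, g, -, rfl⟩ := hx
        have hac : ∀ r, Commute ⁅a, g⁆ r := fun r => (Subgroup.mem_center_iff.1
          (hLC (hLL.ge (Subgroup.commutator_mem_commutator ha (Subgroup.mem_top g)))) r).symm
        have h1 : a * g * a⁻¹ = ⁅a, g⁆ * g := by rw [commutatorElement_def]; group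
        have h2 : a * g ^ p * a⁻¹ = ⁅a, g⁆ ^ p * g ^ p := by rw [← conj_pow, h1, (hac g).mul_pow]
        have h3 : ⁅a, g ^ p⁆ = 1 := Subgroup.mem_bot.1 (hkill ▸ Subgroup.commutator_mem_commutator ha
          (pow_mem_commutator (T := T) (Subgroup.zpowers_le.2 htR) hQ (by omega)
            (by rwa [show n - 1 - 2 = n - 3 by omega]) g))
        rw [commutatorElement_def, h2, mul_inv_cancel_right] at h3
        exact h3
      | one => exact one_pow p
      | mul a b ha hb iha ihb =>
        rw [← Subgroup.commutator_def, ← hLL] at hb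
        rw [(show Commute a b from Subgroup.mem_center_iff.1 (hLC hb) a).mul_pow, iha, ihb, one_mul]
      | inv a ha iha => rw [inv_pow, iha, inv_one]
    have hEZ : E ≤ Subgroup.center G := by
      by_contra hEZ
      refine hLT fun x hx => ?_
      have hle : T ≤ E ⊓ Subgroup.center G := le_inf hTE hTC
      have heq : T = E ⊓ Subgroup.center G := by
        refine Subgroup.eq_of_le_of_card_ge hle ?_
        obtain ⟨b, hb⟩ := IsPGroup.iff_card.1 (hG.to_subgroup (E ⊓ Subgroup.center G))
        rw [hb, hTcard]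
        refine (Nat.pow_le_pow_right hpp.pos (show b ≤ 1 from ?_)).trans (pow_one p).le
        by_contra hb1
        refine hEZ ((Subgroup.eq_of_le_of_card_ge (inf_le_left : E ⊓ Subgroup.center G ≤ E) ?_).ge.trans inf_le_right)
        rw [hE2, hb]
        exact Nat.pow_le_pow_right hpp.pos (by omega)
      exact heq.ge ⟨hLE hx, hLC hx⟩
    rcases eq_or_lt_of_le hn4 with hn4' | hn5
    · -- order `p ^ 4`
      subst hn4'
      have hexpQ : ∀ x : G ⧸ T, x ^ p = 1 := fun x => by
        by_contra hx
        exact hmeta (isMetacyclic_cube (by rw [hQ]) hx)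
      have hGE : ∀ a b : G, ⁅a, b⁆ ∈ E := fun a b => hLE (hLL.ge
        (Subgroup.commutator_mem_commutator (show a ∈ L' by simp [hL']) (Subgroup.mem_top b)))
      have h1 := card_le_of_class_two (H := G) hp2
        (fun a b g => (Subgroup.mem_center_iff.1 (hEZ (hGE a b)) g).symm)
        (fun a b => hE.2 _ (hGE a b)) (L := E) (M := T) hall
        (fun x => (hf1 _).1 (by rw [map_pow]; exact hexpQ _))
      rw [hn, hE2, hTcard, ← pow_succ, Nat.pow_le_pow_iff_right hpp.one_lt] at h1
      omega
    · set g := QuotientGroup.mk' E with hg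
      have hP : Nat.card (G ⧸ E) = p ^ (n - 2) := by
        have h1 := Subgroup.card_eq_card_quotient_mul_card_subgroup E
        rw [hn, hE2] at h1
        refine Nat.eq_of_mul_eq_mul_right (pow_pos hpp.pos 2) (h1.symm.trans ?_)
        rw [← pow_add]; congr 1; omega
      have hPnc : ¬ IsCyclic (⊤ : Subgroup (G ⧸ E)) := by
        intro h
        haveI : IsCyclic (G ⧸ E) := isCyclic_of_surjective Subgroup.topEquiv (MulEquiv.surjective _)
        refine hab (le_bot_iff.1 ?_)
        rw [commutator_def, Subgroup.commutator_le]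
        intro a _ b _
        rw [Subgroup.mem_bot, commutatorElement_eq_one_iff_mul_comm]
        exact commutative_of_cyclic_center_quotient g (by rw [hg, QuotientGroup.ker_mk']; exact hEZ) a b
      obtain ⟨Db, -, hDbn, hDbe, hDb2⟩ := CyclicMax.exists_normal_rank_two (hG.to_quotient E) hp2
        (⊤ : Subgroup (G ⧸ E)) inferInstance hPnc
      haveI := hDbn
      have hDcen : Db ≤ Subgroup.center (G ⧸ E) := by
        intro db hdb
        obtain ⟨d, rfl⟩ := QuotientGroup.mk'_surjective E db
        refine Subgroup.mem_center_iff.2 fun vb => ?_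
        obtain ⟨v, rfl⟩ := QuotientGroup.mk'_surjective E vb
        rw [← commutatorElement_eq_one_iff_mul_comm, ← map_commutatorElement]
        refine (QuotientGroup.eq_one_iff _).2 (hall _ ?_)
        set c := ⁅v, d⁆ with hc
        have hcD : g c ∈ Db := by
          rw [hc, map_commutatorElement, commutatorElement_def]
          exact Db.mul_mem (hDbn.conj_mem _ hdb _) (Db.inv_mem hdb)
        have hcE : ⁅d, c⁆ ∈ E := by
          rw [← QuotientGroup.eq_one_iff, ← QuotientGroup.mk'_apply E, map_commutatorElement,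
            commutatorElement_eq_one_iff_mul_comm]
          exact congrArg Subtype.val (hDbe.1.is_comm.comm (⟨g d, hdb⟩ : Db) ⟨g c, hcD⟩)
        have hdpE : d ^ p ∈ E := by
          rw [← QuotientGroup.eq_one_iff, ← QuotientGroup.mk'_apply E, map_pow]
          exact hDbe.2 _ hdb
        obtain ⟨r, hr⟩ : p ∣ p.choose 2 :=
          hpp.dvd_choose_self two_ne_zero (lt_of_le_of_ne hpp.two_le hp2.symm)
        have hcen : ∀ w, Commute ⁅d, c⁆ w := fun w => (Subgroup.mem_center_iff.1 (hEZ hcE) w).symm
        have h1 : v * d * v⁻¹ = c * d := by rw [hc, commutatorElement_def]; group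
        have h2 : v * d ^ p * v⁻¹ = c ^ p * d ^ p := by
          rw [← conj_pow, h1, PSolvable.mul_pow_of_comm (hcen c) (hcen d), hr, pow_mul, hE.2 _ hcE,
            one_pow, mul_one]
        rw [Subgroup.mem_center_iff.1 (hEZ hdpE) v, mul_inv_cancel_right] at h2
        exact right_eq_mul.1 h2
      have hPZ : p ^ 2 ≤ Nat.card (Subgroup.center (G ⧸ E)) := hDb2 ▸ Subgroup.card_le_of_le hDcen
      have hbotP := lcs_eq_bot hP (by omega) hPZ
      rw [show n - 2 - 2 = n - 4 by omega, ← Subgroup.map_top_of_surjective g (QuotientGroup.mk'_surjective E),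
        ← Subgroup.map_lowerCentralSeries, Subgroup.map_eq_bot_iff, hg, QuotientGroup.ker_mk'] at hbotP
      refine hLT ?_
      rw [hLL]
      refine le_trans (le_of_eq ?_) bot_le
      rw [Subgroup.commutator_eq_bot_iff_le_centralizer]
      exact (hbotP.trans hEZ).trans (Subgroup.center_le_centralizer _)
  · exact absurd h hmeta
  · -- a large centralizer upstairs is impossible
    exfalso
    set K := Rb.comap f with hK
    have hKc : Nat.card K = p ^ 4 := by rw [hK, hcomap, hRbc, ← pow_succ']
    have hKnc : ¬ IsCyclic K := by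
      intro hc
      obtain ⟨x, hx⟩ := hc.exists_ofOrder_eq_natCard
      rw [hKc] at hx
      have h1 : (x : G) ^ (p * p) = 1 := by
        rw [pow_mul]
        exact hTexp _ ((hf1 _).1 (by rw [map_pow]; exact hRbe _ x.2))
      have h2 := orderOf_dvd_of_pow_eq_one h1
      rw [Subgroup.orderOf_coe, hx, ← pow_two, Nat.pow_dvd_pow_iff_le_right hpp.one_lt] at h2
      omega
    obtain ⟨A, -, -, hAe, hAc⟩ := CyclicMax.exists_normal_rank_two (hG.to_subgroup K) hp2
      (⊤ : Subgroup K) inferInstance
      fun h => hKnc (isCyclic_of_surjective Subgroup.topEquiv (MulEquiv.surjective _))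
    have hEK : E ≤ K := by
      have hle : A.map K.subtype ≤ E := by
        rintro _ ⟨a, ha, rfl⟩
        exact hall _ (by rw [← map_pow, hAe.2 a ha, map_one])
      have := Subgroup.eq_of_le_of_card_ge hle (by
        rw [Subgroup.card_map_of_injective K.subtype_injective, hAc, hE2])
      exact this ▸ Subgroup.map_subtype_le A
    -- `E` is not central in `K`
    obtain ⟨k', hk', v, hv, hkv⟩ : ∃ k' ∈ K, ∃ v ∈ E, ¬ Commute k' v := by
      by_contra hcon
      push Not at hcon
      have hEKc : ∀ a b : K, ⁅(a : G), (b : G)⁆ ∈ E := by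
        set EK := E.subgroupOf K with hEK'
        have hc2 : Nat.card (K ⧸ EK) = p ^ 2 := by
          have h1 := Subgroup.card_eq_card_quotient_mul_card_subgroup EK
          rw [hKc, Nat.card_congr (Subgroup.subgroupOfEquivOfLe hEK).toEquiv, hE2] at h1
          exact Nat.eq_of_mul_eq_mul_right (pow_pos hpp.pos 2) (h1.symm.trans (pow_add p 2 2))
        intro a b
        have h1 : QuotientGroup.mk' EK ⁅a, b⁆ = 1 := by
          rw [map_commutatorElement, commutatorElement_eq_one_iff_mul_comm]
          exact Fusion.comm_of_card_le_sq ⟨2, le_rfl, hc2⟩ _ _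
        exact (QuotientGroup.eq_one_iff (⁅a, b⁆ : K)).1 h1
      have h1 := card_le_of_class_two (H := K) hp2
        (fun a b g => Subtype.ext (hcon g g.2 _ (hEKc a b)).symm.eq)
        (fun a b => Subtype.ext (hE.2 _ (hEKc a b)))
        (L := E.subgroupOf K) (M := T.subgroupOf K) (fun x hx => hall x (congrArg Subtype.val hx))
        (fun x => (hf1 _).1 (by
          show f ((x : G) ^ p) = 1
          rw [map_pow]; exact hRbe _ x.2))
      rw [hKc, Nat.card_congr (Subgroup.subgroupOfEquivOfLe hEK).toEquiv, hE2,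
        Nat.card_congr (Subgroup.subgroupOfEquivOfLe (hTE.trans hEK)).toEquiv, hTcard, ← pow_succ,
        Nat.pow_le_pow_iff_right hpp.one_lt] at h1
      omega
    obtain ⟨c, rfl⟩ := hfs cb
    -- `c ^ p` lies in `E` but not in `T`
    have hfe : orderOf (f e) = p := orderOf_eq_prime (by rw [← map_pow, hE.2 e he, map_one])
      fun h => heT ((hf1 e).1 h)
    have hcE : c ^ p ∈ E := by
      by_cases hin : f (c ^ p) ∈ Subgroup.zpowers (f e)
      · obtain ⟨i, hi⟩ := Subgroup.mem_zpowers_iff.1 hin
        rw [← map_zpow] at hi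
        have h1 : (e ^ i)⁻¹ * c ^ p ∈ T := QuotientGroup.eq.1 hi
        have := E.mul_mem (E.zpow_mem he i) (hTE h1)
        rwa [mul_inv_cancel_left] at this
      exfalso
      have hEcen : ∀ r : G ⧸ T, Commute (f e) r := by
        intro r
        obtain ⟨x, rfl⟩ := hfs r
        refine commutatorElement_eq_one_iff_commute.1 ?_
        have hxe := RankTwoNormal.comm_central hG hE2 he x
        have hxeE : ⁅x, e⁆ ∈ E := by
          rw [commutatorElement_def]; exact E.mul_mem (hEn.conj_mem e he x) (E.inv_mem he)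
        have hxeT : ⁅x, e⁆ ∈ T := by
          by_contra hxeT
          have hto' : orderOf t = p := hto
          obtain ⟨U, -, -, -, -, hUc, hUm⟩ := RankTwoNormal.pair_data hG hrk
            ((Subgroup.mem_center_iff.1 htC ⁅x, e⁆).symm : Commute t ⁅x, e⁆) hto' (hE.2 _ hxeE) hxeT
          have hUE : U = E := Subgroup.eq_of_le_of_card_ge (fun w hw => by
            obtain ⟨i, j, rfl⟩ := hUm w hw
            exact E.mul_mem (E.zpow_mem (hTE (Subgroup.mem_zpowers t)) i) (E.zpow_mem hxeE j))
            (by rw [hE2, hUc])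
          obtain ⟨i, j, hij⟩ := hUm v (hUE.symm ▸ hv)
          refine hkv (hij ▸ ?_)
          exact ((show Commute k' t from Subgroup.mem_center_iff.1 htC k').zpow_right i).mul_right
            ((hxe k').symm.zpow_right j)
        rw [← map_commutatorElement, hf1, ← commutatorElement_inv]
        exact inv_mem hxeT
      have hcp : (f c ^ p) ^ p = 1 := by
        rw [← pow_mul, ← pow_two, ← hcbo, pow_orderOf_eq_one]
      rw [map_pow] at hin
      obtain ⟨U, -, -, hUab, hUexp, hUc, hUm⟩ :=
        RankTwoNormal.pair_data (IsPGroup.of_card hQ) hrkQ (hEcen _) hfe hcp hin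
      have hle : Rb ≤ U := fun r hr => RankTwoNormal.mem_of_centralizes hrkQ hUab hUexp hUc (hRbe r hr)
        fun u hu => by
          obtain ⟨i, j, rfl⟩ := hUm u hu
          exact ((hEcen r).symm.zpow_right i).mul_right
            (((show Commute r (f c) from Subgroup.mem_centralizer_iff.1 hcb r hr).pow_right p).zpow_right j)
      have h1 := Subgroup.card_le_of_le hle
      rw [hRbc, hUc, Nat.pow_le_pow_iff_right hpp.one_lt] at h1
      omega
    have hcT : c ^ p ∉ T := by
      intro h
      have h1 : f c ^ p = 1 := by rw [← map_pow]; exact (hf1 _).2 h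
      have h2 := orderOf_dvd_of_pow_eq_one h1
      rw [hcbo] at h2
      nlinarith [Nat.le_of_dvd hpp.pos h2, hpp.one_lt]
    obtain ⟨U, -, -, -, -, hUc, hUm⟩ := RankTwoNormal.pair_data hG hrk
      ((Subgroup.mem_center_iff.1 htC (c ^ p)).symm : Commute t (c ^ p)) hto (hE.2 _ hcE) hcT
    have hUE : U = E := Subgroup.eq_of_le_of_card_ge (fun w hw => by
      obtain ⟨i, j, rfl⟩ := hUm w hw
      exact E.mul_mem (E.zpow_mem (hTE (Subgroup.mem_zpowers t)) i) (E.zpow_mem hcE j))
      (by rw [hE2, hUc])
    have hkc : Commute k' (c ^ p) := by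
      have h1 : ⁅k', c⁆ ∈ T := by
        rw [← hf1, map_commutatorElement, commutatorElement_eq_one_iff_mul_comm]
        exact Subgroup.mem_centralizer_iff.1 hcb _ hk'
      have h2 : k' * c * k'⁻¹ = ⁅k', c⁆ * c := by rw [commutatorElement_def]; group
      refine mul_inv_eq_iff_eq_mul.1 ?_
      rw [← conj_pow, h2, (show Commute ⁅k', c⁆ c from (Subgroup.mem_center_iff.1 (hTC h1) c).symm).mul_pow,
        hTexp _ h1, one_mul]
    obtain ⟨i, j, hij⟩ := hUm v (hUE.symm ▸ hv)
    refine hkv (hij ▸ ?_)
    exact ((show Commute k' t from Subgroup.mem_center_iff.1 htC k').zpow_right i).mul_right (hkc.zpow_right j)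

end CfsgLib.RankTwoBlackburn
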