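import Mathlib
import Cfsg.Agent.Lib.PGroup.MaximalClass
import Cfsg.Agent.Lib.PGroup.NormalRankTwo
import Cfsg.Agent.Lib.PGroup.SelfCentralizing
import Cfsg.Agent.Lib.Critical.Basic

/-!
Blackburn: in a `p`-group of rank at most two, `p > 3`, the product of two elements of order `p`
has order at most `p`.
-/

set_option autoImplicit false
set_option linter.style.haveILetI false

open scoped commutatorElement

namespace CfsgLib.RankTwoOmega

universe u

section Formula

variable {G : Type*} [Group G]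

theorem mul_pow_formula (a u b d : G) (hb : u * a * u⁻¹ = b * a) (hd : u * b * u⁻¹ = d * b)
    (hu : u * d * u⁻¹ = d) (hab : Commute a b) (had : Commute a d) (hbd : Commute b d) :
    ∀ n : ℕ, u ^ n * a = b ^ n * d ^ n.choose 2 * a * u ^ n ∧
      (a * u) ^ n = a ^ n * b ^ n.choose 2 * d ^ n.choose 3 * u ^ n := by
  have hu' : Commute u d := mul_inv_eq_iff_eq_mul.mp hu
  have hdb : Commute d b := hbd.symm
  intro n
  induction n with
  | zero => simp
  | succ n ih =>
    obtain ⟨h1, h2⟩ := ih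
    have h1' : u ^ (n + 1) * a = b ^ (n + 1) * d ^ (n + 1).choose 2 * a * u ^ (n + 1) := by
      have e1 : u * b ^ n = d ^ n * b ^ n * u := by
        have := congrArg (· ^ n) hd
        simp only [conj_pow] at this
        rw [mul_inv_eq_iff_eq_mul.mp this, hdb.mul_pow]
      have e2 : u * a = b * a * u := mul_inv_eq_iff_eq_mul.mp hb
      rw [pow_succ', mul_assoc, h1]
      calc u * (b ^ n * d ^ n.choose 2 * a * u ^ n)
          = (u * b ^ n) * d ^ n.choose 2 * a * u ^ n := by group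
        _ = d ^ n * b ^ n * (u * d ^ n.choose 2) * a * u ^ n := by rw [e1]; group
        _ = d ^ n * b ^ n * d ^ n.choose 2 * (u * a) * u ^ n := by
          rw [(hu'.pow_right _).eq]; group
        _ = d ^ n * b ^ n * (d ^ n.choose 2 * b) * a * (u * u ^ n) := by rw [e2]; group
        _ = d ^ n * b ^ n * b * d ^ n.choose 2 * a * (u * u ^ n) := by
          rw [(hdb.pow_left _).eq]; group
        _ = d ^ n * b ^ (n + 1) * d ^ n.choose 2 * a * (u * u ^ n) := by rw [pow_succ b n]; group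
        _ = b ^ (n + 1) * (d ^ n * d ^ n.choose 2) * a * (u * u ^ n) := by
          rw [(hdb.pow_pow n (n + 1)).eq]; group
        _ = _ := by
          rw [← pow_add, show n + n.choose 2 = (n + 1).choose 2 by
            rw [Nat.choose_succ_succ n 1, Nat.choose_one_right]]
    refine ⟨h1', ?_⟩
    rw [pow_succ, h2]
    calc a ^ n * b ^ n.choose 2 * d ^ n.choose 3 * u ^ n * (a * u)
        = a ^ n * b ^ n.choose 2 * d ^ n.choose 3 * (u ^ n * a) * u := by group
      _ = a ^ n * b ^ n.choose 2 * (d ^ n.choose 3 * b ^ n) * (d ^ n.choose 2 * a) * (u ^ n * u) := by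
        rw [h1]; group
      _ = a ^ n * b ^ n.choose 2 * (b ^ n * d ^ n.choose 3) * (a * d ^ n.choose 2) * (u ^ n * u) := by
        rw [(hdb.pow_pow _ _).eq, (had.pow_right _).eq]
      _ = a ^ n * (b ^ (n.choose 2 + n) * (d ^ n.choose 3 * a)) * d ^ n.choose 2 * (u ^ n * u) := by
        rw [pow_add]; group
      _ = a ^ n * (b ^ (n.choose 2 + n) * a) * (d ^ n.choose 3 * d ^ n.choose 2) * (u ^ n * u) := by
        rw [← (had.pow_right _).eq]; group
      _ = a ^ n * a * b ^ (n.choose 2 + n) * d ^ (n.choose 3 + n.choose 2) * (u ^ n * u) := by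
        rw [← (hab.pow_right _).eq, pow_add]; group
      _ = _ := by
        rw [← pow_succ, ← pow_succ,
          show n.choose 2 + n = (n + 1).choose 2 by
            rw [Nat.choose_succ_succ n 1, Nat.choose_one_right, add_comm],
          show n.choose 3 + n.choose 2 = (n + 1).choose 3 by rw [Nat.choose_succ_succ n 2, add_comm]]

/-- Three-step collection: `(a u) ^ p = a ^ p u ^ p`. -/
theorem mul_pow_prime {p : ℕ} (hp : p.Prime) (hp3 : 3 < p) (a u b d : G)
    (hb : u * a * u⁻¹ = b * a) (hd : u * b * u⁻¹ = d * b) (hu : u * d * u⁻¹ = d)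
    (hab : Commute a b) (had : Commute a d) (hbd : Commute b d) (hbp : b ^ p = 1) (hdp : d ^ p = 1) :
    (a * u) ^ p = a ^ p * u ^ p := by
  rw [(mul_pow_formula a u b d hb hd hu hab had hbd p).2]
  obtain ⟨q, hq⟩ := hp.dvd_choose_self two_ne_zero (by omega)
  obtain ⟨r, hr⟩ := hp.dvd_choose_self (k := 3) (by norm_num) hp3
  rw [hq, hr, pow_mul, pow_mul, hbp, hdp, one_pow, one_pow, mul_one, mul_one]

end Formula

variable {G : Type*} [Group G] [Finite G] {p : ℕ} [hp : Fact p.Prime]

theorem commutator_top_lt (hG : IsPGroup p G) (N : Subgroup G) [N.Normal] (hN : N ≠ ⊥) :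
    ⁅N, (⊤ : Subgroup G)⁆ < N := by
  haveI := hG.isNilpotent
  refine lt_of_le_of_ne (Subgroup.commutator_le_left _ _) fun heq => hN ?_
  obtain ⟨c, hc⟩ := (Subgroup.isNilpotent_iff_lowerCentralSeries (⊤ : Subgroup G)).mp inferInstance
  have : ∀ k, N ≤ (⊤ : Subgroup G).lowerCentralSeries k := by
    intro k
    induction k with
    | zero => rw [Subgroup.lowerCentralSeries_zero]; exact le_top
    | succ k ih =>
      rw [Subgroup.lowerCentralSeries_succ, ← heq]
      exact Subgroup.commutator_mono ih le_rfl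
  exact le_bot_iff.mp ((this c).trans hc.le)

/-- In a `p`-group of rank at most two, the centralizer of an elementary subgroup `W` of order
`p ^ 2` has all its elements of order `p` in `W`. -/
theorem mem_of_centralizes (hrk : ∀ E : Subgroup G, Cfsg.IsElementaryAbelian p E → Nat.card E ≤ p ^ 2)
    (W : Subgroup G) (hW : Cfsg.IsElementaryAbelian p W) (hWc : Nat.card W = p ^ 2) {e : G}
    (he : e ^ p = 1) (hcom : ∀ w ∈ W, w * e = e * w) : e ∈ W := by
  by_contra hne
  set E := Subgroup.closure (insert e (W : Set G)) with hE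
  have hWE : W ≤ E := fun w hw => Subgroup.subset_closure (Set.mem_insert_of_mem e hw)
  have heE : e ∈ E := Subgroup.subset_closure (Set.mem_insert e _)
  have hgen : ∀ u ∈ insert e (W : Set G), ∀ v ∈ insert e (W : Set G), u * v = v * u := by
    rintro u (rfl | hu) v (rfl | hv)
    · rfl
    · exact (hcom v hv).symm
    · exact hcom u hu
    · exact congrArg Subtype.val (hW.1.is_comm.comm ⟨u, hu⟩ ⟨v, hv⟩)
  have hEc : IsMulCommutative E := Subgroup.isMulCommutative_closure hgen
  have hEe : ∀ b ∈ E, b ^ p = 1 := by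
    intro b hb
    induction hb using Subgroup.closure_induction with
    | mem u hu => rcases hu with rfl | hu; exacts [he, hW.2 u hu]
    | one => exact one_pow _
    | mul u v hu hv h1 h2 =>
      rw [Commute.mul_pow (show Commute u v from congrArg Subtype.val
        (hEc.is_comm.comm ⟨u, hu⟩ ⟨v, hv⟩)), h1, h2, one_mul]
    | inv u _ h1 => rw [inv_pow, h1, inv_one]
  exact hne ((Subgroup.eq_of_le_of_card_ge hWE (hWc ▸ hrk E ⟨hEc, hEe⟩)).ge heE)

theorem rank_subgroup (hrk : ∀ E : Subgroup G, Cfsg.IsElementaryAbelian p E → Nat.card E ≤ p ^ 2)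
    (H : Subgroup G) (E : Subgroup H) (hE : Cfsg.IsElementaryAbelian p E) : Nat.card E ≤ p ^ 2 := by
  rw [Nat.card_congr (E.equivMapOfInjective H.subtype H.subtype_injective).toEquiv]
  haveI := hE.1
  refine hrk _ ⟨Subgroup.map_isMulCommutative E _, ?_⟩
  rintro _ ⟨w, hw, rfl⟩
  rw [← map_pow, hE.2 w hw, map_one]

/-- A group of exponent `p` and rank at most two has order at most `p ^ 3`. -/
theorem card_le_of_exponent (hG : IsPGroup p G) (hp2 : p ≠ 2) (he : ∀ g : G, g ^ p = 1)
    (hrk : ∀ E : Subgroup G, Cfsg.IsElementaryAbelian p E → Nat.card E ≤ p ^ 2) :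
    Nat.card G ≤ p ^ 3 := by
  by_cases hcyc : IsCyclic G
  · obtain ⟨g, hg⟩ := hcyc.exists_generator
    rw [← orderOf_eq_card_of_forall_mem_zpowers hg]
    exact (Nat.le_of_dvd hp.out.pos (orderOf_dvd_of_pow_eq_one (he g))).trans
      (Nat.le_self_pow (by norm_num) p)
  obtain ⟨W, -, hWn, hWe, hWc⟩ := CfsgLib.CyclicMax.exists_normal_rank_two hG hp2 ⊤ inferInstance
    fun h => hcyc (isCyclic_of_surjective Subgroup.topEquiv (MulEquiv.surjective _))
  haveI := hWn
  haveI := hG.isNilpotent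
  by_cases hWZ : W ≤ Subgroup.center G
  · have hle : (⊤ : Subgroup G) ≤ W := fun g _ => mem_of_centralizes hrk W hWe hWc (he g)
      fun w hw => (Subgroup.mem_center_iff.mp (hWZ hw) g).symm
    rw [← Subgroup.card_top]
    exact (Subgroup.card_le_of_le hle).trans (hWc ▸ Nat.pow_le_pow_right hp.out.pos (by norm_num))
  obtain ⟨a, haW, haZ⟩ := SetLike.not_le_iff_exists.mp hWZ
  obtain ⟨z, hz, hz1⟩ := (W ⊓ Subgroup.center G).bot_or_exists_ne_one.resolve_left
    (CfsgLib.Critical.inf_center_ne_bot W (by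
      rintro rfl
      exact haZ (by rw [Subgroup.mem_bot.mp haW]; exact one_mem _)))
  obtain ⟨hzW, hzC⟩ := Subgroup.mem_inf.mp hz
  have hCa : Subgroup.centralizer ({a} : Set G) ≤ W := by
    intro g hg
    refine mem_of_centralizes hrk W hWe hWc (he g) ?_
    have hDW : W ≤ Subgroup.centralizer ({g} : Set G) := by
      set D := W ⊓ Subgroup.centralizer ({g} : Set G) with hD
      have hzD : z ∈ D := ⟨hzW, Subgroup.mem_centralizer_singleton_iff.mpr
        (Subgroup.mem_center_iff.mp hzC g).symm⟩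
      have haD : a ∈ D := ⟨haW, Subgroup.mem_centralizer_singleton_iff.mpr
        (Subgroup.mem_centralizer_singleton_iff.mp hg).symm⟩
      have : D = W := by
        refine Subgroup.eq_of_le_of_card_ge inf_le_left ?_
        obtain ⟨d, hd⟩ := IsPGroup.iff_card.mp (hG.to_subgroup D)
        have hlt : Nat.card (Subgroup.zpowers z) < Nat.card D := by
          by_contra hc
          have := (Subgroup.eq_of_le_of_card_ge (Subgroup.zpowers_le.mpr hzD) (not_lt.mp hc)).ge haD
          exact haZ (Subgroup.zpowers_le.mpr hzC this)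
        rw [Nat.card_zpowers, orderOf_eq_prime (he z) hz1, hd] at hlt
        rw [hWc, hd]
        refine Nat.pow_le_pow_right hp.out.pos ?_
        by_contra hc
        exact absurd hlt (not_lt.mpr ((Nat.pow_le_pow_right hp.out.pos (by omega : d ≤ 1)).trans_eq
          (pow_one p)))
      exact this ▸ inf_le_right
    exact fun w hw => Subgroup.mem_centralizer_singleton_iff.mp (hDW hw)
  have := CfsgLib.PGroup.card_normalizer_le hG W hWc a haW
    (fun h => haZ (h ▸ one_mem _)) hCa
  rwa [Subgroup.normalizer_eq_top_iff.mpr hWn, Subgroup.card_top] at this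

theorem pow_mul_eq_one : ∀ (n : ℕ) (R : Type u) [Group R] [Finite R], Nat.card R = n → 3 < p →
    IsPGroup p R → (∀ E : Subgroup R, Cfsg.IsElementaryAbelian p E → Nat.card E ≤ p ^ 2) →
      ∀ x y : R, x ^ p = 1 → y ^ p = 1 → (x * y) ^ p = 1 := by
  intro n
  induction n using Nat.strong_induction_on with
  | _ n ih =>
  intro R _ _ hn hp3 hR hrk x y hx hy
  by_cases hcomm : Commute x y
  · rw [hcomm.mul_pow, hx, hy, one_mul]
  haveI := hR.isNilpotent
  have hsub : ∀ H : Subgroup R, H ≠ ⊤ → ∀ u ∈ H, ∀ v ∈ H, u ^ p = 1 → v ^ p = 1 →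
      (u * v) ^ p = 1 := by
    intro H hH u hu v hv hu1 hv1
    have hlt : Nat.card H < n := by
      refine lt_of_le_of_ne (hn ▸ Subgroup.card_le_card_group H) fun h => hH ?_
      exact H.eq_top_of_card_eq (h.trans hn.symm)
    exact congrArg Subtype.val (ih _ hlt H rfl hp3 (hR.to_subgroup H) (rank_subgroup hrk H)
      ⟨u, hu⟩ ⟨v, hv⟩ (Subtype.ext hu1) (Subtype.ext hv1))
  by_cases hgen : Subgroup.closure ({x, y} : Set R) = ⊤
  swap
  · exact hsub _ hgen x (Subgroup.subset_closure (Set.mem_insert x _)) y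
      (Subgroup.subset_closure (Set.mem_insert_of_mem x rfl)) hx hy
  set M := Subgroup.normalClosure ({x} : Set R) with hMdef
  have hxM : x ∈ M := Subgroup.subset_normalClosure rfl
  haveI hMn : M.Normal := Subgroup.normalClosure_normal
  have hMtop : M ≠ ⊤ := by
    intro htop
    have hne : Subgroup.zpowers x ≠ ⊤ := fun h => by
      obtain ⟨j, hj⟩ := Subgroup.mem_zpowers_iff.mp (h.ge (Subgroup.mem_top y))
      exact hcomm (hj ▸ (Commute.refl x).zpow_right j)
    obtain ⟨K, hK, hxK⟩ := (eq_top_or_exists_le_coatom (Subgroup.zpowers x)).resolve_left hne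
    haveI : K.Normal := Subgroup.NormalizerCondition.normal_of_coatom K
      (Group.normalizerCondition_of_isNilpotent (G := R)) hK
    exact hK.1 (eq_top_iff.mpr (htop.ge.trans (Subgroup.normalClosure_le_normal
      (Set.singleton_subset_iff.mpr (hxK (Subgroup.mem_zpowers x))))))
  have hMe : ∀ m ∈ M, m ^ p = 1 := by
    intro m hm
    induction hm using Subgroup.closure_induction with
    | mem u hu =>
      obtain ⟨w, hw, hwu⟩ := Group.mem_conjugatesOfSet_iff.mp hu
      rw [Set.mem_singleton_iff.mp hw] at hwu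
      obtain ⟨g, rfl⟩ := isConj_iff.mp hwu
      rw [conj_pow, hx, mul_one, mul_inv_cancel]
    | one => exact one_pow _
    | mul u v hu hv h1 h2 => exact hsub M hMtop u hu v hv h1 h2
    | inv u _ h1 => rw [inv_pow, h1, inv_one]
  have hM3 : Nat.card M ≤ p ^ 3 := card_le_of_exponent (hR.to_subgroup M) (by omega)
    (fun m => Subtype.ext (hMe m m.2)) (rank_subgroup hrk M)
  have hMy : M ⊔ Subgroup.zpowers y = ⊤ := by
    rw [eq_top_iff, ← hgen, Subgroup.closure_le]
    rintro w (rfl | rfl)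
    · exact Subgroup.mem_sup_left hxM
    · exact Subgroup.mem_sup_right (Subgroup.mem_zpowers w)
  have hR4 : Nat.card R ≤ p ^ 4 := by
    have h1 : (QuotientGroup.mk' M).ker ⊔ Subgroup.zpowers y = ⊤ := by rwa [QuotientGroup.ker_mk']
    have h2 : Subgroup.zpowers (QuotientGroup.mk' M y) = ⊤ := by
      rw [← MonoidHom.map_zpowers, ← Subgroup.map_comap_eq_self_of_surjective
        (QuotientGroup.mk'_surjective M) (⊤ : Subgroup (R ⧸ M)), Subgroup.comap_top, ← h1,
        Subgroup.map_sup, MonoidHom.map_zpowers]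
      simp
    rw [Subgroup.card_eq_card_quotient_mul_card_subgroup M, ← Subgroup.card_top (G := R ⧸ M), ← h2,
      Nat.card_zpowers, show p ^ 4 = p * p ^ 3 by ring]
    refine Nat.mul_le_mul (Nat.le_of_dvd hp.out.pos (orderOf_dvd_of_pow_eq_one ?_)) hM3
    rw [← map_pow, hy, map_one]
  have hlcs : ∀ g h : R, ∀ k, g ∈ (⊤ : Subgroup R).lowerCentralSeries k →
      h * g * h⁻¹ * g⁻¹ ∈ (⊤ : Subgroup R).lowerCentralSeries (k + 1) := by
    intro g h k hg
    rw [Subgroup.lowerCentralSeries_succ]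
    have := Subgroup.commutator_mem_commutator hg (Subgroup.mem_top h)
    rw [show h * g * h⁻¹ * g⁻¹ = ⁅g, h⁆⁻¹ by rw [commutatorElement_def]; group]
    exact inv_mem this
  have hlcs3 : (⊤ : Subgroup R).lowerCentralSeries 3 = ⊥ := by
    obtain ⟨r, hr⟩ := IsPGroup.iff_card.mp hR
    have hr4 : r ≤ 4 := (Nat.pow_le_pow_iff_right hp.out.one_lt).mp (hr ▸ hR4)
    refine Subgroup.eq_bot_of_card_le _ ?_
    have := CfsgLib.MaxClass.card_lcs_succ_le hr 2
    rwa [show r - 2 - 2 = 0 by omega, pow_zero] at this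
  -- collection for a fixed pair
  have collect : ∀ a u : R, ∀ N : Subgroup R, N.Normal → u * a * u⁻¹ * a⁻¹ ∈ N →
      (∀ w ∈ N, Commute a w ∧ w ^ p = 1) → (∀ v ∈ N, ∀ w ∈ N, Commute v w) →
        (a * u) ^ p = a ^ p * u ^ p := by
    intro a u N hN hbN haN hNc
    set b := u * a * u⁻¹ * a⁻¹ with hb
    set d := u * b * u⁻¹ * b⁻¹ with hd
    have hdN : d ∈ N := mul_mem (hN.conj_mem b hbN u) (inv_mem hbN)
    have hd2 : d ∈ (⊤ : Subgroup R).lowerCentralSeries 2 := hlcs b u 1 (hlcs a u 0 (by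
      rw [Subgroup.lowerCentralSeries_zero]; exact Subgroup.mem_top a))
    have hd3 := hlcs d u 2 hd2
    rw [hlcs3, Subgroup.mem_bot, mul_inv_eq_one] at hd3
    exact mul_pow_prime hp.out hp3 a u b d (by rw [hb, inv_mul_cancel_right])
      (by rw [hd, inv_mul_cancel_right]) hd3 (haN b hbN).1 (haN d hdN).1 (hNc b hbN d hdN)
      (haN b hbN).2 (haN d hdN).2
  by_cases hMab : ∀ u ∈ M, ∀ v ∈ M, Commute u v
  · rw [collect x y M hMn (mul_mem (hMn.conj_mem x hxM y) (inv_mem hxM))
      (fun w hw => ⟨hMab x hxM w hw, hMe w hw⟩) hMab, hx, hy, one_mul]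
  have hMnc : ¬ IsCyclic M := fun h => hMab fun u hu v hv => by
    haveI := h
    exact congrArg Subtype.val ((IsCyclic.commGroup (α := M)).mul_comm ⟨u, hu⟩ ⟨v, hv⟩)
  obtain ⟨W, hWM, hWn, hWe, hWc⟩ :=
    CfsgLib.CyclicMax.exists_normal_rank_two hR (by omega) M hMn hMnc
  have hWcomm : ∀ v ∈ W, ∀ w ∈ W, Commute v w := fun v hv w hw =>
    congrArg Subtype.val (hWe.1.is_comm.comm ⟨v, hv⟩ ⟨w, hw⟩)
  obtain ⟨m, hmM, a, haW, hma⟩ : ∃ m ∈ M, ∃ a ∈ W, a * m ≠ m * a := by
    by_contra hall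
    push Not at hall
    refine hMab fun u hu v hv => hWcomm u ?_ v ?_
    · exact mem_of_centralizes hrk W hWe hWc (hMe u hu) fun w hw => hall u hu w hw
    · exact mem_of_centralizes hrk W hWe hWc (hMe v hv) fun w hw => hall v hv w hw
  haveI := hWn
  set w := m * a * m⁻¹ * a⁻¹ with hw
  have hw1 : w ≠ 1 := fun h => hma (by rw [hw, mul_inv_eq_one, mul_inv_eq_iff_eq_mul] at h; exact h.symm)
  set V := ⁅W, (⊤ : Subgroup R)⁆ with hV
  have hVW : V < W := commutator_top_lt hR W (by
    intro h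
    rw [h, Subgroup.card_bot] at hWc
    exact (Nat.one_lt_pow two_ne_zero hp.out.one_lt).ne hWc)
  have hmemV : ∀ g, ∀ v ∈ W, g * v * g⁻¹ * v⁻¹ ∈ V := fun g v hv => by
    rw [show g * v * g⁻¹ * v⁻¹ = ⁅v, g⁆⁻¹ by rw [commutatorElement_def]; group]
    exact inv_mem (Subgroup.commutator_mem_commutator hv (Subgroup.mem_top g))
  have hwV : w ∈ V := hmemV m a haW
  have hVz : V = Subgroup.zpowers w := by
    symm
    refine Subgroup.eq_of_le_of_card_ge (Subgroup.zpowers_le.mpr hwV) ?_
    rw [Nat.card_zpowers, orderOf_eq_prime (hWe.2 w (hVW.le hwV)) hw1]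
    obtain ⟨k, hk⟩ := IsPGroup.iff_card.mp (hR.to_subgroup V)
    have : Nat.card V < p ^ 2 := hWc ▸ lt_of_le_of_ne (Subgroup.card_le_of_le hVW.le)
      fun h => hVW.ne (Subgroup.eq_of_le_of_card_ge hVW.le h.ge)
    rw [hk] at this ⊢
    have hk1 := (Nat.pow_lt_pow_iff_right hp.out.one_lt).mp this
    exact (Nat.pow_le_pow_right hp.out.pos (by omega : k ≤ 1)).trans_eq (pow_one p)
  have hwc : ∀ g, g * w * g⁻¹ = w := by
    intro g
    haveI : V.Normal := Subgroup.commutator_normal W ⊤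
    have hlt := commutator_top_lt hR V (by
      intro h
      rw [h] at hwV
      exact hw1 hwV)
    have hbot : ⁅V, (⊤ : Subgroup R)⁆ = ⊥ := by
      rw [hVz] at hlt ⊢
      refine Subgroup.eq_bot_of_card_le _ ?_
      obtain ⟨k, hk⟩ := IsPGroup.iff_card.mp (hR.to_subgroup ⁅Subgroup.zpowers w, (⊤ : Subgroup R)⁆)
      have h1 : Nat.card ↥⁅Subgroup.zpowers w, (⊤ : Subgroup R)⁆ < p := by
        rw [← orderOf_eq_prime (hWe.2 w (hVW.le hwV)) hw1, ← Nat.card_zpowers]
        exact lt_of_le_of_ne (Subgroup.card_le_of_le hlt.le)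
          fun h => hlt.ne (Subgroup.eq_of_le_of_card_ge hlt.le h.ge)
      rw [hk] at h1 ⊢
      have := (Nat.pow_lt_pow_iff_right hp.out.one_lt).mp (h1.trans_eq (pow_one p).symm)
      rw [show k = 0 by omega, pow_zero]
    have h1 := Subgroup.commutator_mem_commutator hwV (Subgroup.mem_top g)
    rw [hbot, Subgroup.mem_bot, commutatorElement_eq_one_iff_mul_comm] at h1
    rw [← h1, mul_inv_cancel_right]
  have hpw : ∀ i : ℕ, m ^ i * a * (m ^ i)⁻¹ = w ^ i * a := by
    intro i
    induction i with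
    | zero => simp
    | succ i ihi =>
      calc m ^ (i + 1) * a * (m ^ (i + 1))⁻¹ = m * (m ^ i * a * (m ^ i)⁻¹) * m⁻¹ := by
            rw [pow_succ']; group
        _ = (m * w ^ i * m⁻¹) * (m * a * m⁻¹) := by rw [ihi]; group
        _ = w ^ i * (w * a) := by
          rw [← conj_pow, hwc, show m * a * m⁻¹ = w * a by rw [hw, inv_mul_cancel_right]]
        _ = w ^ (i + 1) * a := by rw [pow_succ w i]; group
  -- every element is a centralizer of `W` times an element of `M`
  obtain ⟨z, hz, hz1⟩ := (W ⊓ Subgroup.center R).bot_or_exists_ne_one.resolve_left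
    (CfsgLib.Critical.inf_center_ne_bot W (ne_bot_of_gt hVW))
  obtain ⟨hzW, hzC⟩ := Subgroup.mem_inf.mp hz
  have hCW : ∀ g, g * a * g⁻¹ = a → ∀ v ∈ W, g * v * g⁻¹ = v := by
    intro g hg v hv
    set D := W ⊓ Subgroup.centralizer ({g} : Set R) with hD
    have hzD : z ∈ D := ⟨hzW, Subgroup.mem_centralizer_singleton_iff.mpr
      (Subgroup.mem_center_iff.mp hzC g).symm⟩
    have haD : a ∈ D := ⟨haW, Subgroup.mem_centralizer_singleton_iff.mpr
      (mul_inv_eq_iff_eq_mul.mp hg).symm⟩
    have : D = W := by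
      refine Subgroup.eq_of_le_of_card_ge inf_le_left ?_
      obtain ⟨d, hd⟩ := IsPGroup.iff_card.mp (hR.to_subgroup D)
      have hlt : Nat.card (Subgroup.zpowers z) < Nat.card D := by
        by_contra hc
        have := (Subgroup.eq_of_le_of_card_ge (Subgroup.zpowers_le.mpr hzD) (not_lt.mp hc)).ge haD
        exact hma ((Subgroup.mem_center_iff.mp (Subgroup.zpowers_le.mpr hzC this) m).symm)
      rw [Nat.card_zpowers, orderOf_eq_prime (hWe.2 z hzW) hz1, hd] at hlt
      rw [hWc, hd]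
      refine Nat.pow_le_pow_right hp.out.pos ?_
      by_contra hc
      exact absurd hlt (not_lt.mpr ((Nat.pow_le_pow_right hp.out.pos (by omega : d ≤ 1)).trans_eq
        (pow_one p)))
    rw [← Subgroup.mem_centralizer_singleton_iff.mp ((this.ge hv).2 : v ∈ Subgroup.centralizer {g}),
      mul_inv_cancel_right]
  obtain ⟨j, hj⟩ := Subgroup.mem_zpowers_iff.mp (hVz.le (hmemV y a haW))
  obtain ⟨i, hi⟩ : ∃ i : ℕ, w ^ i = w ^ j := by
    have : w ^ j ∈ Submonoid.powers w :=
      mem_powers_iff_mem_zpowers.mpr (Subgroup.zpow_mem _ (Subgroup.mem_zpowers w) j)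
    exact this
  set u := m ^ i with hu
  have huM : u ∈ M := pow_mem hmM i
  set c := y * u⁻¹ with hc
  have hyu : y * a * y⁻¹ = w ^ i * a := by rw [hi, hj, inv_mul_cancel_right]
  have hca : c * a * c⁻¹ = a := by
    have h1 : u⁻¹ * (w ^ i * a) * u = a := by
      rw [← hpw i, hu]; group
    have h2 : u * a * u⁻¹ = y * a * y⁻¹ := (hpw i).trans hyu.symm
    have hwa : Commute (w ^ i) a := hWcomm _ (pow_mem (hVW.le hwV) i) a haW
    have hwi : ∀ g, g * w ^ i * g⁻¹ = w ^ i := fun g => by rw [← conj_pow, hwc]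
    have hua : u⁻¹ * a * u = (w ^ i)⁻¹ * a := by
      have hfix : u⁻¹ * w ^ i * u = w ^ i := by simpa using hwi u⁻¹
      have : u⁻¹ * (w ^ i * a) * u = (u⁻¹ * w ^ i * u) * (u⁻¹ * a * u) := by group
      rw [h1, hfix] at this
      rw [eq_inv_mul_iff_mul_eq, ← this]
    have hyw : y * (w ^ i)⁻¹ * y⁻¹ = (w ^ i)⁻¹ := by
      rw [show y * (w ^ i)⁻¹ * y⁻¹ = (y * w ^ i * y⁻¹)⁻¹ by group, hwi]
    calc c * a * c⁻¹ = y * (u⁻¹ * a * u) * y⁻¹ := by rw [hc]; group
      _ = (y * (w ^ i)⁻¹ * y⁻¹) * (y * a * y⁻¹) := by rw [hua]; group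
      _ = a := by rw [hyw, hyu, inv_mul_cancel_left]
  have hcW : ∀ v ∈ W, Commute c v := fun v hv => mul_inv_eq_iff_eq_mul.mp (hCW c hca v hv)
  haveI : (Subgroup.centralizer (W : Set R)).Normal := inferInstance
  have hcC : c ∈ Subgroup.centralizer (W : Set R) := fun v hv => (hcW v hv).eq.symm
  have hb : u * c * u⁻¹ * c⁻¹ ∈ W := by
    refine mem_of_centralizes hrk W hWe hWc (hMe _ ?_) fun v hv => ?_
    · rw [show u * c * u⁻¹ * c⁻¹ = u * (c * u⁻¹ * c⁻¹) by group]
      exact mul_mem huM (hMn.conj_mem _ (inv_mem huM) c)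
    · exact (mul_mem (Subgroup.Normal.conj_mem inferInstance c hcC u) (inv_mem hcC)) v hv
  have hyc : y = c * u := by rw [hc, inv_mul_cancel_right]
  have hcp : c ^ p = 1 := by
    have := collect c u W hWn hb (fun v hv => ⟨hcW v hv, hWe.2 v hv⟩) hWcomm
    rwa [← hyc, hy, hMe u huM, mul_one, eq_comm] at this
  have hcW' : c ∈ W := mem_of_centralizes hrk W hWe hWc hcp fun v hv => (hcW v hv).eq.symm
  have hyM : y ∈ M := hyc ▸ mul_mem (hWM hcW') huM
  exact hMe _ (mul_mem hxM hyM)

end CfsgLib.RankTwoOmega
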