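import Mathlib
import Cfsg.Agent.Lib.PGroup.RankTwoOmega
import Cfsg.Agent.Lib.Fusion.RankTwoInversion
import Cfsg.Agent.Lib.PSolvable.Omega
import Cfsg.Prelude.Def_PLocal

/-!
The shape of a non-metacyclic `p`-group of rank two, `p > 3`: the elements of exponent `p` form a
nonabelian subgroup `R` of order `p ^ 3` and the quotient by `R` is cyclic.
-/

set_option autoImplicit false
set_option linter.style.haveILetI false

namespace CfsgLib.RankTwoShape

open CfsgLib.Fusion

section Formulas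

variable {G : Type*} [Group G]

/-- Conjugation by a power, two steps deep. -/
theorem conj_pow_two_steps {r u b d : G} (hb : u * r * u⁻¹ = r * b) (hd : u * b * u⁻¹ = b * d)
    (hdu : Commute d u) (hdb : Commute d b) :
    ∀ n : ℕ, u ^ n * r * (u ^ n)⁻¹ = r * b ^ n * d ^ n.choose 2 := by
  intro n
  induction n with
  | zero => simp
  | succ n ih =>
    have e1 : u * b ^ n * u⁻¹ = b ^ n * d ^ n := by rw [← conj_pow, hd, hdb.symm.mul_pow]
    have e2 : u * d ^ n.choose 2 * u⁻¹ = d ^ n.choose 2 := by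
      rw [← (hdu.pow_left _).eq, mul_inv_cancel_right]
    calc u ^ (n + 1) * r * (u ^ (n + 1))⁻¹ = u * (r * b ^ n * d ^ n.choose 2) * u⁻¹ := by
          rw [← ih, pow_succ']; group
      _ = (u * r * u⁻¹) * (u * b ^ n * u⁻¹) * (u * d ^ n.choose 2 * u⁻¹) := by group
      _ = r * b * (b ^ n * d ^ n) * d ^ n.choose 2 := by rw [hb, e1, e2]
      _ = r * b ^ (n + 1) * d ^ (n + 1).choose 2 := by
          rw [Nat.choose_succ_succ' n 1, Nat.choose_one_right, pow_add d]
          conv_rhs => rw [pow_succ' b]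
          simp only [mul_assoc]

/-- Three-step collection of `(r u) ^ p`. -/
theorem mul_pow_three {p : ℕ} (hp : p.Prime) (hp3 : 3 < p) {r u b d e : G}
    (hb : u * r * u⁻¹ = r * b) (hd : u * b * u⁻¹ = b * d) (he : b * r = e * r * b)
    (hdu : Commute d u) (hdb : Commute d b) (hdr : Commute d r)
    (her : Commute e r) (heb : Commute e b)
    (hbp : b ^ p = 1) (hdp : d ^ p = 1) (hep : e ^ p = 1) :
    (r * u) ^ p = r ^ p * u ^ p := by
  have key : ∀ n : ℕ, (r * u) ^ n = r ^ n * b ^ n.choose 2 * (d * e) ^ n.choose 3 * u ^ n := by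
    intro n
    induction n with
    | zero => simp
    | succ n ih =>
      have hder : Commute (d * e) r := hdr.mul_left her
      have hdeb : Commute (d * e) b := hdb.mul_left heb
      have hu : u ^ n * r = r * b ^ n * d ^ n.choose 2 * u ^ n := by
        rw [← conj_pow_two_steps hb hd hdu hdb n, inv_mul_cancel_right]
      have hbr : ∀ m : ℕ, b ^ m * r = e ^ m * r * b ^ m := by
        intro m
        induction m with
        | zero => simp
        | succ m ihm =>
          calc b ^ (m + 1) * r = b * (b ^ m * r) := by rw [pow_succ', mul_assoc]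
            _ = (b * e ^ m) * r * b ^ m := by rw [ihm]; simp only [mul_assoc]
            _ = e ^ m * (b * r) * b ^ m := by rw [← (heb.pow_left m).eq]; simp only [mul_assoc]
            _ = e ^ (m + 1) * r * b ^ (m + 1) := by
              rw [he, pow_succ e, pow_succ' b]; simp only [mul_assoc]
      calc (r * u) ^ (n + 1)
          = r ^ n * b ^ n.choose 2 * ((d * e) ^ n.choose 3 * (u ^ n * r)) * u := by
            rw [pow_succ, ih]; simp only [mul_assoc]
        _ = r ^ n * b ^ n.choose 2 * (((d * e) ^ n.choose 3 * r) * b ^ n) * d ^ n.choose 2 *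
            u ^ (n + 1) := by rw [hu, pow_succ u]; simp only [mul_assoc]
        _ = r ^ n * (b ^ n.choose 2 * r) * ((d * e) ^ n.choose 3 * b ^ n) * d ^ n.choose 2 *
            u ^ (n + 1) := by rw [(hder.pow_left _).eq]; simp only [mul_assoc]
        _ = r ^ n * (e ^ n.choose 2 * r) * (b ^ n.choose 2 * b ^ n) *
            ((d * e) ^ n.choose 3 * d ^ n.choose 2) * u ^ (n + 1) := by
            rw [hbr, (hdeb.pow_pow _ _).eq]; simp only [mul_assoc]
        _ = r ^ (n + 1) * (b ^ n.choose 2 * b ^ n) *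
            (e ^ n.choose 2 * ((d * e) ^ n.choose 3 * d ^ n.choose 2)) * u ^ (n + 1) := by
            rw [(her.pow_left _).eq, pow_succ r]
            simp only [mul_assoc]
            congr 2
            rw [← mul_assoc (e ^ n.choose 2) (b ^ n.choose 2), (heb.pow_pow _ _).eq]
            simp only [mul_assoc]
            rw [← mul_assoc (e ^ n.choose 2) (b ^ n), (heb.pow_pow _ _).eq]
            simp only [mul_assoc]
        _ = r ^ (n + 1) * b ^ (n + 1).choose 2 * (d * e) ^ (n + 1).choose 3 * u ^ (n + 1) := by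
            have hcde : Commute d e → e ^ n.choose 2 * ((d * e) ^ n.choose 3 * d ^ n.choose 2) =
                (d * e) ^ (n + 1).choose 3 := by
              intro hc
              rw [Nat.choose_succ_succ' n 2, hc.mul_pow, hc.mul_pow, pow_add d, pow_add e]
              have k1 := (hc.pow_pow (n.choose 3) (n.choose 2)).eq
              have k2 := (hc.pow_pow (n.choose 2) (n.choose 2)).eq
              have k3 := (hc.pow_pow (n.choose 2) (n.choose 3)).eq
              have k4 := ((Commute.refl d).pow_pow (n.choose 3) (n.choose 2)).eq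
              calc e ^ n.choose 2 * (d ^ n.choose 3 * e ^ n.choose 3 * d ^ n.choose 2)
                  = (e ^ n.choose 2 * d ^ n.choose 3) * (e ^ n.choose 3 * d ^ n.choose 2) := by
                    simp only [mul_assoc]
                _ = d ^ n.choose 3 * (e ^ n.choose 2 * d ^ n.choose 2) * e ^ n.choose 3 := by
                    rw [← k1, ← k3]; simp only [mul_assoc]
                _ = (d ^ n.choose 3 * d ^ n.choose 2) * (e ^ n.choose 2 * e ^ n.choose 3) := by
                    rw [← k2]; simp only [mul_assoc]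
                _ = _ := by rw [k4]
            have hc : Commute d e := by
              have h2 : e = b * r * b⁻¹ * r⁻¹ := by rw [he]; group
              rw [h2]
              exact (((hdb.mul_right hdr).mul_right hdb.inv_right).mul_right hdr.inv_right)
            rw [hcde hc, Nat.choose_succ_succ' n 1, Nat.choose_one_right, ← pow_add,
              add_comm (n.choose 2)]
  rw [key]
  obtain ⟨q, hq⟩ := hp.dvd_choose_self two_ne_zero (by omega)
  obtain ⟨t, ht⟩ := hp.dvd_choose_self (k := 3) (by norm_num) hp3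
  have hde : (d * e) ^ p = 1 := by
    have h2 : e = b * r * b⁻¹ * r⁻¹ := by rw [he]; group
    have hc : Commute d e := h2 ▸
      (((hdb.mul_right hdr).mul_right hdb.inv_right).mul_right hdr.inv_right)
    rw [hc.mul_pow, hdp, hep, one_mul]
  rw [hq, ht, pow_mul, pow_mul, hbp, hde, one_pow, one_pow, mul_one, mul_one]

end Formulas

/-- A `p`-group of automorphisms of a group of order `p ^ 2` has order at most `p`. -/
theorem card_le_prime {V : Type*} [Group V] [Finite V] {p : ℕ} [Fact p.Prime]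
    (hV : Nat.card V = p ^ 2) {H : Subgroup (MulAut V)} (hH : IsPGroup p H) : Nat.card H ≤ p := by
  classical
  have hp := (Fact.out : p.Prime)
  have : Finite (MulAut V) :=
    Finite.of_injective (fun e : MulAut V => (e : V → V)) fun a b h => MulEquiv.ext (congrFun h)
  rcases eq_or_ne H ⊥ with rfl | hne
  · rw [Subgroup.card_bot]; exact hp.one_lt.le
  obtain ⟨σ, hσH, hσ1⟩ := (Subgroup.ne_bot_iff_exists_ne_one.1 hne |> fun ⟨⟨a, ha⟩, h⟩ =>
    (⟨a, ha, fun e => h (Subtype.ext e)⟩ : ∃ a ∈ H, a ≠ 1))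
  obtain ⟨n, hn⟩ := hH ⟨σ, hσH⟩
  obtain ⟨Z, hZ, -, hfix, hd⟩ := exists_fixed_line ⟨2, le_rfl, hV⟩ (n := n)
    (congrArg Subtype.val hn) hσ1
  -- the fixed line of `σ` is the fixed line of every element of `H`
  have hline : ∀ τ ∈ H, (∀ z ∈ Z, τ z = z) ∧ ∀ x, x⁻¹ * τ x ∈ Z := by
    intro τ hτ
    rcases eq_or_ne τ 1 with rfl | hτ1
    · exact ⟨fun z _ => rfl, fun x => by simp⟩
    obtain ⟨m, hm⟩ := hH ⟨τ, hτ⟩
    obtain ⟨Z', hZ', -, hfix', hd'⟩ := exists_fixed_line ⟨2, le_rfl, hV⟩ (n := m)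
      (congrArg Subtype.val hm) hτ1
    suffices h : Z' = Z by subst h; exact ⟨hfix', hd'⟩
    by_contra hne'
    -- a point fixed by all of `H`
    have hinv : ∃ v : V, v ≠ 1 ∧ ∀ h ∈ H, h v = v := by
      have h1 := hH.card_modEq_card_fixedPoints V
      have h2 : p ∣ Nat.card (MulAction.fixedPoints H V) :=
        (Nat.ModEq.dvd_iff h1 dvd_rfl).1 (hV ▸ dvd_pow_self p two_ne_zero)
      have h3 : (1 : V) ∈ MulAction.fixedPoints H V := fun h => map_one (h : MulAut V)
      have h4 : 1 < Nat.card (MulAction.fixedPoints H V) := by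
        haveI : Nonempty (MulAction.fixedPoints H V) := ⟨⟨1, h3⟩⟩
        exact lt_of_lt_of_le hp.one_lt (Nat.le_of_dvd Nat.card_pos h2)
      haveI := Finite.one_lt_card_iff_nontrivial.1 h4
      obtain ⟨⟨v, hv⟩, hv1⟩ := exists_ne (⟨1, h3⟩ : MulAction.fixedPoints H V)
      exact ⟨v, fun e => hv1 (Subtype.ext e), fun h hh => hv ⟨h, hh⟩⟩
    obtain ⟨v, hv1, hv⟩ := hinv
    have hmem : ∀ (Y : Subgroup V) (ρ : MulAut V), Nat.card Y = p → ρ v = v →
        (∀ z ∈ Y, ρ z = z) → ρ ≠ 1 → v ∈ Y := by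
      intro Y ρ hY hρv hρY hρ1
      by_contra hvY
      have h5 : Y ≤ (ρ.toMonoidHom).eqLocus (MonoidHom.id V) := hρY
      have h6 : Y < (ρ.toMonoidHom).eqLocus (MonoidHom.id V) :=
        lt_of_le_of_ne h5 fun e => hvY (e ▸ (hρv : v ∈ (ρ.toMonoidHom).eqLocus (MonoidHom.id V)))
      obtain ⟨i, hi, hic⟩ := (Nat.dvd_prime_pow hp).1 (hV ▸
        Subgroup.card_subgroup_dvd_card ((ρ.toMonoidHom).eqLocus (MonoidHom.id V)))
      have h7 : i = 2 := by
        by_contra hi2
        refine h6.ne (Subgroup.eq_of_le_of_card_ge h5 ?_)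
        rw [hic, hY]
        exact (Nat.pow_le_pow_right hp.pos (by omega : i ≤ 1)).trans_eq (pow_one p)
      refine hρ1 (MulEquiv.ext fun x => ?_)
      have htop := ((ρ.toMonoidHom).eqLocus (MonoidHom.id V)).eq_top_of_card_eq (by rw [hic, h7, hV])
      exact (htop ▸ Subgroup.mem_top x : x ∈ (ρ.toMonoidHom).eqLocus (MonoidHom.id V))
    have hvz : ∀ Y : Subgroup V, Nat.card Y = p → v ∈ Y → Y = Subgroup.zpowers v := by
      intro Y hY hvY
      refine (Subgroup.eq_of_le_of_card_ge (Subgroup.zpowers_le.2 hvY) ?_).symm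
      rw [hY, Nat.card_zpowers]
      rcases (Nat.dvd_prime hp).1 (hY ▸ Subgroup.orderOf_dvd_natCard Y hvY) with h | h
      · exact absurd (orderOf_eq_one_iff.1 h) hv1
      · rw [h]
    exact hne' ((hvz Z' hZ' (hmem Z' τ hZ' (hv τ hτ) hfix' hτ1)).trans
      (hvz Z hZ (hmem Z σ hZ (hv σ hσH) hfix hσ1)).symm)
  obtain ⟨w, hw⟩ : ∃ w : V, w ∉ Z := by
    by_contra hall
    push Not at hall
    have h : Nat.card Z = Nat.card V := by
      rw [(Subgroup.eq_top_iff' Z).2 hall, Subgroup.card_top]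
    rw [hZ, hV] at h
    nlinarith [hp.one_lt]
  rw [← hZ]
  refine Nat.card_le_card_of_injective (fun h : H => (⟨w⁻¹ * (h : MulAut V) w, (hline h h.2).2 w⟩ : Z))
    fun h k e => Subtype.ext (MulEquiv.ext fun x => ?_)
  have he : (h : MulAut V) w = (k : MulAut V) w := mul_left_cancel (Subtype.ext_iff.1 e)
  have h5 : Z ≤ ((h : MulAut V).toMonoidHom).eqLocus (k : MulAut V).toMonoidHom := fun z hz =>
    ((hline h h.2).1 z hz).trans ((hline k k.2).1 z hz).symm
  have h6 : Z < ((h : MulAut V).toMonoidHom).eqLocus (k : MulAut V).toMonoidHom :=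
    lt_of_le_of_ne h5 fun e' => hw (e' ▸ (he : w ∈ ((h : MulAut V).toMonoidHom).eqLocus (k : MulAut V).toMonoidHom))
  obtain ⟨i, hi, hic⟩ := (Nat.dvd_prime_pow hp).1 (hV ▸
    Subgroup.card_subgroup_dvd_card (((h : MulAut V).toMonoidHom).eqLocus (k : MulAut V).toMonoidHom))
  have h7 : i = 2 := by
    by_contra hi2
    refine h6.ne (Subgroup.eq_of_le_of_card_ge h5 ?_)
    rw [hic, hZ]
    exact (Nat.pow_le_pow_right hp.pos (by omega : i ≤ 1)).trans_eq (pow_one p)
  have htop := (((h : MulAut V).toMonoidHom).eqLocus (k : MulAut V).toMonoidHom).eq_top_of_card_eq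
    (by rw [hic, h7, hV])
  exact (htop ▸ Subgroup.mem_top x :
    x ∈ ((h : MulAut V).toMonoidHom).eqLocus (k : MulAut V).toMonoidHom)

variable {X : Type*} [Group X] [Finite X] {p : ℕ} [hp : Fact p.Prime]

/-- The data: `R` is the set of elements killed by `p`, a nonabelian group of order `p ^ 3` with
centre `⟨z⟩`, central in the whole group. -/
structure IsShape (p : ℕ) {X : Type*} [Group X] (R : Subgroup X) (z : X) : Prop where
  mem : ∀ x, x ∈ R ↔ x ^ p = 1
  card : Nat.card R = p ^ 3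
  z_mem : z ∈ R
  z_ne : z ≠ 1
  z_central : ∀ x, Commute z x
  center : ∀ x ∈ R, (∀ y ∈ R, x * y = y * x) → x ∈ Subgroup.zpowers z
  comm : ∀ x ∈ R, ∀ y ∈ R, x * y * x⁻¹ * y⁻¹ ∈ Subgroup.zpowers z
  two_step : ∀ u, ∀ y ∈ R,
    (y⁻¹ * (u * y * u⁻¹))⁻¹ * (u * (y⁻¹ * (u * y * u⁻¹)) * u⁻¹) ∈ Subgroup.zpowers z

theorem IsShape.normal {R : Subgroup X} {z : X} (h : IsShape p R z) : R.Normal :=
  ⟨fun x hx g => by rw [h.mem, conj_pow, (h.mem x).1 hx, mul_one, mul_inv_cancel]⟩

omit hp in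
theorem IsShape.zpowers_commute {R : Subgroup X} {z : X} (h : IsShape p R z) {a : X}
    (ha : a ∈ Subgroup.zpowers z) (x : X) : Commute a x := by
  obtain ⟨i, rfl⟩ := Subgroup.mem_zpowers_iff.1 ha
  exact (h.z_central x).zpow_left i

/-- `p`-th powers centralize `R`, and `(r u) ^ p = u ^ p` for `r` in `R`. -/
theorem IsShape.pow_commute {R : Subgroup X} {z : X} (h : IsShape p R z) (hp3 : 3 < p) (u : X)
    {y : X} (hy : y ∈ R) : Commute (u ^ p) y ∧ (y * u) ^ p = u ^ p := by
  set b := y⁻¹ * (u * y * u⁻¹) with hbdef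
  have hbR : b ∈ R := R.mul_mem (R.inv_mem hy) (h.normal.conj_mem y hy u)
  set d := b⁻¹ * (u * b * u⁻¹) with hddef
  have hd : d ∈ Subgroup.zpowers z := h.two_step u y hy
  set e := b * y * b⁻¹ * y⁻¹ with hedef
  have he : e ∈ Subgroup.zpowers z := h.comm b hbR y hy
  have hb1 : u * y * u⁻¹ = y * b := by rw [hbdef, mul_inv_cancel_left]
  have hd1 : u * b * u⁻¹ = b * d := by rw [hddef, mul_inv_cancel_left]
  have hzR : Subgroup.zpowers z ≤ R := Subgroup.zpowers_le.2 h.z_mem
  have hbp := (h.mem b).1 hbR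
  have hdp := (h.mem d).1 (hzR hd)
  constructor
  · have h1 := conj_pow_two_steps hb1 hd1 (h.zpowers_commute hd u) (h.zpowers_commute hd b) p
    obtain ⟨q, hq⟩ := hp.out.dvd_choose_self two_ne_zero (by omega : 2 < p)
    rw [hbp, hq, pow_mul, hdp, one_pow, mul_one, mul_one] at h1
    exact mul_inv_eq_iff_eq_mul.1 h1
  · rw [mul_pow_three hp.out hp3 hb1 hd1 (e := e) (by rw [hedef]; group)
      (h.zpowers_commute hd u) (h.zpowers_commute hd b) (h.zpowers_commute hd y)
      (h.zpowers_commute he y) (h.zpowers_commute he b) hbp hdp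
      ((h.mem e).1 (hzR he)), (h.mem y).1 hy, one_mul]

/-- The shape of a rank two group with more than `p ^ 2` solutions of `x ^ p = 1`. -/
theorem exists_shape (hp3 : 3 < p) (hX : IsPGroup p X)
    (hrk : ∀ E : Subgroup X, Cfsg.IsElementaryAbelian p E → Nat.card E ≤ p ^ 2)
    (hbig : p ^ 2 < Nat.card ↥(Cfsg.omegaOne p (⊤ : Subgroup X))) :
    ∃ (R : Subgroup X) (z : X), IsShape p R z := by
  classical
  have hpp := hp.out
  let R : Subgroup X :=
    { carrier := {x | x ^ p = 1}
      one_mem' := one_pow p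
      mul_mem' := fun {a b} ha hb => CfsgLib.RankTwoOmega.pow_mul_eq_one _ X rfl hp3 hX hrk a b ha hb
      inv_mem' := fun {a} ha => by
        show a⁻¹ ^ p = 1
        rw [inv_pow, show a ^ p = 1 from ha, inv_one] }
  have hmem : ∀ x, x ∈ R ↔ x ^ p = 1 := fun x => Iff.rfl
  have hRn : R.Normal :=
    ⟨fun x hx g => by rw [hmem, conj_pow, (hmem x).1 hx, mul_one, mul_inv_cancel]⟩
  have hRp : IsPGroup p R := hX.to_subgroup R
  have hexp : ∀ g : R, g ^ p = 1 := fun g => Subtype.ext g.2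
  have hle : Nat.card R ≤ p ^ 3 := CfsgLib.RankTwoOmega.card_le_of_exponent hRp (by omega) hexp
    (CfsgLib.RankTwoOmega.rank_subgroup hrk R)
  have hlt : p ^ 2 < Nat.card R := lt_of_lt_of_le hbig
    (Subgroup.card_le_of_le ((Subgroup.closure_le _).2 fun x hx => hx.2))
  have hcard : Nat.card R = p ^ 3 := by
    obtain ⟨k, hk⟩ := IsPGroup.iff_card.1 hRp
    rw [hk] at hle hlt ⊢
    have h1 := (Nat.pow_lt_pow_iff_right hpp.one_lt).1 hlt
    have h2 := (Nat.pow_le_pow_iff_right hpp.one_lt).1 hle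
    rw [show k = 3 by omega]
  haveI : Nontrivial R := Finite.one_lt_card_iff_nontrivial.1
    (hcard ▸ Nat.one_lt_pow (by norm_num) hpp.one_lt)
  have hna : ¬ ∀ a b : R, a * b = b * a := fun hab => by
    have h1 := hrk R ⟨⟨⟨fun a b => hab a b⟩⟩, fun a ha => ha⟩
    omega
  have hZc : Nat.card (Subgroup.center R) = p := by
    obtain ⟨k, hk⟩ := IsPGroup.iff_card.1 (hRp.to_subgroup (Subgroup.center R))
    have h0 : k ≠ 0 := fun e => by
      have := hRp.center_nontrivial
      rw [e, pow_zero] at hk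
      exact absurd hk (Finite.one_lt_card.ne')
    have h1 : ¬ 2 ≤ k := by
      intro h2
      apply hna
      have hq : Nat.card (R ⧸ Subgroup.center R) ≤ p := by
        have h3 := Subgroup.card_eq_card_quotient_mul_card_subgroup (Subgroup.center R)
        rw [hcard, hk] at h3
        refine Nat.le_of_mul_le_mul_right (c := p ^ 2) ?_ (pow_pos hpp.pos 2)
        calc Nat.card (R ⧸ Subgroup.center R) * p ^ 2
            ≤ Nat.card (R ⧸ Subgroup.center R) * p ^ k :=
              Nat.mul_le_mul_left _ (Nat.pow_le_pow_right hpp.pos h2)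
          _ = p * p ^ 2 := by rw [← h3]; ring
      have hcyc : IsCyclic (R ⧸ Subgroup.center R) := by
        obtain ⟨m, hm⟩ := IsPGroup.iff_card.1 (hRp.to_quotient (Subgroup.center R))
        rw [hm] at hq
        have hm1 : m ≤ 1 := (Nat.pow_le_pow_iff_right hpp.one_lt).1 (hq.trans_eq (pow_one p).symm)
        interval_cases m
        · haveI : Subsingleton (R ⧸ Subgroup.center R) :=
            (Nat.card_eq_one_iff_unique.1 (by simpa using hm)).1
          exact isCyclic_of_subsingleton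
        · exact isCyclic_of_prime_card (by simpa using hm)
      exact fun a b => commutative_of_cyclic_center_quotient (QuotientGroup.mk' (Subgroup.center R))
        (by rw [QuotientGroup.ker_mk']) a b
    rw [hk, show k = 1 by omega, pow_one]
  obtain ⟨⟨zR, hzR⟩, hzo⟩ := exists_prime_orderOf_dvd_card' (G := Subgroup.center R) p hZc.symm.dvd
  set z : X := (zR : X) with hzdef
  have hzR' : orderOf zR = p := (Subgroup.orderOf_mk _ hzR).symm.trans hzo
  have hcen : ∀ x (hx : x ∈ R), (∀ y ∈ R, x * y = y * x) → x ∈ Subgroup.zpowers z := by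
    intro x hx hxy
    have h1 : (⟨x, hx⟩ : R) ∈ Subgroup.center R :=
      Subgroup.mem_center_iff.2 fun y => Subtype.ext (hxy y y.2).symm
    have h2 : Subgroup.zpowers zR = Subgroup.center R :=
      Subgroup.eq_of_le_of_card_ge (Subgroup.zpowers_le.2 hzR)
        (by rw [Nat.card_zpowers, hzR', hZc])
    rw [← h2] at h1
    obtain ⟨i, hi⟩ := Subgroup.mem_zpowers_iff.1 h1
    exact ⟨i, by simpa using congrArg Subtype.val hi⟩
  have hzcen : ∀ x, Commute z x := by
    haveI := hX.isNilpotent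
    set Zx := (Subgroup.center R).map R.subtype with hZx
    have hZxc : Nat.card Zx = p := by
      rw [hZx, Nat.card_congr ((Subgroup.center R).equivMapOfInjective R.subtype
        R.subtype_injective).toEquiv.symm, hZc]
    haveI : Zx.Normal := ⟨by
      rintro _ ⟨⟨a, ha⟩, hac, rfl⟩ g
      refine ⟨⟨g * a * g⁻¹, hRn.conj_mem a ha g⟩, Subgroup.mem_center_iff.2 fun y => ?_, rfl⟩
      have h1 := Subgroup.mem_center_iff.1 hac ⟨g⁻¹ * y * g, by
        simpa using hRn.conj_mem y y.2 g⁻¹⟩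
      have h2 : g⁻¹ * y * g * a = a * (g⁻¹ * y * g) := congrArg Subtype.val h1
      refine Subtype.ext ?_
      show (y : X) * (g * a * g⁻¹) = g * a * g⁻¹ * y
      calc (y : X) * (g * a * g⁻¹) = g * (g⁻¹ * y * g * a) * g⁻¹ := by group
        _ = g * (a * (g⁻¹ * y * g)) * g⁻¹ := by rw [h2]
        _ = g * a * g⁻¹ * y := by group⟩
    have hne : Zx ≠ ⊥ := fun e => hpp.ne_one (by rw [← hZxc, e, Subgroup.card_bot])
    have h1 : Zx ⊓ Subgroup.center X = Zx := by
      refine Subgroup.eq_of_le_of_card_ge inf_le_left ?_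
      rcases (Nat.dvd_prime hpp).1 (hZxc ▸ Subgroup.card_dvd_of_le
        (inf_le_left : Zx ⊓ Subgroup.center X ≤ Zx)) with h | h
      · exact absurd (Subgroup.eq_bot_of_card_eq _ h) (CfsgLib.Critical.inf_center_ne_bot Zx hne)
      · rw [h, hZxc]
    intro x
    have h2 : z ∈ Zx ⊓ Subgroup.center X := h1.symm ▸ ⟨zR, hzR, rfl⟩
    exact (Subgroup.mem_center_iff.1 (Subgroup.mem_inf.1 h2).2 x).symm
  have hcomm : ∀ x ∈ R, ∀ y ∈ R, x * y * x⁻¹ * y⁻¹ ∈ Subgroup.zpowers z := by
    intro x hx y hy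
    have hq : Nat.card (R ⧸ Subgroup.center R) = p ^ 2 := by
      have h3 := Subgroup.card_eq_card_quotient_mul_card_subgroup (Subgroup.center R)
      rw [hcard, hZc] at h3
      exact Nat.eq_of_mul_eq_mul_right hpp.pos (h3.symm.trans (pow_succ p 2))
    have h1 : (⟨x, hx⟩ * ⟨y, hy⟩ * (⟨x, hx⟩ : R)⁻¹ * (⟨y, hy⟩ : R)⁻¹) ∈ Subgroup.center R := by
      rw [← QuotientGroup.eq_one_iff, QuotientGroup.mk_mul, QuotientGroup.mk_mul,
        QuotientGroup.mk_mul, QuotientGroup.mk_inv, QuotientGroup.mk_inv,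
        comm_of_card_le_sq ⟨2, le_rfl, hq⟩ (QuotientGroup.mk (⟨x, hx⟩ : R)), mul_inv_cancel_right,
        mul_inv_cancel]
    exact hcen _ (R.mul_mem (R.mul_mem (R.mul_mem hx hy) (R.inv_mem hx)) (R.inv_mem hy))
      fun w hw => (congrArg Subtype.val (Subgroup.mem_center_iff.1 h1 ⟨w, hw⟩)).symm
  refine ⟨R, z, hmem, hcard, zR.2, fun e => ?_, hzcen, hcen, hcomm, fun u y hy => ?_⟩
  · rw [hzdef, OneMemClass.coe_eq_one] at e
    rw [e, orderOf_one] at hzR'
    exact hpp.ne_one hzR'.symm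
  · haveI := hRn
    have hq : Nat.card (R ⧸ Subgroup.center R) = p ^ 2 := by
      have h3 := Subgroup.card_eq_card_quotient_mul_card_subgroup (Subgroup.center R)
      rw [hcard, hZc] at h3
      exact Nat.eq_of_mul_eq_mul_right hpp.pos (h3.symm.trans (pow_succ p 2))
    let σ : MulAut (R ⧸ Subgroup.center R) := QuotientGroup.congr _ _ (MulAut.conjNormal u)
      (Subgroup.characteristic_iff_map_eq.mp inferInstance _)
    have hσmk : ∀ w : R, σ (QuotientGroup.mk w) = QuotientGroup.mk (MulAut.conjNormal u w) :=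
      fun w => rfl
    obtain ⟨n, hn⟩ := hX u
    have hσn : σ ^ p ^ n = 1 := by
      refine MulEquiv.ext fun v => ?_
      obtain ⟨w, rfl⟩ := QuotientGroup.mk'_surjective (Subgroup.center R) v
      have hit : ∀ k : ℕ, (σ ^ k) (QuotientGroup.mk w) =
          QuotientGroup.mk (MulAut.conjNormal (u ^ k) w) := by
        intro k
        induction k with
        | zero => simp
        | succ k ih =>
          rw [pow_succ', MulAut.mul_apply, ih, hσmk, pow_succ', map_mul, MulAut.mul_apply]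
      rw [QuotientGroup.mk'_apply, hit, hn, map_one, MulAut.one_apply, MulAut.one_apply]
    have h1 := fixes_diff_of_card_le_sq ⟨2, le_rfl, hq⟩ hσn (QuotientGroup.mk (⟨y, hy⟩ : R))
    rw [hσmk, ← QuotientGroup.mk_inv, ← QuotientGroup.mk_mul, hσmk, eq_comm, QuotientGroup.eq] at h1
    exact hcen _ (R.mul_mem (R.inv_mem (R.mul_mem (R.inv_mem hy) (hRn.conj_mem y hy u)))
      (hRn.conj_mem _ (R.mul_mem (R.inv_mem hy) (hRn.conj_mem y hy u)) u))
      fun w hw => (congrArg Subtype.val (Subgroup.mem_center_iff.1 h1 ⟨w, hw⟩)).symm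

theorem IsShape.orderOf_z {R : Subgroup X} {z : X} (h : IsShape p R z) : orderOf z = p :=
  orderOf_eq_prime ((h.mem z).1 h.z_mem) h.z_ne

/-- The quotient by `R` is cyclic. -/
theorem IsShape.cyclic_quotient {R : Subgroup X} {z : X} (h : IsShape p R z) (hp3 : 3 < p)
    (hX : IsPGroup p X) : ∃ g : X, ∀ x : X, ∃ k : ℤ, x * (g ^ k)⁻¹ ∈ R := by
  classical
  have hpp := hp.out
  haveI := h.normal
  by_contra hno
  have hnc : ¬ IsCyclic (⊤ : Subgroup (X ⧸ R)) := by
    intro hc
    apply hno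
    obtain ⟨g', hq⟩ := hc.exists_generator
    obtain ⟨g, hg⟩ := QuotientGroup.mk'_surjective R (g' : X ⧸ R)
    refine ⟨g, fun x => ?_⟩
    obtain ⟨k, hk⟩ := Subgroup.mem_zpowers_iff.1 (hq ⟨QuotientGroup.mk' R x, Subgroup.mem_top _⟩)
    have hk' : QuotientGroup.mk' R (g ^ k) = QuotientGroup.mk' R x := by
      rw [map_zpow, hg]
      exact congrArg Subtype.val hk
    exact ⟨k, by rw [← QuotientGroup.ker_mk' R, MonoidHom.mem_ker, map_mul, map_inv, hk',
      mul_inv_cancel]⟩
  obtain ⟨Wb, -, -, hWe, hWc⟩ :=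
    CfsgLib.CyclicMax.exists_normal_rank_two (hX.to_quotient R) (by omega) ⊤ inferInstance hnc
  set W := Wb.comap (QuotientGroup.mk' R) with hW
  have hRW : R ≤ W := QuotientGroup.le_comap_mk' R Wb
  have hWp : ∀ x ∈ W, x ^ p ∈ R := fun x hx => by
    rw [← QuotientGroup.ker_mk' R, MonoidHom.mem_ker, map_pow]
    exact hWe.2 _ hx
  have hWab : ∀ x ∈ W, ∀ y ∈ W, x * y * x⁻¹ * y⁻¹ ∈ R := fun x hx y hy => by
    rw [← QuotientGroup.ker_mk' R, MonoidHom.mem_ker, map_mul, map_mul, map_mul, map_inv, map_inv,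
      show QuotientGroup.mk' R x * QuotientGroup.mk' R y = QuotientGroup.mk' R y * QuotientGroup.mk' R x
        from congrArg Subtype.val (hWe.1.is_comm.comm ⟨_, hx⟩ ⟨_, hy⟩), mul_inv_cancel_right,
      mul_inv_cancel]
  have hzR : Subgroup.zpowers z ≤ R := Subgroup.zpowers_le.2 h.z_mem
  have hZc : Nat.card (Subgroup.zpowers z) = p := by rw [Nat.card_zpowers, h.orderOf_z]
  have hcen : Subgroup.center R = (Subgroup.zpowers z).subgroupOf R := by
    ext x
    rw [Subgroup.mem_center_iff, Subgroup.mem_subgroupOf]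
    constructor
    · exact fun hx => h.center x x.2 fun y hy => (congrArg Subtype.val (hx ⟨y, hy⟩)).symm
    · exact fun hx y => Subtype.ext (h.zpowers_commute hx y).eq.symm
  have hcenc : Nat.card (Subgroup.center R) = p := by
    rw [hcen, Nat.card_congr (Subgroup.subgroupOfEquivOfLe hzR).toEquiv, hZc]
  have hq : Nat.card (R ⧸ Subgroup.center R) = p ^ 2 := by
    have h3 := Subgroup.card_eq_card_quotient_mul_card_subgroup (Subgroup.center R)
    rw [h.card, hcenc] at h3
    exact Nat.eq_of_mul_eq_mul_right hpp.pos (h3.symm.trans (pow_succ p 2))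
  -- the action of `W` on `R` modulo its centre
  let θ : W →* MulAut (R ⧸ Subgroup.center R) := MonoidHom.mk' (fun u => QuotientGroup.congr _ _
      (MulAut.conjNormal (u : X)) (Subgroup.characteristic_iff_map_eq.mp inferInstance _))
    fun a b => by
      ext v
      obtain ⟨v, rfl⟩ := QuotientGroup.mk'_surjective (Subgroup.center R) v
      show (QuotientGroup.mk (MulAut.conjNormal ((a : X) * (b : X)) v) : R ⧸ Subgroup.center R) = _
      rw [map_mul]
      rfl
  obtain ⟨c, hcW, hcR, hc⟩ : ∃ c, ∃ hc : c ∈ W, c ∉ R ∧ θ ⟨c, hc⟩ = 1 := by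
    by_contra hall
    push Not at hall
    have hker : θ.ker ≤ R.subgroupOf W := fun x hx => by
      by_contra hxR
      exact hall x x.2 hxR hx
    have h1 : Nat.card θ.range ≤ p := card_le_prime hq
      (IsPGroup.of_surjective (hX.to_subgroup W) θ.rangeRestrict θ.rangeRestrict_surjective)
    have h2 : θ.ker.index ≤ p := by rw [Subgroup.index_ker]; exact h1
    have h3 : (R.subgroupOf W).index = p ^ 2 := by
      rw [← hWc, show R.subgroupOf W = ((QuotientGroup.mk' R).comp W.subtype).ker by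
        ext x; simp [MonoidHom.mem_ker, Subgroup.mem_subgroupOf], Subgroup.index_ker]
      congr 1
      congr 1
      ext v
      constructor
      · rintro ⟨x, rfl⟩; exact x.2
      · intro hv
        obtain ⟨x, rfl⟩ := QuotientGroup.mk'_surjective R v
        exact ⟨⟨x, hv⟩, rfl⟩
    have h4 := Nat.le_of_dvd (Nat.pos_of_ne_zero Subgroup.index_ne_zero_of_finite)
      (Subgroup.index_dvd_of_le hker)
    rw [h3] at h4
    nlinarith [hpp.one_lt]
  have hc' : ∀ y ∈ R, c * y * c⁻¹ * y⁻¹ ∈ Subgroup.zpowers z := by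
    intro y hy
    have h1 := DFunLike.congr_fun hc (QuotientGroup.mk (⟨y, hy⟩ : R))
    rw [MulAut.one_apply] at h1
    have h2 : (QuotientGroup.mk (MulAut.conjNormal c (⟨y, hy⟩ : R)) : R ⧸ Subgroup.center R) =
      QuotientGroup.mk (⟨y, hy⟩ : R) := h1
    rw [eq_comm, QuotientGroup.eq, hcen, Subgroup.mem_subgroupOf] at h2
    have h2' : y⁻¹ * (c * y * c⁻¹) ∈ Subgroup.zpowers z := h2
    have h3 : y * (y⁻¹ * (c * y * c⁻¹)) * y⁻¹ = y⁻¹ * (c * y * c⁻¹) := by
      rw [← (h.zpowers_commute h2' y).eq, mul_inv_cancel_right]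
    rw [show c * y * c⁻¹ * y⁻¹ = y * (y⁻¹ * (c * y * c⁻¹)) * y⁻¹ by group, h3]
    exact h2
  -- an inner automorphism with the same effect
  obtain ⟨a, b, hab⟩ : ∃ a b : R, ¬ (a : X) * b = b * a := by
    by_contra hall
    push Not at hall
    have : (⊤ : Subgroup R) ≤ Subgroup.center R := fun x _ =>
      Subgroup.mem_center_iff.2 fun y => Subtype.ext (hall y x)
    have h5 := Subgroup.card_le_of_le this
    rw [Subgroup.card_top, h.card, hcenc] at h5
    nlinarith [hpp.one_lt]
  have hgen : Subgroup.closure ({(a : X), (b : X)} : Set X) = R := by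
    set D := Subgroup.closure ({(a : X), (b : X)} : Set X) with hD
    have hle : D ≤ R := (Subgroup.closure_le _).2 (by rintro _ (rfl | rfl); exacts [a.2, b.2])
    refine Subgroup.eq_of_le_of_card_ge hle ?_
    obtain ⟨k, hk, hkc⟩ := (Nat.dvd_prime_pow hpp).1 (h.card ▸ Subgroup.card_dvd_of_le hle)
    rw [h.card, hkc]
    refine Nat.pow_le_pow_right hpp.pos ?_
    by_contra hk2
    exact hab (congrArg Subtype.val (comm_of_card_le_sq ⟨k, by omega, hkc⟩
      ⟨a, Subgroup.subset_closure (Or.inl rfl)⟩ ⟨b, Subgroup.subset_closure (Or.inr rfl)⟩))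
  let Z := Subgroup.zpowers z
  let ψ : R →* Z × Z := MonoidHom.mk'
    (fun y => (⟨(y : X) * a * (y : X)⁻¹ * (a : X)⁻¹, h.comm y y.2 a a.2⟩,
      ⟨(y : X) * b * (y : X)⁻¹ * (b : X)⁻¹, h.comm y y.2 b b.2⟩))
    fun u v => by
      have key : ∀ w : R, (u : X) * v * w * ((u : X) * v)⁻¹ * (w : X)⁻¹ =
          ((u : X) * w * (u : X)⁻¹ * (w : X)⁻¹) * ((v : X) * w * (v : X)⁻¹ * (w : X)⁻¹) := by
        intro w
        have hv := h.zpowers_commute (h.comm v v.2 w w.2)
        calc (u : X) * v * w * ((u : X) * v)⁻¹ * (w : X)⁻¹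
            = (u : X) * ((v : X) * w * (v : X)⁻¹ * (w : X)⁻¹) * ((w : X) * (u : X)⁻¹ * (w : X)⁻¹) := by
              group
          _ = ((v : X) * w * (v : X)⁻¹ * (w : X)⁻¹) * ((u : X) * w * (u : X)⁻¹ * (w : X)⁻¹) := by
              rw [← (hv (u : X)).eq]; group
          _ = _ := (hv _).eq
      exact Prod.ext (Subtype.ext (key a)) (Subtype.ext (key b))
  have hψker : ψ.ker ≤ Subgroup.center R := by
    intro y hy
    rw [hcen, Subgroup.mem_subgroupOf]
    refine h.center y y.2 fun w hw => ?_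
    have hle : R ≤ Subgroup.centralizer {(y : X)} := by
      refine hgen.symm.trans_le ((Subgroup.closure_le _).2 ?_)
      rintro _ (rfl | rfl) <;> refine Subgroup.mem_centralizer_singleton_iff.2 ?_
      · exact (mul_inv_eq_iff_eq_mul.1 (mul_inv_eq_one.1 (congrArg (fun t : Z × Z => (t.1 : X)) hy))).symm
      · exact (mul_inv_eq_iff_eq_mul.1 (mul_inv_eq_one.1 (congrArg (fun t : Z × Z => (t.2 : X)) hy))).symm
    exact (Subgroup.mem_centralizer_singleton_iff.1 (hle hw)).symm
  have hψ : ψ.range = ⊤ := by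
    refine Subgroup.eq_top_of_le_card _ ?_
    rw [Nat.card_prod, hZc, ← pow_two, ← hq, ← Subgroup.index_eq_card, ← Subgroup.index_ker]
    exact Nat.le_of_dvd (Nat.pos_of_ne_zero Subgroup.index_ne_zero_of_finite)
      (Subgroup.index_dvd_of_le hψker)
  obtain ⟨y, hy⟩ := hψ.ge (Subgroup.mem_top
    ((⟨c * a * c⁻¹ * (a : X)⁻¹, hc' a a.2⟩, ⟨c * b * c⁻¹ * (b : X)⁻¹, hc' b b.2⟩) : Z × Z))
  have hyR : (y : X) ∈ R := y.2
  set k := (y : X)⁻¹ * c with hk
  have hkW : k ∈ W := W.mul_mem (W.inv_mem (hRW hyR)) hcW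
  have hkR : k ∉ R := fun hkR => hcR (by
    have := R.mul_mem hyR hkR
    rwa [hk, mul_inv_cancel_left] at this)
  have hkC : ∀ w ∈ R, k * w = w * k := by
    have hle : R ≤ Subgroup.centralizer {k} := by
      rw [← hgen, Subgroup.closure_le]
      rintro _ (rfl | rfl) <;> refine Subgroup.mem_centralizer_singleton_iff.2 ?_
      · have e : (y : X) * a * (y : X)⁻¹ = c * a * c⁻¹ :=
          mul_right_cancel (congrArg (fun t : Z × Z => (t.1 : X)) hy)
        calc (a : X) * k = (y : X)⁻¹ * ((y : X) * a * (y : X)⁻¹) * c := by rw [hk]; group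
          _ = k * a := by rw [e, hk]; group
      · have e : (y : X) * b * (y : X)⁻¹ = c * b * c⁻¹ :=
          mul_right_cancel (congrArg (fun t : Z × Z => (t.2 : X)) hy)
        calc (b : X) * k = (y : X)⁻¹ * ((y : X) * b * (y : X)⁻¹) * c := by rw [hk]; group
          _ = k * b := by rw [e, hk]; group
    exact fun w hw => (Subgroup.mem_centralizer_singleton_iff.1 (hle hw)).symm
  have hpw : ∀ x ∈ W, x ^ p ∈ Z := fun x hx =>
    h.center _ (hWp x hx) fun w hw => (h.pow_commute hp3 x hw).1.eq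
  have hkp1 : k ^ p ≠ 1 := fun e => hkR ((h.mem k).2 e)
  have hkgen : Subgroup.zpowers (k ^ p) = Z := by
    refine Subgroup.eq_of_le_of_card_ge (Subgroup.zpowers_le.2 (hpw k hkW)) ?_
    rw [hZc, Nat.card_zpowers]
    rcases (Nat.dvd_prime hpp).1 (hZc ▸ Subgroup.orderOf_dvd_natCard Z (hpw k hkW)) with e | e
    · exact absurd (orderOf_eq_one_iff.1 e) hkp1
    · rw [e]
  have hWle : W ≤ R ⊔ Subgroup.zpowers k := by
    intro x hx
    obtain ⟨m, hm⟩ := Subgroup.mem_zpowers_iff.1 (hkgen.ge (Z.inv_mem (hpw x hx)))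
    have hkm : ∀ w ∈ R, k ^ m * w = w * k ^ m := fun w hw =>
      ((show Commute k w from hkC w hw).zpow_left m).eq
    set b' := (k ^ m)⁻¹ * (x * k ^ m * x⁻¹) with hb'
    have hb'R : b' ∈ R := by
      have := hWab _ (W.inv_mem (W.zpow_mem hkW m)) x hx
      rw [inv_inv] at this
      rw [hb', show (k ^ m)⁻¹ * (x * k ^ m * x⁻¹) = (k ^ m)⁻¹ * x * k ^ m * x⁻¹ by group]
      exact this
    have hb'Z : b' ∈ Z := by
      refine h.center _ hb'R fun w hw => ?_
      have h1 : x * k ^ m * x⁻¹ * w = w * (x * k ^ m * x⁻¹) := by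
        have hw' : x⁻¹ * w * x ∈ R := by simpa using h.normal.conj_mem w hw x⁻¹
        calc x * k ^ m * x⁻¹ * w = x * (k ^ m * (x⁻¹ * w * x)) * x⁻¹ := by group
          _ = x * (x⁻¹ * w * x * k ^ m) * x⁻¹ := by rw [hkm _ hw']
          _ = w * (x * k ^ m * x⁻¹) := by group
      exact ((show Commute ((k ^ m)⁻¹) w from (show Commute (k ^ m) w from hkm w hw).inv_left).mul_left
        (show Commute (x * k ^ m * x⁻¹) w from h1)).eq
    have hb'c := h.zpowers_commute hb'Z
    have hpow := mul_pow_three hpp hp3 (r := k ^ m) (u := x) (b := b') (d := 1) (e := 1)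
      (by rw [hb', mul_inv_cancel_left])
      (by rw [mul_one, ← (hb'c x).eq, mul_inv_cancel_right])
      (by rw [one_mul]; exact (hb'c _).eq)
      (Commute.one_left _) (Commute.one_left _) (Commute.one_left _) (Commute.one_left _)
      (Commute.one_left _) ((h.mem _).1 hb'R) (one_pow _) (one_pow _)
    have hmem : k ^ m * x ∈ R := (h.mem _).2 (by
      rw [hpow, ← zpow_natCast, ← zpow_mul, mul_comm, zpow_mul, zpow_natCast, hm, inv_mul_cancel])
    have h2 := Subgroup.mul_mem _ (Subgroup.inv_mem _ (Subgroup.mem_sup_right (S := R)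
      (Subgroup.zpow_mem _ (Subgroup.mem_zpowers k) m))) (Subgroup.mem_sup_left hmem)
    rwa [inv_mul_cancel_left] at h2
  have hWbc : IsCyclic Wb := by
    have hle : Wb ≤ Subgroup.zpowers (QuotientGroup.mk' R k) := by
      intro v hv
      obtain ⟨x, rfl⟩ := QuotientGroup.mk'_surjective R v
      obtain ⟨r, hr, w, hw, rfl⟩ := Subgroup.mem_sup_of_normal_left.1 (hWle hv)
      obtain ⟨i, rfl⟩ := Subgroup.mem_zpowers_iff.1 hw
      refine ⟨i, ?_⟩
      show QuotientGroup.mk' R k ^ i = _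
      rw [map_mul (QuotientGroup.mk' R) r,
        show QuotientGroup.mk' R r = 1 from (QuotientGroup.eq_one_iff r).2 hr, one_mul,
        map_zpow]
    exact isCyclic_of_injective (Subgroup.inclusion hle) (Subgroup.inclusion_injective hle)
  obtain ⟨g, hg⟩ := hWbc.exists_ofOrder_eq_natCard
  have h1 : orderOf g ∣ p := orderOf_dvd_of_pow_eq_one (Subtype.ext (hWe.2 g g.2))
  rw [hg, hWc] at h1
  have := Nat.le_of_dvd hpp.pos h1
  nlinarith [hpp.one_lt]

/-- The Frattini subgroup of `R` is `⟨z⟩`. -/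
theorem IsShape.mem_frattini_iff {R : Subgroup X} {z : X} (h : IsShape p R z) (hX : IsPGroup p X)
    (y : R) : y ∈ frattini R ↔ (y : X) ∈ Subgroup.zpowers z := by
  classical
  have hpp := hp.out
  have hRp : IsPGroup p R := hX.to_subgroup R
  obtain ⟨a, b, hab⟩ : ∃ a b : R, ¬ (a : X) * b = b * a := by
    by_contra hall
    push Not at hall
    have hle : R ≤ Subgroup.zpowers z := fun x hx =>
      h.center x hx fun w hw => hall ⟨x, hx⟩ ⟨w, hw⟩
    have h5 := Subgroup.card_le_of_le hle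
    rw [h.card, Nat.card_zpowers, h.orderOf_z] at h5
    nlinarith [hpp.one_lt, Nat.pow_le_pow_right hpp.pos (show 2 ≤ 3 by norm_num)]
  set e : R := a * b * a⁻¹ * b⁻¹ with he
  have heZ : (e : X) ∈ Subgroup.zpowers z := h.comm a a.2 b b.2
  have he1 : e ≠ 1 := fun e0 => hab (by
    have := congrArg Subtype.val e0
    exact mul_inv_eq_iff_eq_mul.1 (mul_inv_eq_one.1 this))
  have heΦ : e ∈ frattini R := by
    have := (CfsgLib.PSolvable.commutator_le_frattini hRp).1
    refine this ?_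
    rw [commutator_def]
    exact Subgroup.commutator_mem_commutator (Subgroup.mem_top a) (Subgroup.mem_top b)
  have hgenz : Subgroup.zpowers (e : X) = Subgroup.zpowers z := by
    refine Subgroup.eq_of_le_of_card_ge (Subgroup.zpowers_le.2 heZ) ?_
    rw [Nat.card_zpowers, Nat.card_zpowers, h.orderOf_z]
    rcases (Nat.dvd_prime hpp).1 (orderOf_dvd_of_pow_eq_one ((h.mem (e : X)).1 e.2)) with e' | e'
    · exact absurd (Subtype.ext (orderOf_eq_one_iff.1 e')) he1
    · rw [e']
  constructor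
  · intro hy
    by_contra hyZ
    obtain ⟨w, hw, hwy⟩ : ∃ w ∈ R, ¬ (y : X) * w = w * y := by
      by_contra hall
      push Not at hall
      exact hyZ (h.center y y.2 hall)
    have htop : Subgroup.zpowers (⟨w, hw⟩ : R) = ⊤ := by
      refine frattini_nongenerating ((Subgroup.eq_top_iff' _).2 fun v => ?_)
      set D := Subgroup.closure ({(y : X), w} : Set X) with hD
      have hle : D ≤ R := (Subgroup.closure_le _).2 (by rintro _ (rfl | rfl); exacts [y.2, hw])
      have hDR : D = R := by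
        refine Subgroup.eq_of_le_of_card_ge hle ?_
        obtain ⟨k, hk, hkc⟩ := (Nat.dvd_prime_pow hpp).1 (h.card ▸ Subgroup.card_dvd_of_le hle)
        rw [h.card, hkc]
        refine Nat.pow_le_pow_right hpp.pos ?_
        by_contra hk2
        exact hwy (congrArg Subtype.val (comm_of_card_le_sq ⟨k, by omega, hkc⟩
          ⟨y, Subgroup.subset_closure (Or.inl rfl)⟩ ⟨w, Subgroup.subset_closure (Or.inr rfl)⟩))
      have h1 : D ≤ (Subgroup.zpowers (⟨w, hw⟩ : R) ⊔ frattini R).map R.subtype := by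
        refine (Subgroup.closure_le _).2 fun t ht => ?_
        rcases ht with e' | e'
        · exact ⟨y, Subgroup.mem_sup_right hy, e'.symm⟩
        · exact ⟨⟨w, hw⟩, Subgroup.mem_sup_left (Subgroup.mem_zpowers _), (Set.mem_singleton_iff.1 e').symm⟩
      obtain ⟨v', hv', hv'e⟩ := h1 (hDR.ge v.2)
      rwa [show v' = v from Subtype.ext hv'e] at hv'
    obtain ⟨i, hi⟩ := Subgroup.mem_zpowers_iff.1 (htop.ge (Subgroup.mem_top y))
    exact hwy (congrArg Subtype.val (hi ▸ ((Commute.refl (⟨w, hw⟩ : R)).zpow_left i).eq))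
  · intro hy
    rw [← hgenz] at hy
    obtain ⟨i, hi⟩ := Subgroup.mem_zpowers_iff.1 hy
    have : e ^ i = y := Subtype.ext (by rw [Subgroup.coe_zpow]; exact hi)
    rw [← this]
    exact Subgroup.zpow_mem _ heΦ i

/-- No automorphism of the group multiplies a vector moved by a generator of the quotient by a
scalar with square different from one. -/
theorem IsShape.not_twisted {R : Subgroup X} {z : X} (h : IsShape p R z) (hp3 : 3 < p)
    (hX : IsPGroup p X)
    {g : X} (hg : ∀ x : X, ∃ k : ℤ, x * (g ^ k)⁻¹ ∈ R) {v : X} (hv : v ∈ R)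
    (hmove : g * v * g⁻¹ * v⁻¹ ∉ Subgroup.zpowers z) (τ : MulAut X) {β : ℕ}
    (hτv : (v ^ β)⁻¹ * τ v ∈ Subgroup.zpowers z) (hβ : ¬ (p : ℤ) ∣ (β : ℤ) * β - 1) : False := by
  classical
  have hpp := hp.out
  have hτR : ∀ x ∈ R, τ x ∈ R := fun x hx => (h.mem _).2 (by rw [← map_pow, (h.mem x).1 hx, map_one])
  have hzR : Subgroup.zpowers z ≤ R := Subgroup.zpowers_le.2 h.z_mem
  have hzord := h.orderOf_z
  have hτz : τ z ∈ Subgroup.zpowers z := by
    refine h.center _ (hτR z h.z_mem) fun y _ => ?_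
    obtain ⟨x, rfl⟩ := τ.surjective y
    rw [← map_mul, ← map_mul, (h.z_central x).eq]
  obtain ⟨k, r, hr, hk⟩ : ∃ k : ℕ, ∃ r ∈ R, τ g = r * g ^ k := by
    obtain ⟨i, hi⟩ := hg (τ g)
    obtain ⟨k, hk⟩ := (isOfFinOrder_of_finite g).mem_powers_iff_mem_zpowers.2
      (Subgroup.zpow_mem _ (Subgroup.mem_zpowers g) i)
    exact ⟨k, _, hi, by rw [show g ^ k = g ^ i from hk, inv_mul_cancel_right]⟩
  have hgR : g ∉ R := fun hgR => hmove (h.comm g hgR v hv)
  -- `τ` acts on `⟨z⟩` as on the quotient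
  have hτzk : τ z = z ^ k := by
    set c := g ^ p with hc
    have hτc : τ c = c ^ k := by
      rw [hc, map_pow, hk, (h.pow_commute hp3 (g ^ k) hr).2, ← pow_mul, ← pow_mul, mul_comm]
    have hc1 : c ≠ 1 := fun e => hgR ((h.mem g).2 e)
    obtain ⟨e, he⟩ := IsPGroup.iff_orderOf.1 hX c
    have he0 : e ≠ 0 := fun e0 => hc1 (orderOf_eq_one_iff.1 (by rw [he, e0, pow_zero]))
    set w := c ^ p ^ (e - 1) with hw
    have hwo : orderOf w = p := by
      rw [hw, orderOf_pow' _ (pow_ne_zero _ hpp.ne_zero), he,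
        Nat.gcd_eq_right (pow_dvd_pow p (by omega : e - 1 ≤ e)), Nat.pow_div (by omega) hpp.pos,
        show e - (e - 1) = 1 by omega, pow_one]
    have hwR : w ∈ R := (h.mem w).2 (hwo ▸ pow_orderOf_eq_one w)
    have hwZ : w ∈ Subgroup.zpowers z := h.center w hwR fun y hy =>
      (((h.pow_commute hp3 g hy).1).pow_left _).eq
    have hwz : Subgroup.zpowers w = Subgroup.zpowers z :=
      Subgroup.eq_of_le_of_card_ge (Subgroup.zpowers_le.2 hwZ)
        (by rw [Nat.card_zpowers, Nat.card_zpowers, hwo, hzord])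
    obtain ⟨l, hl⟩ := Subgroup.mem_zpowers_iff.1 (hwz.ge (Subgroup.mem_zpowers z))
    rw [← hl, map_zpow, hw, map_pow, hτc]
    simp only [← zpow_natCast, ← zpow_mul]
    congr 1
    ring
  -- now modulo the centre
  set N := Subgroup.zpowers z with hN
  haveI hNn : N.Normal := ⟨fun n hn x => by
    rw [← (h.zpowers_commute hn x).eq, mul_inv_cancel_right]; exact hn⟩
  set q := QuotientGroup.mk' N with hq
  have hqone : ∀ {x : X}, x ∈ N → q x = 1 := fun hx => (QuotientGroup.eq_one_iff _).2 hx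
  set d := v⁻¹ * (g * v * g⁻¹) with hd
  have hdR : d ∈ R := R.mul_mem (R.inv_mem hv) (h.normal.conj_mem v hv g)
  have hRab : ∀ x ∈ R, ∀ y ∈ R, Commute (q x) (q y) := fun x hx y hy => by
    have h1 := hqone (h.comm x hx y hy)
    rw [map_mul, map_mul, map_mul, map_inv, map_inv, mul_inv_eq_one, mul_inv_eq_iff_eq_mul] at h1
    exact h1
  have hdd : q (g * d * g⁻¹) = q d := by
    have h1 := hqone (h.two_step g v hv)
    rw [← hd, map_mul, map_inv, inv_mul_eq_one] at h1
    exact h1.symm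
  have hconjk : ∀ i : ℕ, q (g ^ i * v * (g ^ i)⁻¹) = q v * q d ^ i := by
    intro i
    induction i with
    | zero => simp
    | succ i ih =>
      rw [show g ^ (i + 1) * v * (g ^ (i + 1))⁻¹ = g * (g ^ i * v * (g ^ i)⁻¹) * g⁻¹ by
          rw [pow_succ']; group, map_mul, map_mul, ih, map_inv]
      calc q g * (q v * q d ^ i) * (q g)⁻¹
          = (q g * q v * (q g)⁻¹) * (q g * q d * (q g)⁻¹) ^ i := by rw [conj_pow]; group
        _ = q v * q d ^ (i + 1) := by
          rw [← map_inv, ← map_mul, ← map_mul, ← map_mul, ← map_mul, hdd,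
            show g * v * g⁻¹ = v * d by rw [hd, mul_inv_cancel_left], map_mul, pow_succ', mul_assoc]
  have hqτv : q (τ v) = q v ^ β := by
    have h1 := hqone hτv
    rw [map_mul, map_inv, inv_mul_eq_one, map_pow] at h1
    exact h1.symm
  have hqτd : q (τ d) = q d ^ (k * β) := by
    rw [hd, map_mul τ, map_inv τ, map_mul τ, map_mul τ, map_inv τ, hk, map_mul, map_inv, hqτv,
      show r * g ^ k * τ v * (r * g ^ k)⁻¹ = r * (g ^ k * τ v * (g ^ k)⁻¹) * r⁻¹ by group,
      map_mul, map_mul, map_inv]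
    have hvR : g ^ k * τ v * (g ^ k)⁻¹ ∈ R := h.normal.conj_mem _ (hτR v hv) _
    rw [(hRab r hr _ hvR).eq, mul_inv_cancel_right, map_mul, map_mul, map_inv, hqτv, ← conj_pow,
      ← map_inv, ← map_mul, ← map_mul, hconjk, ((hRab v hv d hdR).pow_right k).mul_pow,
      inv_mul_cancel_left, ← pow_mul, hd]
  have hdN : d ∉ N := fun hdN => hmove (by
    rw [show g * v * g⁻¹ * v⁻¹ = v * d * v⁻¹ by rw [hd]; group]
    exact hNn.conj_mem d hdN v)
  have hvN : v ∉ N := fun hvN => hdN (by
    rw [hd]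
    exact N.mul_mem (N.inv_mem hvN) (hNn.conj_mem v hvN g))
  -- `v` and `d` do not commute
  set e := v * d * v⁻¹ * d⁻¹ with he
  have he1 : e ≠ 1 := by
    intro e0
    have hvd : Commute v d := mul_inv_eq_iff_eq_mul.1 (mul_inv_eq_one.1 e0)
    -- the centralizer of `v` in `R` has order at most `p ^ 2`
    set D := R ⊓ Subgroup.centralizer {v} with hD
    have hDR : D ≤ R := inf_le_left
    have hlt : Nat.card D ≤ p ^ 2 := by
      obtain ⟨i, hi, hic⟩ := (Nat.dvd_prime_pow hpp).1 (h.card ▸ Subgroup.card_dvd_of_le hDR)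
      rw [hic]
      refine Nat.pow_le_pow_right hpp.pos ?_
      by_contra hi3
      have heq : D = R := Subgroup.eq_of_le_of_card_ge hDR (by
        rw [h.card, hic]; exact Nat.pow_le_pow_right hpp.pos (by omega))
      exact hvN (h.center v hv fun y hy =>
        (Subgroup.mem_centralizer_singleton_iff.1 (heq.ge hy).2).symm)
    set U := Subgroup.zpowers v ⊔ N with hU
    have hUD : U ≤ D := sup_le
      (Subgroup.zpowers_le.2 ⟨hv, Subgroup.mem_centralizer_singleton_iff.2 rfl⟩)
      (Subgroup.zpowers_le.2 ⟨h.z_mem, Subgroup.mem_centralizer_singleton_iff.2 (h.z_central v).eq⟩)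
    have hUc : p ^ 2 ≤ Nat.card U := by
      obtain ⟨i, hi, hic⟩ := (Nat.dvd_prime_pow hpp).1 (h.card ▸
        Subgroup.card_dvd_of_le (hUD.trans hDR))
      rw [hic]
      refine Nat.pow_le_pow_right hpp.pos ?_
      by_contra hi2
      have heq : N = U := Subgroup.eq_of_le_of_card_ge le_sup_right (by
        rw [hic, hN, Nat.card_zpowers, hzord]
        exact (Nat.pow_le_pow_right hpp.pos (by omega : i ≤ 1)).trans_eq (pow_one p))
      exact hvN (heq.ge (Subgroup.mem_sup_left (Subgroup.mem_zpowers v)))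
    have hUeq : U = D := Subgroup.eq_of_le_of_card_ge hUD (hlt.trans hUc)
    have hdU : d ∈ U := hUeq.ge ⟨hdR, Subgroup.mem_centralizer_singleton_iff.2 hvd.eq.symm⟩
    obtain ⟨a, ha, b, hb, hab⟩ := Subgroup.mem_sup_of_normal_right.1 hdU
    obtain ⟨i, rfl⟩ := Subgroup.mem_zpowers_iff.1 ha
    have hqd : q d = q v ^ i := by rw [← hab, map_mul, hqone hb, mul_one, map_zpow]
    have h1 := hdd
    rw [map_mul, map_mul, map_inv, hqd, ← conj_zpow, ← map_inv, ← map_mul, ← map_mul,
      show g * v * g⁻¹ = v * d by rw [hd, mul_inv_cancel_left], map_mul,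
      (hRab v hv d hdR).mul_zpow, mul_eq_left, hqd, ← zpow_mul] at h1
    have hqvo : orderOf (q v) = p := by
      refine orderOf_eq_prime ?_ fun e1 => hvN ((QuotientGroup.eq_one_iff _).1 e1)
      rw [← map_pow, (h.mem v).1 hv, map_one]
    rw [← orderOf_dvd_iff_zpow_eq_one, hqvo] at h1
    have hpi : (p : ℤ) ∣ i := (Nat.prime_iff_prime_int.1 hpp).dvd_of_dvd_pow (n := 2) (by
      rwa [pow_two])
    exact hdN ((QuotientGroup.eq_one_iff _).1 (show q d = 1 by
      rw [hqd, ← orderOf_dvd_iff_zpow_eq_one, hqvo]; exact hpi))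
  have heN : e ∈ N := h.comm v hv d hdR
  obtain ⟨l, hl⟩ := Subgroup.mem_zpowers_iff.1 heN
  -- the effect of `τ` on the commutator
  have hbil : ∀ a b : ℕ, v ^ a * d ^ b * (v ^ a)⁻¹ = d ^ b * e ^ (a * b) := by
    intro a b
    have h1 : v ^ a * d * (v ^ a)⁻¹ = d * e ^ a := by
      have hec := h.zpowers_commute heN
      rw [conj_pow_two_steps (b := e) (d := 1)
        (by rw [← (hec d).eq, he, inv_mul_cancel_right])
        (by rw [mul_one, ← (hec v).eq, mul_inv_cancel_right])
        (Commute.one_left _) (Commute.one_left _) a, one_pow, mul_one]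
    rw [← conj_pow, h1, ((h.zpowers_commute (N.pow_mem heN a) d).symm).mul_pow, ← pow_mul]
  have hτe : τ e = e ^ (β * (k * β)) := by
    obtain ⟨a, ha, hva⟩ : ∃ a ∈ N, τ v = v ^ β * a :=
      ⟨(v ^ β)⁻¹ * τ v, hτv, by rw [mul_inv_cancel_left]⟩
    obtain ⟨b, hb, hdb⟩ : ∃ b ∈ N, τ d = d ^ (k * β) * b := by
      refine ⟨(d ^ (k * β))⁻¹ * τ d, (QuotientGroup.eq_one_iff _).1 ?_, by rw [mul_inv_cancel_left]⟩
      show q ((d ^ (k * β))⁻¹ * τ d) = 1
      rw [map_mul, map_inv, hqτd, map_pow, inv_mul_cancel]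
    have hac := h.zpowers_commute ha
    have hbc := h.zpowers_commute hb
    rw [he, map_mul, map_mul, map_mul, map_inv, map_inv, hva, hdb,
      show v ^ β * a * (d ^ (k * β) * b) * (v ^ β * a)⁻¹ * (d ^ (k * β) * b)⁻¹ =
        v ^ β * (a * (d ^ (k * β) * b) * a⁻¹) * (v ^ β)⁻¹ * (d ^ (k * β) * b)⁻¹ by group,
      (hac _).eq, mul_inv_cancel_right,
      show v ^ β * (d ^ (k * β) * b) * (v ^ β)⁻¹ * (d ^ (k * β) * b)⁻¹ =
        (v ^ β * d ^ (k * β) * (v ^ β)⁻¹) * (v ^ β * b * (v ^ β)⁻¹) * b⁻¹ * (d ^ (k * β))⁻¹ by group,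
      ← (hbc (v ^ β)).eq, mul_inv_cancel_right, mul_inv_cancel_right, hbil, ← he,
      ((h.zpowers_commute (N.pow_mem heN _) (d ^ (k * β))).symm).eq, mul_inv_cancel_right]
  have h1 : z ^ ((k : ℤ) * l) = z ^ (l * ((β * (k * β) : ℕ) : ℤ)) := by
    rw [zpow_mul, zpow_natCast, ← hτzk, ← map_zpow, hl, hτe, ← hl, ← zpow_natCast, ← zpow_mul]
  rw [← mul_inv_eq_one, ← zpow_sub, ← orderOf_dvd_iff_zpow_eq_one, hzord] at h1
  have h2 : (p : ℤ) ∣ l * (k : ℤ) * ((β : ℤ) * β - 1) := by
    obtain ⟨m, hm⟩ := h1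
    exact ⟨-m, by push_cast at hm; linear_combination -hm⟩
  rcases (Nat.prime_iff_prime_int.1 hpp).dvd_or_dvd h2 with h3 | h3
  · rcases (Nat.prime_iff_prime_int.1 hpp).dvd_or_dvd h3 with h4 | h4
    · exact he1 (by rw [← hl, ← orderOf_dvd_iff_zpow_eq_one, hzord]; exact h4)
    · refine h.z_ne (τ.injective ?_)
      rw [map_one, hτzk, ← orderOf_dvd_iff_pow_eq_one, hzord]
      exact Int.natCast_dvd_natCast.1 h4
  · exact hβ h3

end CfsgLib.RankTwoShape
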