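import Mathlib
import Cfsg.Agent.Lib.PGroup.AlperinElementary

/-!
Automorphisms of prime order `q ≠ p` of a `p`-group of rank at most two, `p` odd.
-/

set_option autoImplicit false
set_option linter.style.haveILetI false

open scoped commutatorElement

namespace CfsgLib.RankTwoAut

variable {R : Type*} [Group R] [Finite R] {p : ℕ} [hp : Fact p.Prime]

/-- A nonabelian group of exponent `p` and class two whose elementary abelian subgroups have order
at most `p ^ 2` has order at most `p ^ 3`. -/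
theorem card_le_cube (hR : IsPGroup p R) (he : ∀ x : R, x ^ p = 1)
    (hcl : ∀ x y : R, ⁅x, y⁆ ∈ Subgroup.center R) (hrk : Cfsg.PRankLE p 2 R) :
    Nat.card R ≤ p ^ 3 := by
  obtain ⟨A, hA0, hAc, hmax⟩ := Finite.exists_le_maximal
    (p := fun A : Subgroup R => IsMulCommutative A) (a := Subgroup.center R) inferInstance
  have hAc' : IsMulCommutative A := hAc
  haveI := hAc'
  haveI hAn : A.Normal := ⟨fun a ha r => by
    rw [show r * a * r⁻¹ = ⁅r, a⁆ * a by rw [commutatorElement_def]; group]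
    exact mul_mem (hA0 (hcl r a)) ha⟩
  have hself : ∀ x ∈ Subgroup.centralizer (A : Set R), x ∈ A := by
    intro x hx
    set A' := Subgroup.closure ((A : Set R) ∪ {x}) with hA'
    have hc : IsMulCommutative A' := Subgroup.isMulCommutative_closure (by
      rintro u (hu | rfl) v (hv | rfl)
      · exact congrArg Subtype.val (mul_comm' (⟨u, hu⟩ : A) ⟨v, hv⟩)
      · exact hx u hu
      · exact (hx v hv).symm
      · rfl)
    exact hmax hc (fun u hu => Subgroup.subset_closure (Or.inl hu))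
      (Subgroup.subset_closure (Or.inr rfl))
  have hA2 := hrk A hAc' fun a _ => he a
  obtain ⟨a, ha⟩ := IsPGroup.iff_card.mp (hR.to_subgroup A)
  rw [ha] at hA2
  have ha2 := (Nat.pow_le_pow_iff_right hp.out.one_lt).mp hA2
  have hcard := A.card_mul_index
  rcases eq_or_ne a 2 with rfl | hne
  · have hidx : A.index ≤ p := by
      have hC : Subgroup.centralizer (A : Set R) = A :=
        le_antisymm hself (Subgroup.le_centralizer A)
      have := AlperinElem.centralizer_index_le hR (E := A) ⟨hAc', fun x _ => he x⟩ ha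
      rw [hC] at this
      exact Nat.le_of_dvd hp.out.pos this
    rw [← hcard, ha, pow_succ _ 2]
    exact Nat.mul_le_mul_left _ hidx
  · -- then the group is abelian
    have htop : A = ⊤ := by
      by_contra hne'
      obtain ⟨x, -, hxA, hcom⟩ := AlperinElem.exists_central_mod hR (N := A) (K := ⊤)
        (lt_top_iff_ne_top.mpr hne')
      refine hxA (hself x fun u hu => ?_)
      -- `A` has order at most `p`, so it is central
      have hAcen : A ≤ Subgroup.center R := by
        rcases eq_or_ne A ⊥ with hb | hb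
        · rw [hb]; exact bot_le
        · have h1 := Uniserial.card_mul_le (G := (⊤ : Subgroup R)) (hR.to_subgroup _)
            (hR.to_subgroup A) (by rw [Subgroup.normalizer_eq_top]) hb
          have h2 : Nat.card ↥⁅A, (⊤ : Subgroup R)⁆ ≤ 1 := by
            refine Nat.le_of_mul_le_mul_right (h1.trans ?_) hp.out.pos
            rw [ha, one_mul]
            exact (Nat.pow_le_pow_right hp.out.pos (show a ≤ 1 by omega)).trans (pow_one p).le
          intro v hv
          refine Subgroup.mem_center_iff.mpr fun r => ?_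
          exact (commutatorElement_eq_one_iff_commute.mp (Subgroup.mem_bot.mp
            ((Subgroup.eq_bot_of_card_le _ h2) ▸
              Subgroup.commutator_mem_commutator hv (Subgroup.mem_top r)))).symm.eq
      exact ((Subgroup.mem_center_iff.mp (hAcen hu)) x).symm
    rw [← Subgroup.card_top (G := R), ← htop, ha]
    exact Nat.pow_le_pow_right hp.out.pos (by omega)

theorem dvd_pow_sub_one {q : ℕ} [hq : Fact q.Prime] (hqp : q ≠ p) {R : Type*} [Group R] [Finite R]
    (φ : MulAut R) (hφ : φ ^ q = 1) (H : Subgroup R) (hH : ∀ x ∈ H, φ x ∈ H) {a b : ℕ}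
    (ha : Nat.card H = p ^ a) {F : Subgroup R} (hF : ∀ x, x ∈ F ↔ x ∈ H ∧ φ x = x)
    (hb : Nat.card F = p ^ b) : q ∣ p ^ (a - b) - 1 := by
  classical
  haveI := Fintype.ofFinite H
  let f : Function.End H := fun x => ⟨φ x, hH x x.2⟩
  have hpow : ∀ n : ℕ, ∀ x : H, (((f ^ n) x : H) : R) = (φ ^ n) (x : R) := by
    intro n
    induction n with
    | zero => intro x; rfl
    | succ n ih =>
      intro x
      rw [pow_succ, pow_succ]
      exact ih (f x)
  have hf : f ^ q ^ 1 = 1 := by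
    refine funext fun x => Subtype.ext ?_
    rw [hpow, pow_one, hφ]
    rfl
  have h := Equiv.Perm.card_fixedPoints_modEq (α := H) (p := q) hf
  have hle : F ≤ H := fun x hx => ((hF x).mp hx).1
  have e : f.fixedPoints ≃ F :=
    { toFun := fun x => ⟨(x.1 : R), (hF _).mpr ⟨x.1.2, congrArg Subtype.val x.2⟩⟩
      invFun := fun y => ⟨⟨y, hle y.2⟩, Subtype.ext ((hF _).mp y.2).2⟩
      left_inv := fun x => rfl
      right_inv := fun y => rfl }
  rw [← Nat.card_eq_fintype_card, ← Nat.card_eq_fintype_card, Nat.card_congr e, ha, hb] at h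
  have hba : b ≤ a := by
    have := Subgroup.card_le_of_le hle
    rw [ha, hb] at this
    exact (Nat.pow_le_pow_iff_right hp.out.one_lt).mp this
  have h2 := (Nat.modEq_iff_dvd' (Nat.pow_le_pow_right hp.out.pos hba)).mp h.symm
  rw [show p ^ a - p ^ b = p ^ b * (p ^ (a - b) - 1) by
    rw [Nat.mul_sub, mul_one, ← pow_add, Nat.add_sub_cancel' hba]] at h2
  exact ((hq.out.coprime_iff_not_dvd.mpr fun h3 => hqp
    ((Nat.prime_dvd_prime_iff_eq hq.out hp.out).mp (hq.out.dvd_of_dvd_pow h3)))).dvd_of_dvd_mul_left h2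

theorem prime_dvd_of_rank_two (hR : IsPGroup p R) (hp2 : p ≠ 2) (hrk : Cfsg.PRankLE p 2 R)
    {q : ℕ} [hq : Fact q.Prime] (hqp : q ≠ p) (φ : MulAut R) (hφ : orderOf φ = q) :
    q ∣ p ^ 2 - 1 := by
  classical
  haveI := Fintype.ofFinite (Subgroup R)
  have hφ1 : φ ^ q = 1 := hφ ▸ pow_orderOf_eq_one φ
  have hmoved : ∃ x ∈ (⊤ : Subgroup R), φ x ≠ x := by
    by_contra h
    push Not at h
    have : φ = 1 := MulEquiv.ext fun x => h x (Subgroup.mem_top x)
    rw [this, orderOf_one] at hφ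
    exact hq.out.one_lt.ne hφ
  obtain ⟨D, hD1, hD2⟩ := Finset.exists_min_image
    (Finset.univ.filter fun D : Subgroup R => (∀ x ∈ D, φ x ∈ D) ∧ ∃ x ∈ D, φ x ≠ x)
    (fun D => Nat.card D)
    ⟨⊤, Finset.mem_filter.mpr ⟨Finset.mem_univ _, fun x _ => Subgroup.mem_top _, hmoved⟩⟩
  simp only [Finset.mem_filter, Finset.mem_univ, true_and] at hD1 hD2
  obtain ⟨hDinv, hDmov⟩ := hD1
  have hfix : ∀ H : Subgroup R, H < D → (∀ x ∈ H, φ x ∈ H) → ∀ x ∈ H, φ x = x := by
    intro H hH hinv x hx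
    by_contra hne
    exact hH.ne (Subgroup.eq_of_le_of_card_ge hH.le (hD2 H ⟨hinv, x, hx, hne⟩))
  have hDne : D ≠ ⊥ := by
    rintro rfl
    obtain ⟨x, hx, hx'⟩ := hDmov
    rw [Subgroup.mem_bot] at hx
    exact hx' (by rw [hx, map_one])
  have hDp := hR.to_subgroup D
  set K := Subgroup.closure {k : R | ∃ x ∈ D, k = x⁻¹ * φ x} with hK
  have hKD : K = D := by
    have hle : K ≤ D := (Subgroup.closure_le _).mpr (by
      rintro _ ⟨x, hx, rfl⟩; exact mul_mem (inv_mem hx) (hDinv x hx))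
    have hKinv : ∀ x ∈ K, φ x ∈ K := fun x hx => by
      have h1 : K ≤ K.comap φ.toMonoidHom := (Subgroup.closure_le _).mpr (by
        rintro _ ⟨y, hy, rfl⟩
        exact Subgroup.subset_closure ⟨φ y, hDinv y hy, by
          show φ (y⁻¹ * φ y) = (φ y)⁻¹ * φ (φ y)
          rw [map_mul, map_inv]⟩)
      exact h1 hx
    by_contra hne
    obtain ⟨x, hx, hx'⟩ := hDmov
    have hk := hfix K (lt_of_le_of_ne hle hne) hKinv (x⁻¹ * φ x) (Subgroup.subset_closure ⟨x, hx, rfl⟩)
    set k := x⁻¹ * φ x with hkdef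
    have hiter : ∀ n : ℕ, (φ ^ n) x = x * k ^ n := by
      intro n
      induction n with
      | zero => simp
      | succ n ih =>
        rw [pow_succ' φ, MulAut.mul_apply, ih, map_mul, map_pow, hk,
          show φ x = x * k by rw [hkdef, mul_inv_cancel_left], pow_succ' k, mul_assoc]
    have h2 : k ^ q = 1 := by
      have h3 := hiter q
      rw [hφ1, MulAut.one_apply] at h3
      exact mul_eq_left.mp h3.symm
    have h4 : k = 1 := by
      obtain ⟨i, hi⟩ := hR k
      rw [← orderOf_eq_one_iff]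
      exact Nat.eq_one_of_dvd_coprimes (((Nat.coprime_primes hq.out hp.out).mpr hqp).pow_right i)
        (orderOf_dvd_of_pow_eq_one h2) (orderOf_dvd_of_pow_eq_one hi)
    rw [hkdef, inv_mul_eq_one] at h4
    exact hx' h4.symm
  have hcentral : ∀ N : Subgroup R, N < D → (∀ x ∈ N, φ x ∈ N) →
      D ≤ Subgroup.normalizer (N : Set R) → D ≤ Subgroup.centralizer (N : Set R) := by
    intro N hN hinv hn
    rw [← hKD, hK, Subgroup.closure_le]
    rintro _ ⟨x, hx, rfl⟩ d hd
    set e := x * d * x⁻¹ with he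
    have heN : e ∈ N := (Subgroup.mem_normalizer_iff.mp (hn hx) d).mp hd
    have h1 := hfix N hN hinv e heN
    rw [he, map_mul, map_mul, map_inv, hfix N hN hinv d hd] at h1
    calc d * (x⁻¹ * φ x) = x⁻¹ * (x * d * x⁻¹) * φ x := by group
      _ = x⁻¹ * (φ x * d * (φ x)⁻¹) * φ x := by rw [h1]
      _ = _ := by group
  set P := ⁅D, D⁆ ⊔ Subgroup.closure {y : R | ∃ x ∈ D, y = x ^ p} with hP
  have hPinv : ∀ x ∈ P, φ x ∈ P := fun x hx => by
    have h1 : P ≤ P.comap φ.toMonoidHom := by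
      refine sup_le (Subgroup.commutator_le.mpr fun u hu v hv => ?_) ((Subgroup.closure_le _).mpr ?_)
      · show φ ⁅u, v⁆ ∈ P
        rw [map_commutatorElement]
        exact Subgroup.mem_sup_left (Subgroup.commutator_mem_commutator (hDinv u hu) (hDinv v hv))
      · rintro _ ⟨y, hy, rfl⟩
        exact Subgroup.mem_sup_right (Subgroup.subset_closure ⟨φ y, hDinv y hy, map_pow φ y p⟩)
    exact h1 hx
  have hPlt : P < D := by
    refine lt_of_le_of_lt (b := (frattini D).map D.subtype) ?_ ?_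
    · refine sup_le ?_ ((Subgroup.closure_le _).mpr ?_)
      · refine Subgroup.commutator_le.mpr fun u hu v hv => ⟨⁅(⟨u, hu⟩ : D), ⟨v, hv⟩⁆,
          (PSolvable.commutator_le_frattini hDp).1 ?_, rfl⟩
        rw [commutator_def]
        exact Subgroup.commutator_mem_commutator (Subgroup.mem_top _) (Subgroup.mem_top _)
      · rintro _ ⟨y, hy, rfl⟩
        exact ⟨(⟨y, hy⟩ : D) ^ p, (PSolvable.commutator_le_frattini hDp).2 _, rfl⟩
    · refine lt_of_le_of_ne (Subgroup.map_subtype_le _) fun heq => ?_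
      haveI : Nontrivial D := (Subgroup.nontrivial_iff_ne_bot D).mpr hDne
      have htop : frattini D = ⊤ := by
        apply Subgroup.map_injective D.subtype_injective
        rw [heq, ← MonoidHom.range_eq_map, Subgroup.range_subtype]
      exact bot_ne_top (frattini_nongenerating (K := (⊥ : Subgroup D)) (by rw [htop, bot_sup_eq]))
  have hPn : D ≤ Subgroup.normalizer (P : Set R) := by
    intro x hx
    rw [Subgroup.mem_normalizer_iff]
    have key : ∀ z ∈ D, ∀ w ∈ P, z * w * z⁻¹ ∈ P := fun z hz w hw => by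
      have hwD : w ∈ D := hPlt.le hw
      rw [show z * w * z⁻¹ = ⁅z, w⁆ * w by rw [commutatorElement_def]; group]
      exact mul_mem (Subgroup.mem_sup_left (Subgroup.commutator_mem_commutator hz hwD)) hw
    refine fun w => ⟨key x hx w, fun h => ?_⟩
    have := key x⁻¹ (inv_mem hx) _ h
    simpa [mul_assoc] using this
  have hPc := hcentral P hPlt hPinv hPn
  have hcl : ∀ x ∈ D, ∀ y ∈ D, ∀ z ∈ D, Commute ⁅x, y⁆ z := fun x hx y hy z hz =>
    hPc hz _ (Subgroup.mem_sup_left (Subgroup.commutator_mem_commutator hx hy))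
  have hxp : ∀ x ∈ D, ∀ y ∈ D, ⁅x, y⁆ ^ p = 1 := by
    intro x hx y hy
    have hcp : Commute (x ^ p) y :=
      hPc hy _ (Subgroup.mem_sup_right (Subgroup.subset_closure ⟨x, hx, rfl⟩))
    have h1 : (⁅x, y⁆⁻¹ * x) ^ p = x ^ p := by
      rw [show ⁅x, y⁆⁻¹ * x = y * x * y⁻¹ by rw [commutatorElement_def]; group, conj_pow,
        ← hcp.eq, mul_inv_cancel_right]
    rw [(hcl x hx y hy x hx).inv_left.mul_pow, inv_pow, mul_eq_right, inv_eq_one] at h1
    exact h1
  obtain ⟨r, hr⟩ : p ∣ p.choose 2 :=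
    hp.out.dvd_choose_self (by norm_num) (lt_of_le_of_ne hp.out.two_le hp2.symm)
  have hmulp : ∀ x ∈ D, ∀ y ∈ D, (x * y) ^ p = x ^ p * y ^ p := fun x hx y hy => by
    rw [PSolvable.mul_pow_of_comm (hcl y hy x hx x hx) (hcl y hy x hx y hy), hr, pow_mul,
      hxp y hy x hx, one_pow, mul_one]
  have hexp : ∀ x ∈ D, x ^ p = 1 := by
    intro x hx
    have hx' : x ∈ K := by rw [hKD]; exact hx
    clear hx
    induction hx' using Subgroup.closure_induction with
    | mem k hk =>
      obtain ⟨y, hy, rfl⟩ := hk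
      rw [hmulp _ (inv_mem hy) _ (hDinv y hy), inv_pow, ← map_pow,
        hfix P hPlt hPinv _ (Subgroup.mem_sup_right (Subgroup.subset_closure ⟨y, hy, rfl⟩)),
        inv_mul_cancel]
    | one => exact one_pow p
    | mul u v hu hv iu iv => rw [hmulp u (hKD ▸ hu) v (hKD ▸ hv), iu, iv, one_mul]
    | inv u _ iu => rw [inv_pow, iu, inv_one]
  have hrk' : ∀ H : Subgroup R, H ≤ D → (∀ u ∈ H, ∀ v ∈ H, Commute u v) →
      Nat.card H ≤ p ^ 2 := fun H hH hc =>
    hrk H ⟨⟨fun u v => Subtype.ext (hc u u.2 v v.2).eq⟩⟩ fun u hu => hexp u (hH hu)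
  have hD3 : Nat.card D ≤ p ^ 3 := by
    refine card_le_cube hDp (fun x => Subtype.ext (hexp x x.2))
      (fun x y => Subgroup.mem_center_iff.mpr fun z => Subtype.ext
        (hcl x x.2 y y.2 z z.2).symm.eq) ?_
    intro A hAc hAe
    rw [← Subgroup.card_map_of_injective D.subtype_injective]
    refine hrk' _ (Subgroup.map_subtype_le A) ?_
    rintro _ ⟨u, hu, rfl⟩ _ ⟨v, hv, rfl⟩
    exact congrArg (fun t : A => ((t : D) : R)) (mul_comm' (⟨u, hu⟩ : A) ⟨v, hv⟩)
  let F : Subgroup R :=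
    { carrier := {x | x ∈ D ∧ φ x = x}
      one_mem' := ⟨one_mem _, map_one _⟩
      mul_mem' := fun {x y} hx hy => ⟨mul_mem hx.1 hy.1, by rw [map_mul, hx.2, hy.2]⟩
      inv_mem' := fun {x} hx => ⟨inv_mem hx.1, by rw [map_inv, hx.2]⟩ }
  have hFlt : F < D := by
    refine lt_of_le_of_ne (fun x hx => hx.1) fun h => ?_
    obtain ⟨x, hx, hx'⟩ := hDmov
    exact hx' ((h.ge hx).2)
  obtain ⟨a, ha⟩ := IsPGroup.iff_card.mp hDp
  obtain ⟨b, hb⟩ := IsPGroup.iff_card.mp (hR.to_subgroup F)
  have key := dvd_pow_sub_one hqp φ hφ1 D hDinv ha (F := F) (fun x => Iff.rfl) hb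
  have hab : b < a := by
    by_contra hcon
    exact hFlt.ne (Subgroup.eq_of_le_of_card_ge hFlt.le
      (by rw [ha, hb]; exact Nat.pow_le_pow_right hp.out.pos (by omega)))
  have hfin : ∀ i, 1 ≤ i → i ≤ 2 → q ∣ p ^ i - 1 → q ∣ p ^ 2 - 1 := by
    intro i h1 h2 h
    rcases Nat.lt_or_ge i 2 with h3 | h3
    · rw [show i = 1 by omega, pow_one] at h
      refine h.trans ?_
      rw [show p ^ 2 - 1 = p ^ 2 - 1 ^ 2 by simp, Nat.sq_sub_sq]
      exact dvd_mul_left _ _
    · rwa [show i = 2 by omega] at h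
  have ha3 : a ≤ 3 := by
    rw [ha] at hD3
    exact (Nat.pow_le_pow_iff_right hp.out.one_lt).mp hD3
  rcases Nat.lt_or_ge 2 (a - b) with hbig | hsmall
  swap
  · exact hfin (a - b) (by omega) hsmall key
  -- `D` has order `p ^ 3` and no fixed points: look at its centre
  have hFb : F = ⊥ := Subgroup.card_eq_one.mp (by rw [hb, show b = 0 by omega, pow_zero])
  set Z := D ⊓ Subgroup.centralizer (D : Set R) with hZ
  have hZinv : ∀ x ∈ Z, φ x ∈ Z := by
    intro x hx
    obtain ⟨hxD, hxC⟩ := Subgroup.mem_inf.mp hx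
    refine Subgroup.mem_inf.mpr ⟨hDinv x hxD, fun y hy => ?_⟩
    have hle : D.map φ.toMonoidHom ≤ D := by rintro _ ⟨u, hu, rfl⟩; exact hDinv u hu
    have heq := Subgroup.eq_of_le_of_card_ge hle (Subgroup.card_map_of_injective φ.injective).ge
    obtain ⟨u, hu, rfl⟩ : y ∈ D.map φ.toMonoidHom := heq.ge hy
    show φ u * φ x = φ x * φ u
    rw [← map_mul, ← map_mul, hxC u hu]
  have hPb : P = ⊥ := le_bot_iff.mp (hFb ▸ fun x hx => (⟨hPlt.le hx, hfix P hPlt hPinv x hx⟩ : x ∈ F))
  obtain ⟨c, hc⟩ := IsPGroup.iff_card.mp (hR.to_subgroup Z)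
  have hZD : Z = D := le_antisymm inf_le_left fun x hx => Subgroup.mem_inf.mpr ⟨hx, fun y hy =>
    commutatorElement_eq_one_iff_commute.mp (Subgroup.mem_bot.mp
      (hPb ▸ Subgroup.mem_sup_left (Subgroup.commutator_mem_commutator hy hx)))⟩
  have hle := hrk' D le_rfl fun u hu v hv => ((Subgroup.mem_inf.mp (hZD.ge hv)).2 u hu)
  rw [ha, Nat.pow_le_pow_iff_right hp.out.one_lt] at hle
  omega

end CfsgLib.RankTwoAut
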