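import Mathlib
import Cfsg.Agent.Lib.Critical.Basic

/-!
# The centre of a `2`-group with a cyclic group of automorphisms regular on involutions

If such a group is nonabelian with more than one involution, its centre has exponent two
(Higman).
-/

set_option autoImplicit false
set_option linter.style.haveILetI false

namespace CfsgLib.SuzukiCenter

/-- An alternating pairing of an elementary abelian group with itself which commutes with a
commutative transitive group of automorphisms is trivial. -/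
theorem alt_pairing_trivial {V K : Type*} [CommGroup V] [Finite V] [CommGroup K]
    [MulDistribMulAction K V] (h2 : ∀ v : V, v * v = 1)
    (htr : ∀ v w : V, v ≠ 1 → w ≠ 1 → ∃ k : K, k • v = w) (B : V → V → V)
    (hl : ∀ u u' v, B (u * u') v = B u v * B u' v) (hr : ∀ u v v', B u (v * v') = B u v * B u v')
    (halt : ∀ u, B u u = 1) (heq : ∀ (k : K) u v, B (k • u) (k • v) = k • B u v) :
    ∀ u v, B u v = 1 := by
  classical
  have hr1 : ∀ u, B u 1 = 1 := fun u => by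
    have := hr u 1 1; rwa [mul_one, left_eq_mul] at this
  have hl1 : ∀ v, B 1 v = 1 := fun v => by
    have := hl 1 1 v; rwa [mul_one, left_eq_mul] at this
  have hsymm : ∀ u v, B v u = B u v := by
    intro u v
    have h := halt (u * v)
    rw [hl, hr, hr, halt, halt, one_mul, mul_one] at h
    rw [eq_inv_of_mul_eq_one_right h, ← mul_right_inj (B u v), mul_inv_cancel, h2]
  intro v₀ w
  by_cases hv₀ : v₀ = 1
  · rw [hv₀, hl1]
  have hact : ∀ (k : K), k • v₀ = v₀ → ∀ v : V, k • v = v := by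
    intro k hk v
    by_cases hv : v = 1
    · rw [hv, smul_one]
    · obtain ⟨l, hl'⟩ := htr v₀ v hv₀ hv
      rw [← hl', smul_smul, mul_comm, mul_smul, hk]
  have hne : ∀ (k : K), k • v₀ ≠ 1 := fun k h => hv₀ (by
    have := congrArg (fun x => k⁻¹ • x) h; simpa using this)
  -- the function `h v = B v₀ v`
  have hinv : ∀ k : K, B v₀ (k⁻¹ • v₀) = k⁻¹ • B v₀ (k • v₀) := by
    intro k
    have := heq k⁻¹ (k • v₀) v₀
    rw [inv_smul_smul] at this
    rw [this, hsymm v₀ (k • v₀)]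
  have hsq : ∀ k : K, B v₀ ((k * k) • v₀) = 1 := by
    intro k
    by_cases hk : k • v₀ = v₀
    · rw [hact (k * k) (by rw [mul_smul, hk, hk]) v₀, halt]
    have hx1 : k • v₀ * v₀ ≠ 1 := fun h => hk (by
      rw [← mul_left_inj v₀, h, h2])
    obtain ⟨l, hl'⟩ := htr v₀ (k • v₀ * v₀) hv₀ hx1
    have hlw : ∀ w : V, l • w = k • w * w := by
      intro w
      by_cases hw : w = 1
      · simp [hw]
      · obtain ⟨j, hj⟩ := htr v₀ w hv₀ hw
        rw [← hj, smul_smul, mul_comm l, mul_smul, hl', smul_mul', smul_smul, smul_smul, mul_comm j]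
    -- the inverse of `m = k * l`
    have hm : (k * l) • v₀ = (k * k) • v₀ * k • v₀ := by
      rw [mul_smul, hl', smul_mul', mul_smul]
    have hmi : (k * l)⁻¹ • v₀ = k⁻¹ • v₀ * l⁻¹ • v₀ := by
      rw [inv_smul_eq_iff, smul_mul', smul_smul, smul_smul, mul_comm k l, mul_inv_cancel_right,
        mul_comm l k, mul_inv_cancel_right, hl', mul_comm (k • v₀) v₀, mul_assoc, h2, mul_one]
    have e1 : B v₀ ((k * l)⁻¹ • v₀) = (k * l)⁻¹ • B v₀ (k • v₀) := by
      rw [hmi, hr, hinv, hinv, hl', hr, halt, mul_one]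
      set x := B v₀ (k • v₀)
      rw [eq_inv_smul_iff, smul_mul', smul_smul, smul_smul, mul_comm k l, mul_inv_cancel_right,
        mul_comm l k, mul_inv_cancel_right, hlw, mul_comm (k • x) x, mul_assoc, h2, mul_one]
    have e2 := hinv (k * l)
    rw [e1, smul_left_cancel_iff, hm, hr, right_eq_mul] at e2
    exact e2
  by_cases hw : w = 1
  · rw [hw, hr1]
  -- every nonidentity element is a square image
  choose! kf hkf using fun v (hv : v ≠ (1 : V)) => htr v₀ v hv₀ hv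
  let f : {v : V // v ≠ 1} → {v : V // v ≠ 1} := fun v => ⟨(kf v * kf v) • v₀, hne _⟩
  have hsurj : Function.Surjective f := by
    refine Finite.injective_iff_surjective.mp fun a b h => ?_
    have h' : (kf a * kf a) • v₀ = (kf b * kf b) • v₀ := congrArg Subtype.val h
    refine Subtype.ext ?_
    rw [← hkf a a.2, ← hkf b b.2]
    set g := (kf b)⁻¹ * kf a with hg
    have hg2 : (g * g) • v₀ = v₀ := by
      rw [hg, mul_mul_mul_comm, mul_smul, h', ← mul_smul, mul_mul_mul_comm]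
      simp
    -- `g` fixes `v₀`
    have hgv : g • v₀ = v₀ := by
      by_contra hgv
      have hy : g • v₀ * v₀ ≠ 1 := fun h => hgv (by rw [← mul_left_inj v₀, h, h2])
      obtain ⟨l, hl'⟩ := htr v₀ (g • v₀ * v₀) hv₀ hy
      apply hne (l * l)
      rw [mul_smul, hl', smul_mul', smul_smul, mul_comm l g, mul_smul, hl', smul_mul', smul_smul,
        hg2, mul_comm v₀ (g • v₀), h2]
    rw [hg, mul_smul, inv_smul_eq_iff] at hgv
    exact hgv
  obtain ⟨v, hv⟩ := hsurj ⟨w, hw⟩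
  rw [← show ((kf v * kf v) • v₀ : V) = w from congrArg Subtype.val hv]
  exact hsq _

variable {P : Type*} [Group P]

/-- A commutative group of automorphisms regular on the involutions, all central. -/
structure Setting (K : Subgroup (MulAut P)) : Prop where
  two : IsPGroup 2 P
  comm : ∀ a ∈ K, ∀ b ∈ K, a * b = b * a
  central : ∀ v : P, v * v = 1 → ∀ g : P, g * v = v * g
  trans : ∀ x y : P, x ≠ 1 → x * x = 1 → y ≠ 1 → y * y = 1 → ∃ k ∈ K, k x = y
  free : ∀ k ∈ K, ∀ x : P, x ≠ 1 → x * x = 1 → k x = x → k = 1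
  nontriv : ∃ x y : P, x ≠ y ∧ x ≠ 1 ∧ x * x = 1 ∧ y ≠ 1 ∧ y * y = 1

variable {K : Subgroup (MulAut P)}

/-- The involutions, with the identity. -/
def Setting.inv (hS : Setting K) : Subgroup P where
  carrier := {v | v * v = 1}
  one_mem' := one_mul 1
  mul_mem' := fun {a b} ha hb => by
    show a * b * (a * b) = 1
    calc a * b * (a * b) = a * (b * a) * b := by group
      _ = a * (a * b) * b := by rw [hS.central a ha b]
      _ = (a * a) * (b * b) := by group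
      _ = 1 := by rw [show a * a = 1 from ha, show b * b = 1 from hb, one_mul]
  inv_mem' := fun {a} (ha : a * a = 1) => by show a⁻¹ * a⁻¹ = 1; rw [← mul_inv_rev, ha, inv_one]

theorem Setting.mem_inv (hS : Setting K) {v : P} : v ∈ hS.inv ↔ v * v = 1 := Iff.rfl

/-- A `K`-invariant subgroup of involutions is trivial or everything. -/
theorem Setting.irreducible (hS : Setting K) (W : Subgroup P) (hW : W ≤ hS.inv)
    (hk : ∀ k ∈ K, ∀ w ∈ W, k w ∈ W) (hne : W ≠ ⊥) : W = hS.inv := by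
  refine le_antisymm hW fun v hv => ?_
  by_cases h1 : v = 1
  · rw [h1]; exact W.one_mem
  obtain ⟨⟨w, hw⟩, hw1⟩ := Subgroup.ne_bot_iff_exists_ne_one.mp hne
  obtain ⟨k, hkK, hkv⟩ := hS.trans w v (fun h => hw1 (Subtype.ext h)) (hW hw) h1 hv
  exact hkv ▸ hk k hkK w hw

/-- Only the identity is fixed by a nontrivial element. -/
theorem Setting.fpf [Finite P] (hS : Setting K) {k : MulAut P} (hk : k ∈ K) (hk1 : k ≠ 1) {s : P}
    (hs : k s = s) : s = 1 := by
  by_contra h1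
  obtain ⟨j, hj⟩ := hS.two s
  obtain ⟨i, -, hi⟩ := (Nat.dvd_prime_pow Nat.prime_two).mp (orderOf_dvd_of_pow_eq_one hj)
  rcases i with _ | i
  · exact h1 (orderOf_eq_one_iff.mp hi)
  · refine hk1 (hS.free k hk (s ^ 2 ^ i) ?_ ?_ (by rw [map_pow, hs]))
    · exact pow_ne_one_of_lt_orderOf (pow_ne_zero _ two_ne_zero)
        (hi ▸ Nat.pow_lt_pow_right (by norm_num) (Nat.lt_succ_self i))
    · rw [← pow_add, ← two_mul, ← pow_succ', ← hi, pow_orderOf_eq_one]

/-- A nontrivial element of odd order in `K`. -/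
theorem Setting.exists_odd_prime [Finite P] (hS : Setting K) :
    ∃ k ∈ K, ∃ r : ℕ, r.Prime ∧ r ≠ 2 ∧ orderOf k = r := by
  classical
  obtain ⟨x, y, hxy, hx, hx2, hy, hy2⟩ := hS.nontriv
  -- `K` is in bijection with the nonidentity elements of `hS.inv`
  let e : K → {v : hS.inv // v ≠ 1} := fun k =>
    ⟨⟨(k : MulAut P) x, by show (k : MulAut P) x * (k : MulAut P) x = 1; rw [← map_mul, hx2, map_one]⟩,
      fun h => hx (by simpa using congrArg Subtype.val h)⟩
  have he : Function.Bijective e := by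
    constructor
    · intro a b h
      have h' : (a : MulAut P) x = (b : MulAut P) x := congrArg (fun t : {v : hS.inv // v ≠ 1} => ((t.1 : hS.inv) : P)) h
      have h1 := hS.free ((b⁻¹ * a : K) : MulAut P) (b⁻¹ * a).2 x hx hx2 (by simp [h'])
      exact (inv_mul_eq_one.mp (Subtype.ext h1)).symm
    · rintro ⟨⟨v, hv⟩, hv1⟩
      obtain ⟨k, hk, hkv⟩ := hS.trans x v hx hx2 (fun h => hv1 (Subtype.ext h)) hv
      exact ⟨⟨k, hk⟩, Subtype.ext (Subtype.ext hkv)⟩
  have hcard : Nat.card K + 1 = Nat.card hS.inv := by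
    rw [Nat.card_congr (Equiv.ofBijective e he)]
    haveI : Fintype hS.inv := Fintype.ofFinite _
    rw [Nat.card_eq_fintype_card (α := hS.inv), Nat.card_eq_fintype_card (α := {v : hS.inv // v ≠ 1}),
      Fintype.card_subtype_compl, Fintype.card_subtype_eq]
    have := Fintype.card_pos (α := hS.inv)
    omega
  haveI : Fact (Nat.Prime 2) := ⟨Nat.prime_two⟩
  obtain ⟨j, hj⟩ := IsPGroup.iff_card.mp (hS.two.to_subgroup hS.inv)
  have h3 : 3 ≤ Nat.card hS.inv := by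
    have hc3 : ({(1 : hS.inv), ⟨x, hx2⟩, ⟨y, hy2⟩} : Finset hS.inv).card = 3 := by
      simp [Subtype.ext_iff, hxy, hx.symm, hy.symm]
    haveI : Fintype hS.inv := Fintype.ofFinite _
    rw [Nat.card_eq_fintype_card (α := hS.inv), ← hc3]
    exact Finset.card_le_univ _
  obtain ⟨r, hr, hrd⟩ := Nat.exists_prime_and_dvd (n := Nat.card K) (by omega)
  haveI : Finite K := Nat.finite_of_card_ne_zero (by omega)
  haveI : Fact r.Prime := ⟨hr⟩
  obtain ⟨k, hk⟩ := exists_prime_orderOf_dvd_card' (G := K) r hrd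
  refine ⟨k, k.2, r, hr, ?_, by rw [Subgroup.orderOf_coe, hk]⟩
  rintro rfl
  rcases j with _ | j
  · simp at hj; simp [hj] at h3
  · obtain ⟨c, hc⟩ := hrd
    rw [hj, pow_succ] at hcard
    omega

/-- In a coset fixed by an element of odd prime order, that element has a fixed point. -/
theorem fixed_in_coset [Finite P] (hP : IsPGroup 2 P) (k : MulAut P) {r : ℕ} (hr : r.Prime)
    (hr2 : r ≠ 2) (hk : orderOf k = r) (N : Subgroup P) (hN : ∀ n ∈ N, k n ∈ N) (x : P)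
    (hx : x⁻¹ * k x ∈ N) : ∃ n ∈ N, k (x * n) = x * n := by
  classical
  haveI : Fact (Nat.Prime 2) := ⟨Nat.prime_two⟩
  haveI : Fact r.Prime := ⟨hr⟩
  let S : Set P := {g | x⁻¹ * g ∈ N}
  have hS : ∀ g ∈ S, k g ∈ S := fun g hg => by
    have h := N.mul_mem hx (hN _ hg)
    simpa [map_mul, map_inv, mul_assoc, S] using h
  have hSn : ∀ (n : ℕ) (g : P), g ∈ S → (k ^ n) g ∈ S := by
    intro n
    induction n with
    | zero => exact fun g hg => hg
    | succ n ih => intro g hg; rw [pow_succ']; exact hS _ (ih g hg)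
  let Z := Subgroup.zpowers k
  have hSz : ∀ z ∈ Z, ∀ g ∈ S, z g ∈ S := by
    intro z hz g hg
    obtain ⟨n, -, rfl⟩ := (IsOfFinOrder.mem_zpowers_iff_mem_range_orderOf (orderOf_pos_iff.mp
      (hk ▸ hr.pos))).mp hz |> fun h => Finset.mem_image.mp h
    exact hSn n g hg
  letI : MulAction Z S :=
    { smul := fun z g => ⟨(z : MulAut P) g, hSz z z.2 g g.2⟩
      one_smul := fun g => Subtype.ext rfl
      mul_smul := fun a b g => Subtype.ext rfl }
  have hZ : IsPGroup r Z := IsPGroup.of_card (n := 1) (by rw [Nat.card_zpowers, hk, pow_one])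
  obtain ⟨j, hj⟩ := IsPGroup.iff_card.mp (hP.to_subgroup N)
  have hcS : Nat.card S = 2 ^ j := by
    rw [← hj]
    exact Nat.card_congr
      { toFun := fun g => ⟨x⁻¹ * g.1, g.2⟩
        invFun := fun n => ⟨x * n.1, by simp [S, n.2]⟩
        left_inv := fun g => by simp
        right_inv := fun n => by simp }
  have hnd : ¬ r ∣ Nat.card S := by
    rw [hcS]
    exact fun h => hr2 ((Nat.prime_dvd_prime_iff_eq hr Nat.prime_two).mp (hr.dvd_of_dvd_pow h))
  obtain ⟨⟨g, hg⟩, hfix⟩ := hZ.nonempty_fixed_point_of_prime_not_dvd_card (α := S) hnd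
  refine ⟨x⁻¹ * g, hg, ?_⟩
  have := congrArg Subtype.val (hfix ⟨k, Subgroup.mem_zpowers k⟩)
  rw [mul_inv_cancel_left]
  exact this

/-- The next layer over an abelian `K`-invariant normal subgroup. -/
structure Layer (hS : Setting K) (A X : Subgroup P) (f : ℕ) : Prop where
  two_le : 2 ≤ f
  abelian : ∀ a ∈ A, ∀ b ∈ A, a * b = b * a
  le : A ≤ X
  invA : ∀ k ∈ K, ∀ a ∈ A, k a ∈ A
  invX : ∀ k ∈ K, ∀ a ∈ X, k a ∈ X
  normal : A.Normal
  inv_le : hS.inv ≤ A
  exp : ∀ a ∈ A, a ^ 2 ^ f = 1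
  root : ∀ v ∈ hS.inv, ∃ a ∈ A, a ^ 2 ^ (f - 1) = v
  sq : ∀ x ∈ X, x * x ∈ A
  comm : ∀ x ∈ X, ∀ y ∈ X, x * y * x⁻¹ * y⁻¹ ∈ A

variable {hS : Setting K} {A X : Subgroup P} {f : ℕ}

theorem Layer.pow_mem_inv (L : Layer hS A X f) {a : P} (ha : a ∈ A) :
    a ^ 2 ^ (f - 1) ∈ hS.inv := by
  rw [hS.mem_inv, ← pow_add, ← two_mul, ← pow_succ', Nat.sub_add_cancel (by have := L.two_le; omega)]
  exact L.exp a ha

/-- An element killed by `2 ^ j` is a `2 ^ (f - j)`th power. -/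
theorem Layer.exists_root (L : Layer hS A X f) : ∀ j ≤ f, ∀ a ∈ A, a ^ 2 ^ j = 1 →
    ∃ b ∈ A, b ^ 2 ^ (f - j) = a := by
  intro j
  induction j with
  | zero =>
    intro _ a _ h
    rw [pow_zero, pow_one] at h
    exact ⟨1, A.one_mem, by rw [one_pow, h]⟩
  | succ j ih =>
    intro hj a ha h
    have hv : a ^ 2 ^ j ∈ hS.inv := by
      rw [hS.mem_inv, ← pow_add, ← two_mul, ← pow_succ', h]
    obtain ⟨c, hc, hcv⟩ := L.root _ hv
    have he : (2 : ℕ) ^ (f - (j + 1)) * 2 ^ j = 2 ^ (f - 1) := by rw [← pow_add]; congr 1; omega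
    have hc' : c ^ 2 ^ (f - (j + 1)) ∈ A := A.pow_mem hc _
    have hcomm : Commute a (c ^ 2 ^ (f - (j + 1)))⁻¹ := L.abelian a ha _ (A.inv_mem hc')
    have h1 : (a * (c ^ 2 ^ (f - (j + 1)))⁻¹) ^ 2 ^ j = 1 := by
      rw [hcomm.mul_pow, inv_pow, ← pow_mul, he, hcv, mul_inv_cancel]
    obtain ⟨b, hb, hbe⟩ := ih (by omega) _ (A.mul_mem ha (A.inv_mem hc')) h1
    refine ⟨b ^ 2 * c, A.mul_mem (A.pow_mem hb 2) hc, ?_⟩
    rw [(show Commute (b ^ 2) c from L.abelian _ (A.pow_mem hb 2) c hc).mul_pow, ← pow_mul,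
      ← pow_succ', show f - (j + 1) + 1 = f - j by omega, hbe, inv_mul_cancel_right]

/-- An element killed by `2 ^ (f - 1)` is a square. -/
theorem Layer.exists_sqrt (L : Layer hS A X f) {a : P} (ha : a ∈ A) (h : a ^ 2 ^ (f - 1) = 1) :
    ∃ b ∈ A, b ^ 2 = a := by
  obtain ⟨b, hb, hbe⟩ := L.exists_root (f - 1) (by omega) a ha h
  exact ⟨b, hb, by rwa [show f - (f - 1) = 1 by have := L.two_le; omega, pow_one] at hbe⟩

/-- The commutator with `x`, on `A`. -/
theorem Layer.delta_mem (L : Layer hS A X f) (x : P) {a : P} (ha : a ∈ A) :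
    x * a * x⁻¹ * a⁻¹ ∈ A :=
  A.mul_mem (L.normal.conj_mem a ha x) (A.inv_mem ha)

theorem Layer.delta_mul (L : Layer hS A X f) (x : P) {a b : P} (ha : a ∈ A) (hb : b ∈ A) :
    x * (a * b) * x⁻¹ * (a * b)⁻¹ = (x * a * x⁻¹ * a⁻¹) * (x * b * x⁻¹ * b⁻¹) := by
  calc x * (a * b) * x⁻¹ * (a * b)⁻¹
      = (x * a * x⁻¹) * ((x * b * x⁻¹ * b⁻¹) * a⁻¹) := by group
    _ = (x * a * x⁻¹) * (a⁻¹ * (x * b * x⁻¹ * b⁻¹)) := by
        rw [L.abelian _ (L.delta_mem x hb) _ (A.inv_mem ha)]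
    _ = (x * a * x⁻¹ * a⁻¹) * (x * b * x⁻¹ * b⁻¹) := by group

theorem Layer.delta_pow (L : Layer hS A X f) (x : P) {a : P} (ha : a ∈ A) (n : ℕ) :
    x * a ^ n * x⁻¹ * (a ^ n)⁻¹ = (x * a * x⁻¹ * a⁻¹) ^ n := by
  induction n with
  | zero => simp
  | succ n ih => rw [pow_succ, L.delta_mul x (A.pow_mem ha n) ha, ih, pow_succ]

theorem delta_inv_eq_one (hS : Setting K) (x : P) {v : P} (hv : v ∈ hS.inv) :
    x * v * x⁻¹ * v⁻¹ = 1 := by
  rw [hS.central v hv x]; group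

/-- With all `δ_x` killing `A ^ 2`, commutators in `X` have trivial top power. -/
theorem Layer.sq_hom (L : Layer hS A X f)
    (hsmall : ∀ x ∈ X, ∀ a ∈ A, x * a * x⁻¹ * a⁻¹ ∈ hS.inv)
    (hf : (∀ x ∈ X, ∀ a ∈ A, x * a = a * x) ∨ 3 ≤ f) {x y : P} (hx : x ∈ X) (hy : y ∈ X) :
    (x * y * (x * y)) ^ 2 ^ (f - 1) = (x * x) ^ 2 ^ (f - 1) * (y * y) ^ 2 ^ (f - 1) := by
  set c := y * x * y⁻¹ * x⁻¹ with hcdef
  have hc : c ∈ A := L.comm y hy x hx
  have hc' : x * c * x⁻¹ ∈ A := L.normal.conj_mem c hc x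
  set d := x * c * x⁻¹ * c⁻¹ with hddef
  have hd : d ∈ hS.inv := hsmall x hx c hc
  have hdA : d ∈ A := L.inv_le hd
  have h2 : 2 ∣ 2 ^ (f - 1) := dvd_pow_self 2 (by have := L.two_le; omega)
  have hinv1 : ∀ v ∈ hS.inv, v ^ 2 ^ (f - 1) = 1 := by
    intro v hv
    obtain ⟨t, ht⟩ := h2
    rw [ht, pow_mul, pow_two, hv, one_pow]
  have hdpow : d ^ 2 ^ (f - 1) = 1 := hinv1 d hd
  -- `c ^ 2` is small
  have hcc : c ^ 2 ^ (f - 1) = 1 := by
    have hyx : y * (x * x) * y⁻¹ * (x * x)⁻¹ = c * d * c := by rw [hddef, hcdef]; group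
    rcases hf with hcen | hf3
    · have hd1 : d = 1 := by rw [hddef, hcen x hx c hc]; group
      have h1 : c * c = 1 := by
        rw [hcen y hy _ (L.sq x hx), hd1, mul_one] at hyx
        rw [← hyx]; group
      exact hinv1 c (hS.mem_inv.mpr h1)
    · have hq : c * d * c ∈ hS.inv := hyx ▸ hsmall y hy _ (L.sq x hx)
      have h4 : (c * c) * (c * c) = 1 := by
        have hq2 : (c * d * c) * (c * d * c) = 1 := hq
        have hcd : c * d * c = d * (c * c) := by rw [L.abelian c hc d hdA, mul_assoc]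
        rw [hcd] at hq2
        calc c * c * (c * c) = (d * d) * (c * c * (c * c)) := by rw [show d * d = 1 from hd, one_mul]
          _ = d * (d * (c * c)) * (c * c) := by group
          _ = d * ((c * c) * d) * (c * c) := by rw [L.abelian d hdA _ (A.mul_mem hc hc)]
          _ = 1 := by rw [← hq2]; group
      obtain ⟨t, ht⟩ : ∃ t, 2 ^ (f - 1) = 4 * t := ⟨2 ^ (f - 3), by
        rw [show (4 : ℕ) = 2 ^ 2 by norm_num, ← pow_add]; congr 1; omega⟩
      rw [ht, pow_mul, show c ^ 4 = c * c * (c * c) by simp [pow_succ, mul_assoc], h4, one_pow]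
  have e : x * y * (x * y) = (x * c * x⁻¹) * (x * x) * (y * y) := by rw [hcdef]; group
  have hxc : x * c * x⁻¹ = d * c := by rw [hddef]; group
  have hx2 := L.sq x hx
  have hy2 := L.sq y hy
  rw [e, (show Commute (x * c * x⁻¹ * (x * x)) (y * y) from L.abelian _ (A.mul_mem hc' hx2) _ hy2).mul_pow,
    (show Commute (x * c * x⁻¹) (x * x) from L.abelian _ hc' _ hx2).mul_pow, hxc,
    (show Commute d c from L.abelian d hdA c hc).mul_pow, hdpow, hcc, one_mul, one_mul]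

/-- An element of `X` whose square has trivial top power lies in `A`. -/
theorem Layer.mem_of_sq (L : Layer hS A X f)
    (hsmall : ∀ x ∈ X, ∀ a ∈ A, x * a * x⁻¹ * a⁻¹ ∈ hS.inv)
    (hf : (∀ x ∈ X, ∀ a ∈ A, x * a = a * x) ∨ 3 ≤ f) {x : P} (hx : x ∈ X)
    (h : (x * x) ^ 2 ^ (f - 1) = 1) : x ∈ A := by
  obtain ⟨b, hb, hbe⟩ := L.exists_sqrt (L.sq x hx) h
  have hbi : b⁻¹ ∈ A := A.inv_mem hb
  set y := x * b⁻¹ with hy
  have hyX : y ∈ X := X.mul_mem hx (L.le hbi)
  suffices y ∈ A by simpa [hy] using A.mul_mem this hb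
  have key : y * y = x * b⁻¹ * x⁻¹ * b := by
    calc y * y = (x * b⁻¹ * x⁻¹) * (x * x) * b⁻¹ := by rw [hy]; group
      _ = x * b⁻¹ * x⁻¹ * b := by rw [← hbe]; group
  rcases hf with hcen | hf3
  · refine L.inv_le (hS.mem_inv.mpr ?_)
    rw [key, hcen x hx _ hbi]; group
  · have hv : y * y ∈ hS.inv := by
      rw [key]; simpa using hsmall x hx _ hbi
    obtain ⟨g, hg, hge⟩ := L.root _ hv
    set m := g ^ 2 ^ (f - 2) with hm
    have hmA : m ∈ A := A.pow_mem hg _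
    have hm2 : m * m = y * y := by
      rw [hm, ← pow_add, ← two_mul, ← pow_succ', show f - 2 + 1 = f - 1 by omega, hge]
    have hdel : y * m * y⁻¹ * m⁻¹ = 1 := by
      rw [hm, L.delta_pow y hg, show 2 ^ (f - 2) = 2 * 2 ^ (f - 3) by
        rw [← pow_succ']; congr 1; omega, pow_mul, pow_two]
      rw [show y * g * y⁻¹ * g⁻¹ * (y * g * y⁻¹ * g⁻¹) = 1 from hsmall y hyX g hg, one_pow]
    have hcm : y * m⁻¹ = m⁻¹ * y := by
      have : y * m * y⁻¹ = m := mul_inv_eq_one.mp hdel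
      calc y * m⁻¹ = (y * m * y⁻¹)⁻¹ * y := by group
        _ = m⁻¹ * y := by rw [this]
    have hz : y * m⁻¹ ∈ hS.inv := by
      rw [hS.mem_inv]
      calc y * m⁻¹ * (y * m⁻¹) = (y * m⁻¹) * (m⁻¹ * y) := by rw [← hcm]
        _ = y * (m * m)⁻¹ * y := by group
        _ = 1 := by rw [hm2]; group
    simpa using A.mul_mem (L.inv_le hz) hmA

/-- Values of the top power on squares exhaust the involutions. -/
theorem Layer.sq_surjective (L : Layer hS A X f)
    (hsmall : ∀ x ∈ X, ∀ a ∈ A, x * a * x⁻¹ * a⁻¹ ∈ hS.inv)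
    (hf : (∀ x ∈ X, ∀ a ∈ A, x * a = a * x) ∨ 3 ≤ f) (hne : ¬ X ≤ A) :
    ∀ v ∈ hS.inv, ∃ x ∈ X, (x * x) ^ 2 ^ (f - 1) = v := by
  let q : X →* P := MonoidHom.mk' (fun x => ((x : P) * x) ^ 2 ^ (f - 1))
    (fun a b => L.sq_hom hsmall hf a.2 b.2)
  have hle : q.range ≤ hS.inv := by rintro _ ⟨a, rfl⟩; exact L.pow_mem_inv (L.sq a a.2)
  have hinvar : ∀ k ∈ K, ∀ w ∈ q.range, k w ∈ q.range := by
    rintro k hk _ ⟨a, rfl⟩
    exact ⟨⟨k a, L.invX k hk a a.2⟩, by simp [q, map_pow, map_mul]⟩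
  have hbot : q.range ≠ ⊥ := by
    intro h
    apply hne
    intro x hx
    refine L.mem_of_sq hsmall hf hx ?_
    have : q ⟨x, hx⟩ ∈ q.range := ⟨_, rfl⟩
    rwa [h, Subgroup.mem_bot] at this
  intro v hv
  obtain ⟨a, ha⟩ : v ∈ q.range := (hS.irreducible _ hle hinvar hbot).symm ▸ hv
  exact ⟨a, a.2, ha⟩

section pairing

variable [Finite P]

/-- A pairing `X × W → inv` which factors through surjections to the involutions is trivial. -/
theorem Setting.pairing_trivial (hS : Setting K) (Y W : Subgroup P) (q r : P → P) (D : P → P → P)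
    (hYk : ∀ k ∈ K, ∀ y ∈ Y, k y ∈ Y) (hWk : ∀ k ∈ K, ∀ w ∈ W, k w ∈ W)
    (hq : ∀ y ∈ Y, ∀ y' ∈ Y, q (y * y') = q y * q y') (hr : ∀ w ∈ W, ∀ w' ∈ W, r (w * w') = r w * r w')
    (hqk : ∀ k ∈ K, ∀ y, k (q y) = q (k y)) (hrk : ∀ k ∈ K, ∀ w, k (r w) = r (k w))
    (hqs : ∀ v ∈ hS.inv, ∃ y ∈ Y, q y = v) (hrs : ∀ v ∈ hS.inv, ∃ w ∈ W, r w = v)
    (hD : ∀ y ∈ Y, ∀ w ∈ W, D y w ∈ hS.inv) (hDk : ∀ k ∈ K, ∀ y w, k (D y w) = D (k y) (k w))
    (hDl : ∀ y ∈ Y, ∀ y' ∈ Y, ∀ w ∈ W, D (y * y') w = D y w * D y' w)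
    (hDr : ∀ y ∈ Y, ∀ w ∈ W, ∀ w' ∈ W, D y (w * w') = D y w * D y w')
    (hDql : ∀ y ∈ Y, ∀ w ∈ W, q y = 1 → D y w = 1) (hDqr : ∀ y ∈ Y, ∀ w ∈ W, r w = 1 → D y w = 1)
    (halt : ∀ y ∈ Y, ∀ w ∈ W, q y = r w → D y w = 1) : ∀ y ∈ Y, ∀ w ∈ W, q y ∈ hS.inv →
      r w ∈ hS.inv → D y w = 1 := by
  classical
  letI : CommGroup K :=
    { (inferInstance : Group K) with mul_comm := fun a b => Subtype.ext (hS.comm a a.2 b b.2) }
  letI : CommGroup hS.inv :=
    { (inferInstance : Group hS.inv) with mul_comm := fun a b => Subtype.ext (hS.central b b.2 a) }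
  have hkV : ∀ (k : K) (v : hS.inv), (k : MulAut P) v ∈ hS.inv := fun k v => by
    show (k : MulAut P) v * (k : MulAut P) v = 1
    rw [← map_mul, show (v : P) * v = 1 from v.2, map_one]
  letI : MulDistribMulAction K hS.inv :=
    { smul := fun k v => ⟨(k : MulAut P) v, hkV k v⟩
      one_smul := fun v => Subtype.ext rfl
      mul_smul := fun a b v => Subtype.ext rfl
      smul_mul := fun k a b => Subtype.ext (map_mul (k : MulAut P) (a : P) (b : P))
      smul_one := fun k => Subtype.ext (map_one (k : MulAut P)) }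
  choose yf hyf hyq using fun v : hS.inv => hqs v v.2
  choose wf hwf hwr using fun v : hS.inv => hrs v v.2
  have hinj1 : ∀ y ∈ Y, ∀ y' ∈ Y, q y = q y' → ∀ w ∈ W, D y w = D y' w := by
    intro y hy y' hy' h w hw
    have h1 : q (y * y'⁻¹) = 1 := by
      have := hq _ (Y.mul_mem hy (Y.inv_mem hy')) y' hy'
      rwa [inv_mul_cancel_right, h, right_eq_mul] at this
    have h2 := hDl _ (Y.mul_mem hy (Y.inv_mem hy')) y' hy' w hw
    rw [hDql _ (Y.mul_mem hy (Y.inv_mem hy')) w hw h1, one_mul, inv_mul_cancel_right] at h2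
    exact h2
  have hinj2 : ∀ w ∈ W, ∀ w' ∈ W, r w = r w' → ∀ y ∈ Y, D y w = D y w' := by
    intro w hw w' hw' h y hy
    have h1 : r (w * w'⁻¹) = 1 := by
      have := hr _ (W.mul_mem hw (W.inv_mem hw')) w' hw'
      rwa [inv_mul_cancel_right, h, right_eq_mul] at this
    have h2 := hDr y hy _ (W.mul_mem hw (W.inv_mem hw')) w' hw'
    rw [hDqr y hy _ (W.mul_mem hw (W.inv_mem hw')) h1, one_mul, inv_mul_cancel_right] at h2
    exact h2
  let B : hS.inv → hS.inv → hS.inv := fun u v => ⟨D (yf u) (wf v), hD _ (hyf u) _ (hwf v)⟩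
  have hB : ∀ u v, B u v = 1 := by
    refine alt_pairing_trivial (K := K) (fun v => Subtype.ext v.2) ?_ B ?_ ?_ ?_ ?_
    · intro v w hv hw
      obtain ⟨k, hk, hkv⟩ := hS.trans v w (fun h => hv (Subtype.ext h)) v.2 (fun h => hw (Subtype.ext h)) w.2
      exact ⟨⟨k, hk⟩, Subtype.ext hkv⟩
    · intro u u' v
      refine Subtype.ext ?_
      show D (yf (u * u')) (wf v) = D (yf u) (wf v) * D (yf u') (wf v)
      rw [← hDl _ (hyf u) _ (hyf u') _ (hwf v)]
      refine hinj1 _ (hyf _) _ (Y.mul_mem (hyf u) (hyf u')) ?_ _ (hwf v)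
      rw [hq _ (hyf u) _ (hyf u'), hyq, hyq, hyq]; rfl
    · intro u v v'
      refine Subtype.ext ?_
      show D (yf u) (wf (v * v')) = D (yf u) (wf v) * D (yf u) (wf v')
      rw [← hDr _ (hyf u) _ (hwf v) _ (hwf v')]
      refine hinj2 _ (hwf _) _ (W.mul_mem (hwf v) (hwf v')) ?_ _ (hyf u)
      rw [hr _ (hwf v) _ (hwf v'), hwr, hwr, hwr]; rfl
    · exact fun u => Subtype.ext (halt _ (hyf u) _ (hwf u) (by rw [hyq, hwr]))
    · intro k u v
      refine Subtype.ext ?_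
      show D (yf (k • u)) (wf (k • v)) = (k : MulAut P) (D (yf u) (wf v))
      rw [hDk k k.2, hinj1 _ (hyf _) _ (hYk k k.2 _ (hyf u)) ?_ _ (hwf _),
        hinj2 _ (hwf _) _ (hWk k k.2 _ (hwf v)) ?_ _ (hYk k k.2 _ (hyf u))]
      · rw [hwr, ← hrk k k.2, hwr]; rfl
      · rw [hyq, ← hqk k k.2, hyq]; rfl
  intro y hy w hw hqy hrw
  have h := congrArg Subtype.val (hB ⟨q y, hqy⟩ ⟨r w, hrw⟩)
  rw [hinj1 y hy _ (hyf ⟨q y, hqy⟩) (hyq ⟨q y, hqy⟩).symm w hw,
    hinj2 w hw _ (hwf ⟨r w, hrw⟩) (hwr ⟨r w, hrw⟩).symm _ (hyf _)]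
  exact h

/-- If `X` centralizes `A` it is commutative. -/
theorem Layer.commutative (L : Layer hS A X f) (hcen : ∀ x ∈ X, ∀ a ∈ A, x * a = a * x) :
    ∀ x ∈ X, ∀ y ∈ X, x * y = y * x := by
  have hsmall : ∀ x ∈ X, ∀ a ∈ A, x * a * x⁻¹ * a⁻¹ ∈ hS.inv := fun x hx a ha => by
    rw [hcen x hx a ha, mul_inv_cancel_right, mul_inv_cancel]; exact one_mem _
  by_cases hne : X ≤ A
  · exact fun x hx y hy => L.abelian x (hne hx) y (hne hy)
  have hsur := L.sq_surjective hsmall (Or.inl hcen) hne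
  set q : P → P := fun y => (y * y) ^ 2 ^ (f - 1) with hqdef
  have hmul : ∀ y ∈ X, ∀ y' ∈ X, q (y * y') = q y * q y' := fun y hy y' hy' =>
    L.sq_hom hsmall (Or.inl hcen) hy hy'
  have hqk : ∀ k ∈ K, ∀ y, k (q y) = q (k y) := fun k _ y => by simp [q, map_pow, map_mul]
  have hinvc : ∀ x ∈ X, ∀ y ∈ X, x * y * x⁻¹ * y⁻¹ ∈ hS.inv := by
    intro x hx y hy
    rw [hS.mem_inv]
    have hc := L.comm x hx y hy
    calc x * y * x⁻¹ * y⁻¹ * (x * y * x⁻¹ * y⁻¹)
        = (x * y * x⁻¹ * y⁻¹ * x) * x⁻¹ * (x * y * x⁻¹ * y⁻¹) := by group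
      _ = (x * (x * y * x⁻¹ * y⁻¹)) * x⁻¹ * (x * y * x⁻¹ * y⁻¹) := by rw [hcen x hx _ hc]
      _ = ((x * x) * y) * (x * x)⁻¹ * y⁻¹ := by group
      _ = 1 := by rw [← hcen y hy _ (L.sq x hx)]; group
  intro x hx y hy
  have h := hS.pairing_trivial X X q q (fun a b => a * b * a⁻¹ * b⁻¹) L.invX L.invX hmul hmul hqk hqk
    hsur hsur hinvc (fun k _ a b => by simp) ?_ ?_ ?_ ?_ ?_ x hx y hy
    (L.pow_mem_inv (L.sq x hx)) (L.pow_mem_inv (L.sq y hy))
  · exact mul_inv_eq_iff_eq_mul.mp (mul_inv_eq_one.mp h)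
  · intro a ha a' ha' b hb
    calc a * a' * b * (a * a')⁻¹ * b⁻¹ = a * (a' * b * a'⁻¹ * b⁻¹) * b * a⁻¹ * b⁻¹ := by group
      _ = (a' * b * a'⁻¹ * b⁻¹) * a * b * a⁻¹ * b⁻¹ := by rw [hcen a ha _ (L.comm a' ha' b hb)]
      _ = (a' * b * a'⁻¹ * b⁻¹) * (a * b * a⁻¹ * b⁻¹) := by group
      _ = (a * b * a⁻¹ * b⁻¹) * (a' * b * a'⁻¹ * b⁻¹) :=
          L.abelian _ (L.comm a' ha' b hb) _ (L.comm a ha b hb)
  · intro a ha b hb b' hb'
    calc a * (b * b') * a⁻¹ * (b * b')⁻¹ = a * b * a⁻¹ * ((a * b' * a⁻¹ * b'⁻¹) * b⁻¹) := by group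
      _ = a * b * a⁻¹ * (b⁻¹ * (a * b' * a⁻¹ * b'⁻¹)) := by
          rw [hcen b⁻¹ (X.inv_mem hb) _ (L.comm a ha b' hb')]
      _ = _ := by group
  · intro a ha b hb h
    rw [← hcen b hb _ (L.mem_of_sq hsmall (Or.inl hcen) ha h)]; group
  · intro a ha b hb h
    rw [hcen a ha _ (L.mem_of_sq hsmall (Or.inl hcen) hb h)]; group
  · intro a ha b hb h
    have h1 : a⁻¹ * b ∈ A := by
      refine L.mem_of_sq hsmall (Or.inl hcen) (X.mul_mem (X.inv_mem ha) hb) ?_
      have h2 := hmul a ha _ (X.mul_mem (X.inv_mem ha) hb)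
      rw [mul_inv_cancel_left, ← h] at h2
      exact left_eq_mul.mp h2
    have := hcen a ha _ h1
    calc a * b * a⁻¹ * b⁻¹ = a * (a * (a⁻¹ * b)) * a⁻¹ * b⁻¹ := by group
      _ = a * ((a⁻¹ * b) * a) * a⁻¹ * b⁻¹ := by rw [this]
      _ = 1 := by group

/-- Over a subgroup of exponent at least eight, `X` centralizes `A`. -/
theorem Layer.centralizes (L : Layer hS A X f) (hf : 3 ≤ f) :
    ∀ x ∈ X, ∀ a ∈ A, x * a = a * x := by
  classical
  set V := hS.inv with hV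
  -- the first order part of the action
  set ε : P → P → P := fun x a => (x * a * x⁻¹ * a⁻¹) ^ 2 ^ (f - 2) with hε
  have hdpow : ∀ x, ∀ a ∈ A, (x * a * x⁻¹ * a⁻¹) ^ 2 ^ (f - 1) = 1 := fun x a ha => by
    rw [← L.delta_pow x ha, delta_inv_eq_one hS x (L.pow_mem_inv ha)]
  have hεV : ∀ x, ∀ a ∈ A, ε x a ∈ V := fun x a ha => by
    rw [hV, hS.mem_inv, hε]
    simp only
    rw [← pow_add, ← two_mul, ← pow_succ', show f - 2 + 1 = f - 1 by omega, hdpow x a ha]
  have hεmul : ∀ x, ∀ a ∈ A, ∀ b ∈ A, ε x (a * b) = ε x a * ε x b := fun x a ha b hb => by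
    simp only [hε]
    rw [L.delta_mul x ha hb,
      (show Commute _ _ from L.abelian _ (L.delta_mem x ha) _ (L.delta_mem x hb)).mul_pow]
  have hεker : ∀ x, ∀ a ∈ A, a ^ 2 ^ (f - 1) = 1 → ε x a = 1 := by
    intro x a ha h
    obtain ⟨b, hb, rfl⟩ := L.exists_sqrt ha h
    simp only [hε]
    rw [L.delta_pow x hb, ← pow_mul, ← pow_succ', show f - 2 + 1 = f - 1 by omega, hdpow x b hb]
  choose rt hrtA hrt using fun v : V => L.root v v.2
  have hwell : ∀ x, ∀ a ∈ A, ∀ b ∈ A, a ^ 2 ^ (f - 1) = b ^ 2 ^ (f - 1) → ε x a = ε x b := by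
    intro x a ha b hb h
    have h1 := hεmul x (a * b⁻¹) (A.mul_mem ha (A.inv_mem hb)) b hb
    rw [hεker x _ (A.mul_mem ha (A.inv_mem hb)) ?_, one_mul, inv_mul_cancel_right] at h1
    · exact h1
    · rw [(show Commute a b⁻¹ from L.abelian a ha _ (A.inv_mem hb)).mul_pow, inv_pow, h, mul_inv_cancel]
  let e : P → V →* V := fun x => MonoidHom.mk' (fun v => ⟨ε x (rt v), hεV x _ (hrtA v)⟩)
    (fun u v => Subtype.ext (by
      show ε x (rt (u * v)) = ε x (rt u) * ε x (rt v)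
      rw [← hεmul x _ (hrtA u) _ (hrtA v)]
      refine hwell x _ (hrtA _) _ (A.mul_mem (hrtA u) (hrtA v)) ?_
      rw [(show Commute (rt u) (rt v) from L.abelian _ (hrtA u) _ (hrtA v)).mul_pow, hrt, hrt, hrt]
      rfl))
  have he : ∀ x, ∀ a ∈ A, ∀ h : a ^ 2 ^ (f - 1) ∈ V, ((e x ⟨_, h⟩ : V) : P) = ε x a := fun x a ha h =>
    hwell x _ (hrtA _) a ha (hrt _)
  have hεadd : ∀ x ∈ X, ∀ y ∈ X, ∀ a ∈ A, ε (x * y) a = ε x a * ε y a := by
    intro x hx y hy a ha
    have hd := L.delta_mem y ha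
    have hmid : x * y * a * (x * y)⁻¹ * a⁻¹
        = (x * (y * a * y⁻¹ * a⁻¹) * x⁻¹ * (y * a * y⁻¹ * a⁻¹)⁻¹) *
          (y * a * y⁻¹ * a⁻¹) * (x * a * x⁻¹ * a⁻¹) := by group
    have h1 : (x * (y * a * y⁻¹ * a⁻¹) * x⁻¹ * (y * a * y⁻¹ * a⁻¹)⁻¹) ^ 2 ^ (f - 2) = 1 := by
      rw [← L.delta_pow x hd, delta_inv_eq_one hS x (hεV y a ha)]
    show (x * y * a * (x * y)⁻¹ * a⁻¹) ^ 2 ^ (f - 2) = _
    rw [hmid, (show Commute _ _ from L.abelian _ (A.mul_mem (L.delta_mem x hd) hd) _ (L.delta_mem x ha)).mul_pow,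
      (show Commute _ _ from L.abelian _ (L.delta_mem x hd) _ hd).mul_pow, h1, one_mul]
    exact L.abelian _ (A.pow_mem hd _) _ (A.pow_mem (L.delta_mem x ha) _)
  have hidem : ∀ x ∈ X, ∀ v : V, e x (e x v) = e x v := by
    intro x hx v
    set a := rt v
    have ha : a ∈ A := hrtA v
    set δa := x * a * x⁻¹ * a⁻¹ with hδa
    have hδA : δa ∈ A := L.delta_mem x ha
    obtain ⟨d, hd, hde⟩ := L.exists_sqrt hδA (hdpow x a ha)
    have hev : ((e x v : V) : P) = d ^ 2 ^ (f - 1) := by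
      show δa ^ 2 ^ (f - 2) = _
      rw [← hde, ← pow_mul, ← pow_succ', show f - 2 + 1 = f - 1 by omega]
    have hee : ((e x (e x v) : V) : P) = ε x d := by
      have h : d ^ 2 ^ (f - 1) ∈ V := hev ▸ (e x v).2
      rw [show e x v = ⟨_, h⟩ from Subtype.ext hev, he x d hd h]
    refine Subtype.ext ?_
    rw [hee, hev]
    set δd := x * d * x⁻¹ * d⁻¹ with hδd
    have hδdA : δd ∈ A := L.delta_mem x hd
    -- `x * x` centralizes `A`
    have hxx : (x * δa * x⁻¹ * δa⁻¹) * δa * δa = 1 := by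
      calc (x * δa * x⁻¹ * δa⁻¹) * δa * δa = (x * x) * a * (x * x)⁻¹ * a⁻¹ := by rw [hδa]; group
        _ = 1 := by rw [L.abelian _ (L.sq x hx) a ha]; group
    rw [← hde, L.delta_pow x hd, ← hδd] at hxx
    have hsmall : δd * d ^ 2 ∈ V := by
      rw [hV, hS.mem_inv]
      calc δd * d ^ 2 * (δd * d ^ 2) = δd * (d ^ 2 * δd) * d ^ 2 := by group
        _ = δd * (δd * d ^ 2) * d ^ 2 := by rw [L.abelian _ (A.pow_mem hd 2) _ hδdA]
        _ = 1 := by rw [← hxx]; simp [pow_succ, mul_assoc]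
    have h2 : (δd * d ^ 2) ^ 2 ^ (f - 2) = 1 := by
      rw [show 2 ^ (f - 2) = 2 * 2 ^ (f - 3) by rw [← pow_succ']; congr 1; omega, pow_mul, pow_two,
        show δd * d ^ 2 * (δd * d ^ 2) = 1 from hsmall, one_pow]
    rw [(show Commute δd (d ^ 2) from L.abelian _ hδdA _ (A.pow_mem hd 2)).mul_pow, ← pow_mul,
      ← pow_succ', show f - 2 + 1 = f - 1 by omega] at h2
    show δd ^ 2 ^ (f - 2) = d ^ 2 ^ (f - 1)
    rw [eq_inv_of_mul_eq_one_left h2]
    have hdV : d ^ 2 ^ (f - 1) * d ^ 2 ^ (f - 1) = 1 := L.pow_mem_inv hd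
    exact inv_eq_of_mul_eq_one_right hdV
  have headd : ∀ x ∈ X, ∀ y ∈ X, ∀ v : V, e (x * y) v = e x v * e y v := fun x hx y hy v =>
    Subtype.ext (hεadd x hx y hy _ (hrtA v))
  have hVc : ∀ u v : V, u * v = v * u := fun u v => Subtype.ext (hS.central v v.2 u)
  have hV2 : ∀ v : V, v * v = 1 := fun v => Subtype.ext v.2
  have hcomm : ∀ x ∈ X, ∀ y ∈ X, ∀ v : V, e x (e y v) = e y (e x v) := by
    intro x hx y hy v
    have h := hidem (x * y) (X.mul_mem hx hy) v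
    rw [headd x hx y hy, headd x hx y hy, map_mul, map_mul, hidem x hx, hidem y hy] at h
    have h1 : e x (e y v) * e y (e x v) = 1 := by
      set p := e x v; set q := e y v; set r := e x q; set s := e y p
      have h' : p * r * (s * q) = p * q := h
      rw [mul_assoc] at h'
      have h'' := mul_left_cancel h'
      rw [← mul_assoc, mul_eq_right] at h''
      exact h''
    rw [← mul_left_inj (e y (e x v)), h1, hV2]
  -- a common eigenvector
  obtain ⟨x0, y0, -, hx0, hx02, -, -⟩ := hS.nontriv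
  haveI : Fintype P := Fintype.ofFinite P
  have heig : ∀ S : Finset P, (↑S ⊆ (X : Set P)) →
      ∃ v : V, v ≠ 1 ∧ ∀ x ∈ S, e x v = 1 ∨ e x v = v := by
    intro S
    induction S using Finset.induction_on with
    | empty => exact fun _ => ⟨⟨x0, hx02⟩, fun h => hx0 (congrArg Subtype.val h), by simp⟩
    | insert a S ha ih =>
      intro hsub
      rw [Finset.coe_insert, Set.insert_subset_iff] at hsub
      obtain ⟨v, hv, hvS⟩ := ih hsub.2
      by_cases h : e a v = 1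
      · exact ⟨v, hv, fun x hx => (Finset.mem_insert.mp hx).elim (fun h' => h' ▸ Or.inl h) (hvS x)⟩
      · refine ⟨e a v, h, fun x hx => ?_⟩
        rcases Finset.mem_insert.mp hx with rfl | hx
        · exact Or.inr (hidem x hsub.1 v)
        · rw [hcomm x (hsub.2 hx) a hsub.1]
          rcases hvS x hx with h' | h' <;> rw [h'] <;> simp
  obtain ⟨v1, hv1, hv1X⟩ := heig (X : Set P).toFinset (by simp)
  -- every vector is an eigenvector
  have hkV : ∀ k ∈ K, ∀ v : V, k (v : P) ∈ V := fun k _ v => by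
    show k (v : P) * k v = 1; rw [← map_mul, show (v : P) * v = 1 from v.2, map_one]
  have hall : ∀ x ∈ X, ∀ w : V, e x w = 1 ∨ e x w = w := by
    intro x hx w
    by_cases hw : w = 1
    · rw [hw, map_one]; exact Or.inl rfl
    obtain ⟨k, hk, hkv⟩ := hS.trans v1 w (fun h => hv1 (Subtype.ext h)) v1.2 (fun h => hw (Subtype.ext h)) w.2
    have hx' : k⁻¹ x ∈ X := L.invX _ (K.inv_mem hk) x hx
    have hconj : ((e x w : V) : P) = k (e (k⁻¹ x) v1 : V) := by
      have h : (k (rt v1)) ^ 2 ^ (f - 1) ∈ V := by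
        rw [← map_pow, hrt]; exact hkV k hk v1
      have hw' : w = ⟨_, h⟩ := Subtype.ext (((map_pow k (rt v1) _).symm.trans (congrArg k (hrt v1))).trans hkv).symm
      rw [hw', he x _ (L.invA k hk _ (hrtA v1)) h]
      show ε x (k (rt v1)) = k (ε (k⁻¹ x) (rt v1))
      simp [hε, map_pow, map_mul, map_inv]
    rcases hv1X (k⁻¹ x) (by simpa using hx') with h' | h'
    · left; apply Subtype.ext; rw [hconj, h']; simp
    · right; apply Subtype.ext; rw [hconj, h', hkv]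
  have hscalar : ∀ x ∈ X, ∀ u : V, e x u ≠ 1 → ∀ w : V, e x w = w := by
    intro x hx u hu w
    have hu' : e x u = u := (hall x hx u).resolve_left hu
    rcases hall x hx w with h | h
    · rcases hall x hx (u * w) with h' | h'
      · rw [map_mul, hu', h, mul_one] at h'
        exact absurd (hu'.trans h') hu
      · rw [map_mul, hu', h] at h'
        rw [mul_left_cancel h'.symm, map_one]
    · exact h
  -- the action is unipotent mod squares
  have htriv : ∀ x ∈ X, ∀ v : V, e x v = 1 := by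
    by_contra hne
    push Not at hne
    obtain ⟨x, hx, v, hxv⟩ := hne
    obtain ⟨k, hk, r, hr, hr2, hkr⟩ := hS.exists_odd_prime
    have he1 : ∀ w : V, e 1 w = 1 := fun w => Subtype.ext (by
      show ε 1 (rt w) = 1; simp [hε])
    let X0 : Subgroup P :=
      { carrier := {y | y ∈ X ∧ ∀ w : V, e y w = 1}
        one_mem' := ⟨X.one_mem, he1⟩
        mul_mem' := fun {a b} ha hb => ⟨X.mul_mem ha.1 hb.1, fun w => by
          rw [headd a ha.1 b hb.1, ha.2, hb.2, one_mul]⟩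
        inv_mem' := fun {a} ha => ⟨X.inv_mem ha.1, fun w => by
          have := headd a⁻¹ (X.inv_mem ha.1) a ha.1 w
          rw [inv_mul_cancel, he1, ha.2, mul_one] at this
          exact this.symm⟩ }
    have hkε : ∀ y, ∀ a, ε (k y) (k a) = k (ε y a) := fun y a => by
      simp [hε, map_pow, map_mul, map_inv]
    have hke : ∀ y (w : V), ((e (k y) ⟨k (w : P), hkV k hk w⟩ : V) : P) = k (e y w : V) := by
      intro y w
      have h : (k (rt w)) ^ 2 ^ (f - 1) ∈ V := by rw [← map_pow, hrt]; exact hkV k hk w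
      rw [show (⟨k (w : P), hkV k hk w⟩ : V) = ⟨_, h⟩ from Subtype.ext
        (((map_pow k (rt w) _).symm.trans (congrArg k (hrt w))).symm), he (k y) _ (L.invA k hk _ (hrtA w)) h, hkε]
      rfl
    have hsurjV : ∀ w : V, ∃ w' : V, (⟨k (w' : P), hkV k hk w'⟩ : V) = w := fun w =>
      ⟨⟨k⁻¹ (w : P), hkV _ (K.inv_mem hk) w⟩, Subtype.ext (by simp)⟩
    have hX0k : ∀ y ∈ X0, k y ∈ X0 := by
      intro y hy
      refine ⟨L.invX k hk y hy.1, fun w => ?_⟩
      obtain ⟨w', rfl⟩ := hsurjV w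
      exact Subtype.ext (by rw [hke, hy.2]; simp)
    have hkx : x⁻¹ * k x ∈ X0 := by
      refine ⟨X.mul_mem (X.inv_mem hx) (L.invX k hk x hx), fun w => ?_⟩
      have hxinv : e x⁻¹ w = e x w := by
        have := headd x⁻¹ (X.inv_mem hx) x hx w
        rw [inv_mul_cancel, he1] at this
        rw [← mul_left_inj (e x w), ← this, hV2]
      obtain ⟨w', hw'⟩ := hsurjV w
      have hkxw : e (k x) w = w := by
        refine Subtype.ext ?_
        rw [← hw', hke, hscalar x hx v hxv]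
      rw [headd _ (X.inv_mem hx) _ (L.invX k hk x hx), hxinv, hscalar x hx v hxv, hkxw, hV2]
    obtain ⟨n, hn, hfix⟩ := fixed_in_coset hS.two k hr hr2 hkr X0 hX0k x hkx
    have hk1 : k ≠ 1 := fun h => hr.one_lt.ne (by rw [← hkr, h, orderOf_one])
    have := hS.fpf hk hk1 hfix
    have h1 := headd x hx n hn.1 v
    rw [this, he1, hn.2, mul_one] at h1
    exact hxv h1.symm
  have hε1 : ∀ x ∈ X, ∀ a ∈ A, ε x a = 1 := fun x hx a ha => by
    rw [← he x a ha (L.pow_mem_inv ha), htriv x hx]; rfl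
  -- the commutators are involutions
  have hsmall : ∀ x ∈ X, ∀ a ∈ A, x * a * x⁻¹ * a⁻¹ ∈ V := by
    intro x hx
    have key : ∀ j, 2 ≤ j → j ≤ f - 1 → ∀ a ∈ A, ∃ d ∈ A, d ^ 2 ^ j = x * a * x⁻¹ * a⁻¹ := by
      intro j hj
      induction j, hj using Nat.le_induction with
      | base =>
        intro _ a ha
        obtain ⟨b, hb, hbe⟩ := L.exists_root (f - 2) (by omega) _ (L.delta_mem x ha) (hε1 x hx a ha)
        exact ⟨b, hb, by rwa [show f - (f - 2) = 2 by omega] at hbe⟩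
      | succ j hj ih =>
        intro hle a ha
        obtain ⟨d, hd, hde⟩ := ih (by omega) a ha
        obtain ⟨g, hg, hge⟩ := ih (by omega) d hd
        set δa := x * a * x⁻¹ * a⁻¹ with hδa
        have hxx : (x * δa * x⁻¹ * δa⁻¹) * δa * δa = 1 := by
          calc (x * δa * x⁻¹ * δa⁻¹) * δa * δa = (x * x) * a * (x * x)⁻¹ * a⁻¹ := by rw [hδa]; group
            _ = 1 := by rw [L.abelian _ (L.sq x hx) a ha]; group
        rw [← hde, L.delta_pow x hd, ← hge, ← pow_mul, ← pow_add] at hxx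
        obtain ⟨i, hi⟩ : ∃ i, j + j = (j + 1) + (i + 1) := ⟨j - 2, by omega⟩
        rw [hi, pow_add] at hxx
        have hgm : g ^ 2 ^ (i + 1) ∈ A := A.pow_mem hg _
        have h1 : (g ^ 2 ^ (i + 1) * d) ^ 2 ^ (j + 1) = 1 := by
          rw [(show Commute _ _ from L.abelian _ hgm d hd).mul_pow, ← pow_mul]
          rw [mul_comm (2 ^ (j + 1)) (2 ^ (i + 1))] at hxx
          calc g ^ (2 ^ (i + 1) * 2 ^ (j + 1)) * d ^ 2 ^ (j + 1)
              = g ^ (2 ^ (i + 1) * 2 ^ (j + 1)) * (d ^ 2 ^ j * d ^ 2 ^ j) := by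
                rw [← pow_add d, ← two_mul, ← pow_succ']
            _ = 1 := by rw [← mul_assoc]; exact hxx
        obtain ⟨b, hb, hbe⟩ := L.exists_root (j + 1) (by omega) _ (A.mul_mem hgm hd) h1
        obtain ⟨t, ht⟩ : ∃ t, f - (j + 1) = t + 1 := ⟨f - (j + 1) - 1, by omega⟩
        rw [ht] at hbe
        refine ⟨(g ^ 2 ^ i)⁻¹ * b ^ 2 ^ t, A.mul_mem (A.inv_mem (A.pow_mem hg _)) (A.pow_mem hb _), ?_⟩
        rw [pow_succ' 2 j, pow_mul,
          (show Commute _ _ from L.abelian _ (A.inv_mem (A.pow_mem hg _)) _ (A.pow_mem hb _)).mul_pow,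
          inv_pow, ← pow_mul, ← pow_succ, ← pow_mul, ← pow_succ, hbe, inv_mul_cancel_left, hde]
    intro a ha
    obtain ⟨d, hd, hde⟩ := key (f - 1) (by omega) le_rfl a ha
    rw [← hde]; exact L.pow_mem_inv hd
  by_cases hne : X ≤ A
  · exact fun x hx a ha => L.abelian x (hne hx) a ha
  set q : P → P := fun y => (y * y) ^ 2 ^ (f - 1) with hqdef
  have hmul : ∀ y ∈ X, ∀ y' ∈ X, q (y * y') = q y * q y' := fun y hy y' hy' =>
    L.sq_hom hsmall (Or.inr hf) hy hy'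
  intro x hx a ha
  have hdr : ∀ y ∈ X, ∀ b ∈ A, b ^ 2 ^ (f - 1) = 1 → y * b * y⁻¹ * b⁻¹ = 1 := by
    intro y hy b hb h
    obtain ⟨c, hc, rfl⟩ := L.exists_sqrt hb h
    rw [L.delta_pow y hc, pow_two, show _ * _ = (1 : P) from hsmall y hy c hc]
  have hdl : ∀ y ∈ A, ∀ b ∈ A, y * b * y⁻¹ * b⁻¹ = 1 := fun y hy b hb => by
    rw [L.abelian y hy b hb]; group
  have hDl : ∀ y ∈ X, ∀ y' ∈ X, ∀ b ∈ A,
      y * y' * b * (y * y')⁻¹ * b⁻¹ = (y * b * y⁻¹ * b⁻¹) * (y' * b * y'⁻¹ * b⁻¹) := by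
    intro y hy y' hy' b hb
    have hc := hsmall y' hy' b hb
    calc y * y' * b * (y * y')⁻¹ * b⁻¹
        = (y * (y' * b * y'⁻¹ * b⁻¹)) * b * y⁻¹ * b⁻¹ := by group
      _ = ((y' * b * y'⁻¹ * b⁻¹) * y) * b * y⁻¹ * b⁻¹ := by rw [hS.central _ hc y]
      _ = (y' * b * y'⁻¹ * b⁻¹) * (y * b * y⁻¹ * b⁻¹) := by group
      _ = _ := (hS.central _ hc _).symm
  have h := hS.pairing_trivial X A q (fun b => b ^ 2 ^ (f - 1)) (fun y b => y * b * y⁻¹ * b⁻¹)
    L.invX L.invA hmul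
    (fun b hb b' hb' => (show Commute b b' from L.abelian b hb b' hb').mul_pow _)
    (fun k _ y => by simp [q, map_pow, map_mul]) (fun k _ b => map_pow k b _)
    (L.sq_surjective hsmall (Or.inr hf) hne) L.root hsmall (fun k _ y b => by simp) hDl
    (fun y hy b hb b' hb' => L.delta_mul y hb hb')
    (fun y hy b hb h => hdl y (L.mem_of_sq hsmall (Or.inr hf) hy h) b hb) hdr ?_ x hx a ha
    (L.pow_mem_inv (L.sq x hx)) (L.pow_mem_inv ha)
  · exact mul_inv_eq_iff_eq_mul.mp (mul_inv_eq_one.mp h)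
  · intro y hy b hb h
    have hyy := L.sq y hy
    have h1 : ((y * y)⁻¹ * b) ^ 2 ^ (f - 1) = 1 := by
      rw [(show Commute (y * y)⁻¹ b from L.abelian _ (A.inv_mem hyy) b hb).mul_pow, inv_pow, ← h,
        inv_mul_cancel]
    have h2 := hdr y hy _ (A.mul_mem (A.inv_mem hyy) hb) h1
    rw [L.delta_mul y (A.inv_mem hyy) hb, show y * (y * y)⁻¹ * y⁻¹ * ((y * y)⁻¹)⁻¹ = 1 by group,
      one_mul] at h2
    exact h2

end pairing


/-- The preimage of the involutions of the centre of `P ⧸ A`. -/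
theorem exists_layer [Finite P] (hS : Setting K) (A : Subgroup P) (hAn : A.Normal)
    (hAk : ∀ k ∈ K, ∀ a ∈ A, k a ∈ A) (hAc : ∀ a ∈ A, ∀ b ∈ A, a * b = b * a) (hinv : hS.inv ≤ A)
    (a₀ : P) (ha₀ : a₀ ∈ A) (ha₀2 : a₀ * a₀ ≠ 1) :
    ∃ (X : Subgroup P) (f : ℕ), Layer hS A X f ∧ X.Normal ∧
      (a₀ ^ 4 ≠ 1 → 3 ≤ f) ∧ (A ≠ ⊤ → ¬ X ≤ A) := by
  classical
  haveI := hAn
  haveI : Fact (Nat.Prime 2) := ⟨Nat.prime_two⟩
  let W : Subgroup (P ⧸ A) :=
    { carrier := {q | q * q = 1 ∧ ∀ r, r * q = q * r}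
      one_mem' := ⟨one_mul 1, fun r => by simp⟩
      mul_mem' := fun {u v} hu hv => ⟨by
          calc u * v * (u * v) = u * (v * u) * v := by group
            _ = u * (u * v) * v := by rw [hu.2 v]
            _ = (u * u) * (v * v) := by group
            _ = 1 := by rw [hu.1, hv.1, one_mul],
        fun r => by rw [← mul_assoc, hu.2 r, mul_assoc, hv.2 r, mul_assoc]⟩
      inv_mem' := fun {u} hu => by
        have : u⁻¹ = u := inv_eq_of_mul_eq_one_right hu.1
        rw [this]; exact hu }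
  set X := W.comap (QuotientGroup.mk' A) with hX
  have memX : ∀ x, x ∈ X ↔ x * x ∈ A ∧ ∀ g, g * x * g⁻¹ * x⁻¹ ∈ A := by
    intro x
    constructor
    · rintro ⟨h1, h2⟩
      refine ⟨(QuotientGroup.eq_one_iff _).mp (by simpa using h1), fun g => ?_⟩
      rw [← QuotientGroup.eq_one_iff]
      have := h2 (QuotientGroup.mk' A g)
      simp only [QuotientGroup.mk'_apply] at this
      simp only [QuotientGroup.mk_mul, QuotientGroup.mk_inv]
      rw [this]; group
    · rintro ⟨h1, h2⟩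
      refine ⟨?_, fun r => ?_⟩
      · show (x : P ⧸ A) * x = 1
        rw [← QuotientGroup.mk_mul]; exact (QuotientGroup.eq_one_iff _).mpr h1
      · obtain ⟨g, rfl⟩ := QuotientGroup.mk'_surjective A r
        have := (QuotientGroup.eq_one_iff _).mpr (h2 g)
        simp only [QuotientGroup.mk_mul, QuotientGroup.mk_inv, mul_inv_eq_iff_eq_mul, one_mul] at this
        exact this
  have hAX : A ≤ X := by
    intro a ha
    rw [memX]
    exact ⟨A.mul_mem ha ha, fun g => A.mul_mem (hAn.conj_mem a ha g) (A.inv_mem ha)⟩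
  -- the exponent
  obtain ⟨j, hj⟩ := IsPGroup.iff_card.mp (hS.two.to_subgroup A)
  have hex : ∃ f, ∀ a ∈ A, a ^ 2 ^ f = 1 := ⟨j, fun a ha => by
    rw [← hj]; exact congrArg Subtype.val (pow_card_eq_one' (x := (⟨a, ha⟩ : A)))⟩
  set f := Nat.find hex with hf
  have hexp := Nat.find_spec hex
  have hf2 : 2 ≤ f := by
    by_contra h
    apply ha₀2
    have := hexp a₀ ha₀
    rw [← hf] at this
    interval_cases f
    · simp only [pow_zero, pow_one] at this; simp [this]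
    · simpa [pow_two] using this
  have hf3 : a₀ ^ 4 ≠ 1 → 3 ≤ f := by
    intro h4
    by_contra h
    apply h4
    have := hexp a₀ ha₀
    rw [← hf, show f = 2 by omega] at this
    exact this
  -- roots of involutions
  let R : Subgroup P :=
    { carrier := {v | ∃ a ∈ A, a ^ 2 ^ (f - 1) = v}
      one_mem' := ⟨1, A.one_mem, one_pow _⟩
      mul_mem' := by
        rintro _ _ ⟨a, ha, rfl⟩ ⟨b, hb, rfl⟩
        exact ⟨a * b, A.mul_mem ha hb, (show Commute a b from hAc a ha b hb).mul_pow _⟩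
      inv_mem' := by
        rintro _ ⟨a, ha, rfl⟩
        exact ⟨a⁻¹, A.inv_mem ha, inv_pow a _⟩ }
  have hRle : R ≤ hS.inv := by
    rintro _ ⟨a, ha, rfl⟩
    rw [hS.mem_inv, ← pow_add, ← two_mul, ← pow_succ', Nat.sub_add_cancel (by omega)]
    exact hexp a ha
  have hRne : R ≠ ⊥ := by
    intro h
    have hlt : f - 1 < f := by omega
    refine Nat.find_min hex hlt fun a ha => ?_
    have : a ^ 2 ^ (f - 1) ∈ R := ⟨a, ha, rfl⟩
    rwa [h, Subgroup.mem_bot] at this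
  have hR : R = hS.inv := hS.irreducible R hRle (by
    rintro k hk _ ⟨a, ha, rfl⟩
    exact ⟨k a, hAk k hk a ha, (map_pow k a _).symm⟩) hRne
  refine ⟨X, f,
    { two_le := hf2
      abelian := hAc
      le := hAX
      invA := hAk
      invX := ?_
      normal := hAn
      inv_le := hinv
      exp := hexp
      root := fun v hv => (hR.symm ▸ hv : v ∈ R)
      sq := fun x hx => ((memX x).mp hx).1
      comm := fun x _ y hy => ((memX y).mp hy).2 x }, ?_, hf3, ?_⟩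
  · intro k hk x hx
    rw [memX] at hx ⊢
    refine ⟨by rw [← map_mul]; exact hAk k hk _ hx.1, fun g => ?_⟩
    have := hAk k hk _ (hx.2 (k⁻¹ g))
    simpa [map_mul, map_inv] using this
  · haveI : W.Normal := ⟨fun q hq r => by rw [hq.2 r, mul_inv_cancel_right]; exact hq⟩
    rw [hX]; infer_instance
  · intro hne hle
    haveI : Nontrivial (P ⧸ A) := by
      obtain ⟨g, hg⟩ : ∃ g, g ∉ A := by
        by_contra h; push Not at h
        exact hne (eq_top_iff.mpr fun g _ => h g)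
      exact ⟨(g : P ⧸ A), 1, fun h => hg ((QuotientGroup.eq_one_iff g).mp h)⟩
    haveI := (hS.two.to_quotient A).center_nontrivial
    obtain ⟨i, hi0, hi⟩ := ((hS.two.to_quotient A).to_subgroup
      (Subgroup.center (P ⧸ A))).nontrivial_iff_card.mp inferInstance
    obtain ⟨z, hz⟩ := exists_prime_orderOf_dvd_card' (G := Subgroup.center (P ⧸ A)) 2
      (hi ▸ dvd_pow_self 2 hi0.ne')
    obtain ⟨g, hg⟩ := QuotientGroup.mk'_surjective A (z : P ⧸ A)
    have hgX : g ∈ X := by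
      show QuotientGroup.mk' A g ∈ W
      rw [hg]
      refine ⟨?_, fun r => Subgroup.mem_center_iff.mp z.2 r⟩
      have := pow_orderOf_eq_one z
      rw [hz, pow_two] at this
      exact congrArg Subtype.val this
    have hz1 : z = 1 := by
      refine Subtype.ext ?_
      rw [← hg]; exact (QuotientGroup.eq_one_iff g).mpr (hle hgX)
    rw [hz1, orderOf_one] at hz
    omega

/-- **Higman.** The centre has exponent two. -/
theorem Setting.center_sq [Finite P] (hS : Setting K) (hna : ∃ x y : P, x * y ≠ y * x) :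
    ∀ z ∈ Subgroup.center P, z * z = 1 := by
  classical
  by_contra hne
  push Not at hne
  obtain ⟨z, hz, hz2⟩ := hne
  obtain ⟨x0, y0, hxy0⟩ := hna
  have hnc : ∀ A : Subgroup P, (∀ a ∈ A, ∀ b ∈ A, a * b = b * a) → A ≠ ⊤ := fun A hA h =>
    hxy0 (hA x0 (h ▸ Subgroup.mem_top x0) y0 (h ▸ Subgroup.mem_top y0))
  set Z := Subgroup.center P with hZ
  have hZc : ∀ a ∈ Z, ∀ b ∈ Z, a * b = b * a := fun a _ b hb => Subgroup.mem_center_iff.mp hb a
  have hZk : ∀ k ∈ K, ∀ a ∈ Z, k a ∈ Z := by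
    intro k _ a ha
    rw [hZ, Subgroup.mem_center_iff]
    intro g
    have := congrArg k (Subgroup.mem_center_iff.mp ha (k⁻¹ g))
    simpa [map_mul] using this
  have hinvZ : hS.inv ≤ Z := fun v hv => Subgroup.mem_center_iff.mpr fun g => hS.central v hv g
  obtain ⟨X, f, L, hXn, -, hXA⟩ := exists_layer hS Z inferInstance hZk hZc hinvZ z hz hz2
  have hXc := L.commutative fun x _ a ha => Subgroup.mem_center_iff.mp ha x
  obtain ⟨x, hxX, hxZ⟩ : ∃ x ∈ X, x ∉ Z := by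
    by_contra h; push Not at h
    exact hXA (hnc Z hZc) h
  have hx4 : x ^ 4 ≠ 1 := by
    intro h4
    refine hxZ (L.mem_of_sq (fun x hx a ha => ?_) (Or.inl fun y _ a ha => Subgroup.mem_center_iff.mp ha y) hxX ?_)
    · rw [Subgroup.mem_center_iff.mp ha x]; simp
    · obtain ⟨t, ht⟩ : 2 ∣ 2 ^ (f - 1) := dvd_pow_self 2 (by have := L.two_le; omega)
      rw [ht, pow_mul, show (x * x) ^ 2 = x ^ 4 by simp [pow_succ, mul_assoc], h4, one_pow]
  -- a maximal member
  let S : Set (Subgroup P) := {A | A.Normal ∧ (∀ k ∈ K, ∀ a ∈ A, k a ∈ A) ∧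
    (∀ a ∈ A, ∀ b ∈ A, a * b = b * a) ∧ hS.inv ≤ A ∧ ∃ a ∈ A, a ^ 4 ≠ 1}
  obtain ⟨A, hA, hAmax⟩ := (Set.toFinite S).exists_maximal
    ⟨X, hXn, L.invX, hXc, hinvZ.trans L.le, x, hxX, hx4⟩
  obtain ⟨hAn, hAk, hAc, hAinv, a, ha, ha4⟩ := hA
  have ha2 : a * a ≠ 1 := fun h => ha4 (by
    rw [show a ^ 4 = (a * a) * (a * a) by simp [pow_succ, mul_assoc], h, one_mul])
  obtain ⟨Y, g, M, hYn, hg3, hYA⟩ := exists_layer hS A hAn hAk hAc hAinv a ha ha2
  have hYc := M.commutative (M.centralizes (hg3 ha4))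
  exact hYA (hnc A hAc) (hAmax ⟨hYn, M.invX, hYc, hAinv.trans M.le, a, M.le ha, ha4⟩ M.le)


end CfsgLib.SuzukiCenter
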