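import Mathlib

/-!
# Field-theoretic lemmas for Suzuki `2`-groups

An elementary abelian `2`-group with a commutative transitive group of automorphisms is the additive
group of a field, and an irreducible fixed-point-free twisted family of additive endomorphisms of a
finite field of characteristic two consists of monomials.
-/

set_option autoImplicit false
set_option linter.style.haveILetI false
set_option linter.unusedSectionVars false

namespace CfsgLib.SuzukiField

/-- The field of a transitive commutative group. -/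
theorem exists_field.{u} {V : Type u} [AddCommGroup V] [Finite V] [Nontrivial V] {K : Type*} [Group K]
    (hcomm : ∀ a b : K, a * b = b * a) [DistribMulAction K V]
    (htr : ∀ v w : V, v ≠ 0 → w ≠ 0 → ∃ k : K, k • v = w) :
    ∃ (F : Type u) (_ : Field F) (_ : Finite F) (e : F ≃+ V) (lam : K → Fˣ),
      Function.Surjective lam ∧ ∀ k x, e ((lam k : F) * x) = k • e x := by
  classical
  obtain ⟨v₀, hv₀⟩ := exists_ne (0 : V)
  let ρ : K → AddMonoid.End V := fun k => DistribMulAction.toAddMonoidHom V k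
  have hρ : ∀ k v, ρ k v = k • v := fun k v => rfl
  have hρmul : ∀ k l : K, ρ k * ρ l = ρ (k * l) := fun k l =>
    AddMonoidHom.ext fun v => (mul_smul k l v).symm
  have hsn : ∀ (k : K) (v : V), v ≠ 0 → k • v ≠ 0 := fun k v hv h => hv (by
    rw [← inv_smul_smul k v, h, smul_zero])
  -- elements are determined by their value at `v₀`
  let C : Set (AddMonoid.End V) := {f | ∀ k : K, ∀ v, f (k • v) = k • f v}
  have hdet : ∀ f ∈ C, ∀ g ∈ C, f v₀ = g v₀ → f = g := by
    intro f hf g hg h
    refine AddMonoidHom.ext fun v => ?_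
    by_cases hv : v = 0
    · rw [hv]; exact (AddMonoidHom.map_zero f).trans (AddMonoidHom.map_zero g).symm
    · obtain ⟨k, rfl⟩ := htr v₀ v hv₀ hv
      exact ((hf k v₀).trans (congrArg (k • ·) h)).trans (hg k v₀).symm
  have hρC : ∀ k, ρ k ∈ C := fun k l v => by
    rw [hρ, hρ, smul_smul, smul_smul, hcomm]
  let F : Subring (AddMonoid.End V) :=
    { carrier := C
      mul_mem' := fun {a b} ha hb k v => by
        show a (b (k • v)) = k • a (b v)
        rw [hb, ha]
      one_mem' := fun k v => rfl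
      add_mem' := fun {a b} ha hb k v => by
        show a (k • v) + b (k • v) = k • (a v + b v)
        rw [ha, hb, smul_add]
      zero_mem' := fun k v => (smul_zero k).symm
      neg_mem' := fun {a} ha k v => by
        show -(a (k • v)) = k • -(a v)
        rw [ha, smul_neg] }
  let e₀ : F →+ V :=
    { toFun := fun f => (f : AddMonoid.End V) v₀, map_zero' := rfl, map_add' := fun _ _ => rfl }
  have hbij : Function.Bijective e₀ := by
    refine ⟨fun f g h => Subtype.ext (hdet _ f.2 _ g.2 h), fun v => ?_⟩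
    by_cases hv : v = 0
    · exact ⟨0, hv.symm⟩
    · obtain ⟨k, hk⟩ := htr v₀ v hv₀ hv
      exact ⟨⟨ρ k, hρC k⟩, hk⟩
  haveI : Finite F := Finite.of_injective _ hbij.1
  haveI : Nontrivial F := ⟨1, 0, fun h => hv₀ (congrArg e₀ h)⟩
  -- nonzero elements come from `K`
  have hK : ∀ f : F, f ≠ 0 → ∃ k, f = ⟨ρ k, hρC k⟩ := by
    intro f hf
    obtain ⟨k, hk⟩ := htr v₀ (e₀ f) hv₀ (fun h => hf (hbij.1 (h.trans (map_zero e₀).symm)))
    exact ⟨k, hbij.1 hk.symm⟩
  haveI : NoZeroDivisors F := ⟨fun {a b} hab => by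
    by_contra h
    push Not at h
    obtain ⟨k, rfl⟩ := hK a h.1
    obtain ⟨l, rfl⟩ := hK b h.2
    have := congrArg e₀ hab
    rw [map_zero] at this
    exact hsn (k * l) v₀ hv₀ (by rw [mul_smul]; exact this)⟩
  haveI : IsDomain F := NoZeroDivisors.to_isDomain F
  letI hfld : Field F := (Finite.isDomain_to_isField F).toField
  let lam : K → Fˣ := fun k =>
    { val := ⟨ρ k, hρC k⟩
      inv := ⟨ρ k⁻¹, hρC k⁻¹⟩
      val_inv := Subtype.ext (by
        show ρ k * ρ k⁻¹ = 1
        rw [hρmul, mul_inv_cancel]; exact AddMonoidHom.ext fun v => one_smul K v)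
      inv_val := Subtype.ext (by
        show ρ k⁻¹ * ρ k = 1
        rw [hρmul, inv_mul_cancel]; exact AddMonoidHom.ext fun v => one_smul K v) }
  refine ⟨F, hfld, inferInstance, AddEquiv.ofBijective e₀ hbij, lam, fun u => ?_, fun k x => rfl⟩
  obtain ⟨k, hk⟩ := hK (u : F) u.ne_zero
  exact ⟨k, Units.ext hk.symm⟩

variable {F : Type*} [Field F] [Finite F] [CharP F 2] {n : ℕ}

theorem card_pow_pos (hq : Nat.card F = 2 ^ n) : 0 < n := by
  rcases Nat.eq_zero_or_pos n with rfl | h
  · exact absurd hq (by have := Finite.one_lt_card (α := F); simp; omega)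
  · exact h

theorem pow_mod_eq (hq : Nat.card F = 2 ^ n) (k : ℕ) (x : F) : x ^ 2 ^ (k % n) = x ^ 2 ^ k := by
  haveI := Fintype.ofFinite F
  rw [Nat.card_eq_fintype_card] at hq
  conv_rhs => rw [← Nat.mod_add_div k n, pow_add, pow_mul, pow_mul 2 n, ← hq]
  rw [FiniteField.pow_card_pow]

theorem fr_injective (hq : Nat.card F = 2 ^ n) {i j : Fin n}
    (h : ∀ x : F, x ^ 2 ^ i.val = x ^ 2 ^ j.val) : i = j := by
  by_cases hn1 : n = 1
  · subst hn1; exact Subsingleton.elim _ _
  obtain ⟨g, hg⟩ := IsCyclic.exists_generator (α := Fˣ)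
  have ho : orderOf g = 2 ^ n - 1 := by
    rw [orderOf_eq_card_of_forall_mem_zpowers hg, Nat.card_units, hq]
  have h4 : 4 ≤ 2 ^ n := by
    calc 4 = 2 ^ 2 := rfl
      _ ≤ 2 ^ n := Nat.pow_le_pow_right (by norm_num) (by have := i.isLt; omega)
  have hlt : ∀ k : Fin n, 2 ^ k.val < orderOf g := fun k => by
    obtain ⟨d, hd⟩ : ∃ d, n = k.val + 1 + d := ⟨n - (k.val + 1), by have := k.isLt; omega⟩
    have h1 : 2 ^ (k.val + 1) ≤ 2 ^ n := Nat.pow_le_pow_right (by norm_num) (by omega)
    rw [pow_succ] at h1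
    rw [ho]
    have := Nat.one_le_two_pow (n := k.val)
    omega
  refine Fin.ext (Nat.pow_right_injective le_rfl (pow_injOn_Iio_orderOf (hlt i) (hlt j) (Units.ext ?_)))
  rw [Units.val_pow_eq_pow_val, Units.val_pow_eq_pow_val, h]

theorem coeff_unique (hq : Nat.card F = 2 ^ n) {c : Fin n → F}
    (h : ∀ x : F, ∑ i, c i * x ^ 2 ^ i.val = 0) (i : Fin n) : c i = 0 := by
  classical
  have hinj : Function.Injective fun i : Fin n => ((iterateFrobenius F 2 i.val : F →+* F) : F →* F) :=
    fun a b e => fr_injective hq fun x => by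
      have := DFunLike.congr_fun e x
      simpa [iterateFrobenius_def] using this
  have hind := (linearIndependent_monoidHom F F).comp _ hinj
  refine Fintype.linearIndependent_iff.1 hind c ?_ i
  funext x
  simpa [Finset.sum_apply, iterateFrobenius_def] using h x

/-- A linearized polynomial map. -/
def lin (c : Fin n → F) : F →+ F where
  toFun x := ∑ i, c i * x ^ 2 ^ i.val
  map_zero' := by simp
  map_add' x y := by
    simp only [← Finset.sum_add_distrib, ← mul_add]
    refine Finset.sum_congr rfl fun i _ => ?_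
    rw [add_pow_char_pow]

theorem lin_bijective (hq : Nat.card F = 2 ^ n) : Function.Bijective (lin (F := F) (n := n)) := by
  haveI := Fintype.ofFinite F
  haveI : Fact (Nat.Prime 2) := ⟨Nat.prime_two⟩
  haveI : Finite (F →+ F) := Finite.of_injective (fun f => (f : F → F)) DFunLike.coe_injective
  have hinj : Function.Injective (lin (F := F) (n := n)) := fun c d h => funext fun i => by
    refine sub_eq_zero.1 (coeff_unique hq (c := fun i => c i - d i) (fun x => ?_) i)
    have := DFunLike.congr_fun h x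
    change ∑ i, c i * x ^ 2 ^ i.val = ∑ i, d i * x ^ 2 ^ i.val at this
    simp [sub_mul, Finset.sum_sub_distrib, this]
  refine hinj.bijective_of_nat_card_le ?_
  letI : Algebra (ZMod 2) F := ZMod.algebra F 2
  have hr : Module.finrank (ZMod 2) F = n := by
    have h1 := Module.natCard_eq_pow_finrank (K := ZMod 2) (V := F)
    rw [hq, Nat.card_eq_fintype_card (α := ZMod 2), ZMod.card] at h1
    exact (Nat.pow_right_injective le_rfl h1).symm
  let e : (F →+ F) ≃ (F →ₗ[ZMod 2] F) :=
    ⟨fun f => f.toZModLinearMap 2, fun l => l.toAddMonoidHom, fun _ => rfl, fun _ => rfl⟩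
  rw [Nat.card_congr e, Module.natCard_eq_pow_finrank (K := ZMod 2), Module.finrank_linearMap, hr,
    Nat.card_eq_fintype_card (α := ZMod 2), ZMod.card, Nat.card_fun, Nat.card_fin, hq, ← pow_mul]

/-- Multiplicative additive maps are powers of the Frobenius. -/
theorem eq_frobenius (hq : Nat.card F = 2 ^ n) (g : F →+ F) (hmul : ∀ x y, g (x * y) = g x * g y)
    (h1 : g 1 = 1) : ∃ d : Fin n, ∀ x, g x = x ^ 2 ^ d.val := by
  obtain ⟨c, hc⟩ := (lin_bijective hq).2 g
  have hgc : ∀ x, g x = ∑ i, c i * x ^ 2 ^ i.val := fun x => by rw [← hc]; rfl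
  have key : ∀ (y : F) (i : Fin n), c i * y ^ 2 ^ i.val = g y * c i := by
    intro y i
    refine sub_eq_zero.1 (coeff_unique hq (c := fun i => c i * y ^ 2 ^ i.val - g y * c i) (fun x => ?_) i)
    have h := hmul y x
    rw [hgc (y * x), hgc x, Finset.mul_sum] at h
    simp only [sub_mul, Finset.sum_sub_distrib]
    rw [sub_eq_zero]
    calc ∑ i, c i * y ^ 2 ^ i.val * x ^ 2 ^ i.val = ∑ i, c i * (y * x) ^ 2 ^ i.val :=
          Finset.sum_congr rfl fun i _ => by rw [mul_pow]; ring
      _ = _ := by rw [h]; exact Finset.sum_congr rfl fun i _ => by ring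
  obtain ⟨d, hd⟩ : ∃ d, c d ≠ 0 := by
    by_contra h
    push Not at h
    rw [hgc] at h1
    simp [h] at h1
  exact ⟨d, fun x => mul_left_cancel₀ hd (by rw [key x d]; ring)⟩

/-- An irreducible fixed-point-free family, stable under twisting by scalars, consists of monomials:
its nonzero members are injective and fix at most one nonzero element. -/
theorem twisted_family (hq : Nat.card F = 2 ^ n) (M : AddSubgroup (F →+ F))
    (cj : Fˣ → (F →+ F) → (F →+ F))
    (hcj : ∀ μ f v, cj μ f v = (μ : F) * f (((μ⁻¹ : Fˣ) : F) * v))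
    (hinv : ∀ μ, ∀ f ∈ M, cj μ f ∈ M)
    (hirr : ∀ N : AddSubgroup (F →+ F), N ≤ M → (∀ μ, ∀ f ∈ N, cj μ f ∈ N) → N = ⊥ ∨ N = M)
    (hfpf : ∀ μ, ∀ f ∈ M, f ≠ 0 → cj μ f = f → μ = 1) :
    ∀ f ∈ M, f ≠ 0 → (∀ v, f v = 0 → v = 0) ∧
      ∀ v w, v ≠ 0 → w ≠ 0 → f v = v → f w = w → v = w := by
  classical
  intro f₀ hf₀ hf₀0
  have hn := card_pow_pos hq
  let co : (F →+ F) → Fin n → F := Function.invFun (lin (F := F) (n := n))
  have hco : ∀ f v, f v = ∑ i, co f i * v ^ 2 ^ i.val := fun f v => by
    conv_lhs => rw [← Function.invFun_eq ((lin_bijective hq).2 f)]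
    rfl
  have hcou : ∀ f c, (∀ v, f v = ∑ i, c i * v ^ 2 ^ i.val) → co f = c := fun f c h =>
    (lin_bijective hq).1 (AddMonoidHom.ext fun v => (hco f v).symm.trans (h v))
  let χ : Fin n → Fˣ → F := fun i μ => (μ : F) * (((μ⁻¹ : Fˣ) : F) ^ 2 ^ i.val)
  have hcoadd : ∀ f g, co (f + g) = co f + co g := fun f g => hcou _ _ fun v => by
    simp [hco f v, hco g v, add_mul, Finset.sum_add_distrib]
  have hco0 : co 0 = 0 := hcou _ _ fun v => by simp
  have hcoc : ∀ μ f i, co (cj μ f) i = χ i μ * co f i := fun μ f i => by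
    rw [hcou (cj μ f) (fun i => χ i μ * co f i) fun v => by
      rw [hcj, hco, Finset.mul_sum]
      exact Finset.sum_congr rfl fun i _ => by simp only [χ, mul_pow]; ring]
  have hχ : ∀ i μ, χ i μ * (μ : F) ^ 2 ^ i.val = μ := fun i μ => by
    simp only [χ]
    rw [mul_assoc, ← mul_pow, Units.inv_mul, one_pow, mul_one]
  have hχmul : ∀ i μ ν, χ i (μ * ν) = χ i μ * χ i ν := fun i μ ν => by
    simp only [χ, mul_inv, Units.val_mul, mul_pow]; ring
  -- projections of active coordinates are bijective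
  have hproj : ∀ r, co f₀ r ≠ 0 →
      (∀ f ∈ M, co f r = 0 → f = 0) ∧ (∀ μ, χ r μ = 1 → μ = 1) := by
    intro r hr
    have h1 : ∀ f ∈ M, co f r = 0 → f = 0 := by
      let N : AddSubgroup (F →+ F) :=
        { carrier := {f | f ∈ M ∧ co f r = 0}
          zero_mem' := ⟨M.zero_mem, by rw [hco0]; rfl⟩
          add_mem' := fun {a b} ha hb => ⟨M.add_mem ha.1 hb.1, by
            rw [hcoadd, Pi.add_apply, ha.2, hb.2, add_zero]⟩
          neg_mem' := fun {a} ha => ⟨M.neg_mem ha.1, by
            have := congrFun (hcoadd a (-a)) r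
            rw [add_neg_cancel, hco0, Pi.add_apply, ha.2, zero_add] at this
            exact this.symm⟩ }
      have hN : N = ⊥ := by
        refine (hirr N (fun f hf => hf.1) fun μ f hf =>
          ⟨hinv μ f hf.1, by rw [hcoc, hf.2, mul_zero]⟩).resolve_right fun h => hr ?_
        exact (h ▸ hf₀ : f₀ ∈ N).2
      intro f hf h0
      have : f ∈ N := ⟨hf, h0⟩
      rwa [hN, AddSubgroup.mem_bot] at this
    refine ⟨h1, fun μ hμ => hfpf μ f₀ hf₀ hf₀0 ?_⟩
    refine sub_eq_zero.1 (h1 _ (M.sub_mem (hinv μ f₀ hf₀) hf₀) ?_)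
    have := congrFun (hcoadd (cj μ f₀ - f₀) f₀) r
    rw [sub_add_cancel, Pi.add_apply, hcoc, hμ, one_mul] at this
    exact right_eq_add.mp this
  -- only one coordinate is active
  have huniq : ∀ r s, co f₀ r ≠ 0 → co f₀ s ≠ 0 → r = s := by
    intro r s hr hs
    by_contra hrs
    obtain ⟨hr1, hr2⟩ := hproj r hr
    obtain ⟨hs1, hs2⟩ := hproj s hs
    have hs0 : s.val ≠ 0 := by
      intro h0
      have hχ1 : ∀ μ : Fˣ, χ s μ = 1 := fun μ => by simp [χ, h0]
      have hall : ∀ μ : Fˣ, μ = 1 := fun μ => hs2 μ (hχ1 μ)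
      haveI := Fintype.ofFinite F
      haveI : Subsingleton Fˣ := ⟨fun a b => (hall a).trans (hall b).symm⟩
      have h1 : Nat.card Fˣ = 1 := Nat.card_eq_one_iff_unique.mpr ⟨inferInstance, ⟨1⟩⟩
      rw [Nat.card_units, hq] at h1
      have hn1 : n = 1 := Nat.pow_right_injective le_rfl (show 2 ^ n = 2 ^ 1 by omega)
      exact hrs (Fin.ext (by have := r.isLt; have := s.isLt; omega))
    -- the map from one coordinate to the other
    have hχinj : Function.Injective (χ r) := by
      intro μ ν h
      refine inv_mul_eq_one.mp (hr2 (μ⁻¹ * ν) ?_)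
      have h1 := hχmul r μ⁻¹ μ
      rw [inv_mul_cancel] at h1
      rw [hχmul, ← h, ← h1]
      simp [χ]
    have hχne : ∀ i μ, χ i μ ≠ 0 := fun i μ h => by
      have := hχ i μ; rw [h, zero_mul] at this; exact μ.ne_zero this.symm
    have hχsurj : ∀ x : F, x ≠ 0 → ∃ μ, χ r μ = x := by
      intro x hx
      have hb : Function.Surjective (fun μ : Fˣ => Units.mk0 (χ r μ) (hχne r μ)) :=
        Finite.surjective_of_injective fun a b h => hχinj (congrArg (fun u : Fˣ => (u : F)) h)
      obtain ⟨μ, hμ⟩ := hb (Units.mk0 x hx)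
      exact ⟨μ, congrArg (fun u : Fˣ => (u : F)) hμ⟩
    have hmem : ∀ x : F, ∃ f ∈ M, co f r = x * co f₀ r := by
      intro x
      by_cases hx : x = 0
      · exact ⟨0, M.zero_mem, by rw [hx, hco0, zero_mul]; rfl⟩
      · obtain ⟨μ, rfl⟩ := hχsurj x hx
        exact ⟨cj μ f₀, hinv μ f₀ hf₀, hcoc μ f₀ r⟩
    choose mk hmkM hmk using hmem
    have hdet : ∀ f ∈ M, ∀ g ∈ M, co f r = co g r → f = g := by
      intro f hf g hg h
      refine sub_eq_zero.1 (hr1 _ (M.sub_mem hf hg) ?_)
      have := congrFun (hcoadd (f - g) g) r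
      rw [sub_add_cancel, Pi.add_apply, h] at this
      exact right_eq_add.mp this
    let g : F →+ F := AddMonoidHom.mk' (fun x => co (mk x) s / co f₀ s) fun x y => by
      rw [hdet _ (hmkM (x + y)) _ (M.add_mem (hmkM x) (hmkM y)) (by
        rw [hcoadd, Pi.add_apply, hmk, hmk, hmk, add_mul]), hcoadd, Pi.add_apply, add_div]
    have hg : ∀ μ, g (χ r μ) = χ s μ := by
      intro μ
      show co (mk (χ r μ)) s / co f₀ s = χ s μ
      rw [hdet _ (hmkM _) _ (hinv μ f₀ hf₀) (by rw [hmk, hcoc]), hcoc, mul_div_assoc, div_self hs,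
        mul_one]
    have hg1 : g 1 = 1 := by
      have h1 := hg 1
      simpa [χ] using h1
    have hgmul : ∀ x y, g (x * y) = g x * g y := by
      intro x y
      by_cases hx : x = 0
      · simp [hx]
      by_cases hy : y = 0
      · simp [hy]
      obtain ⟨μ, rfl⟩ := hχsurj x hx
      obtain ⟨ν, rfl⟩ := hχsurj y hy
      rw [← hχmul, hg, hg, hg, hχmul]
    obtain ⟨d, hd⟩ := eq_frobenius hq g hgmul hg1
    -- the resulting identity between powers
    set C : Fin n := ⟨(r.val + d.val) % n, Nat.mod_lt _ hn⟩ with hC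
    have hC' : ∀ x : F, x ^ 2 ^ C.val = x ^ 2 ^ (r.val + d.val) := fun x => pow_mod_eq hq _ x
    have hid : ∀ x : F, x ^ 2 ^ d.val * x ^ 2 ^ s.val = x * x ^ 2 ^ C.val := by
      intro x
      by_cases hx : x = 0
      · simp [hx]
      obtain ⟨μ, rfl⟩ : ∃ μ : Fˣ, (μ : F) = x := ⟨Units.mk0 x hx, rfl⟩
      have h1 := hg μ
      rw [hd] at h1
      have h2 := congrArg (fun t : F => t ^ 2 ^ d.val) (hχ r μ)
      simp only [mul_pow, ← pow_mul, ← pow_add] at h2
      rw [h1] at h2
      calc (μ : F) ^ 2 ^ d.val * (μ : F) ^ 2 ^ s.val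
          = (χ s μ * (μ : F) ^ 2 ^ s.val) * (μ : F) ^ 2 ^ (r.val + d.val) := by rw [← h2]; ring
        _ = (μ : F) * (μ : F) ^ 2 ^ C.val := by rw [hχ, hC']
    set z : Fin n := ⟨0, hn⟩ with hz
    have hsum : ∀ x : F, x ^ 2 ^ s.val + x ^ 2 ^ d.val = x ^ 2 ^ C.val + x ^ 2 ^ z.val := by
      intro x
      have h := hid (1 + x)
      have h2 := hid x
      rw [add_pow_char_pow, add_pow_char_pow, add_pow_char_pow, one_pow, one_pow, one_pow] at h
      rw [show x ^ 2 ^ z.val = x by simp [hz]]
      linear_combination h - h2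
    have hc : ∀ i, ((if i = s then (1 : F) else 0) + (if i = d then 1 else 0))
        = (if i = C then 1 else 0) + (if i = z then 1 else 0) := by
      intro i
      refine sub_eq_zero.1 (coeff_unique hq (c := fun i =>
        ((if i = s then (1 : F) else 0) + (if i = d then 1 else 0))
          - ((if i = C then 1 else 0) + (if i = z then 1 else 0))) (fun x => ?_) i)
      simp only [sub_mul, add_mul, Finset.sum_sub_distrib, Finset.sum_add_distrib, ite_mul, one_mul,
        zero_mul, Finset.sum_ite_eq', Finset.mem_univ, if_true]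
      rw [hsum x, sub_self]
    have hsz : s ≠ z := fun h => hs0 (by rw [h])
    by_cases hsd : s = d
    · have hCz : C = z := by
        by_contra hCz
        have hi := hc C
        simp only [← hsd, if_true, if_neg hCz, CharTwo.add_self_eq_zero, add_zero] at hi
        exact zero_ne_one hi
      have hdz : d = z := fr_injective hq fun x => by
        have h := hid x
        rw [← hsd, show x ^ 2 ^ C.val = x by rw [hCz]; simp [hz]] at h
        rw [show x ^ 2 ^ z.val = x by simp [hz], ← hsd]
        exact CharTwo.sq_injective (by simpa [pow_two] using h)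
      exact hsz (hsd.trans hdz)
    · have hsC : s = C := by
        by_contra h
        have hi := hc s
        simp only [if_true, if_neg hsd, if_neg h, if_neg hsz, add_zero] at hi
        exact one_ne_zero hi
      have hdz : d = z := by
        by_contra h
        have hdC : d ≠ C := fun e => hsd (hsC.trans e.symm)
        have hi := hc d
        simp only [if_true, if_neg (Ne.symm hsd), if_neg hdC, if_neg h, zero_add, add_zero] at hi
        exact one_ne_zero hi
      apply hrs
      apply Fin.ext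
      have hd0 : d.val = 0 := by rw [hdz]
      have : s.val = (r.val + d.val) % n := by rw [hsC]
      rw [hd0, add_zero, Nat.mod_eq_of_lt r.isLt] at this
      exact this.symm
  -- conclusion
  obtain ⟨r, hr⟩ : ∃ r, co f₀ r ≠ 0 := by
    by_contra h
    push Not at h
    exact hf₀0 (AddMonoidHom.ext fun v => by simp [hco f₀ v, h])
  have hform : ∀ v, f₀ v = co f₀ r * v ^ 2 ^ r.val := by
    intro v
    rw [hco f₀ v]
    refine Finset.sum_eq_single r (fun i _ hi => ?_) (by simp)
    have : co f₀ i = 0 := by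
      by_contra h; exact hi (huniq i r h hr)
    rw [this, zero_mul]
  refine ⟨fun v hv => ?_, fun v w hv hw hfv hfw => ?_⟩
  · rw [hform, mul_eq_zero] at hv
    exact eq_zero_of_pow_eq_zero (hv.resolve_left hr)
  · have key : ∀ (t : F) (ht : t ≠ 0), f₀ t = t → χ r (Units.mk0 t ht) = co f₀ r := by
      intro t ht h
      rw [hform] at h
      have := hχ r (Units.mk0 t ht)
      exact mul_right_cancel₀ (pow_ne_zero (2 ^ r.val) ht) (this.trans h.symm)
    have h1 : χ r (Units.mk0 v hv * (Units.mk0 w hw)⁻¹) = 1 := by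
      have h2 := hχmul r (Units.mk0 v hv * (Units.mk0 w hw)⁻¹) (Units.mk0 w hw)
      rw [inv_mul_cancel_right, key v hv hfv, key w hw hfw] at h2
      exact (right_eq_mul₀ hr).mp h2
    exact congrArg (fun u : Fˣ => (u : F)) (mul_inv_eq_one.mp ((hproj r hr).2 _ h1))

end CfsgLib.SuzukiField
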