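import Mathlib
import Cfsg.Agent.Lib.PGroup.SuzukiCenter
import Cfsg.Agent.Lib.PGroup.SuzukiField

/-!
# The central quotient of a Suzuki `2`-group (Higman)

The squares and commutators lie in the centre, and the order is the square or the cube of that of the
centre.
-/

set_option autoImplicit false
set_option linter.style.haveILetI false
set_option linter.unusedSectionVars false

namespace CfsgLib.SuzukiQuotient

open CfsgLib.SuzukiCenter

/-! ### A counting bound for anisotropic quadratic maps -/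

/-- Degree at most `d`, by finite differences. -/
def Deg {G : Type*} [Group G] : ℕ → (G → ZMod 2) → Prop
  | 0, f => ∀ x y, f x = f y
  | d + 1, f => ∀ a, Deg d fun x => f (x * a) + f x

section counting

variable {G : Type*} [CommGroup G]

theorem deg_zero_fun : ∀ d : ℕ, Deg d (fun _ : G => (0 : ZMod 2)) := by
  intro d
  induction d with
  | zero => intro x y; rfl
  | succ d ih => intro a; simpa using ih

theorem deg_succ : ∀ (d : ℕ) (f : G → ZMod 2), Deg d f → Deg (d + 1) f := by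
  intro d
  induction d with
  | zero =>
    intro f hf a x y
    show f (x * a) + f x = f (y * a) + f y
    rw [hf (x * a) (y * a), hf x y]
  | succ d ih => intro f hf a; exact ih _ (hf a)

theorem deg_mono {d e : ℕ} (h : d ≤ e) {f : G → ZMod 2} (hf : Deg d f) : Deg e f := by
  induction h with
  | refl => exact hf
  | step _ ih => exact deg_succ _ _ ih

theorem deg_shift : ∀ (d : ℕ) (f : G → ZMod 2) (b : G), Deg d f → Deg d fun x => f (x * b) := by
  intro d
  induction d with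
  | zero => intro f b hf x y; exact hf _ _
  | succ d ih =>
    intro f b hf a
    have h := ih _ b (hf a)
    have e : (fun x => f (x * a * b) + f (x * b)) = fun x => f (x * b * a) + f (x * b) := by
      funext x; rw [mul_right_comm]
    show Deg d fun x => f (x * a * b) + f (x * b)
    rw [e]; exact h

theorem deg_add : ∀ (d : ℕ) (f g : G → ZMod 2), Deg d f → Deg d g → Deg d fun x => f x + g x := by
  intro d
  induction d with
  | zero => intro f g hf hg x y; show f x + g x = f y + g y; rw [hf x y, hg x y]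
  | succ d ih =>
    intro f g hf hg a
    have h := ih _ _ (hf a) (hg a)
    have e : (fun x => f (x * a) + g (x * a) + (f x + g x))
        = fun x => (f (x * a) + f x) + (g (x * a) + g x) := by
      funext x; ring
    show Deg d fun x => f (x * a) + g (x * a) + (f x + g x)
    rw [e]; exact h

theorem deg_mul : ∀ (t d e : ℕ) (f g : G → ZMod 2), d + e = t → Deg d f → Deg e g →
    Deg t fun x => f x * g x := by
  intro t
  induction t with
  | zero =>
    intro d e f g h hf hg x y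
    obtain ⟨rfl, rfl⟩ : d = 0 ∧ e = 0 := by omega
    show f x * g x = f y * g y
    rw [hf x y, hg x y]
  | succ t ih =>
    intro d e f g h hf hg a
    have e0 : (fun x => f (x * a) * g (x * a) + f x * g x)
        = fun x => (f (x * a) + f x) * g (x * a) + f x * (g (x * a) + g x) := by
      funext x
      have h2 : (2 : ZMod 2) = 0 := rfl
      linear_combination (-(f x * g (x * a))) * h2
    show Deg t fun x => f (x * a) * g (x * a) + f x * g x
    rw [e0]
    refine deg_add t _ _ ?_ ?_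
    · rcases d with _ | d
      · have : (fun x => (f (x * a) + f x) * g (x * a)) = fun _ => (0 : ZMod 2) := by
          funext x; rw [hf (x * a) x, CharTwo.add_self_eq_zero, zero_mul]
        rw [this]; exact deg_zero_fun t
      · exact ih d e _ _ (by omega) (hf a) (deg_shift e g a hg)
    · rcases e with _ | e
      · have : (fun x => f x * (g (x * a) + g x)) = fun _ => (0 : ZMod 2) := by
          funext x; rw [hg (x * a) x, CharTwo.add_self_eq_zero, mul_zero]
        rw [this]; exact deg_zero_fun t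
      · exact ih d e _ _ (by omega) hf (hg a)

theorem deg_subgroup (H : Subgroup G) : ∀ (d : ℕ) (f : G → ZMod 2), Deg d f →
    Deg d fun x : H => f x := by
  intro d
  induction d with
  | zero => intro f hf x y; exact hf _ _
  | succ d ih => intro f hf a; exact ih _ (hf a)

end counting

theorem sum_eq_zero.{u} : ∀ (d : ℕ) (G : Type u) [CommGroup G] [Fintype G] (f : G → ZMod 2),
    (∀ x : G, x * x = 1) → Deg d f → 2 ^ d < Fintype.card G → ∑ x, f x = 0 := by
  intro d
  induction d with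
  | zero =>
    intro G _ _ f he hf hc
    classical
    haveI : Fact (Nat.Prime 2) := ⟨Nat.prime_two⟩
    have h2 : IsPGroup 2 G := fun x => ⟨1, by rw [pow_one, pow_two, he]⟩
    obtain ⟨m, hm⟩ := IsPGroup.iff_card.mp h2
    rw [Nat.card_eq_fintype_card] at hm
    rw [Finset.sum_congr rfl (fun x _ => hf x 1), Finset.sum_const, Finset.card_univ, hm, nsmul_eq_mul]
    rcases m with _ | m
    · simp at hm; simp [hm] at hc
    · rw [pow_succ', Nat.cast_mul, show ((2 : ℕ) : ZMod 2) = 0 from rfl, zero_mul, zero_mul]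
  | succ d ih =>
    intro G _ _ f he hf hc
    classical
    haveI : Fact (Nat.Prime 2) := ⟨Nat.prime_two⟩
    have h2 : IsPGroup 2 G := fun x => ⟨1, by rw [pow_one, pow_two, he]⟩
    obtain ⟨m, hm⟩ := IsPGroup.iff_card.mp h2
    obtain ⟨m', rfl⟩ : ∃ m', m = m' + 1 := ⟨m - 1, by
      rcases m with _ | m
      · rw [Nat.card_eq_fintype_card] at hm; simp [hm] at hc
      · simp⟩
    obtain ⟨H, hH⟩ := Sylow.exists_subgroup_card_pow_prime 2 (n := m') (G := G)
      (hm ▸ pow_dvd_pow 2 (Nat.le_succ m'))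
    have hHi : H.index = 2 := by
      have := H.card_mul_index
      rw [hH, hm, pow_succ] at this
      exact Nat.eq_of_mul_eq_mul_left (by positivity) this
    obtain ⟨a, ha⟩ := Subgroup.index_eq_two_iff.mp hHi
    have haH : a ∉ H := by
      rcases ha 1 with ⟨-, h'⟩ | ⟨-, h'⟩
      · exact absurd H.one_mem h'
      · simpa using h'
    have h := ih H (fun x => f ((x : G) * a) + f x) (fun x => Subtype.ext (he x))
      (deg_subgroup H d _ (hf a)) (by
        rw [← Nat.card_eq_fintype_card, hH]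
        rw [← Nat.card_eq_fintype_card, hm, pow_succ, pow_succ] at hc
        omega)
    rw [Finset.sum_add_distrib] at h
    let e : H ⊕ H → G := Sum.elim (fun x => (x : G) * a) fun x => (x : G)
    have hbij : Function.Bijective e := by
      constructor
      · rintro (x | x) (y | y) hxy <;> simp only [e, Sum.elim_inl, Sum.elim_inr] at hxy
        · exact congrArg Sum.inl (Subtype.ext (mul_right_cancel hxy))
        · exact absurd (by rw [← inv_mul_cancel_left (x : G) a, hxy]; exact H.mul_mem (H.inv_mem x.2) y.2) haH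
        · exact absurd (by rw [← inv_mul_cancel_left (y : G) a, ← hxy]; exact H.mul_mem (H.inv_mem y.2) x.2) haH
        · exact congrArg Sum.inr (Subtype.ext hxy)
      · intro g
        rcases ha g with ⟨hg, -⟩ | ⟨hg, -⟩
        · exact ⟨Sum.inl ⟨g * a, hg⟩, by simp [e, mul_assoc, he a]⟩
        · exact ⟨Sum.inr ⟨g, hg⟩, rfl⟩
    rw [← Fintype.sum_bijective e hbij _ _ (fun _ => rfl), Fintype.sum_sum_type]
    exact h

/-- An anisotropic quadratic map from `G` to `V` forces `|G| ≤ |V| ^ 2`. -/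
theorem card_le_sq {G : Type*} {V : Type*} [CommGroup G] [Finite G] [CommGroup V] [Finite V]
    (hG : ∀ x : G, x * x = 1) (hV : ∀ x : V, x * x = 1) (s : G → V) (β : G → G → V)
    (hs : ∀ a b, s (a * b) = s a * s b * β a b) (hβ : ∀ a b c, β (a * b) c = β a c * β b c)
    (haniso : ∀ a, s a = 1 ↔ a = 1) : Nat.card G ≤ Nat.card V ^ 2 := by
  classical
  haveI := Fintype.ofFinite G
  haveI : Fact (Nat.Prime 2) := ⟨Nat.prime_two⟩
  letI : Module (ZMod 2) (Additive V) := AddCommGroup.zmodModule fun x => by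
    rw [two_nsmul]; exact hV x
  set n := Module.finrank (ZMod 2) (Additive V) with hn
  let b := Module.finBasis (ZMod 2) (Additive V)
  have hcard : Nat.card V = 2 ^ n := by
    have h1 := Module.natCard_eq_pow_finrank (K := ZMod 2) (V := Additive V)
    rw [Nat.card_eq_fintype_card (α := ZMod 2), ZMod.card] at h1
    exact h1
  have hadd : ∀ (j : Fin n) (u v : V), b.coord j (Additive.ofMul (u * v))
      = b.coord j (Additive.ofMul u) + b.coord j (Additive.ofMul v) := fun j u v => by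
    rw [ofMul_mul, map_add]
  let φ : Fin n → G → ZMod 2 := fun j x => 1 + b.coord j (Additive.ofMul (s x))
  have hφ : ∀ j, Deg 2 (φ j) := by
    intro j a c
    have hlin : ∀ x, φ j (x * a) + φ j x
        = b.coord j (Additive.ofMul (s a)) + b.coord j (Additive.ofMul (β x a)) := by
      intro x
      simp only [φ, hs, hadd]
      have h2 : (2 : ZMod 2) = 0 := rfl
      linear_combination (1 + b.coord j (Additive.ofMul (s x))) * h2
    intro x y
    show φ j (x * c * a) + φ j (x * c) + (φ j (x * a) + φ j x)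
      = φ j (y * c * a) + φ j (y * c) + (φ j (y * a) + φ j y)
    rw [hlin, hlin, hlin, hlin, hβ x c a, hβ y c a, hadd, hadd]
    have h2 : (2 : ZMod 2) = 0 := rfl
    linear_combination (b.coord j (Additive.ofMul (β x a)) - b.coord j (Additive.ofMul (β y a))) * h2
  have hprod : ∀ S : Finset (Fin n), Deg (2 * S.card) (fun x => ∏ j ∈ S, φ j x) := by
    intro S
    induction S using Finset.induction_on with
    | empty => intro x y; rfl
    | insert j S hj ih =>
      have h := deg_mul _ 2 (2 * S.card) (φ j) _ rfl (hφ j) ih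
      rw [Finset.card_insert_of_notMem hj, show 2 * (S.card + 1) = 2 + 2 * S.card by ring]
      simpa [Finset.prod_insert hj] using h
  by_contra hlt
  have hsum := sum_eq_zero (2 * n) G (fun x => ∏ j, φ j x) hG (by simpa using hprod Finset.univ) (by
    rw [← Nat.card_eq_fintype_card]
    rw [hcard, ← pow_mul, mul_comm] at hlt
    omega)
  rw [Finset.sum_eq_single (1 : G)] at hsum
  · have : ∏ j : Fin n, φ j 1 = 1 := Finset.prod_eq_one fun j _ => by
      simp [φ, (haniso 1).mpr rfl]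
    rw [this] at hsum
    exact one_ne_zero hsum
  · intro x _ hx
    obtain ⟨j, hj⟩ : ∃ j, b.coord j (Additive.ofMul (s x)) ≠ 0 := by
      by_contra h
      push Not at h
      exact hx ((haniso x).mp (b.forall_coord_eq_zero_iff.mp h))
    refine Finset.prod_eq_zero (Finset.mem_univ j) ?_
    show 1 + b.coord j (Additive.ofMul (s x)) = 0
    generalize b.coord j (Additive.ofMul (s x)) = c at hj
    fin_cases c
    · exact absurd rfl hj
    · rfl
  · simp

/-! ### Groups -/

variable {P : Type*} [Group P] [Finite P] {K : Subgroup (MulAut P)}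

theorem card_K (hS : Setting K) : Nat.card K + 1 = Nat.card hS.inv := by
  classical
  obtain ⟨x, y, hxy, hx, hx2, hy, hy2⟩ := hS.nontriv
  let e : K → {v : hS.inv // v ≠ 1} := fun k =>
    ⟨⟨(k : MulAut P) x, by show (k : MulAut P) x * (k : MulAut P) x = 1; rw [← map_mul, hx2, map_one]⟩,
      fun h => hx (by simpa using congrArg Subtype.val h)⟩
  have he : Function.Bijective e := by
    constructor
    · intro a b h
      have h' : (a : MulAut P) x = (b : MulAut P) x :=
        congrArg (fun t : {v : hS.inv // v ≠ 1} => ((t.1 : hS.inv) : P)) h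
      have h1 := hS.free ((b⁻¹ * a : K) : MulAut P) (b⁻¹ * a).2 x hx hx2 (by simp [h'])
      exact (inv_mul_eq_one.mp (Subtype.ext h1)).symm
    · rintro ⟨⟨v, hv⟩, hv1⟩
      obtain ⟨k, hk, hkv⟩ := hS.trans x v hx hx2 (fun h => hv1 (Subtype.ext h)) hv
      exact ⟨⟨k, hk⟩, Subtype.ext (Subtype.ext hkv)⟩
  rw [Nat.card_congr (Equiv.ofBijective e he)]
  haveI : Fintype hS.inv := Fintype.ofFinite _
  rw [Nat.card_eq_fintype_card (α := hS.inv), Nat.card_eq_fintype_card (α := {v : hS.inv // v ≠ 1}),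
    Fintype.card_subtype_compl, Fintype.card_subtype_eq]
  have := Fintype.card_pos (α := hS.inv)
  omega

/-- A nontrivial element of `K` fixes no coset other than the trivial one. -/
theorem mem_of_fixed_coset (hS : Setting K) (N : Subgroup P) (hN : ∀ k ∈ K, ∀ a ∈ N, k a ∈ N)
    {k : MulAut P} (hk : k ∈ K) (hk1 : k ≠ 1) {x : P} (hx : x⁻¹ * k x ∈ N) : x ∈ N := by
  classical
  haveI : Fact (Nat.Prime 2) := ⟨Nat.prime_two⟩
  have hC := card_K hS
  obtain ⟨j, hj⟩ := IsPGroup.iff_card.mp (hS.two.to_subgroup hS.inv)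
  haveI : Finite K := Nat.finite_of_card_ne_zero (by
    intro h0
    obtain ⟨a, b, hab, ha, ha2, hb, hb2⟩ := hS.nontriv
    haveI : Fintype hS.inv := Fintype.ofFinite _
    have h2 : 1 < Nat.card hS.inv := Finite.one_lt_card_iff_nontrivial.mpr
      ⟨⟨⟨a, ha2⟩, 1, fun h => ha (congrArg Subtype.val h)⟩⟩
    omega)
  have hkpos : 0 < orderOf k := by
    rw [show orderOf k = orderOf (⟨k, hk⟩ : K) from (Subgroup.orderOf_coe ⟨k, hk⟩)]
    exact orderOf_pos _
  obtain ⟨r, hr, hrd⟩ := Nat.exists_prime_and_dvd (n := orderOf k) (fun h => hk1 (orderOf_eq_one_iff.mp h))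
  have hr2 : r ≠ 2 := by
    rintro rfl
    have h2K : 2 ∣ Nat.card K := hrd.trans (by
      rw [show orderOf k = orderOf (⟨k, hk⟩ : K) from (Subgroup.orderOf_coe ⟨k, hk⟩)]
      exact orderOf_dvd_natCard _)
    rcases j with _ | j
    · rw [pow_zero] at hj
      have := Nat.card_pos (α := K)
      omega
    · obtain ⟨c, hc⟩ := h2K
      rw [hj, pow_succ] at hC
      omega
  set m := orderOf k / r
  have hko : orderOf (k ^ m) = r := orderOf_pow_orderOf_div hkpos.ne' hrd
  have hpow : ∀ i : ℕ, x⁻¹ * (k ^ i) x ∈ N := by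
    intro i
    induction i with
    | zero => simp
    | succ i ih =>
      have := N.mul_mem hx (hN k hk _ ih)
      simpa [pow_succ', map_mul, map_inv, mul_assoc] using this
  obtain ⟨c, hc, hfix⟩ := fixed_in_coset hS.two (k ^ m) hr hr2 hko N
    (fun a ha => hN _ (K.pow_mem hk m) a ha) x (hpow m)
  have hxc := hS.fpf (K.pow_mem hk m) (fun h => hr.one_lt.ne (by rw [← hko, h, orderOf_one])) hfix
  rw [eq_inv_of_mul_eq_one_left hxc]
  exact N.inv_mem hc

/-- There is no normal abelian invariant subgroup of exponent at least eight. -/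
theorem no_big_abelian (hS : Setting K) (hna : ∃ x y : P, x * y ≠ y * x) (A : Subgroup P)
    (hAn : A.Normal) (hAk : ∀ k ∈ K, ∀ a ∈ A, k a ∈ A) (hAc : ∀ a ∈ A, ∀ b ∈ A, a * b = b * a)
    (hinv : hS.inv ≤ A) (h : ∃ a ∈ A, a ^ 4 ≠ 1) : False := by
  classical
  obtain ⟨x0, y0, hxy0⟩ := hna
  let S : Set (Subgroup P) := {B | B.Normal ∧ (∀ k ∈ K, ∀ a ∈ B, k a ∈ B) ∧
    (∀ a ∈ B, ∀ b ∈ B, a * b = b * a) ∧ hS.inv ≤ B ∧ ∃ a ∈ B, a ^ 4 ≠ 1}
  obtain ⟨B, hB, hBmax⟩ := (Set.toFinite S).exists_maximal ⟨A, hAn, hAk, hAc, hinv, h⟩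
  obtain ⟨hBn, hBk, hBc, hBinv, a, ha, ha4⟩ := hB
  have ha2 : a * a ≠ 1 := fun h => ha4 (by
    rw [show a ^ 4 = (a * a) * (a * a) by simp [pow_succ, mul_assoc], h, one_mul])
  obtain ⟨Y, g, M, hYn, hg3, hYA⟩ := exists_layer hS B hBn hBk hBc hBinv a ha ha2
  have hYc := M.commutative (M.centralizes (hg3 ha4))
  have hBtop : B ≠ ⊤ := fun h => hxy0 (hBc x0 (h ▸ Subgroup.mem_top x0) y0 (h ▸ Subgroup.mem_top y0))
  exact hYA hBtop (hBmax ⟨hYn, M.invX, hYc, hBinv.trans M.le, a, M.le ha, ha4⟩ M.le)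

/-- The preimage of the involutions of the centre of `P ⧸ A`. -/
def upper (A : Subgroup P) [A.Normal] : Subgroup P :=
  Subgroup.comap (QuotientGroup.mk' A)
    { carrier := {q | q * q = 1 ∧ ∀ r, r * q = q * r}
      one_mem' := ⟨one_mul 1, fun r => by simp⟩
      mul_mem' := fun {u v} hu hv => ⟨by
          calc u * v * (u * v) = u * (v * u) * v := by group
            _ = u * (u * v) * v := by rw [hu.2 v]
            _ = (u * u) * (v * v) := by group
            _ = 1 := by rw [hu.1, hv.1, one_mul],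
        fun r => by rw [← mul_assoc, hu.2 r, mul_assoc, hv.2 r, mul_assoc]⟩
      inv_mem' := fun {u} hu => by
        have : u⁻¹ = u := inv_eq_of_mul_eq_one_right hu.1
        rw [this]; exact hu }

theorem mem_upper {A : Subgroup P} [A.Normal] {x : P} :
    x ∈ upper A ↔ x * x ∈ A ∧ ∀ g, g * x * g⁻¹ * x⁻¹ ∈ A := by
  constructor
  · rintro ⟨h1, h2⟩
    refine ⟨(QuotientGroup.eq_one_iff _).mp (by simpa using h1), fun g => ?_⟩
    rw [← QuotientGroup.eq_one_iff]
    have := h2 (QuotientGroup.mk' A g)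
    simp only [QuotientGroup.mk'_apply] at this
    simp only [QuotientGroup.mk_mul, QuotientGroup.mk_inv]
    rw [this]; group
  · rintro ⟨h1, h2⟩
    refine ⟨?_, fun r => ?_⟩
    · show (x : P ⧸ A) * x = 1
      rw [← QuotientGroup.mk_mul]; exact (QuotientGroup.eq_one_iff _).mpr h1
    · obtain ⟨g, rfl⟩ := QuotientGroup.mk'_surjective A r
      have := (QuotientGroup.eq_one_iff _).mpr (h2 g)
      simp only [QuotientGroup.mk_mul, QuotientGroup.mk_inv, mul_inv_eq_iff_eq_mul, one_mul] at this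
      exact this

theorem le_upper (A : Subgroup P) [hA : A.Normal] : A ≤ upper A := fun a ha =>
  mem_upper.mpr ⟨A.mul_mem ha ha, fun g => A.mul_mem (hA.conj_mem a ha g) (A.inv_mem ha)⟩

theorem normal_of_le_upper (A B : Subgroup P) [A.Normal] (h1 : A ≤ B) (h2 : B ≤ upper A) : B.Normal :=
  ⟨fun b hb g => by
    have := B.mul_mem (h1 ((mem_upper.mp (h2 hb)).2 g)) hb
    simpa using this⟩

theorem upper_inv (A : Subgroup P) [A.Normal] (hA : ∀ k ∈ K, ∀ a ∈ A, k a ∈ A) :
    ∀ k ∈ K, ∀ x ∈ upper A, k x ∈ upper A := by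
  intro k hk x hx
  rw [mem_upper] at hx ⊢
  refine ⟨by rw [← map_mul]; exact hA k hk _ hx.1, fun g => ?_⟩
  have := hA k hk _ (hx.2 (k⁻¹ g))
  simpa [map_mul, map_inv] using this

theorem upper_ne (hP : IsPGroup 2 P) (A : Subgroup P) [A.Normal] (hne : A ≠ ⊤) : ¬ upper A ≤ A := by
  intro hle
  haveI : Fact (Nat.Prime 2) := ⟨Nat.prime_two⟩
  haveI : Nontrivial (P ⧸ A) := by
    obtain ⟨g, hg⟩ : ∃ g, g ∉ A := by
      by_contra h; push Not at h
      exact hne (eq_top_iff.mpr fun g _ => h g)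
    exact ⟨(g : P ⧸ A), 1, fun h => hg ((QuotientGroup.eq_one_iff g).mp h)⟩
  haveI := (hP.to_quotient A).center_nontrivial
  obtain ⟨i, hi0, hi⟩ := ((hP.to_quotient A).to_subgroup
    (Subgroup.center (P ⧸ A))).nontrivial_iff_card.mp inferInstance
  obtain ⟨z, hz⟩ := exists_prime_orderOf_dvd_card' (G := Subgroup.center (P ⧸ A)) 2
    (hi ▸ dvd_pow_self 2 hi0.ne')
  obtain ⟨g, hg⟩ := QuotientGroup.mk'_surjective A (z : P ⧸ A)
  have hgX : g ∈ upper A := by
    rw [upper, Subgroup.mem_comap, hg]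
    refine ⟨?_, fun r => Subgroup.mem_center_iff.mp z.2 r⟩
    have := pow_orderOf_eq_one z
    rw [hz, pow_two] at this
    exact congrArg Subtype.val this
  have hz1 : z = 1 := by
    refine Subtype.ext ?_
    rw [← hg]; exact (QuotientGroup.eq_one_iff g).mpr (hle hgX)
  rw [hz1, orderOf_one] at hz
  omega

/-- Restriction of the setting to an invariant subgroup containing the involutions. -/
theorem exists_setting_sub (hS : Setting K) (W : Subgroup P) (hW : ∀ k ∈ K, ∀ w ∈ W, k w ∈ W)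
    (hinv : hS.inv ≤ W) : ∃ L : Subgroup (MulAut W), Setting L := by
  let res : K →* MulAut W :=
    { toFun := fun k =>
        { toFun := fun w => ⟨(k : MulAut P) w, hW k k.2 w w.2⟩
          invFun := fun w => ⟨((k⁻¹ : K) : MulAut P) w, hW _ (k⁻¹).2 w w.2⟩
          left_inv := fun w => Subtype.ext (by simp)
          right_inv := fun w => Subtype.ext (by simp)
          map_mul' := fun a b => Subtype.ext (map_mul (k : MulAut P) (a : P) (b : P)) }
      map_one' := MulEquiv.ext fun w => Subtype.ext rfl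
      map_mul' := fun a b => MulEquiv.ext fun w => Subtype.ext rfl }
  obtain ⟨x, y, hxy, hx, hx2, hy, hy2⟩ := hS.nontriv
  refine ⟨res.range, hS.two.to_subgroup W, ?_, ?_, ?_, ?_,
    ⟨x, hinv hx2⟩, ⟨y, hinv hy2⟩, fun h => hxy (congrArg Subtype.val h),
    fun h => hx (congrArg Subtype.val h), Subtype.ext hx2, fun h => hy (congrArg Subtype.val h), Subtype.ext hy2⟩
  · rintro _ ⟨a, rfl⟩ _ ⟨b, rfl⟩
    rw [← map_mul, ← map_mul, show a * b = b * a from Subtype.ext (hS.comm a a.2 b b.2)]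
  · exact fun v hv g => Subtype.ext (hS.central v (congrArg Subtype.val hv) g)
  · intro u v hu hu2 hv hv2
    obtain ⟨k, hk, hkv⟩ := hS.trans u v (fun h => hu (Subtype.ext h)) (congrArg Subtype.val hu2)
      (fun h => hv (Subtype.ext h)) (congrArg Subtype.val hv2)
    exact ⟨res ⟨k, hk⟩, ⟨_, rfl⟩, Subtype.ext hkv⟩
  · rintro _ ⟨k, rfl⟩ u hu hu2 h
    have := hS.free k k.2 u (fun h => hu (Subtype.ext h)) (congrArg Subtype.val hu2) (congrArg Subtype.val h)
    rw [show k = 1 from Subtype.ext this, map_one]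

theorem inv_normal (hS : Setting K) : hS.inv.Normal :=
  ⟨fun v hv g => by rw [hS.central v hv g, mul_inv_cancel_right]; exact hv⟩

/-- **Higman.** Squares and commutators are central involutions. -/
theorem upper_inv_eq_top (hS : Setting K) (hna : ∃ x y : P, x * y ≠ y * x) :
    ∀ x : P, x * x ∈ hS.inv ∧ ∀ g, g * x * g⁻¹ * x⁻¹ ∈ hS.inv := by
  classical
  haveI : hS.inv.Normal := inv_normal hS
  suffices htop : upper hS.inv = ⊤ from fun x => mem_upper.mp (htop ▸ Subgroup.mem_top x)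
  set Z := hS.inv with hZ
  have hZk : ∀ k ∈ K, ∀ a ∈ Z, k a ∈ Z := fun k _ a ha => by
    show k a * k a = 1
    rw [← map_mul, show a * a = 1 from ha, map_one]
  set X := upper Z with hX
  have hXk := upper_inv Z hZk
  have hXn : X.Normal := normal_of_le_upper Z X (le_upper Z) le_rfl
  haveI := hXn
  by_contra hXtop
  have hzc : ∀ v ∈ Z, ∀ g : P, g * v = v * g := fun v hv g => hS.central v hv g
  have hzsq : ∀ v ∈ Z, v * v = 1 := fun v hv => hv
  -- commutation with an element of `X` is a homomorphism to `Z`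
  have hXhom : ∀ x ∈ X, ∀ g h : P,
      g * h * x * (g * h)⁻¹ * x⁻¹ = (g * x * g⁻¹ * x⁻¹) * (h * x * h⁻¹ * x⁻¹) := by
    intro x hx g h
    have hc := (mem_upper.mp hx).2 h
    calc g * h * x * (g * h)⁻¹ * x⁻¹ = (g * (h * x * h⁻¹ * x⁻¹)) * x * g⁻¹ * x⁻¹ := by group
      _ = ((h * x * h⁻¹ * x⁻¹) * g) * x * g⁻¹ * x⁻¹ := by rw [hzc _ hc g]
      _ = (h * x * h⁻¹ * x⁻¹) * (g * x * g⁻¹ * x⁻¹) := by group
      _ = _ := (hzc _ hc _).symm
  have hcentX : ∀ x ∈ X, ∀ g h : P,
      (g * g) * x = x * (g * g) ∧ (g * h * g⁻¹ * h⁻¹) * x = x * (g * h * g⁻¹ * h⁻¹) := by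
    intro x hx g h
    have hcx := (mem_upper.mp hx).2
    let φ : P →* P := MonoidHom.mk' (fun g => g * x * g⁻¹ * x⁻¹) (hXhom x hx)
    have h1 : φ (g * g) = 1 := by rw [map_mul]; exact hzsq _ (hcx g)
    have h2 : φ (g * h * g⁻¹ * h⁻¹) = 1 := by
      rw [map_mul, map_mul, map_mul, map_inv, map_inv]
      rw [show φ g * φ h = φ h * φ g from (hzc _ (hcx g) (φ h)).symm]
      group
    exact ⟨mul_inv_eq_iff_eq_mul.mp (mul_inv_eq_one.mp h1), mul_inv_eq_iff_eq_mul.mp (mul_inv_eq_one.mp h2)⟩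
  set Y := upper X with hY
  have hYk := upper_inv X hXk
  -- the centre of `X`
  set D := X ⊓ Subgroup.centralizer (X : Set P) with hD
  have memD : ∀ d, d ∈ D ↔ d ∈ X ∧ ∀ x ∈ X, x * d = d * x := fun d => Iff.rfl
  have hDk : ∀ k ∈ K, ∀ d ∈ D, k d ∈ D := by
    intro k hk d hd
    rw [memD] at hd ⊢
    refine ⟨hXk k hk d hd.1, fun x hx => ?_⟩
    have := congrArg k (hd.2 _ (hXk k⁻¹ (K.inv_mem hk) x hx))
    simpa [map_mul] using this
  have hDc : ∀ a ∈ D, ∀ b ∈ D, a * b = b * a := fun a ha b hb => ((memD b).mp hb).2 a ha.1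
  have hZD : Z ≤ D := fun v hv => (memD v).mpr ⟨le_upper Z hv, fun x _ => hzc v hv x⟩
  have hsqD : ∀ y ∈ Y, y * y ∈ D := fun y hy =>
    (memD _).mpr ⟨(mem_upper.mp hy).1, fun x hx => ((hcentX x hx y y).1).symm⟩
  have hcD : ∀ g, ∀ y ∈ Y, g * y * g⁻¹ * y⁻¹ ∈ D := fun g y hy =>
    (memD _).mpr ⟨(mem_upper.mp hy).2 g, fun x hx => ((hcentX x hx g y).2).symm⟩
  have hYX : ¬ Y ≤ X := upper_ne hS.two X hXtop
  by_cases hDZ : D ≤ Z
  · exact hYX fun y hy => mem_upper.mpr ⟨hDZ (hsqD y hy), fun g => hDZ (hcD g y hy)⟩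
  -- squaring identifies `D` modulo `Z` with `Z`
  let π : D →* P := MonoidHom.mk' (fun d => (d : P) * d) fun a b => by
    calc (a : P) * b * ((a : P) * b) = a * ((b : P) * a) * b := by group
      _ = a * ((a : P) * b) * b := by rw [hDc _ b.2 _ a.2]
      _ = (a : P) * a * ((b : P) * b) := by group
  have hπZ : π.range = Z := by
    refine hS.irreducible _ ?_ ?_ ?_
    · rintro _ ⟨d, rfl⟩; exact (mem_upper.mp d.2.1).1
    · rintro k hk _ ⟨d, rfl⟩; exact ⟨⟨k d, hDk k hk d d.2⟩, (map_mul k _ _).symm⟩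
    · intro h
      apply hDZ
      intro d hd
      have : π ⟨d, hd⟩ ∈ π.range := ⟨_, rfl⟩
      rwa [h, Subgroup.mem_bot] at this
  have hroot : ∀ v : Z, ∃ d ∈ D, d * d = (v : P) := fun v => by
    obtain ⟨d, hd⟩ : (v : P) ∈ π.range := hπZ.symm ▸ v.2
    exact ⟨d, d.2, hd⟩
  choose rt hrtD hrt using hroot
  -- the field
  letI : CommGroup Z :=
    { (inferInstance : Group Z) with mul_comm := fun a b => Subtype.ext (hzc b b.2 a) }
  obtain ⟨x₀, -, -, hx₀, hx₀2, -, -⟩ := hS.nontriv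
  haveI : Nontrivial Z := ⟨⟨x₀, hx₀2⟩, 1, fun h => hx₀ (congrArg Subtype.val h)⟩
  letI : DistribMulAction K (Additive Z) :=
    { smul := fun k v => Additive.ofMul ⟨(k : MulAut P) (v.toMul : P), hZk k k.2 _ v.toMul.2⟩
      one_smul := fun v => rfl
      mul_smul := fun a b v => rfl
      smul_zero := fun k => congrArg Additive.ofMul (Subtype.ext (map_one (k : MulAut P)))
      smul_add := fun k u v => congrArg Additive.ofMul (Subtype.ext (map_mul (k : MulAut P) _ _)) }
  obtain ⟨F, hF, hFfin, e, lam, hlam, hel⟩ := SuzukiField.exists_field (V := Additive Z) (K := K)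
    (fun a b => Subtype.ext (hS.comm a a.2 b b.2)) (by
      intro v w hv hw
      obtain ⟨k, hk, hkv⟩ := hS.trans (v.toMul : P) (w.toMul : P)
        (fun h => hv (by rw [← ofMul_toMul v, show v.toMul = 1 from Subtype.ext h]; rfl)) v.toMul.2
        (fun h => hw (by rw [← ofMul_toMul w, show w.toMul = 1 from Subtype.ext h]; rfl)) w.toMul.2
      exact ⟨⟨k, hk⟩, congrArg Additive.ofMul (Subtype.ext hkv)⟩)
  have hchar : ∀ t : F, t + t = 0 := fun t => e.injective (by
    rw [map_add, map_zero]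
    exact congrArg Additive.ofMul (Subtype.ext ((e t).toMul.2 : _ = _)))
  haveI : CharP F 2 := CharTwo.of_one_ne_zero_of_two_eq_zero one_ne_zero
    (by rw [← one_add_one_eq_two]; exact hchar 1)
  obtain ⟨n, hn⟩ := (IsPGroup.iff_card (p := 2)).mp (hS.two.to_subgroup Z)
  have hq : Nat.card F = 2 ^ n := by
    rw [← hn]; exact Nat.card_congr (e.toEquiv.trans Additive.toMul)
  let val : F → P := fun t => ((e t).toMul : P)
  have hval : ∀ s t, val (s + t) = val s * val t := fun s t => by simp [val, map_add]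
  have hvalinj : Function.Injective val := fun s t h =>
    e.injective (Additive.toMul.injective (Subtype.ext h))
  have hvalZ : ∀ t, val t ∈ Z := fun t => (e t).toMul.2
  have hval0 : val 0 = 1 := by simp [val]
  let lift : ∀ v : P, v ∈ Z → F := fun v hv => e.symm (Additive.ofMul ⟨v, hv⟩)
  have hlift : ∀ v hv, val (lift v hv) = v := fun v hv => by simp [val, lift]
  have hvk : ∀ (k : K) t, val ((lam k : F) * t) = (k : MulAut P) (val t) := fun k t => by
    show ((e ((lam k : F) * t)).toMul : P) = _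
    rw [hel]; rfl
  -- the action of `P` on `D`
  have hcomD : ∀ g, ∀ d ∈ D, g * d * g⁻¹ * d⁻¹ ∈ Z := fun g d hd => (mem_upper.mp hd.1).2 g
  have hdelta : ∀ g, ∀ a ∈ D, ∀ b ∈ D, g * (a * b) * g⁻¹ * (a * b)⁻¹
      = (g * a * g⁻¹ * a⁻¹) * (g * b * g⁻¹ * b⁻¹) := by
    intro g a _ b hb
    calc g * (a * b) * g⁻¹ * (a * b)⁻¹
        = (g * a * g⁻¹) * ((g * b * g⁻¹ * b⁻¹) * a⁻¹) := by group
      _ = (g * a * g⁻¹) * (a⁻¹ * (g * b * g⁻¹ * b⁻¹)) := by rw [hzc _ (hcomD g b hb) a⁻¹]
      _ = _ := by group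
  have hwd : ∀ g, ∀ a ∈ D, ∀ b ∈ D, a * a = b * b → g * a * g⁻¹ * a⁻¹ = g * b * g⁻¹ * b⁻¹ := by
    intro g a ha b hb hab
    have hab' : a * b⁻¹ ∈ Z := by
      show a * b⁻¹ * (a * b⁻¹) = 1
      calc a * b⁻¹ * (a * b⁻¹) = a * (b⁻¹ * a) * b⁻¹ := by group
        _ = a * (a * b⁻¹) * b⁻¹ := by rw [hDc _ (D.inv_mem hb) _ ha]
        _ = (a * a) * (b * b)⁻¹ := by group
        _ = 1 := by rw [hab, mul_inv_cancel]
    have h1 := hdelta g (a * b⁻¹) (hZD hab') b hb
    rw [inv_mul_cancel_right, delta_inv_eq_one hS g hab', one_mul] at h1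
    exact h1
  have hdmem : ∀ g t, g * rt (e t).toMul * g⁻¹ * (rt (e t).toMul)⁻¹ ∈ Z := fun g t =>
    hcomD g _ (hrtD _)
  let E : P → F →+ F := fun g => AddMonoidHom.mk' (fun t => lift _ (hdmem g t)) fun s t => by
    refine hvalinj ?_
    rw [hlift, hval, hlift, hlift, ← hdelta g _ (hrtD _) _ (hrtD _)]
    refine hwd g _ (hrtD _) _ (D.mul_mem (hrtD _) (hrtD _)) ?_
    rw [hrt]
    have := π.map_mul ⟨rt (e s).toMul, hrtD _⟩ ⟨rt (e t).toMul, hrtD _⟩
    simp only [π, MonoidHom.mk'_apply, Subgroup.coe_mul] at this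
    rw [this, hrt, hrt]
    exact hval s t
  have hE : ∀ g, ∀ d ∈ D, ∀ t, d * d = val t → val (E g t) = g * d * g⁻¹ * d⁻¹ := by
    intro g d hd t h
    show val (lift _ (hdmem g t)) = _
    rw [hlift]
    exact hwd g _ (hrtD _) d hd (by rw [hrt]; exact h.symm)
  have hEv : ∀ g t, val (E g t) = g * rt (e t).toMul * g⁻¹ * (rt (e t).toMul)⁻¹ := fun g t =>
    hlift _ (hdmem g t)
  have hEadd : ∀ g h, E (g * h) = E g + E h := fun g h => AddMonoidHom.ext fun t => by
    refine hvalinj ?_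
    rw [AddMonoidHom.add_apply, hval, hEv, hEv, hEv]
    exact hXhom _ (hrtD _).1 g h
  have hE1 : E 1 = 0 := AddMonoidHom.ext fun t => hvalinj (by rw [hEv, AddMonoidHom.zero_apply, hval0]; group)
  have hEk : ∀ (k : K) g t, val (E ((k : MulAut P) g) ((lam k : F) * t)) = (k : MulAut P) (val (E g t)) := by
    intro k g t
    rw [hE _ _ (hDk k k.2 _ (hrtD (e t).toMul)) _ (by rw [← map_mul, hrt, hvk]), hEv]
    simp [map_mul, map_inv]
  have hEX : ∀ x ∈ X, E x = 0 := fun x hx => AddMonoidHom.ext fun t => hvalinj (by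
    rw [hEv, AddMonoidHom.zero_apply, hval0, ((memD _).mp (hrtD (e t).toMul)).2 x hx]; group)
  -- a minimal invariant subgroup above `X`
  obtain ⟨Y1, ⟨hXY1, hY1Y, hY1k, hY1X⟩, hmin⟩ :=
    (Set.toFinite {W : Subgroup P | X ≤ W ∧ W ≤ Y ∧ (∀ k ∈ K, ∀ w ∈ W, k w ∈ W) ∧ ¬ W ≤ X}).exists_minimal
      ⟨Y, le_upper X, le_rfl, hYk, hYX⟩
  have hY1n : Y1.Normal := normal_of_le_upper X Y1 hXY1 hY1Y
  have hdich : ∀ W : Subgroup P, X ≤ W → W ≤ Y1 → (∀ k ∈ K, ∀ w ∈ W, k w ∈ W) → W ≤ X ∨ Y1 ≤ W := by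
    intro W h1 h2 h3
    by_cases h : W ≤ X
    · exact Or.inl h
    · exact Or.inr (hmin ⟨h1, h2.trans hY1Y, h3, h⟩ h2)
  by_cases hM0 : ∀ y ∈ Y1, E y = 0
  · -- `Y1` centralizes `D`
    have hcent : ∀ y ∈ Y1, ∀ d ∈ D, y * d = d * y := by
      intro y hy d hd
      have h := hE y d hd (lift (d * d) (mem_upper.mp hd.1).1) (hlift _ _).symm
      rw [hM0 y hy, AddMonoidHom.zero_apply, hval0] at h
      exact mul_inv_eq_iff_eq_mul.mp (mul_inv_eq_one.mp h.symm)
    by_cases hsq : ∀ y ∈ Y1, y * y ∈ Z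
    · apply hY1X
      intro y hy
      refine mem_upper.mpr ⟨hsq y hy, fun g => ?_⟩
      set c := g * y * g⁻¹ * y⁻¹ with hc
      have hcd := hcD g y (hY1Y hy)
      show c * c = 1
      calc c * c = c * (y * c * y⁻¹) := by rw [hcent y hy c hcd]; group
        _ = g * (y * y) * g⁻¹ * (y * y)⁻¹ := by rw [hc]; group
        _ = 1 := delta_inv_eq_one hS g (hsq y hy)
    · push Not at hsq
      obtain ⟨y, hy, hyy⟩ := hsq
      have hd := hsqD y (hY1Y hy)
      have hy4 : y ^ 4 ≠ 1 := fun h => hyy (by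
        show y * y * (y * y) = 1
        rw [← h]; simp [pow_succ, mul_assoc])
      have hab : ∀ a ∈ Y1, ∀ b ∈ Y1, a * b = b * a := by
        by_contra h
        push Not at h
        obtain ⟨a, ha, b, hb, hab⟩ := h
        obtain ⟨L, hL⟩ := exists_setting_sub hS Y1 hY1k ((le_upper Z).trans hXY1)
        have h2 := hL.center_sq ⟨⟨a, ha⟩, ⟨b, hb⟩, fun h => hab (congrArg Subtype.val h)⟩
          ⟨y * y, hXY1 hd.1⟩ (Subgroup.mem_center_iff.mpr fun w => Subtype.ext (hcent w w.2 _ hd))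
        exact hyy (congrArg Subtype.val h2)
      exact no_big_abelian hS hna Y1 hY1n hY1k hab ((le_upper Z).trans hXY1) ⟨y, hy, hy4⟩
  -- the image is a twisted family
  push Not at hM0
  let M : AddSubgroup (F →+ F) :=
    { carrier := E '' (Y1 : Set P)
      zero_mem' := ⟨1, Y1.one_mem, hE1⟩
      add_mem' := by
        rintro _ _ ⟨a, ha, rfl⟩ ⟨b, hb, rfl⟩
        exact ⟨a * b, Y1.mul_mem ha hb, hEadd a b⟩
      neg_mem' := by
        rintro _ ⟨a, ha, rfl⟩
        refine ⟨a⁻¹, Y1.inv_mem ha, ?_⟩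
        have := hEadd a⁻¹ a
        rw [inv_mul_cancel, hE1] at this
        exact eq_neg_of_add_eq_zero_left this.symm }
  let cj : Fˣ → (F →+ F) → (F →+ F) := fun μ f =>
    ((AddMonoidHom.mulLeft (μ : F)).comp f).comp (AddMonoidHom.mulLeft ((μ⁻¹ : Fˣ) : F))
  have hcjE : ∀ (k : K) y, cj (lam k) (E y) = E ((k : MulAut P) y) := by
    intro k y
    refine AddMonoidHom.ext fun t => hvalinj ?_
    show val ((lam k : F) * E y (((lam k)⁻¹ : Fˣ) * t)) = _
    rw [hvk, ← hEk, Units.mul_inv_cancel_left]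
  have hker : ∀ y ∈ Y1, E y = 0 → y ∈ X := by
    let W : Subgroup P :=
      { carrier := {y | y ∈ Y1 ∧ E y = 0}
        one_mem' := ⟨Y1.one_mem, hE1⟩
        mul_mem' := fun {a b} ha hb => ⟨Y1.mul_mem ha.1 hb.1, by rw [hEadd, ha.2, hb.2, add_zero]⟩
        inv_mem' := fun {a} ha => ⟨Y1.inv_mem ha.1, by
          have := hEadd a⁻¹ a
          rw [inv_mul_cancel, hE1, ha.2, add_zero] at this
          exact this.symm⟩ }
    have hWX : W ≤ X := by
      refine (hdich W (fun x hx => ⟨hXY1 hx, hEX x hx⟩) (fun y hy => hy.1) fun k hk w hw =>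
        ⟨hY1k k hk w hw.1, ?_⟩).resolve_right fun h => ?_
      · rw [← hcjE ⟨k, hk⟩, hw.2]; exact AddMonoidHom.ext fun t => by simp [cj]
      · obtain ⟨y, hy, hy0⟩ := hM0
        exact hy0 (h hy).2
    exact fun y hy h => hWX ⟨hy, h⟩
  have hfam := SuzukiField.twisted_family hq M cj (fun μ f v => rfl)
    (fun μ => by
      obtain ⟨k, rfl⟩ := hlam μ
      rintro _ ⟨y, hy, rfl⟩
      exact ⟨_, hY1k k k.2 y hy, (hcjE k y).symm⟩)
    (fun N hN hNinv => by
      let W : Subgroup P :=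
        { carrier := {y | y ∈ Y1 ∧ E y ∈ N}
          one_mem' := ⟨Y1.one_mem, by rw [hE1]; exact N.zero_mem⟩
          mul_mem' := fun {a b} ha hb => ⟨Y1.mul_mem ha.1 hb.1, by rw [hEadd]; exact N.add_mem ha.2 hb.2⟩
          inv_mem' := fun {a} ha => ⟨Y1.inv_mem ha.1, by
            have := hEadd a⁻¹ a
            rw [inv_mul_cancel, hE1] at this
            rw [eq_neg_of_add_eq_zero_left this.symm]; exact N.neg_mem ha.2⟩ }
      rcases hdich W (fun x hx => ⟨hXY1 hx, by rw [hEX x hx]; exact N.zero_mem⟩) (fun y hy => hy.1)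
        (fun k hk w hw => ⟨hY1k k hk w hw.1, by rw [← hcjE ⟨k, hk⟩]; exact hNinv _ _ hw.2⟩) with h | h
      · left
        rw [AddSubgroup.eq_bot_iff_forall]
        intro f hf
        obtain ⟨y, hy, rfl⟩ := hN hf
        exact hEX y (h ⟨hy, hf⟩)
      · right
        refine le_antisymm hN ?_
        rintro _ ⟨y, hy, rfl⟩
        exact (h hy).2)
    (fun μ f hf hf0 hfix => by
      obtain ⟨k, rfl⟩ := hlam μ
      obtain ⟨y, hy, rfl⟩ := hf
      rw [hcjE] at hfix
      by_contra hne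
      have hk1 : (k : MulAut P) ≠ 1 := by
        intro h
        apply hne
        have he : e ((lam k : F) * 1) = e 1 := by
          rw [hel, show k = 1 from Subtype.ext h, one_smul]
        have := e.injective he
        rw [mul_one] at this
        exact Units.ext this
      apply hf0
      refine hEX y (mem_of_fixed_coset hS X hXk k.2 hk1 (hker _ (Y1.mul_mem (Y1.inv_mem hy) (hY1k k k.2 y hy)) ?_))
      have h1 := hEadd y⁻¹ y
      rw [inv_mul_cancel, hE1] at h1
      rw [hEadd, hfix, ← h1])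
  have hinjE : ∀ y ∈ Y1, y ∉ X → ∀ t, E y t = 0 → t = 0 := fun y hy hyX =>
    (hfam _ ⟨y, hy, rfl⟩ fun h => hyX (hker y hy h)).1
  -- squares are central
  have hsq : ∀ y ∈ Y1, y * y ∈ Z := by
    intro y hy
    by_cases hyX : y ∈ X
    · exact (mem_upper.mp hyX).1
    have hd := hsqD y (hY1Y hy)
    have hdd : y * y * (y * y) ∈ Z := (mem_upper.mp hd.1).1
    have h := hE y _ hd (lift _ hdd) (hlift _ _).symm
    have h0 : val (E y (lift _ hdd)) = val 0 := by rw [h, hval0]; group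
    have := hinjE y hy hyX _ (hvalinj h0)
    have h1 := hlift _ hdd
    rw [this, hval0] at h1
    exact h1.symm
  -- the value of a commutator
  have hc4 : ∀ g, ∀ y ∈ Y1, (g * y * g⁻¹ * y⁻¹) * (g * y * g⁻¹ * y⁻¹) ∈ Z := fun g y hy =>
    (mem_upper.mp (hcD g y (hY1Y hy)).1).1
  let b : P → Y1 → F := fun g y => lift _ (hc4 g y y.2)
  have hconjsq : ∀ (a : P) c, c * c ∈ Z → (a * c * a⁻¹) * (a * c * a⁻¹) = c * c := fun a c h => by
    calc (a * c * a⁻¹) * (a * c * a⁻¹) = a * (c * c) * a⁻¹ := by group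
      _ = c * c := by rw [hzc _ h a]; group
  have hfixb : ∀ g (y : Y1), E y (b g y) = b g y := by
    intro g y
    refine hvalinj ?_
    set c := g * y * g⁻¹ * (y : P)⁻¹ with hc
    have hcd := hcD g y (hY1Y y.2)
    have hzero : c * (y * c * (y : P)⁻¹) = 1 :=
      calc c * (y * c * (y : P)⁻¹) = g * ((y : P) * y) * g⁻¹ * ((y : P) * y)⁻¹ := by rw [hc]; group
        _ = 1 := delta_inv_eq_one hS g (hsq y y.2)
    rw [hE y c hcd _ (hlift _ _).symm, hlift]
    have hcyc := hcomD y c hcd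
    have h1 : c * ((y * c * (y : P)⁻¹ * c⁻¹) * c) = 1 := by rw [← hzero]; group
    rw [← mul_assoc, hzc _ hcyc c, mul_assoc] at h1
    calc (y : P) * c * (y : P)⁻¹ * c⁻¹ = (c * c)⁻¹ := eq_inv_of_mul_eq_one_left h1
      _ = c * c := inv_eq_of_mul_eq_one_left (hc4 g y y.2)
  have hbadd : ∀ g (y y' : Y1), b g (y * y') = b g y + b g y' := by
    intro g y y'
    refine hvalinj ?_
    rw [hlift, hval, hlift, hlift, Subgroup.coe_mul]
    set c := g * y * g⁻¹ * (y : P)⁻¹
    set c' := g * y' * g⁻¹ * (y' : P)⁻¹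
    rw [show g * ((y : P) * y') * g⁻¹ * ((y : P) * y')⁻¹ = c * (y * c' * (y : P)⁻¹) by
      simp only [c, c']; group]
    have hcd := hcD g y (hY1Y y.2)
    have hcd' := hcD g y' (hY1Y y'.2)
    have hcy : y * c' * (y : P)⁻¹ ∈ D := by
      have := D.mul_mem (hZD (hcomD y c' hcd')) hcd'
      rwa [inv_mul_cancel_right] at this
    rw [← hconjsq y c' (hc4 g y' y'.2)]
    exact π.map_mul ⟨c, hcd⟩ ⟨_, hcy⟩
  have hbgadd : ∀ g h (y : Y1), b (g * h) y = b g y + b h y := by
    intro g h y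
    refine hvalinj ?_
    rw [hlift, hval, hlift, hlift]
    set c := g * y * g⁻¹ * (y : P)⁻¹
    set c' := h * y * h⁻¹ * (y : P)⁻¹
    rw [show g * h * (y : P) * (g * h)⁻¹ * (y : P)⁻¹ = (g * c' * g⁻¹) * c by simp only [c, c']; group]
    have hcd := hcD g y (hY1Y y.2)
    have hcd' := hcD h y (hY1Y y.2)
    have hcg : g * c' * g⁻¹ ∈ D := by
      have := D.mul_mem (hZD (hcomD g c' hcd')) hcd'
      rwa [inv_mul_cancel_right] at this
    rw [hzc _ (hc4 h y y.2) (c * c), ← hconjsq g c' (hc4 h y y.2)]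
    exact π.map_mul ⟨_, hcg⟩ ⟨c, hcd⟩
  have hball : ∀ g (y y' : Y1), (y : P) ∉ X → (y' : P) ∉ X → b g y ≠ 0 → b g y' ≠ 0 := by
    intro g y y' _ hy' hb h0
    have h1 := hfixb g (y * y')
    rw [hbadd, h0, add_zero, Subgroup.coe_mul, hEadd, AddMonoidHom.add_apply, hfixb g y] at h1
    exact hb (hinjE y' y'.2 hy' _ (add_eq_left.mp h1))
  obtain ⟨y₀, hy₀, hy₀X⟩ : ∃ y ∈ Y1, y ∉ X := by
    by_contra h; push Not at h; exact hY1X h
  have hb0 : ∀ g (y : Y1), (y : P) ∈ X → b g y = 0 := by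
    intro g y hy
    refine hvalinj ?_
    rw [hlift, hval0]
    exact hzsq _ ((mem_upper.mp hy).2 g)
  let P0 : Subgroup P :=
    { carrier := {g | ∀ y, b g y = 0}
      one_mem' := fun y => by
        have := hbgadd 1 1 y
        rwa [one_mul, left_eq_add] at this
      mul_mem' := fun {a c} ha hc y => by rw [hbgadd, ha y, hc y, add_zero]
      inv_mem' := fun {a} ha y => by
        have := hbgadd a⁻¹ a y
        rw [inv_mul_cancel, ha y, add_zero] at this
        rw [← this]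
        have h2 := hbgadd 1 1 y
        rwa [one_mul, left_eq_add] at h2 }
  have hbk : ∀ (k : K) g (y : Y1), b ((k : MulAut P) g) ⟨(k : MulAut P) y, hY1k k k.2 y y.2⟩
      = (lam k : F) * b g y := by
    intro k g y
    refine hvalinj ?_
    rw [hlift, hvk, hlift]
    simp [map_mul, map_inv]
  have hP0k : ∀ k ∈ K, ∀ g ∈ P0, k g ∈ P0 := by
    intro k hk g hg y
    have h := hbk ⟨k, hk⟩ g ⟨k⁻¹ (y : P), hY1k _ (K.inv_mem hk) y y.2⟩
    rw [hg, mul_zero] at h
    simpa using h
  have hnon : ∀ g, g ∉ P0 → ∀ y : Y1, (y : P) ∉ X → b g y ≠ 0 := by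
    intro g hg y hy
    obtain ⟨y', hy'⟩ : ∃ y', b g y' ≠ 0 := by
      by_contra h; push Not at h; exact hg h
    exact hball g y' y (fun h => hy' (hb0 g y' h)) hy hy'
  have hsame : ∀ g h, g ∉ P0 → h ∉ P0 → g * h ∈ P0 := by
    intro g h hg hh y
    by_cases hy : (y : P) ∈ X
    · exact hb0 _ y hy
    rw [hbgadd, (hfam _ ⟨y, y.2, rfl⟩ fun h0 => hy (hker y y.2 h0)).2 _ _ (hnon g hg y hy) (hnon h hh y hy)
      (hfixb g y) (hfixb h y)]
    exact hchar _
  have hP0top : ∀ g, g ∈ P0 := by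
    intro g
    by_contra hg
    obtain ⟨k, hk, r, hr, -, hkr⟩ := hS.exists_odd_prime
    have hk1 : k ≠ 1 := fun h => hr.one_lt.ne (by rw [← hkr, h, orderOf_one])
    refine hg (mem_of_fixed_coset hS P0 hP0k hk hk1 (hsame g⁻¹ (k g) (fun h => hg (by simpa using P0.inv_mem h)) ?_))
    intro h
    have := hP0k k⁻¹ (K.inv_mem hk) _ h
    exact hg (by simpa using this)
  refine hy₀X (mem_upper.mpr ⟨hsq y₀ hy₀, fun g => ?_⟩)
  have h := hlift _ (hc4 g y₀ hy₀)
  show _ * _ = (1 : P)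
  rw [← h, ← hval0]
  exact congrArg val (hP0top g ⟨y₀, hy₀⟩)

end CfsgLib.SuzukiQuotient

namespace CfsgLib.SuzukiQuotient

open CfsgLib.SuzukiCenter

variable {P : Type*} [Group P] [Finite P] {K : Subgroup (MulAut P)}

/-- The centre consists of the involutions and the identity. -/
theorem center_eq (hS : Setting K) (hna : ∃ x y : P, x * y ≠ y * x) : Subgroup.center P = hS.inv :=
  le_antisymm (fun z hz => hS.center_sq hna z hz)
    fun v hv => Subgroup.mem_center_iff.mpr fun g => hS.central v hv g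

/-- **Higman.** The order is the square or the cube of the number of involutions plus one. -/
theorem card_cases (hS : Setting K) (hna : ∃ x y : P, x * y ≠ y * x) :
    Nat.card P = Nat.card hS.inv ^ 2 ∨ Nat.card P = Nat.card hS.inv ^ 3 := by
  classical
  have hh := upper_inv_eq_top hS hna
  haveI : hS.inv.Normal := inv_normal hS
  haveI : Fact (Nat.Prime 2) := ⟨Nat.prime_two⟩
  set Z := hS.inv with hZ
  have hzc : ∀ v ∈ Z, ∀ g : P, g * v = v * g := fun v hv g => hS.central v hv g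
  letI : CommGroup Z :=
    { (inferInstance : Group Z) with mul_comm := fun a b => Subtype.ext (hzc b b.2 a) }
  have hqc : ∀ a b : P ⧸ Z, a * b = b * a := by
    intro a b
    obtain ⟨x, rfl⟩ := QuotientGroup.mk'_surjective Z a
    obtain ⟨y, rfl⟩ := QuotientGroup.mk'_surjective Z b
    have h := (QuotientGroup.eq_one_iff _).mpr ((hh y).2 x)
    simp only [QuotientGroup.mk_mul, QuotientGroup.mk_inv, mul_inv_eq_iff_eq_mul] at h
    simpa using h
  letI : CommGroup (P ⧸ Z) := { (inferInstance : Group (P ⧸ Z)) with mul_comm := hqc }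
  have hsqwd : ∀ x, ∀ v ∈ Z, (x * v) * (x * v) = x * x := fun x v hv => by
    calc x * v * (x * v) = x * (v * x) * v := by group
      _ = x * (x * v) * v := by rw [hzc v hv x]
      _ = x * x * (v * v) := by group
      _ = x * x := by rw [show v * v = 1 from hv, mul_one]
  let s : P ⧸ Z → Z := fun q => ⟨q.out * q.out, (hh q.out).1⟩
  have hs : ∀ x : P, (s x : P) = x * x := by
    intro x
    obtain ⟨v, hv⟩ := QuotientGroup.mk_out_eq_mul Z x
    show ((x : P ⧸ Z).out) * _ = _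
    rw [hv, hsqwd x v v.2]
  let β : P ⧸ Z → P ⧸ Z → Z := fun a b => ⟨b.out * a.out * b.out⁻¹ * a.out⁻¹, (hh a.out).2 b.out⟩
  have hβ : ∀ x y : P, (β x y : P) = y * x * y⁻¹ * x⁻¹ := by
    intro x y
    obtain ⟨⟨v, hvZ⟩, hv⟩ := QuotientGroup.mk_out_eq_mul Z x
    obtain ⟨⟨w, hwZ⟩, hw⟩ := QuotientGroup.mk_out_eq_mul Z y
    show (y : P ⧸ Z).out * (x : P ⧸ Z).out * ((y : P ⧸ Z).out)⁻¹ * ((x : P ⧸ Z).out)⁻¹ = _
    rw [hv, hw]
    calc y * w * (x * v) * (y * w)⁻¹ * (x * v)⁻¹
        = y * (w * x) * (v * w⁻¹) * y⁻¹ * v⁻¹ * x⁻¹ := by group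
      _ = y * (x * w) * (v * w⁻¹) * y⁻¹ * v⁻¹ * x⁻¹ := by rw [hzc w hwZ x]
      _ = y * x * (w * v * w⁻¹ * y⁻¹) * v⁻¹ * x⁻¹ := by group
      _ = y * x * (v * y⁻¹) * v⁻¹ * x⁻¹ := by rw [hzc v hvZ w]; group
      _ = y * x * (y⁻¹ * v) * v⁻¹ * x⁻¹ := by rw [hzc v hvZ y⁻¹]
      _ = y * x * y⁻¹ * x⁻¹ := by group
  have hG2 : ∀ a : P ⧸ Z, a * a = 1 := by
    intro a
    obtain ⟨x, rfl⟩ := QuotientGroup.mk'_surjective Z a
    rw [← map_mul]; exact (QuotientGroup.eq_one_iff _).mpr (hh x).1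
  have haniso : ∀ a : P ⧸ Z, s a = 1 ↔ a = 1 := by
    intro a
    obtain ⟨x, rfl⟩ := QuotientGroup.mk'_surjective Z a
    rw [QuotientGroup.mk'_apply, QuotientGroup.eq_one_iff, Subtype.ext_iff, hs]
    exact Iff.rfl
  have hle : Nat.card (P ⧸ Z) ≤ Nat.card Z ^ 2 := by
    refine card_le_sq hG2 (fun v => Subtype.ext v.2) s β ?_ ?_ haniso
    · intro a b
      obtain ⟨x, rfl⟩ := QuotientGroup.mk'_surjective Z a
      obtain ⟨y, rfl⟩ := QuotientGroup.mk'_surjective Z b
      refine Subtype.ext ?_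
      rw [← map_mul, Subgroup.coe_mul, Subgroup.coe_mul]
      simp only [QuotientGroup.mk'_apply]
      rw [hs, hs, hs, hβ]
      have hc := (hh x).2 y
      calc x * y * (x * y) = x * (y * x * y⁻¹ * x⁻¹) * x * (y * y) := by group
        _ = (y * x * y⁻¹ * x⁻¹) * x * x * (y * y) := by rw [hzc _ hc x]
        _ = (y * x * y⁻¹ * x⁻¹) * (x * x * (y * y)) := by group
        _ = _ := (hzc _ hc _).symm
    · intro a b c
      obtain ⟨x, rfl⟩ := QuotientGroup.mk'_surjective Z a
      obtain ⟨y, rfl⟩ := QuotientGroup.mk'_surjective Z b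
      obtain ⟨w, rfl⟩ := QuotientGroup.mk'_surjective Z c
      refine Subtype.ext ?_
      rw [← map_mul, Subgroup.coe_mul]
      simp only [QuotientGroup.mk'_apply]
      rw [hβ, hβ, hβ]
      have hc := (hh y).2 w
      calc w * (x * y) * w⁻¹ * (x * y)⁻¹
          = (w * x * w⁻¹ * x⁻¹) * (x * (w * y * w⁻¹ * y⁻¹)) * x⁻¹ := by group
        _ = (w * x * w⁻¹ * x⁻¹) * ((w * y * w⁻¹ * y⁻¹) * x) * x⁻¹ := by rw [hzc _ hc x]
        _ = _ := by group
  -- fibres
  obtain ⟨v₀, -, -, hv₀, hv₀2, -, -⟩ := hS.nontriv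
  have hZk : ∀ k ∈ K, ∀ a ∈ Z, k a ∈ Z := fun k _ a ha => by
    show k a * k a = 1
    rw [← map_mul, show a * a = 1 from ha, map_one]
  let act : K → P ⧸ Z → P ⧸ Z := fun k => QuotientGroup.map Z Z (k : MulAut P).toMonoidHom
    (fun a ha => hZk k k.2 a ha)
  have hact : ∀ (k : K) (x : P), act k x = ((k : MulAut P) x : P ⧸ Z) := fun k x => rfl
  have hsk : ∀ (k : K) a, (s (act k a) : P) = (k : MulAut P) (s a) := by
    intro k a
    obtain ⟨x, rfl⟩ := QuotientGroup.mk'_surjective Z a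
    simp only [QuotientGroup.mk'_apply]
    rw [hact, hs, hs, map_mul]
  let Φ : K × {a : P ⧸ Z // (s a : P) = v₀} → {a : P ⧸ Z // a ≠ 1} := fun t =>
    ⟨act t.1 t.2.1, fun h => hv₀ (by
      have h1 := hsk t.1 t.2.1
      rw [h, t.2.2, (haniso 1).mpr rfl] at h1
      exact (map_eq_one_iff _ (t.1 : MulAut P).injective).mp h1.symm)⟩
  have hΦ : Function.Bijective Φ := by
    constructor
    · rintro ⟨k, a, ha⟩ ⟨l, b, hb⟩ h
      have h' : act k a = act l b := congrArg Subtype.val h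
      have h1 := hsk k a
      rw [h', hsk, ha, hb] at h1
      have hkl := hS.free ((l⁻¹ * k : K) : MulAut P) (l⁻¹ * k).2 v₀ hv₀ hv₀2 (by simp [← h1])
      have hkl' : l = k := inv_mul_eq_one.mp (Subtype.ext hkl)
      subst hkl'
      obtain ⟨x, rfl⟩ := QuotientGroup.mk'_surjective Z a
      obtain ⟨y, rfl⟩ := QuotientGroup.mk'_surjective Z b
      simp only [QuotientGroup.mk'_apply] at h' ⊢
      rw [hact, hact, QuotientGroup.eq] at h'
      refine Prod.ext rfl (Subtype.ext ?_)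
      rw [QuotientGroup.eq]
      have := hZk _ (K.inv_mem l.2) _ h'
      simpa [map_mul, map_inv] using this
    · rintro ⟨a, ha⟩
      obtain ⟨k, hk, hkv⟩ := hS.trans v₀ (s a : P) hv₀ hv₀2
        (fun h => ha ((haniso a).mp (Subtype.ext h))) (s a).2
      refine ⟨(⟨k, hk⟩, ⟨act ⟨k⁻¹, K.inv_mem hk⟩ a, ?_⟩), Subtype.ext ?_⟩
      · rw [hsk]; show k⁻¹ (s a : P) = v₀; rw [← hkv]; simp
      · obtain ⟨x, rfl⟩ := QuotientGroup.mk'_surjective Z a
        simp only [Φ, QuotientGroup.mk'_apply]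
        rw [hact, hact]; simp
  obtain ⟨n, hn⟩ := IsPGroup.iff_card.mp (hS.two.to_subgroup Z)
  obtain ⟨m, hm⟩ := IsPGroup.iff_card.mp (hS.two.to_quotient Z)
  have hmul : Nat.card P = 2 ^ n * 2 ^ m := by
    rw [← hn, ← hm, mul_comm]; exact Subgroup.card_eq_card_quotient_mul_card_subgroup Z
  have hcount : Nat.card K * Nat.card {a : P ⧸ Z // (s a : P) = v₀} + 1 = 2 ^ m := by
    haveI : Fintype (P ⧸ Z) := Fintype.ofFinite _
    rw [← Nat.card_prod, Nat.card_congr (Equiv.ofBijective Φ hΦ), ← hm,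
      Nat.card_eq_fintype_card (α := {a : P ⧸ Z // a ≠ 1}),
      Nat.card_eq_fintype_card (α := P ⧸ Z), Fintype.card_subtype_compl, Fintype.card_subtype_eq]
    have := Fintype.card_pos (α := P ⧸ Z)
    omega
  have hK := card_K hS
  rw [hn] at hK hle
  rw [hm, ← pow_mul] at hle
  have hmn : m ≤ n * 2 := (Nat.pow_le_pow_iff_right (by norm_num : 1 < 2)).mp hle
  set c := Nat.card {a : P ⧸ Z // (s a : P) = v₀}
  have hm0 : m ≠ 0 := by
    intro h0
    subst h0
    obtain ⟨x, y, hxy⟩ := hna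
    have h1 : ∀ g : P, g ∈ Z := by
      intro g
      haveI : Subsingleton (P ⧸ Z) := (Nat.card_eq_one_iff_unique.mp (by simpa using hm)).1
      exact (QuotientGroup.eq_one_iff g).mp (Subsingleton.elim _ _)
    exact hxy (hzc y (h1 y) x)
  have hc0 : c ≠ 0 := by
    intro h0
    rw [h0, mul_zero] at hcount
    exact hm0 (Nat.pow_right_injective le_rfl (show 2 ^ m = 2 ^ 0 by omega))
  have hnm : n ≤ m := by
    have h1 : Nat.card K ≤ Nat.card K * c := Nat.le_mul_of_pos_right _ (Nat.pos_of_ne_zero hc0)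
    exact (Nat.pow_le_pow_iff_right (by norm_num : 1 < 2)).mp (show 2 ^ n ≤ 2 ^ m by omega)
  rw [hn, hmul, ← pow_add, ← pow_mul, ← pow_mul]
  rcases eq_or_lt_of_le hnm with rfl | hlt
  · left; congr 1; omega
  rcases eq_or_lt_of_le hmn with rfl | hlt2
  · right; congr 1; omega
  exfalso
  obtain ⟨d, rfl⟩ : ∃ d, m = n + d := ⟨m - n, by omega⟩
  have hd1 : 2 ^ d < 2 ^ n := Nat.pow_lt_pow_right (by norm_num) (by omega)
  have hd2 : 2 ^ 1 ≤ 2 ^ d := Nat.pow_le_pow_right (by norm_num) (by omega)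
  have hdvd : Nat.card K ∣ 2 ^ d - 1 := by
    have h1 : 2 ^ d * Nat.card K + (2 ^ d - 1) = Nat.card K * c := by
      have : 2 ^ (n + d) = 2 ^ d * Nat.card K + 2 ^ d := by
        rw [pow_add, ← hK]; ring
      omega
    exact (Nat.dvd_add_right (Dvd.intro_left _ rfl)).mp (h1 ▸ Dvd.intro c rfl)
  have := Nat.le_of_dvd (by omega) hdvd
  omega

end CfsgLib.SuzukiQuotient
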