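import Mathlib
import Cfsg.Prelude.Def_LieRecognition
import Cfsg.Agent.Lib.PGroup.SuzukiQuotient

/-!
# Suzuki `2`-groups of order `q ^ 2` are of type A (Higman)

A central extension of `F` by `F` with given squaring map is unique up to isomorphism, and for a
Suzuki group of order `q ^ 2` the squaring map is `x ↦ x * φ x`.
-/

set_option autoImplicit false
set_option linter.style.haveILetI false
set_option linter.unusedSectionVars false

namespace CfsgLib.SuzukiTypeA

/-- A central extension of `F` by `F` with squaring map `q`. -/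
structure SqExt (P : Type*) [Group P] (F : Type*) [AddCommGroup F] (q : F → F) where
  /-- The quotient map. -/
  j : P →* Multiplicative F
  /-- The inclusion of the centre. -/
  ι : Multiplicative F →* P
  surj : Function.Surjective j
  inj : Function.Injective ι
  exact : ∀ p, j p = 1 ↔ p ∈ ι.range
  central : ∀ t p, p * ι t = ι t * p
  sq : ∀ p, p * p = ι (Multiplicative.ofAdd (q (j p).toAdd))

/-- Extensions with the same squaring map are isomorphic. -/
theorem SqExt.nonempty_mulEquiv {P Q F : Type*} [Group P] [Group Q] [Finite P] [Finite Q]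
    [AddCommGroup F] {q : F → F} (A : SqExt P F q) (B : SqExt Q F q) : Nonempty (P ≃* Q) := by
  classical
  let R : Subgroup (P × Q) := MonoidHom.eqLocus (A.j.comp (MonoidHom.fst P Q)) (B.j.comp (MonoidHom.snd P Q))
  have memR : ∀ x : P × Q, x ∈ R ↔ A.j x.1 = B.j x.2 := fun x => Iff.rfl
  set Δ := (A.ι.prod B.ι).range with hΔ
  set Z1 := (A.ι.prod (1 : Multiplicative F →* Q)).range with hZ1
  have hιj : ∀ t, A.j (A.ι t) = 1 := fun t => (A.exact _).mpr ⟨t, rfl⟩
  have hιj' : ∀ t, B.j (B.ι t) = 1 := fun t => (B.exact _).mpr ⟨t, rfl⟩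
  have hΔR : Δ ≤ R := by rintro _ ⟨t, rfl⟩; rw [memR]; exact (hιj t).trans (hιj' t).symm
  have hsq : ∀ x ∈ R, x * x ∈ Δ := fun x hx => ⟨Multiplicative.ofAdd (q (A.j x.1).toAdd),
    Prod.ext (A.sq x.1).symm (by
      show B.ι (Multiplicative.ofAdd (q (A.j x.1).toAdd)) = x.2 * x.2
      rw [B.sq x.2, (memR x).mp hx])⟩
  -- a subgroup containing `Δ` contains the commutators of `R`
  have hcomm : ∀ Γ : Subgroup (P × Q), Δ ≤ Γ → ∀ a ∈ R, ∀ b ∈ R, a * b * a⁻¹ * b⁻¹ ∈ Γ := by
    intro Γ hΓ a ha b hb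
    have h := Γ.mul_mem (Γ.mul_mem (hΓ (hsq a ha)) (hΓ (hsq _ (R.mul_mem (R.inv_mem ha) hb))))
      (Γ.inv_mem (hΓ (hsq b hb)))
    have e : a * a * (a⁻¹ * b * (a⁻¹ * b)) * (b * b)⁻¹ = a * b * a⁻¹ * b⁻¹ := by group
    rwa [e] at h
  obtain ⟨Γ, ⟨hΓΔ, hΓR, hΓZ⟩, hmax⟩ := (Set.toFinite {Γ : Subgroup (P × Q) | Δ ≤ Γ ∧ Γ ≤ R ∧ Γ ⊓ Z1 = ⊥}).exists_maximal
    ⟨Δ, le_rfl, hΔR, by
      rw [eq_bot_iff]
      rintro _ ⟨⟨t, rfl⟩, u, hu⟩
      have h2 : (1 : Q) = B.ι t := congrArg Prod.snd hu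
      have ht : t = 1 := B.inj (h2.symm.trans (map_one B.ι).symm)
      rw [Subgroup.mem_bot, ht, map_one]⟩
  -- `Γ` and `Z1` generate `R`
  have hgen : ∀ x ∈ R, ∃ γ ∈ Γ, ∃ z ∈ Z1, x = γ * z := by
    intro x hx
    by_contra hne
    push Not at hne
    have hconj : ∀ γ ∈ Γ, x * γ * x⁻¹ ∈ Γ := fun γ hγ => by
      have := Γ.mul_mem (hcomm Γ hΓΔ x hx γ (hΓR hγ)) hγ
      rwa [inv_mul_cancel_right] at this
    have hxx : x * x ∈ Γ := hΓΔ (hsq x hx)
    let Γ' : Subgroup (P × Q) :=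
      { carrier := {y | y ∈ Γ ∨ y * x⁻¹ ∈ Γ}
        one_mem' := Or.inl Γ.one_mem
        mul_mem' := fun {a b} ha hb => by
          rcases ha with ha | ha <;> rcases hb with hb | hb
          · exact Or.inl (Γ.mul_mem ha hb)
          · exact Or.inr (by rw [mul_assoc]; exact Γ.mul_mem ha hb)
          · refine Or.inr ?_
            have := Γ.mul_mem ha (hconj b hb)
            rwa [show a * x⁻¹ * (x * b * x⁻¹) = a * b * x⁻¹ by group] at this
          · refine Or.inl ?_
            have := Γ.mul_mem (Γ.mul_mem ha (hconj _ hb)) hxx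
            rwa [show a * x⁻¹ * (x * (b * x⁻¹) * x⁻¹) * (x * x) = a * b by group] at this
        inv_mem' := fun {a} ha => by
          rcases ha with ha | ha
          · exact Or.inl (Γ.inv_mem ha)
          · refine Or.inr ?_
            have := Γ.mul_mem (Γ.inv_mem hxx) (hconj _ (Γ.inv_mem ha))
            rwa [show (x * x)⁻¹ * (x * (a * x⁻¹)⁻¹ * x⁻¹) = x⁻¹ * (x * a⁻¹ * x⁻¹) by group,
              show x⁻¹ * (x * a⁻¹ * x⁻¹) = a⁻¹ * x⁻¹ by group] at this }
    have hΓ'Z : Γ' ⊓ Z1 = ⊥ := by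
      rw [eq_bot_iff]
      rintro y ⟨hy | hy, hyZ⟩
      · exact hΓZ ▸ ⟨hy, hyZ⟩
      · exact absurd (by group : x = (y * x⁻¹)⁻¹ * y) (hne _ (Γ.inv_mem hy) y hyZ)
    have hle : Γ' ≤ Γ := hmax ⟨fun y hy => Or.inl (hΓΔ hy), fun y hy => by
      rcases hy with hy | hy
      · exact hΓR hy
      · have := R.mul_mem (hΓR hy) hx
        rwa [inv_mul_cancel_right] at this, hΓ'Z⟩ (fun y hy => Or.inl hy)
    have hxΓ : x ∈ Γ := hle (Or.inr (by rw [mul_inv_cancel]; exact Γ.one_mem))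
    exact hne x hxΓ 1 Z1.one_mem (mul_one x).symm
  -- the projections are bijective
  let fP : Γ →* P := (MonoidHom.fst P Q).comp Γ.subtype
  let fQ : Γ →* Q := (MonoidHom.snd P Q).comp Γ.subtype
  have hPinj : Function.Injective fP := by
    rw [injective_iff_map_eq_one]
    rintro ⟨⟨p, r⟩, hx⟩ h
    change p = 1 at h
    subst h
    have h1 : A.j 1 = B.j r := hΓR hx
    rw [map_one] at h1
    obtain ⟨t, rfl⟩ := (B.exact r).mp h1.symm
    have hmem : ((A.ι t)⁻¹, (1 : Q)) ∈ Γ := by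
      have := Γ.mul_mem hx (Γ.inv_mem (hΓΔ ⟨t, rfl⟩))
      simpa using this
    have : ((A.ι t)⁻¹, (1 : Q)) ∈ Γ ⊓ Z1 := ⟨hmem, t⁻¹, by simp⟩
    rw [hΓZ, Subgroup.mem_bot] at this
    have ht : t = 1 := A.inj (by simpa using (inv_eq_one.mp (congrArg Prod.fst this)))
    exact Subtype.ext (by simp [ht])
  have hPsurj : Function.Surjective fP := by
    intro p
    obtain ⟨r, hr⟩ := B.surj (A.j p)
    obtain ⟨γ, hγ, z, ⟨u, rfl⟩, he⟩ := hgen (p, r) hr.symm
    refine ⟨⟨γ * (A.ι.prod B.ι) u, Γ.mul_mem hγ (hΓΔ ⟨u, rfl⟩)⟩, ?_⟩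
    exact (congrArg Prod.fst he).symm
  have hQinj : Function.Injective fQ := by
    rw [injective_iff_map_eq_one]
    rintro ⟨⟨p, r⟩, hx⟩ h
    change r = 1 at h
    subst h
    have h1 : A.j p = B.j 1 := hΓR hx
    rw [map_one] at h1
    obtain ⟨t, rfl⟩ := (A.exact p).mp h1
    have : (A.ι t, (1 : Q)) ∈ Γ ⊓ Z1 := ⟨hx, t, by simp⟩
    rw [hΓZ, Subgroup.mem_bot] at this
    exact Subtype.ext this
  have hQsurj : Function.Surjective fQ := by
    intro r
    obtain ⟨p, hp⟩ := A.surj (B.j r)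
    obtain ⟨γ, hγ, z, ⟨u, rfl⟩, he⟩ := hgen (p, r) hp
    exact ⟨⟨γ, hγ⟩, by simpa [fQ] using (congrArg Prod.snd he).symm⟩
  exact ⟨(MulEquiv.ofBijective fP ⟨hPinj, hPsurj⟩).symm.trans (MulEquiv.ofBijective fQ ⟨hQinj, hQsurj⟩)⟩

/-! ### The group of type A -/

/-- The lower unitriangular matrix. -/
def mkA {F : Type*} [Field F] (φ : F →+* F) (x y : F) : GL (Fin 3) F where
  val := !![1, 0, 0; x, 1, 0; y, φ x, 1]
  inv := !![1, 0, 0; -x, 1, 0; φ x * x - y, -φ x, 1]
  val_inv := by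
    ext i j
    fin_cases i <;> fin_cases j <;> simp [Matrix.mul_apply, Fin.sum_univ_three] <;> ring
  inv_val := by
    ext i j
    fin_cases i <;> fin_cases j <;> simp [Matrix.mul_apply, Fin.sum_univ_three] <;> ring

theorem mkA_mul {F : Type*} [Field F] (φ : F →+* F) (x y x' y' : F) :
    mkA φ x y * mkA φ x' y' = mkA φ (x + x') (y + y' + φ x * x') := by
  refine Units.ext ?_
  show (!![1, 0, 0; x, 1, 0; y, φ x, 1] : Matrix (Fin 3) (Fin 3) F) * !![1, 0, 0; x', 1, 0; y', φ x', 1]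
    = !![1, 0, 0; x + x', 1, 0; y + y' + φ x * x', φ (x + x'), 1]
  ext i j
  fin_cases i <;> fin_cases j <;> simp [Matrix.mul_apply, Fin.sum_univ_three] <;> ring

theorem mkA_inj {F : Type*} [Field F] {φ : F →+* F} {x y x' y' : F} (h : mkA φ x y = mkA φ x' y') :
    x = x' ∧ y = y' :=
  ⟨congrArg (fun g : GL (Fin 3) F => (g : Matrix (Fin 3) (Fin 3) F) 1 0) h,
    congrArg (fun g : GL (Fin 3) F => (g : Matrix (Fin 3) (Fin 3) F) 2 0) h⟩

theorem mkA_mem {F : Type*} [Field F] (φ : F →+* F) (x y : F) : mkA φ x y ∈ Cfsg.suzukiTypeA F φ :=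
  Subgroup.subset_closure ⟨x, y, rfl⟩

theorem exists_mkA {F : Type*} [Field F] (φ : F →+* F) (g : GL (Fin 3) F)
    (hg : g ∈ Cfsg.suzukiTypeA F φ) : ∃ x y, g = mkA φ x y := by
  refine Subgroup.closure_induction (p := fun g _ => ∃ x y, g = mkA φ x y) ?_ ?_ ?_ ?_ hg
  · rintro g ⟨x, y, h⟩; exact ⟨x, y, Units.ext h⟩
  · refine ⟨0, 0, Units.ext ?_⟩
    show (1 : Matrix (Fin 3) (Fin 3) F) = !![1, 0, 0; (0 : F), 1, 0; 0, φ 0, 1]
    ext i j
    fin_cases i <;> fin_cases j <;> simp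
  · rintro _ _ _ _ ⟨x, y, rfl⟩ ⟨x', y', rfl⟩; exact ⟨_, _, mkA_mul φ x y x' y'⟩
  · rintro _ _ ⟨x, y, rfl⟩
    refine ⟨-x, φ x * x - y, Units.ext ?_⟩
    show (!![1, 0, 0; -x, 1, 0; φ x * x - y, -φ x, 1] : Matrix (Fin 3) (Fin 3) F)
      = !![1, 0, 0; -x, 1, 0; φ x * x - y, φ (-x), 1]
    rw [map_neg]

/-- The group of type A as an extension. -/
noncomputable def sqExtTypeA {F : Type*} [Field F] [CharP F 2] (φ : F →+* F) :
    SqExt ↥(Cfsg.suzukiTypeA F φ) F (fun x => x * φ x) where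
  j :=
    { toFun := fun g => Multiplicative.ofAdd (((g : GL (Fin 3) F) : Matrix (Fin 3) (Fin 3) F) 1 0)
      map_one' := by simp
      map_mul' := fun a b => by
        obtain ⟨x, y, ha⟩ := exists_mkA φ a a.2
        obtain ⟨x', y', hb⟩ := exists_mkA φ b b.2
        simp only [Subgroup.coe_mul, ha, hb, mkA_mul]
        rfl }
  ι :=
    { toFun := fun t => ⟨mkA φ 0 t.toAdd, mkA_mem φ _ _⟩
      map_one' := Subtype.ext (Units.ext (by
        show !![1, 0, 0; (0 : F), 1, 0; 0, φ 0, 1] = (1 : Matrix (Fin 3) (Fin 3) F)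
        ext i j
        fin_cases i <;> fin_cases j <;> simp))
      map_mul' := fun s t => Subtype.ext (by
        show mkA φ 0 (s.toAdd + t.toAdd) = mkA φ 0 s.toAdd * mkA φ 0 t.toAdd
        rw [mkA_mul, add_zero, map_zero, zero_mul, add_zero]) }
  surj := fun t => ⟨⟨mkA φ t.toAdd 0, mkA_mem φ _ _⟩, rfl⟩
  inj := fun s t h => (mkA_inj (congrArg Subtype.val h)).2
  exact := fun p => by
    obtain ⟨x, y, hp⟩ := exists_mkA φ p p.2
    constructor
    · intro h
      refine ⟨Multiplicative.ofAdd y, Subtype.ext ?_⟩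
      have hx : x = 0 := by
        have h' : ((p : GL (Fin 3) F) : Matrix (Fin 3) (Fin 3) F) 1 0 = 0 := h
        rw [hp] at h'; exact h'
      show mkA φ 0 y = _
      rw [hp, hx]
    · rintro ⟨t, rfl⟩; rfl
  central := fun t p => by
    obtain ⟨x, y, hp⟩ := exists_mkA φ p p.2
    refine Subtype.ext ?_
    show (p : GL (Fin 3) F) * mkA φ 0 t.toAdd = mkA φ 0 t.toAdd * p
    rw [hp, mkA_mul, mkA_mul]
    simp [add_comm]
  sq := fun p => by
    obtain ⟨x, y, hp⟩ := exists_mkA φ p p.2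
    refine Subtype.ext ?_
    show (p : GL (Fin 3) F) * p
      = mkA φ 0 (((p : GL (Fin 3) F) : Matrix (Fin 3) (Fin 3) F) 1 0 * φ (((p : GL (Fin 3) F) : Matrix (Fin 3) (Fin 3) F) 1 0))
    rw [hp, mkA_mul, CharTwo.add_self_eq_zero, CharTwo.add_self_eq_zero, zero_add, mul_comm]
    rfl

/-! ### Quadratic multiplicative maps -/

/-- An injective multiplicative map with nonzero biadditive polar form is `x ↦ x ^ 2 ^ i * x ^ 2 ^ j`. -/
theorem quad_form {F : Type*} [Field F] [Finite F] [CharP F 2] {n : ℕ} (hq : Nat.card F = 2 ^ n)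
    (σ : F → F) (hmul : ∀ x y, σ (x * y) = σ x * σ y)
    (hbi : ∀ x y z, σ (x + y + z) + σ (x + y) + σ z
      = (σ (x + z) + σ x + σ z) + (σ (y + z) + σ y + σ z))
    (hne : ∃ x y, σ (x + y) + σ x + σ y ≠ 0) :
    ∃ i j : Fin n, i ≠ j ∧ ∀ x, σ x = x ^ 2 ^ i.val * x ^ 2 ^ j.val := by
  classical
  let β : F → F →+ F := fun y => AddMonoidHom.mk' (fun x => σ (x + y) + σ x + σ y) fun a b => hbi a b y
  choose co hco using fun y => (SuzukiField.lin_bijective hq).2 (β y)
  have hcov : ∀ y x, σ (x + y) + σ x + σ y = ∑ i, co y i * x ^ 2 ^ i.val := fun y x => by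
    have := DFunLike.congr_fun (hco y) x
    exact this.symm
  have hadd : ∀ y z, co (y + z) = co y + co z := by
    intro y z
    refine (SuzukiField.lin_bijective hq).1 (AddMonoidHom.ext fun x => ?_)
    rw [hco]
    show σ (x + (y + z)) + σ x + σ (y + z) = ∑ i, (co y + co z) i * x ^ 2 ^ i.val
    simp only [Pi.add_apply, add_mul, Finset.sum_add_distrib, ← hcov]
    have h := hbi y z x
    rw [add_comm (y + z) x, add_comm y x, add_comm z x] at h
    linear_combination h
  have hscal : ∀ l y i, co (l * y) i * l ^ 2 ^ i.val = σ l * co y i := by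
    intro l y i
    refine sub_eq_zero.1 (SuzukiField.coeff_unique hq
      (c := fun i => co (l * y) i * l ^ 2 ^ i.val - σ l * co y i) (fun x => ?_) i)
    simp only [sub_mul, Finset.sum_sub_distrib, mul_assoc, ← mul_pow, ← Finset.mul_sum, ← hcov]
    rw [← mul_add l x y, hmul, hmul, hmul]
    ring
  obtain ⟨y, i, hyi⟩ : ∃ y i, co y i ≠ 0 := by
    by_contra h
    push Not at h
    obtain ⟨x, y, hxy⟩ := hne
    exact hxy (by rw [hcov]; simp [h])
  let ci : F →+ F := AddMonoidHom.mk' (fun y => co y i) fun a b => congrFun (hadd a b) i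
  obtain ⟨b, hb⟩ := (SuzukiField.lin_bijective hq).2 ci
  have hbv : ∀ y, co y i = ∑ j, b j * y ^ 2 ^ j.val := fun y => (DFunLike.congr_fun hb y).symm
  obtain ⟨j, hj⟩ : ∃ j, b j ≠ 0 := by
    by_contra h
    push Not at h
    exact hyi (by rw [hbv]; simp [h])
  have hform : ∀ l, σ l = l ^ 2 ^ i.val * l ^ 2 ^ j.val := by
    intro l
    have key := SuzukiField.coeff_unique hq
      (c := fun t => b t * l ^ 2 ^ t.val * l ^ 2 ^ i.val - σ l * b t) (fun y => ?_) j
    · rw [sub_eq_zero] at key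
      refine mul_right_cancel₀ hj ?_
      rw [← key]; ring
    · have h := hscal l y i
      rw [hbv, hbv, Finset.sum_mul, Finset.mul_sum] at h
      rw [← sub_eq_zero.mpr h, ← Finset.sum_sub_distrib]
      exact Finset.sum_congr rfl fun t _ => by rw [mul_pow]; ring
  refine ⟨i, j, ?_, hform⟩
  rintro rfl
  obtain ⟨x, y, hxy⟩ := hne
  apply hxy
  rw [hform, hform, hform, ← pow_add, ← pow_add, ← pow_add, ← two_mul, ← pow_succ', add_pow_char_pow]
  linear_combination (x ^ 2 ^ (i.val + 1) + y ^ 2 ^ (i.val + 1)) * (CharTwo.two_eq_zero (R := F))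

/-- If `x ↦ x * x ^ 2 ^ d` is injective then `x ↦ x ^ 2 ^ d` has odd order. -/
theorem odd_order {F : Type*} [Field F] [Finite F] [CharP F 2] {n : ℕ} (hq : Nat.card F = 2 ^ n)
    (d : ℕ) (φ : F ≃+* F) (hφ : ∀ x, φ x = x ^ 2 ^ d)
    (hinj : Function.Injective fun x : F => x * φ x) : Odd (orderOf φ) := by
  classical
  have hn := SuzukiField.card_pow_pos hq
  have hpow : ∀ k x, (φ ^ k) x = x ^ 2 ^ (d * k) := by
    intro k
    induction k with
    | zero => intro x; simp
    | succ k ih =>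
      intro x
      rw [pow_succ', RingAut.mul_apply, ih, hφ, ← pow_mul, ← pow_add, Nat.mul_succ]
  by_contra hodd
  rw [Nat.not_odd_iff_even] at hodd
  set g := Nat.gcd n d with hg
  have hgpos : 0 < g := Nat.gcd_pos_of_pos_left d hn
  obtain ⟨a, hna⟩ : g ∣ n := Nat.gcd_dvd_left n d
  obtain ⟨c, hdc⟩ : g ∣ d := Nat.gcd_dvd_right n d
  have hone : φ ^ a = 1 := by
    refine RingEquiv.ext fun x => ?_
    rw [hpow, ← SuzukiField.pow_mod_eq hq (d * a) x]
    have : (d * a) % n = 0 := Nat.mod_eq_zero_of_dvd ⟨c, by rw [hna, hdc]; ring⟩ |> fun h => h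
    rw [this]; simp
  have ha : 2 ∣ a := (even_iff_two_dvd.mp hodd).trans (orderOf_dvd_of_pow_eq_one hone)
  have hcop : Nat.Coprime a c := by
    have h := Nat.coprime_div_gcd_div_gcd (m := n) (n := d) (hg ▸ hgpos)
    rw [← hg, hna, Nat.mul_div_cancel_left _ hgpos, hdc, Nat.mul_div_cancel_left _ hgpos] at h
    exact h
  have hc : Odd c := by
    rw [← Nat.not_even_iff_odd, even_iff_two_dvd]
    intro h2
    have := Nat.dvd_gcd ha h2
    rw [hcop.gcd_eq_one] at this
    omega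
  -- an element of order `2 ^ g + 1`
  obtain ⟨a', rfl⟩ := ha
  have h1 : 2 ^ g + 1 ∣ 2 ^ n - 1 := by
    refine dvd_trans ⟨2 ^ g - 1, ?_⟩ (Nat.pow_sub_one_dvd_pow_sub_one 2 (show 2 * g ∣ n from ⟨a', by rw [hna]; ring⟩))
    rw [mul_comm 2 g, pow_mul, ← Nat.sq_sub_sq, one_pow]
  obtain ⟨ζ, hζ⟩ := IsCyclic.exists_ofOrder_eq_natCard (α := Fˣ)
  rw [Nat.card_units, hq] at hζ
  have hpos : 0 < 2 ^ n - 1 := by rw [← hζ]; exact orderOf_pos ζ
  obtain ⟨w, hw⟩ := h1
  set μ := ζ ^ w
  have hμ : orderOf μ = 2 ^ g + 1 := by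
    have := orderOf_pow_orderOf_div (x := ζ) (n := 2 ^ g + 1) (by omega) (hζ ▸ ⟨w, hw⟩)
    rwa [hζ, hw, Nat.mul_div_cancel_left _ (by positivity)] at this
  have hdd : 2 ^ g + 1 ∣ 1 + 2 ^ d := by
    have := hc.nat_add_dvd_pow_add_pow (2 ^ g) 1
    rwa [one_pow, ← pow_mul, ← hdc, add_comm (2 ^ d) 1] at this
  have hμ1 : μ ^ (1 + 2 ^ d) = 1 := orderOf_dvd_iff_pow_eq_one.mp (hμ ▸ hdd)
  have hval : (μ : F) * (μ : F) ^ 2 ^ d = 1 := by
    rw [← Units.val_pow_eq_pow_val, ← Units.val_mul, ← pow_succ', add_comm, hμ1, Units.val_one]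
  have hμ1' : μ = 1 := Units.ext (hinj (by simp only [hφ]; rw [hval]; simp))
  rw [hμ1', orderOf_one] at hμ
  have := Nat.one_le_two_pow (n := g)
  omega

/-! ### Suzuki groups of order `q ^ 2` -/

open SuzukiCenter SuzukiQuotient

set_option maxHeartbeats 1600000 in
theorem type_a {P : Type*} [Group P] [Finite P] {K : Subgroup (MulAut P)} (hS : Setting K)
    (hna : ∃ x y : P, x * y ≠ y * x) (hcard : Nat.card P = Nat.card hS.inv ^ 2) :
    ∃ (F : Type) (_ : Field F) (_ : Fintype F) (φ : F ≃+* F), Fintype.card F = Nat.card hS.inv ∧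
      φ ≠ RingEquiv.refl F ∧ Odd (orderOf φ) ∧ Nonempty (P ≃* Cfsg.suzukiTypeA F (φ : F →+* F)) := by
  classical
  have hh := upper_inv_eq_top hS hna
  haveI : hS.inv.Normal := inv_normal hS
  haveI : Fact (Nat.Prime 2) := ⟨Nat.prime_two⟩
  set Z := hS.inv with hZ
  have hzc : ∀ v ∈ Z, ∀ g : P, g * v = v * g := fun v hv g => hS.central v hv g
  letI : CommGroup Z :=
    { (inferInstance : Group Z) with mul_comm := fun a b => Subtype.ext (hzc b b.2 a) }
  have hqc : ∀ a b : P ⧸ Z, a * b = b * a := by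
    intro a b
    obtain ⟨x, rfl⟩ := QuotientGroup.mk'_surjective Z a
    obtain ⟨y, rfl⟩ := QuotientGroup.mk'_surjective Z b
    have h := (QuotientGroup.eq_one_iff _).mpr ((hh y).2 x)
    simp only [QuotientGroup.mk_mul, QuotientGroup.mk_inv, mul_inv_eq_iff_eq_mul] at h
    simpa using h
  letI : CommGroup (P ⧸ Z) := { (inferInstance : Group (P ⧸ Z)) with mul_comm := hqc }
  have hK : Nat.card K + 1 = Nat.card Z := card_K hS
  obtain ⟨x₀, -, -, hx₀, hx₀2, -, -⟩ := hS.nontriv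
  haveI : Nontrivial Z := ⟨⟨x₀, hx₀2⟩, 1, fun h => hx₀ (congrArg Subtype.val h)⟩
  have hqcard : Nat.card (P ⧸ Z) = Nat.card Z := by
    have h := Subgroup.card_eq_card_quotient_mul_card_subgroup Z
    rw [hcard, pow_two] at h
    exact (Nat.eq_of_mul_eq_mul_right Nat.card_pos h).symm
  haveI : Nontrivial (P ⧸ Z) :=
    Finite.one_lt_card_iff_nontrivial.mp (hqcard ▸ Finite.one_lt_card)
  have hZk : ∀ k ∈ K, ∀ a ∈ Z, k a ∈ Z := fun k _ a ha => by
    show k a * k a = 1
    rw [← map_mul, show a * a = 1 from ha, map_one]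
  haveI : Finite K := Nat.finite_of_card_ne_zero (by
    have := Finite.one_lt_card (α := Z)
    omega)
  -- the actions
  letI : DistribMulAction K (Additive Z) :=
    { smul := fun k v => Additive.ofMul ⟨(k : MulAut P) (v.toMul : P), hZk k k.2 _ v.toMul.2⟩
      one_smul := fun v => rfl
      mul_smul := fun a b v => rfl
      smul_zero := fun k => congrArg Additive.ofMul (Subtype.ext (map_one (k : MulAut P)))
      smul_add := fun k u v => congrArg Additive.ofMul (Subtype.ext (map_mul (k : MulAut P) _ _)) }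
  let act : K → (P ⧸ Z) →* (P ⧸ Z) := fun k => QuotientGroup.map Z Z (k : MulAut P).toMonoidHom
    (fun a ha => hZk k k.2 a ha)
  letI : DistribMulAction K (Additive (P ⧸ Z)) :=
    { smul := fun k v => Additive.ofMul (act k v.toMul)
      one_smul := fun v => by
        obtain ⟨x, hx⟩ := QuotientGroup.mk'_surjective Z v.toMul
        show Additive.ofMul (act 1 v.toMul) = v
        rw [← hx]; exact (congrArg Additive.ofMul hx)
      mul_smul := fun a b v => by
        obtain ⟨x, hx⟩ := QuotientGroup.mk'_surjective Z v.toMul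
        show Additive.ofMul (act (a * b) v.toMul) = Additive.ofMul (act a (act b v.toMul))
        rw [← hx]; rfl
      smul_zero := fun k => congrArg Additive.ofMul (map_one (act k))
      smul_add := fun k u v => congrArg Additive.ofMul (map_mul (act k) _ _) }
  have hqtr : ∀ v w : Additive (P ⧸ Z), v ≠ 0 → w ≠ 0 → ∃ k : K, k • v = w := by
    intro v w hv hw
    have hne : ∀ k : K, k • v ≠ 0 := fun k h => hv (by rw [← inv_smul_smul k v, h, smul_zero])
    let e : K → {u : Additive (P ⧸ Z) // u ≠ 0} := fun k => ⟨k • v, hne k⟩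
    have he : Function.Injective e := by
      intro k l h
      have h1 : (l⁻¹ * k) • v = v := by
        rw [mul_smul, show k • v = l • v from congrArg Subtype.val h, inv_smul_smul]
      obtain ⟨x, hx⟩ := QuotientGroup.mk'_surjective Z v.toMul
      by_contra hkl
      apply hv
      have hxx : x⁻¹ * ((l⁻¹ * k : K) : MulAut P) x ∈ Z := by
        rw [← QuotientGroup.eq]
        have h2 : act (l⁻¹ * k) v.toMul = v.toMul := congrArg Additive.toMul h1
        rw [← hx] at h2
        exact h2.symm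
      have hxZ := mem_of_fixed_coset hS Z hZk (l⁻¹ * k).2
        (fun e => hkl (inv_mul_eq_one.mp (Subtype.ext e)).symm) hxx
      rw [← ofMul_toMul v, ← hx, QuotientGroup.mk'_apply, (QuotientGroup.eq_one_iff x).mpr hxZ]
      rfl
    haveI : Fintype (Additive (P ⧸ Z)) := Fintype.ofFinite _
    obtain ⟨k, hk⟩ := (he.bijective_of_nat_card_le (by
      rw [Nat.card_eq_fintype_card (α := {u : Additive (P ⧸ Z) // u ≠ 0}), Fintype.card_subtype_compl,
        Fintype.card_subtype_eq, ← Nat.card_eq_fintype_card,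
        show Nat.card (Additive (P ⧸ Z)) = Nat.card Z from hqcard]
      omega)).2 ⟨w, hw⟩
    exact ⟨k, congrArg Subtype.val hk⟩
  obtain ⟨F1, hF1, hF1fin, e1, lam1, hlam1, hel1⟩ := SuzukiField.exists_field (V := Additive Z) (K := K)
    (fun a b => Subtype.ext (hS.comm a a.2 b b.2)) (by
      intro v w hv hw
      obtain ⟨k, hk, hkv⟩ := hS.trans (v.toMul : P) (w.toMul : P)
        (fun h => hv (by rw [← ofMul_toMul v, show v.toMul = 1 from Subtype.ext h]; rfl)) v.toMul.2
        (fun h => hw (by rw [← ofMul_toMul w, show w.toMul = 1 from Subtype.ext h]; rfl)) w.toMul.2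
      exact ⟨⟨k, hk⟩, congrArg Additive.ofMul (Subtype.ext hkv)⟩)
  obtain ⟨F2, hF2, hF2fin, e2, lam2, hlam2, hel2⟩ := SuzukiField.exists_field (V := Additive (P ⧸ Z)) (K := K)
    (fun a b => Subtype.ext (hS.comm a a.2 b b.2)) hqtr
  obtain ⟨n, hn⟩ := IsPGroup.iff_card.mp (hS.two.to_subgroup Z)
  have hn0 : n ≠ 0 := by
    intro h0; have := Finite.one_lt_card (α := Z); rw [hn, h0, pow_zero] at this; omega
  let F := GaloisField 2 n
  haveI : Fintype F := Fintype.ofFinite F
  haveI := Fintype.ofFinite F1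
  haveI := Fintype.ofFinite F2
  have hq : Nat.card F = 2 ^ n := GaloisField.card 2 n hn0
  let r1 : F ≃+* F1 := FiniteField.ringEquivOfCardEq (by
    rw [← Nat.card_eq_fintype_card, ← Nat.card_eq_fintype_card, hq, Nat.card_congr e1.toEquiv]
    exact hn.symm)
  let r2 : F ≃+* F2 := FiniteField.ringEquivOfCardEq (by
    rw [← Nat.card_eq_fintype_card, ← Nat.card_eq_fintype_card, hq, Nat.card_congr e2.toEquiv]
    exact hn.symm.trans hqcard.symm)
  let b : F → P := fun t => ((e1 (r1 t)).toMul : P)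
  let a : P → F := fun p => r2.symm (e2.symm (Additive.ofMul (p : P ⧸ Z)))
  have hbadd : ∀ s t, b (s + t) = b s * b t := fun s t => by simp [b, map_add]
  have hbinj : Function.Injective b := fun s t h =>
    r1.injective (e1.injective (Additive.toMul.injective (Subtype.ext h)))
  have hbZ : ∀ t, b t ∈ Z := fun t => (e1 (r1 t)).toMul.2
  have hbsurj : ∀ v ∈ Z, ∃ t, b t = v := fun v hv =>
    ⟨r1.symm (e1.symm (Additive.ofMul ⟨v, hv⟩)), by simp [b]⟩
  have hb0 : b 0 = 1 := by simp [b]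
  have hamul : ∀ p r, a (p * r) = a p + a r := fun p r => by simp [a, map_add]
  have hasurj : Function.Surjective a := fun t => by
    obtain ⟨x, hx⟩ := QuotientGroup.mk'_surjective Z (e2 (r2 t)).toMul
    exact ⟨x, by simp [a, QuotientGroup.mk'_apply] at *; simp [hx]⟩
  have ha0 : ∀ p, a p = 0 ↔ p ∈ Z := fun p => by simp [a, QuotientGroup.eq_one_iff]
  have hsqwd : ∀ p r, a p = a r → p * p = r * r := by
    intro p r h
    have hv : r⁻¹ * p ∈ Z := by
      rw [← QuotientGroup.eq]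
      exact (Additive.ofMul.injective (e2.symm.injective (r2.symm.injective h))).symm
    calc p * p = r * (r⁻¹ * p) * (r * (r⁻¹ * p)) := by group
      _ = r * ((r⁻¹ * p) * r) * (r⁻¹ * p) := by group
      _ = r * (r * (r⁻¹ * p)) * (r⁻¹ * p) := by rw [hzc _ hv r]
      _ = r * r * ((r⁻¹ * p) * (r⁻¹ * p)) := by group
      _ = r * r := by rw [show (r⁻¹ * p) * (r⁻¹ * p) = 1 from hv, mul_one]
  choose sec hsec using hasurj
  choose sq hsq using fun p => hbsurj _ (hh p).1
  let s : F → F := fun x => sq (sec x)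
  have hs : ∀ p, b (s (a p)) = p * p := fun p => by
    show b (sq (sec (a p))) = _
    rw [hsq]; exact hsqwd _ _ (hsec (a p))
  have hs0 : s 0 = 0 := hbinj (by rw [← (ha0 1).mpr Z.one_mem, hs, one_mul, (ha0 1).mpr Z.one_mem, hb0])
  have hs1 : ∀ x, s x = 0 → x = 0 := by
    intro x h
    have h1 := hs (sec x)
    rw [hsec, h, hb0] at h1
    rw [← hsec x, ha0]; exact h1.symm
  -- equivariance
  let μ1 : K → F := fun k => r1.symm (lam1 k : F1)
  let μ2 : K → F := fun k => r2.symm (lam2 k : F2)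
  have hbk : ∀ (k : K) t, b (μ1 k * t) = (k : MulAut P) (b t) := fun k t => by
    show ((e1 (r1 (μ1 k * t))).toMul : P) = _
    rw [map_mul, RingEquiv.apply_symm_apply, hel1]; rfl
  have hak : ∀ (k : K) p, a ((k : MulAut P) p) = μ2 k * a p := fun k p => by
    show r2.symm (e2.symm _) = r2.symm _ * r2.symm _
    rw [← map_mul]
    congr 1
    apply e2.injective
    rw [hel2, AddEquiv.apply_symm_apply, AddEquiv.apply_symm_apply]
    rfl
  have hμs : ∀ (k : K) x, s (μ2 k * x) = μ1 k * s x := by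
    intro k x
    refine hbinj ?_
    rw [← hsec x, ← hak, hs, hbk, hs, map_mul]
  set s1 := s 1 with hs1def
  have hs1ne : s1 ≠ 0 := fun h => one_ne_zero (hs1 1 h)
  let σ : F → F := fun x => s x / s1
  have hσμ : ∀ k, σ (μ2 k) = μ1 k := fun k => by
    have h := hμs k 1
    rw [mul_one] at h
    show s (μ2 k) / s1 = μ1 k
    rw [h, mul_div_assoc, div_self hs1ne, mul_one]
  have hμ2surj : ∀ x : F, x ≠ 0 → ∃ k, μ2 k = x := fun x hx => by
    obtain ⟨k, hk⟩ := hlam2 (Units.mk0 (r2 x) (by simpa using hx))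
    exact ⟨k, by simp [μ2, hk]⟩
  have hσmul : ∀ x y, σ (x * y) = σ x * σ y := by
    intro x y
    by_cases hx : x = 0
    · simp [σ, hx, hs0]
    obtain ⟨k, rfl⟩ := hμ2surj x hx
    rw [hσμ]
    show s (μ2 k * y) / s1 = _
    rw [hμs, mul_div_assoc]
  have hσinj : Function.Injective σ := by
    intro x y h
    have hxy : s x = s y := by
      exact (div_left_inj' hs1ne).mp h
    by_cases hx : x = 0
    · rw [hx, hs0] at hxy; rw [hx, hs1 y hxy.symm]
    by_cases hy : y = 0
    · rw [hy, hs0] at hxy; exact absurd (hs1 x hxy) hx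
    obtain ⟨k, rfl⟩ := hμ2surj x hx
    obtain ⟨l, rfl⟩ := hμ2surj y hy
    rw [hσμ, hσμ] at h
    have hk : lam1 k = lam1 l := Units.ext (r1.symm.injective h)
    have h1 : (k : MulAut P) x₀ = (l : MulAut P) x₀ := by
      obtain ⟨t, ht⟩ := hbsurj x₀ hx₀2
      rw [← ht, ← hbk, ← hbk]; simp [μ1, hk]
    have h2 := hS.free ((l⁻¹ * k : K) : MulAut P) (l⁻¹ * k).2 x₀ hx₀ hx₀2 (by simp [h1])
    rw [(inv_mul_eq_one.mp (Subtype.ext h2)).symm]
  have hpolar : ∀ p r, b (s (a p + a r) + s (a p) + s (a r)) = r * p * r⁻¹ * p⁻¹ := by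
    intro p r
    have hc := (hh p).2 r
    rw [hbadd, hbadd, ← hamul, hs, hs, hs]
    calc p * r * (p * r) * (p * p) * (r * r)
        = p * (r * p * r⁻¹ * p⁻¹) * p * (r * r) * (p * p) * (r * r) := by group
      _ = (r * p * r⁻¹ * p⁻¹) * p * p * (r * r) * (p * p) * (r * r) := by rw [hzc _ hc p]
      _ = (r * p * r⁻¹ * p⁻¹) * (p * p) * ((r * r) * (p * p)) * (r * r) := by group
      _ = (r * p * r⁻¹ * p⁻¹) * (p * p) * ((p * p) * (r * r)) * (r * r) := by
          rw [← hzc _ (hh r).1 (p * p)]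
      _ = (r * p * r⁻¹ * p⁻¹) * ((p * p) * (p * p)) * ((r * r) * (r * r)) := by group
      _ = r * p * r⁻¹ * p⁻¹ := by
          rw [show (p * p) * (p * p) = 1 from (hh p).1, show (r * r) * (r * r) = 1 from (hh r).1,
            mul_one, mul_one]
  have hsbi : ∀ x y z, s (x + y + z) + s (x + y) + s z
      = (s (x + z) + s x + s z) + (s (y + z) + s y + s z) := by
    intro x y z
    refine hbinj ?_
    rw [← hsec x, ← hsec y, ← hsec z, ← hamul, hbadd (_ + _ + _) (_ + _ + _)]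
    rw [hpolar, hpolar, hpolar]
    have hc := (hh (sec y)).2 (sec z)
    calc sec z * (sec x * sec y) * (sec z)⁻¹ * (sec x * sec y)⁻¹
        = (sec z * sec x * (sec z)⁻¹ * (sec x)⁻¹) * (sec x * (sec z * sec y * (sec z)⁻¹ * (sec y)⁻¹)) * (sec x)⁻¹ := by group
      _ = (sec z * sec x * (sec z)⁻¹ * (sec x)⁻¹) * ((sec z * sec y * (sec z)⁻¹ * (sec y)⁻¹) * sec x) * (sec x)⁻¹ := by
          rw [hzc _ hc (sec x)]
      _ = _ := by group
  obtain ⟨i, j, hij, hform⟩ := quad_form hq σ hσmul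
    (fun x y z => by simp only [σ, ← add_div]; rw [hsbi])
    (by
      obtain ⟨u, v, huv⟩ := hna
      refine ⟨a u, a v, fun h => huv ?_⟩
      have h' : s (a u + a v) + s (a u) + s (a v) = 0 := by
        simp only [σ, ← add_div] at h
        exact (div_eq_zero_iff.mp h).resolve_right hs1ne
      have h2 := hpolar u v
      rw [h', hb0] at h2
      exact (mul_inv_eq_iff_eq_mul.mp (mul_inv_eq_one.mp h2.symm)).symm)
  -- normalization
  have hn1 := SuzukiField.card_pow_pos hq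
  set d := (j.val + (n - i.val)) % n with hd
  let φ : F ≃+* F := iterateFrobeniusEquiv F 2 d
  let ψ : F ≃+* F := iterateFrobeniusEquiv F 2 i.val
  have hφ : ∀ x, φ x = x ^ 2 ^ d := fun x => iterateFrobeniusEquiv_def F 2 d x
  have hψ : ∀ x, ψ x = x ^ 2 ^ i.val := fun x => iterateFrobeniusEquiv_def F 2 i.val x
  have hσ' : ∀ x, σ x = ψ x * φ (ψ x) := by
    intro x
    rw [hform, hψ, hφ, ← pow_mul x, ← pow_add (2 : ℕ), ← SuzukiField.pow_mod_eq hq (i.val + d) x]
    congr 2
    rw [hd, Nat.add_mod_mod, show i.val + (j.val + (n - i.val)) = j.val + n by omega,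
      Nat.add_mod_right, Nat.mod_eq_of_lt j.isLt]
  have hinjφ : Function.Injective fun x : F => x * φ x := by
    intro x y h
    have h' : σ (ψ.symm x) = σ (ψ.symm y) := by rw [hσ', hσ']; simpa using h
    exact ψ.symm.injective (hσinj h')
  refine ⟨F, inferInstance, inferInstance, φ,
    by rw [← Nat.card_eq_fintype_card, hq, hn], ?_, odd_order hq d φ hφ hinjφ, ?_⟩
  · intro h
    refine hij (SuzukiField.fr_injective hq fun x => ?_)
    have h1 := hσ' x
    rw [h, RingEquiv.refl_apply, hform, hψ] at h1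
    by_cases hx : x = 0
    · simp [hx]
    exact (mul_left_cancel₀ (pow_ne_zero _ hx) h1).symm
  have hA : Nonempty (SqExt P F (fun x => x * φ x)) := by
    refine ⟨{ j := MonoidHom.mk' (fun p => Multiplicative.ofAdd (ψ (a p))) (fun p r => by
                rw [hamul, map_add, ofAdd_add]),
              ι := MonoidHom.mk' (fun t => b (s1 * t.toAdd)) (fun u v => by rw [toAdd_mul, mul_add, hbadd]),
              surj := fun t => ⟨sec (ψ.symm t.toAdd), by simp [hsec]⟩,
              inj := fun u v h => Multiplicative.toAdd.injective (mul_left_cancel₀ hs1ne (hbinj h)),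
              exact := fun p => ?_,
              central := fun t p => hzc _ (hbZ _) p,
              sq := fun p => ?_ }⟩
    · constructor
      · intro h
        have hp : p ∈ Z := (ha0 p).mp (ψ.injective (by simpa using h))
        obtain ⟨t, ht⟩ := hbsurj p hp
        exact ⟨Multiplicative.ofAdd (s1⁻¹ * t), by simp [← mul_assoc, mul_inv_cancel₀ hs1ne, ht]⟩
      · rintro ⟨t, rfl⟩
        simp [(ha0 _).mpr (hbZ _)]
    · show p * p = b (s1 * (ψ (a p) * φ (ψ (a p))))
      rw [← hσ', ← hs p]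
      show b _ = b (s1 * (s (a p) / s1))
      rw [mul_div_cancel₀ _ hs1ne]
  haveI : Finite ↥(Cfsg.suzukiTypeA F (φ : F →+* F)) := Finite.of_injective _ Subtype.val_injective
  exact hA.some.nonempty_mulEquiv (sqExtTypeA (φ : F →+* F))

end CfsgLib.SuzukiTypeA
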