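import Mathlib
import Cfsg.Agent.Lib.Critical.Basic
import Cfsg.Agent.Lib.Char.TwoGroupLinear

/-!
# Generators of subgroups of `2`-groups acting irreducibly on modules of odd order

Every subgroup of such a group needs few generators, compared with the order of the module.
-/

set_option autoImplicit false
set_option linter.style.haveILetI false

universe u

namespace CfsgLib.TwoOddModule

/-- Every subgroup of `G` is generated by at most `s` elements. -/
def SG (G : Type*) [Group G] (s : ℕ) : Prop :=
  ∀ K : Subgroup G, ∃ T : Finset G, T.card ≤ s ∧ Subgroup.closure (T : Set G) = K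

theorem SG.mono {G : Type*} [Group G] {s t : ℕ} (h : SG G s) (hst : s ≤ t) : SG G t := fun K => by
  obtain ⟨T, hT, hK⟩ := h K
  exact ⟨T, hT.trans hst, hK⟩

theorem SG.of_isCyclic {G : Type*} [Group G] [IsCyclic G] : SG G 1 := fun K => by
  classical
  obtain ⟨g, hg⟩ := K.isCyclic_iff_exists_zpowers_eq_top.mp (Subgroup.isCyclic K)
  exact ⟨{g}, by simp, by rw [Finset.coe_singleton, ← Subgroup.zpowers_eq_closure, hg]⟩

theorem SG.ext {G H : Type*} [Group G] [Group H] (f : G →* H) {a b : ℕ} (hH : SG H a)
    (hker : SG f.ker b) : SG G (a + b) := fun K => by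
  classical
  obtain ⟨T, hT, hTK⟩ := hH (K.map f)
  have hpre : ∀ t ∈ T, ∃ k ∈ K, f k = t := fun t ht => by
    have : t ∈ K.map f := hTK ▸ Subgroup.subset_closure ht
    exact this
  choose! k hk hfk using hpre
  obtain ⟨U, hU, hUK⟩ := hker (K.subgroupOf f.ker)
  refine ⟨T.image k ∪ U.image Subtype.val, ?_, ?_⟩
  · exact (Finset.card_union_le _ _).trans
      (add_le_add (Finset.card_image_le.trans hT) (Finset.card_image_le.trans hU))
  · rw [Finset.coe_union, Finset.coe_image, Finset.coe_image, Subgroup.closure_union]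
    refine le_antisymm (sup_le ((Subgroup.closure_le _).mpr ?_) ((Subgroup.closure_le _).mpr ?_)) ?_
    · rintro _ ⟨t, ht, rfl⟩; exact hk t ht
    · rintro _ ⟨v, hv, rfl⟩
      have : v ∈ K.subgroupOf f.ker := hUK ▸ Subgroup.subset_closure hv
      exact this
    · intro x hx
      have h1 : f x ∈ (Subgroup.closure (k '' (T : Set H))).map f := by
        rw [MonoidHom.map_closure, Set.image_image]
        have : (fun t => f (k t)) '' (T : Set H) = (T : Set H) := by
          ext y
          constructor
          · rintro ⟨t, ht, rfl⟩; show f (k t) ∈ _; rwa [hfk t ht]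
          · intro hy; exact ⟨y, hy, hfk y hy⟩
        rw [this, hTK]
        exact ⟨x, hx, rfl⟩
      obtain ⟨y, hy, hxy⟩ := h1
      have hyK : y ∈ K := (Subgroup.closure_le K).mpr (by rintro _ ⟨t, ht, rfl⟩; exact hk t ht) hy
      have hker' : y⁻¹ * x ∈ f.ker := by
        rw [MonoidHom.mem_ker, map_mul, map_inv, hxy, inv_mul_cancel]
      have h2 : (⟨y⁻¹ * x, hker'⟩ : f.ker) ∈ Subgroup.closure (U : Set f.ker) := by
        rw [hUK]; exact K.mul_mem (K.inv_mem hyK) hx
      have h3 := Subgroup.mem_map_of_mem f.ker.subtype h2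
      rw [MonoidHom.map_closure] at h3
      have hprod := (Subgroup.closure (k '' (T : Set H)) ⊔
        Subgroup.closure (Subtype.val '' (U : Set f.ker))).mul_mem
        (Subgroup.mem_sup_left hy) (Subgroup.mem_sup_right (by simpa using h3))
      simpa using hprod

theorem SG.of_injective {G H : Type*} [Group G] [Group H] (f : G →* H) (hf : Function.Injective f)
    {a : ℕ} (hH : SG H a) : SG G a := by
  refine SG.ext (b := 0) f hH fun K => ⟨∅, by simp, ?_⟩
  haveI : Subsingleton f.ker := by
    rw [(MonoidHom.ker_eq_bot_iff f).mpr hf]; infer_instance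
  exact Subsingleton.elim _ _

theorem SG.prod {G H₁ H₂ : Type*} [Group G] [Group H₁] [Group H₂] (f : G →* H₁) (g : G →* H₂)
    (hinj : ∀ x, f x = 1 → g x = 1 → x = 1) {a b : ℕ} (h1 : SG H₁ a) (h2 : SG H₂ b) :
    SG G (a + b) := by
  refine SG.ext f h1 (SG.of_injective (g.comp f.ker.subtype) ?_ h2)
  rw [injective_iff_map_eq_one]
  intro x hx
  exact Subtype.ext (hinj x x.2 hx)

/-- A group of order at most four is generated, in each of its subgroups, by two elements. -/
theorem exists_two_generators {G : Type*} [Group G] [Finite G] (K : Subgroup G)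
    (hK : Nat.card K ≤ 4) : ∃ T : Finset G, T.card ≤ 2 ∧ Subgroup.closure (T : Set G) = K := by
  classical
  by_cases hc : ∃ g, Subgroup.zpowers g = K
  · obtain ⟨g, hg⟩ := hc
    exact ⟨{g}, by simp, by rw [Finset.coe_singleton, ← Subgroup.zpowers_eq_closure, hg]⟩
  push Not at hc
  obtain ⟨x, hx, hx1⟩ : ∃ x ∈ K, x ≠ 1 := by
    by_contra h; push Not at h
    exact hc 1 (le_antisymm (by simp) fun y hy => by simp [h y hy])
  obtain ⟨y, hy, hyx⟩ : ∃ y ∈ K, y ∉ Subgroup.zpowers x := by
    by_contra h; push Not at h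
    exact hc x (le_antisymm (Subgroup.zpowers_le.mpr hx) h)
  refine ⟨{x, y}, Finset.card_le_two, ?_⟩
  have hle : Subgroup.closure ((({x, y} : Finset G)) : Set G) ≤ K := by
    rw [Subgroup.closure_le]; intro z hz
    simp only [Finset.coe_insert, Finset.coe_singleton, Set.mem_insert_iff,
      Set.mem_singleton_iff] at hz
    rcases hz with rfl | rfl <;> assumption
  refine Subgroup.eq_of_le_of_card_ge hle ?_
  set L := Subgroup.closure ((({x, y} : Finset G)) : Set G) with hL
  have hxL : Subgroup.zpowers x ≤ L :=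
    Subgroup.zpowers_le.mpr (Subgroup.subset_closure (by simp))
  have hyL : y ∈ L := Subgroup.subset_closure (by simp)
  have hne : Subgroup.zpowers x ≠ L := fun e => hyx (e ▸ hyL)
  have h2 : 2 ≤ Nat.card (Subgroup.zpowers x) := by
    rw [Nat.card_zpowers]
    rcases Nat.lt_or_ge (orderOf x) 2 with h | h
    · exact absurd (orderOf_eq_one_iff.mp (by have := orderOf_pos x; omega)) hx1
    · exact h
  have h3 : 3 ≤ Nat.card L := by
    have := Subgroup.card_le_of_le hxL
    by_contra hlt
    exact hne (Subgroup.eq_of_le_of_card_ge hxL (by omega))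
  obtain ⟨m, hm⟩ := Subgroup.card_dvd_of_le hle
  rcases m with _ | _ | m
  · have := Nat.card_pos (α := K); omega
  · omega
  · nlinarith

/-- Every subgroup of a nonabelian group of order dividing eight is generated by two elements. -/
theorem SG.of_card_dvd_eight {G : Type*} [Group G] [Finite G] (h8 : Nat.card G ∣ 8)
    (hna : ∃ a b : G, a * b ≠ b * a) : SG G 2 := fun K => by
  classical
  have hK8 : Nat.card K ∣ 8 := (Subgroup.card_subgroup_dvd_card K).trans h8
  haveI : Fact (Nat.Prime 2) := ⟨Nat.prime_two⟩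
  by_cases hKc : ∀ x ∈ K, ∀ y ∈ K, x * y = y * x
  · refine exists_two_generators K ?_
    by_contra hgt
    obtain ⟨j, hj, hjK⟩ := (Nat.dvd_prime_pow Nat.prime_two (m := 3)).mp hK8
    have hG := Nat.le_of_dvd (by norm_num) h8
    have hK8' : Nat.card K = 8 := by interval_cases j <;> omega
    have htop : K = ⊤ := Subgroup.eq_top_of_card_eq K (by
      have := Subgroup.card_le_card_group K; omega)
    obtain ⟨a, b, hab⟩ := hna
    exact hab (hKc a (htop ▸ Subgroup.mem_top a) b (htop ▸ Subgroup.mem_top b))
  · push Not at hKc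
    obtain ⟨x, hx, y, hy, hxy⟩ := hKc
    refine ⟨{x, y}, Finset.card_le_two, ?_⟩
    have hle : Subgroup.closure ((({x, y} : Finset G)) : Set G) ≤ K := by
      rw [Subgroup.closure_le]; intro z hz
      simp only [Finset.coe_insert, Finset.coe_singleton, Set.mem_insert_iff,
        Set.mem_singleton_iff] at hz
      rcases hz with rfl | rfl <;> assumption
    refine Subgroup.eq_of_le_of_card_ge hle ?_
    set L := Subgroup.closure ((({x, y} : Finset G)) : Set G) with hL
    obtain ⟨j, hj, hjL⟩ := (Nat.dvd_prime_pow Nat.prime_two (m := 3)).mp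
      ((Subgroup.card_subgroup_dvd_card L).trans h8)
    have hK : Nat.card K ≤ 8 := Nat.le_of_dvd (by norm_num) hK8
    suffices j = 3 by rw [hjL, this]; exact hK
    have hxL : x ∈ L := Subgroup.subset_closure (by simp)
    have hyL : y ∈ L := Subgroup.subset_closure (by simp)
    by_contra hne
    apply hxy
    have hcomm : ∀ a b : L, a * b = b * a := by
      interval_cases j
      · intro a b
        haveI : Subsingleton L := (Nat.card_eq_one_iff_unique.mp (by simpa using hjL)).1
        exact Subsingleton.elim _ _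
      · haveI : IsCyclic L := isCyclic_of_prime_card (p := 2) (by simpa using hjL)
        exact fun a b => mul_comm' a b
      · exact IsPGroup.commutative_of_card_eq_prime_sq (p := 2) hjL
      · omega
    exact congrArg Subtype.val (hcomm ⟨x, hxL⟩ ⟨y, hyL⟩)

/-- Subgroups of the unit group modulo a power of two are generated by two elements. -/
theorem sg_units_two_pow (k : ℕ) : SG (ZMod (2 ^ k))ˣ 2 := by
  rcases Nat.lt_or_ge k 3 with hk | hk
  · haveI : IsCyclic (ZMod (2 ^ k))ˣ := (ZMod.isCyclic_units_two_pow_iff k).mpr (by omega)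
    exact SG.of_isCyclic.mono (by norm_num)
  · obtain ⟨n, rfl⟩ := Nat.exists_eq_add_of_le' hk
    have h4 : 4 ∣ 2 ^ (n + 3) := ⟨2 ^ (n + 1), by ring⟩
    haveI : IsCyclic (ZMod 4)ˣ := ZMod.isCyclic_units_four
    refine SG.ext (a := 1) (b := 1) (ZMod.unitsMap h4) SG.of_isCyclic ?_
    have h5 : IsUnit (5 : ZMod (2 ^ (n + 3))) := by
      refine IsOfFinOrder.isUnit (orderOf_pos_iff.mp ?_)
      rw [ZMod.orderOf_five]
      positivity
    have hord : orderOf h5.unit = 2 ^ (n + 1) := by
      rw [← orderOf_units, IsUnit.unit_spec, ZMod.orderOf_five]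
    have hmem : h5.unit ∈ (ZMod.unitsMap h4).ker := by
      rw [MonoidHom.mem_ker]
      ext
      rw [ZMod.unitsMap_def]
      simp only [Units.coe_map, IsUnit.unit_spec, Units.val_one]
      show (ZMod.castHom h4 (ZMod 4)) (5 : ZMod (2 ^ (n + 3))) = 1
      rw [map_ofNat]; rfl
    have hcard : Nat.card (ZMod.unitsMap h4).ker = 2 ^ (n + 1) := by
      have h1 := Subgroup.card_mul_index (ZMod.unitsMap h4).ker
      rw [Subgroup.index_ker, MonoidHom.range_eq_top.mpr (ZMod.unitsMap_surjective h4),
        Subgroup.card_top, Nat.card_eq_fintype_card (α := (ZMod 4)ˣ),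
        Nat.card_eq_fintype_card (α := (ZMod (2 ^ (n + 3)))ˣ), ZMod.card_units_eq_totient,
        ZMod.card_units_eq_totient, Nat.totient_prime_pow Nat.prime_two (by omega),
        show Nat.totient 4 = 2 from rfl] at h1
      have e : (2 : ℕ) ^ (n + 3 - 1) * (2 - 1) = 2 ^ (n + 1) * 2 := by
        rw [show n + 3 - 1 = n + 1 + 1 by omega, pow_succ]; norm_num
      rw [e] at h1
      omega
    haveI : IsCyclic (ZMod.unitsMap h4).ker := by
      refine isCyclic_of_orderOf_eq_card ⟨h5.unit, hmem⟩ ?_
      rw [Subgroup.orderOf_mk, hord, hcard]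
    exact SG.of_isCyclic

/-- The bound: every subgroup of the acting group is generated by `s` elements. -/
def Bound (x s : ℕ) : Prop := 2 ^ s ≤ x - 1 ∧ (¬ x.Prime → 2 ^ (s + 1) ≤ x - 1)

theorem eq_inv_of_isIrreducible {V : Type*} [CommGroup V] (P : Subgroup (MulAut V))
    (hirr : ∀ W : Subgroup V, (∀ φ ∈ P, ∀ w ∈ W, φ w ∈ W) → W = ⊥ ∨ W = ⊤)
    (z : MulAut V) (hzP : z ∈ P) (hz2 : ∀ v, z (z v) = v) (hz1 : z ≠ 1)
    (hzc : ∀ φ ∈ P, ∀ v, φ (z v) = z (φ v)) : ∀ v, z v = v⁻¹ := by
  intro v
  let W : Subgroup V :=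
    { carrier := {w | z w = w}
      one_mem' := map_one z
      mul_mem' := fun {a b} (ha : z a = a) (hb : z b = b) => by
        show z (a * b) = a * b
        rw [map_mul, ha, hb]
      inv_mem' := fun {a} (ha : z a = a) => by show z a⁻¹ = a⁻¹; rw [map_inv, ha] }
  have hW : W = ⊥ := by
    refine (hirr W fun φ hφ w (hw : z w = w) => ?_).resolve_right fun h => hz1 ?_
    · show z (φ w) = φ w
      rw [← hzc φ hφ, hw]
    · refine MulEquiv.ext fun w => ?_
      exact (h ▸ Subgroup.mem_top w : w ∈ W)
  have h : v * z v ∈ W := by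
    show z (v * z v) = v * z v
    rw [map_mul, hz2, mul_comm]
  rw [hW, Subgroup.mem_bot] at h
  exact (inv_eq_of_mul_eq_one_right h).symm

/-- The fixed subgroup of `e` composed with a sign. -/
def eig {V : Type*} [CommGroup V] (e : MulAut V) (neg : Bool) : Subgroup V where
  carrier := {v | e v = if neg then v⁻¹ else v}
  one_mem' := by cases neg <;> simp
  mul_mem' := by
    intro a b ha hb
    cases neg <;> simp_all [map_mul, mul_comm]
  inv_mem' := by
    intro a ha
    cases neg <;> simp_all [map_inv]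

/-- Restriction to an invariant subgroup. -/
def restrict {V : Type*} [CommGroup V] (H : Subgroup (MulAut V)) (W : Subgroup V)
    (hW : ∀ φ ∈ H, ∀ w ∈ W, φ w ∈ W) : H →* MulAut W where
  toFun φ :=
    { toFun := fun w => ⟨(φ : MulAut V) w, hW φ φ.2 w w.2⟩
      invFun := fun w => ⟨((φ⁻¹ : H) : MulAut V) w, hW _ (φ⁻¹).2 w w.2⟩
      left_inv := fun w => Subtype.ext (by simp)
      right_inv := fun w => Subtype.ext (by simp)
      map_mul' := fun a b => Subtype.ext (map_mul ((φ : MulAut V) : MulAut V) (a : V) (b : V)) }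
  map_one' := MulEquiv.ext fun w => Subtype.ext rfl
  map_mul' φ ψ := MulEquiv.ext fun w => Subtype.ext rfl

/-- A group of automorphisms of a group of prime order is cyclic. -/
theorem sg_of_card_prime {V : Type*} [CommGroup V] [Finite V] {H : Type*} [Group H]
    (f : H →* MulAut V) (hf : Function.Injective f) (hp : (Nat.card V).Prime) : SG H 1 := by
  haveI : Fact (Nat.card V).Prime := ⟨hp⟩
  haveI : IsCyclic V := isCyclic_of_prime_card (p := Nat.card V) rfl
  haveI : IsCyclic (MulAut V) :=
    (MulEquiv.isCyclic (IsCyclic.mulAutMulEquiv (G := V))).mpr (ZMod.isCyclic_units_prime hp)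
  exact SG.of_injective f hf SG.of_isCyclic

/-- A `2`-group of automorphisms of a group of order nine and exponent three has order at most 16. -/
theorem card_le_sixteen {V : Type*} [CommGroup V] [Finite V] (P : Subgroup (MulAut V))
    (hP : IsPGroup 2 P) (h9 : Nat.card V = 9) (he : ∀ v : V, v ^ 3 = 1) : Nat.card P ≤ 16 := by
  classical
  haveI : Fact (Nat.Prime 3) := ⟨Nat.prime_three⟩
  haveI : Fact (Nat.Prime 2) := ⟨Nat.prime_two⟩
  haveI : Nontrivial V := Finite.one_lt_card_iff_nontrivial.mp (by omega)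
  obtain ⟨a, ha⟩ := exists_ne (1 : V)
  set A := Subgroup.zpowers a with hA
  have hAc : Nat.card A = 3 := by
    rw [Nat.card_zpowers]; exact orderOf_eq_prime (he a) ha
  obtain ⟨b, hb⟩ : ∃ b, b ∉ A := by
    by_contra h; push Not at h
    have : A = ⊤ := eq_top_iff.mpr fun v _ => h v
    rw [this, Subgroup.card_top] at hAc; omega
  let S := MulAction.stabilizer P a
  have horb : Nat.card (MulAction.orbit P a) ≤ 8 := by
    have hsub : MulAction.orbit P a ⊆ {(1 : V)}ᶜ := by
      rintro _ ⟨φ, rfl⟩ h
      refine ha ((φ : MulAut V).injective ?_)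
      rw [map_one]; exact h
    refine (Nat.card_mono (Set.toFinite _) hsub).trans ?_
    rw [Nat.card_coe_set_eq, Set.ncard_compl, Set.ncard_singleton, h9]
  -- two elements of `S` with the same effect on the coset of `b` agree
  have hS : ∀ φ : S, φ ≠ 1 → ((φ : P) : MulAut V) b * b⁻¹ ∉ A := by
    intro φ hφ hmem
    apply hφ
    have hfa : ((φ : P) : MulAut V) a = a := φ.2
    have hfA : ∀ v ∈ A, ((φ : P) : MulAut V) v = v := by
      rintro _ ⟨i, rfl⟩; simp [map_zpow, hfa]
    set c := ((φ : P) : MulAut V) b * b⁻¹ with hc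
    have hfb : ((φ : P) : MulAut V) b = c * b := by rw [hc]; group
    have hn : ∀ n : ℕ, (((φ : P) : MulAut V) ^ n) b = c ^ n * b := by
      intro n
      induction n with
      | zero => simp
      | succ n ih =>
        rw [pow_succ', MulAut.mul_apply, ih, map_mul, map_pow, hfA c hmem, hfb, pow_succ, ← mul_assoc]
    have hn' : ∀ n : ℕ, (((φ : P) : MulAut V) ^ n) a = a := by
      intro n
      induction n with
      | zero => simp
      | succ n ih => rw [pow_succ', MulAut.mul_apply, ih, hfa]
    have heq : ∀ ψ : MulAut V, ψ a = a → ψ b = b → ψ = 1 := by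
      intro ψ h1 h2
      let E : Subgroup V := MonoidHom.eqLocus ψ.toMonoidHom (MonoidHom.id V)
      have hE : E = ⊤ := by
        have hAE : A ≤ E := Subgroup.zpowers_le.mpr h1
        obtain ⟨m, hm⟩ := Subgroup.card_dvd_of_le hAE
        have hd := Subgroup.card_subgroup_dvd_card E
        rw [h9, hm, hAc] at hd
        have hm3 : m ∣ 3 := Nat.dvd_of_mul_dvd_mul_left (by norm_num : 0 < 3) hd
        rcases (Nat.dvd_prime Nat.prime_three).mp hm3 with rfl | rfl
        · exfalso
          have : A = E := Subgroup.eq_of_le_of_card_ge hAE (by rw [hm]; omega)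
          exact hb (this ▸ h2)
        · exact Subgroup.eq_top_of_card_eq E (by rw [hm, hAc, h9])
      refine MulEquiv.ext fun v => ?_
      exact (hE ▸ Subgroup.mem_top v : v ∈ E)
    have h3 : ((φ : P) : MulAut V) ^ 3 = 1 := heq _ (hn' 3) (by rw [hn 3, he c, one_mul])
    have h3' : ((φ : P)) ^ 3 = 1 := Subtype.ext (by simpa using h3)
    obtain ⟨j, hj⟩ := hP (φ : P)
    have hcop : Nat.Coprime 3 (2 ^ j) := Nat.Coprime.pow_right _ (by norm_num)
    have := pow_gcd_eq_one.mpr ⟨h3', hj⟩
    rw [hcop.gcd_eq_one, pow_one] at this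
    exact Subtype.ext this
  have hS2 : Nat.card S ≤ 2 := by
    -- the cosets outside `A` are `A * b` and `A * b⁻¹`
    let g : S → Bool := fun φ => decide (((φ : P) : MulAut V) b * b⁻¹ ∈ A)
    have hcos : ∀ φ : S, ((φ : P) : MulAut V) b ∉ A := by
      intro φ hmem
      obtain ⟨i, hi⟩ := hmem
      apply hb
      refine ⟨i, ((φ : P) : MulAut V).injective ?_⟩
      simp only at hi ⊢
      rw [map_zpow, show ((φ : P) : MulAut V) a = a from φ.2, hi]
    have hg : Function.Injective g := by
      intro φ ψ h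
      by_contra hne
      have h1 : φ⁻¹ * ψ ≠ 1 := fun e => hne (inv_mul_eq_one.mp e)
      apply hS _ h1
      have hidx : A.index = 3 := by
        have := A.card_mul_index; rw [hAc, h9] at this; omega
      set u := ((φ : P) : MulAut V) b with hu
      set w := ((ψ : P) : MulAut V) b with hw
      have hq : Nat.card (V ⧸ A) = 3 := hidx
      have key : u * w⁻¹ ∈ A := by
        by_cases hc : u * b⁻¹ ∈ A
        · have hc' : w * b⁻¹ ∈ A := (decide_eq_decide.mp h).mp hc
          have := A.mul_mem hc (A.inv_mem hc')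
          simpa [mul_comm, mul_assoc, mul_left_comm] using this
        · have hc' : w * b⁻¹ ∉ A := fun h' => hc ((decide_eq_decide.mp h).mpr h')
          haveI : Fintype (V ⧸ A) := Fintype.ofFinite _
          have hbq : (b : V ⧸ A) ≠ 1 := fun e => hb ((QuotientGroup.eq_one_iff b).mp e)
          have hu1 : (u : V ⧸ A) ≠ 1 := fun e => hcos φ ((QuotientGroup.eq_one_iff u).mp e)
          have hw1 : (w : V ⧸ A) ≠ 1 := fun e => hcos ψ ((QuotientGroup.eq_one_iff w).mp e)
          have hub : (u : V ⧸ A) ≠ b := fun e => hc (by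
            rw [← QuotientGroup.eq_one_iff]
            simp [e])
          have hwb : (w : V ⧸ A) ≠ b := fun e => hc' (by
            rw [← QuotientGroup.eq_one_iff]
            simp [e])
          have huw : (u : V ⧸ A) = w := by
            by_contra huw
            have h4 : ({(1 : V ⧸ A), (b : V ⧸ A), (u : V ⧸ A), (w : V ⧸ A)} : Finset (V ⧸ A)).card = 4 := by
              simp [hbq.symm, hu1.symm, hw1.symm, hub.symm, hwb.symm, huw]
            have := Finset.card_le_univ ({(1 : V ⧸ A), (b : V ⧸ A), (u : V ⧸ A), (w : V ⧸ A)} : Finset (V ⧸ A))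
            rw [h4, ← Nat.card_eq_fintype_card, hq] at this
            omega
          rw [← QuotientGroup.eq_one_iff]
          simp [huw]
      -- transport by `φ⁻¹`
      obtain ⟨i, hi⟩ := key
      refine ⟨-i, ?_⟩
      simp only at hi ⊢
      have hfa : (((φ : P)⁻¹ : P) : MulAut V) a = a := (φ⁻¹).2
      have := congrArg (fun v => (((φ : P)⁻¹ : P) : MulAut V) v⁻¹) hi
      simp only [map_inv, map_zpow, map_mul, hfa, ← zpow_neg] at this
      rw [this, hu, hw]
      simp [mul_comm]
    simpa using Nat.card_le_card_of_injective g hg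
  calc Nat.card P = Nat.card (MulAction.orbit P a) * Nat.card S := by
        rw [← Subgroup.index_mul_card S, MulAction.index_stabilizer]; rfl
    _ ≤ 8 * 2 := Nat.mul_le_mul horb hS2
    _ = 16 := by norm_num

/-- If no involution other than inversion has its conjugates inside a pair, the group has a cyclic
self-centralizing normal subgroup. -/
theorem exists_cyclic_selfCentralizing {G : Type*} [Group G] [Finite G] (hG : IsPGroup 2 G) (z : G)
    (hzc : ∀ g, g * z = z * g) (hz2 : z * z = 1)
    (hno : ¬ ∃ e : G, e * e = 1 ∧ e ≠ 1 ∧ e ≠ z ∧ ∀ g, g * e * g⁻¹ = e ∨ g * e * g⁻¹ = z * e) :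
    ∃ A : Subgroup G, A.Normal ∧ IsCyclic A ∧ ∀ c, (∀ a ∈ A, a * c = c * a) → c ∈ A := by
  classical
  haveI : Fact (Nat.Prime 2) := ⟨Nat.prime_two⟩
  haveI : Group.IsNilpotent G := hG.isNilpotent
  obtain ⟨A, hA, hAmax⟩ := (Set.toFinite {A : Subgroup G | A.Normal ∧ ∀ a ∈ A, ∀ b ∈ A, a * b = b * a}).exists_maximal
    ⟨⊥, inferInstance, fun a ha b hb => by simp [Subgroup.mem_bot.mp ha, Subgroup.mem_bot.mp hb]⟩
  obtain ⟨hAn, hAc⟩ := hA
  haveI := hAn
  refine ⟨A, hAn, ?_, ?_⟩
  · -- `A` is cyclic
    letI : CommGroup A :=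
      { (inferInstance : Group A) with mul_comm := fun a b => Subtype.ext (hAc a a.2 b b.2) }
    by_contra hnc
    -- the elements of square one
    let W : Subgroup G :=
      { carrier := {g | g ∈ A ∧ g * g = 1}
        one_mem' := ⟨A.one_mem, one_mul 1⟩
        mul_mem' := fun {a b} ha hb => ⟨A.mul_mem ha.1 hb.1, by
          calc a * b * (a * b) = a * (b * a) * b := by group
            _ = a * (a * b) * b := by rw [hAc b hb.1 a ha.1]
            _ = (a * a) * (b * b) := by group
            _ = 1 := by rw [ha.2, hb.2, one_mul]⟩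
        inv_mem' := fun {a} ha => ⟨A.inv_mem ha.1, by rw [← mul_inv_rev, ha.2, inv_one]⟩ }
    have hWn : W.Normal := ⟨fun a ha g => ⟨hAn.conj_mem a ha.1 g, by
      calc g * a * g⁻¹ * (g * a * g⁻¹) = g * (a * a) * g⁻¹ := by group
        _ = 1 := by rw [ha.2]; group⟩⟩
    haveI := hWn
    haveI hZn : (Subgroup.zpowers z).Normal := ⟨fun a ha g => by
      obtain ⟨i, rfl⟩ := ha
      have : g * z ^ i * g⁻¹ = z ^ i := by
        rw [((show Commute g z from hzc g).zpow_right i).eq, mul_inv_cancel_right]
      rw [this]; exact ⟨i, rfl⟩⟩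
    set π := QuotientGroup.mk' (Subgroup.zpowers z) with hπ
    have hz' : ∀ a ∈ Subgroup.zpowers z, a = 1 ∨ a = z := by
      rintro _ ⟨i, rfl⟩
      have h2 : z ^ (2 : ℤ) = 1 := by rw [zpow_two, hz2]
      rcases Int.even_or_odd' i with ⟨j, rfl | rfl⟩
      · left; show z ^ (2 * j) = 1; rw [zpow_mul, h2, one_zpow]
      · right; show z ^ (2 * j + 1) = z; rw [zpow_add, zpow_mul, h2, one_zpow, one_mul, zpow_one]
    by_cases hWz : W ≤ Subgroup.zpowers z
    · apply hnc
      refine CfsgLib.Char.TwoGroupLinear.isCyclic_of_sq (hG.to_subgroup A) ?_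
      let g : {x : A // x ^ 2 = 1} → Bool := fun x => decide ((x.1 : G) = 1)
      have hg : Function.Injective g := by
        intro x y hxy
        have hW' : ∀ t : {x : A // x ^ 2 = 1}, (t.1 : G) = 1 ∨ (t.1 : G) = z := fun t =>
          hz' _ (hWz ⟨t.1.2, by simpa [pow_two] using congrArg (fun r : A => (r : G)) t.2⟩)
        refine Subtype.ext (Subtype.ext ?_)
        rcases hW' x with h | h <;> rcases hW' y with h' | h' <;> rw [h, h']
        all_goals
          simp only [g, decide_eq_decide, h, h'] at hxy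
          first
          | exact (hxy.mp trivial).symm
          | exact hxy.mpr trivial
      simpa using Nat.card_le_card_of_injective g hg
    · have hne : W.map π ≠ ⊥ := by
        rw [ne_eq, Subgroup.map_eq_bot_iff, hπ, QuotientGroup.ker_mk']
        exact hWz
      haveI : (W.map π).Normal := hWn.map π (QuotientGroup.mk'_surjective _)
      haveI : Group.IsNilpotent (G ⧸ Subgroup.zpowers z) := (hG.to_quotient _).isNilpotent
      obtain ⟨q, hq, hq1⟩ := Subgroup.ne_bot_iff_exists_ne_one.mp (CfsgLib.Critical.inf_center_ne_bot (W.map π) hne) |> fun ⟨x, hx⟩ => (⟨x.1, x.2, fun e => hx (Subtype.ext e)⟩ : ∃ q, q ∈ (W.map π) ⊓ Subgroup.center _ ∧ q ≠ 1)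
      obtain ⟨⟨e, he, rfl⟩, hqc⟩ := hq
      apply hno
      refine ⟨e, he.2, fun h => hq1 (by rw [h, map_one]), fun h => hq1 ?_, fun g => ?_⟩
      · rw [h, hπ]; exact (QuotientGroup.eq_one_iff z).mpr (Subgroup.mem_zpowers z)
      · have h1 : g * e * g⁻¹ * e⁻¹ ∈ Subgroup.zpowers z := by
          rw [← QuotientGroup.eq_one_iff]
          have := Subgroup.mem_center_iff.mp hqc (π g)
          simp only [hπ, QuotientGroup.mk'_apply] at this
          simp only [QuotientGroup.mk_mul, QuotientGroup.mk_inv]
          rw [this]; group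
        rcases hz' _ h1 with h | h
        · left; exact mul_inv_eq_one.mp h
        · right; exact mul_inv_eq_iff_eq_mul.mp h
  · -- self-centralizing
    let C : Subgroup G := Subgroup.centralizer (A : Set G)
    intro c hc
    by_contra hcA
    have hcC : c ∈ C := fun a ha => hc a ha
    haveI : C.Normal := inferInstanceAs (Subgroup.centralizer (A : Set G)).Normal
    have hne : C.map (QuotientGroup.mk' A) ≠ ⊥ := by
      rw [ne_eq, Subgroup.map_eq_bot_iff, QuotientGroup.ker_mk']
      exact fun h => hcA (h hcC)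
    haveI : (C.map (QuotientGroup.mk' A)).Normal :=
      Subgroup.Normal.map inferInstance _ (QuotientGroup.mk'_surjective A)
    haveI : Group.IsNilpotent (G ⧸ A) := (hG.to_quotient _).isNilpotent
    obtain ⟨⟨q, ⟨d, hd, rfl⟩, hqc⟩, hq1⟩ :=
      Subgroup.ne_bot_iff_exists_ne_one.mp (CfsgLib.Critical.inf_center_ne_bot (C.map (QuotientGroup.mk' A)) hne)
    have hdA : d ∉ A := fun h => hq1 (Subtype.ext ((QuotientGroup.eq_one_iff d).mpr h))
    set B := A ⊔ Subgroup.zpowers d with hB
    have hBn : B.Normal := by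
      refine ⟨fun b hb g => ?_⟩
      have hle : B.map (MulAut.conj g).toMonoidHom ≤ B := by
        rw [hB, Subgroup.map_sup, sup_le_iff, MonoidHom.map_zpowers, Subgroup.zpowers_le]
        refine ⟨?_, ?_⟩
        · rintro _ ⟨a, ha, rfl⟩; exact Subgroup.mem_sup_left (hAn.conj_mem a ha g)
        · have h1 : g * d * g⁻¹ * d⁻¹ ∈ A := by
            rw [← QuotientGroup.eq_one_iff]
            have := Subgroup.mem_center_iff.mp hqc (QuotientGroup.mk' A g)
            simp only [QuotientGroup.mk'_apply] at this
            simp only [QuotientGroup.mk_mul, QuotientGroup.mk_inv]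
            rw [this]; group
          have := (A ⊔ Subgroup.zpowers d).mul_mem (Subgroup.mem_sup_left h1)
            (Subgroup.mem_sup_right (Subgroup.mem_zpowers d))
          simpa using this
      exact hle ⟨b, hb, rfl⟩
    have hBc : ∀ a ∈ B, ∀ b ∈ B, a * b = b * a := by
      have hdB : B ≤ Subgroup.centralizer {d} := by
        refine sup_le (fun a ha => ?_) (Subgroup.zpowers_le.mpr ?_)
        · rw [Subgroup.mem_centralizer_singleton_iff]; exact hd a ha
        · rw [Subgroup.mem_centralizer_singleton_iff]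
      have hAB : B ≤ Subgroup.centralizer (A : Set G) := by
        refine sup_le (fun a ha x hx => hAc x hx a ha) (Subgroup.zpowers_le.mpr hd)
      have hBB : B ≤ Subgroup.centralizer (B : Set G) := by
        refine sup_le (fun a ha x hx => ?_) (Subgroup.zpowers_le.mpr fun x hx => ?_)
        · exact (hAB hx a ha).symm
        · exact Subgroup.mem_centralizer_singleton_iff.mp (hdB hx)
      exact fun a ha b hb => hBB hb a ha
    exact hdA (hAmax ⟨hBn, hBc⟩ le_sup_left (Subgroup.mem_sup_right (Subgroup.mem_zpowers d)))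

/-- The main bound. -/
theorem sg_bound : ∀ (n : ℕ) (V : Type u) [CommGroup V] [Finite V], Nat.card V = n → Odd n → 1 < n →
    ∀ P : Subgroup (MulAut V), IsPGroup 2 P →
    (∀ W : Subgroup V, (∀ φ ∈ P, ∀ w ∈ W, φ w ∈ W) → W = ⊥ ∨ W = ⊤) →
    ∃ s, SG P s ∧ Bound n s := by
  intro n
  induction n using Nat.strong_induction_on with
  | h n IH => ?_
  intro V _ _ hn hodd h1 P hP hirr
  classical
  haveI : Fact (Nat.Prime 2) := ⟨Nat.prime_two⟩
  have hodd2 : n % 2 = 1 := Nat.odd_iff.mp hodd
  by_cases hpr : n.Prime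
  · refine ⟨1, sg_of_card_prime P.subtype P.subtype_injective (hn ▸ hpr), ?_, fun h => absurd hpr h⟩
    have := hpr.two_le; omega
  haveI : Nontrivial V := Finite.one_lt_card_iff_nontrivial.mp (hn ▸ h1)
  -- `V` has prime exponent
  obtain ⟨q, hq, hqd⟩ := Nat.exists_prime_and_dvd (n := n) (by omega)
  haveI : Fact q.Prime := ⟨hq⟩
  have hexp : ∀ v : V, v ^ q = 1 := by
    let W : Subgroup V := (powMonoidHom q).ker
    have hW : W = ⊤ := (hirr W fun φ _ w (hw : w ^ q = 1) => by
      show (φ w) ^ q = 1; rw [← map_pow, hw, map_one]).resolve_left fun h => by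
      obtain ⟨v, hv⟩ := exists_prime_orderOf_dvd_card' (G := V) q (hn ▸ hqd)
      have : v ∈ W := by show v ^ q = 1; rw [← hv, pow_orderOf_eq_one]
      rw [h, Subgroup.mem_bot] at this
      rw [this, orderOf_one] at hv
      exact hq.one_lt.ne hv
    exact fun v => (hW ▸ Subgroup.mem_top v : v ∈ W)
  obtain ⟨k, hk⟩ : ∃ k, n = q ^ k := by
    obtain ⟨k, hk⟩ := (IsPGroup.iff_card (p := q) (G := V)).mp fun v => ⟨1, by rw [pow_one]; exact hexp v⟩
    exact ⟨k, hn ▸ hk⟩
  have hq3 : 3 ≤ q := by
    rcases hq.eq_two_or_odd with rfl | h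
    · omega
    · have := hq.two_le; omega
  have hk2 : 2 ≤ k := by
    by_contra h
    interval_cases k
    · simp at hk; omega
    · rw [pow_one] at hk; exact hpr (hk ▸ hq)
  have hn9 : 9 ≤ n := by
    calc 9 = 3 ^ 2 := rfl
      _ ≤ q ^ 2 := Nat.pow_le_pow_left hq3 2
      _ ≤ q ^ k := Nat.pow_le_pow_right (by omega) hk2
      _ = n := hk.symm
  -- `P` is nontrivial, so inversion lies in it
  have hPne : Nontrivial P := by
    by_contra h
    rw [not_nontrivial_iff_subsingleton] at h
    obtain ⟨v, hv⟩ := exists_ne (1 : V)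
    have hz : Subgroup.zpowers v = ⊤ := (hirr _ fun φ hφ w hw => by
      have : (⟨φ, hφ⟩ : P) = 1 := Subsingleton.elim _ _
      rw [show φ = 1 from congrArg Subtype.val this]; exact hw).resolve_left (by simpa using hv)
    have := congrArg (fun K : Subgroup V => Nat.card K) hz
    simp only [Nat.card_zpowers, Subgroup.card_top, hn] at this
    rw [orderOf_eq_prime (hexp v) hv] at this
    exact hpr (this ▸ hq)
  haveI := hP.center_nontrivial
  obtain ⟨z₀, hz₀⟩ : ∃ z₀ : Subgroup.center P, orderOf z₀ = 2 :=
    exists_prime_orderOf_dvd_card' 2 <| by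
      obtain ⟨j, hj0, hj⟩ := (hP.to_subgroup (Subgroup.center P)).nontrivial_iff_card.mp inferInstance
      rw [hj]; exact dvd_pow_self 2 hj0.ne'
  set z : P := (z₀ : P) with hzdef
  have hzc : ∀ g : P, g * z = z * g := fun g => Subgroup.mem_center_iff.mp z₀.2 g
  have hz2 : z * z = 1 := by
    have := pow_orderOf_eq_one z₀
    rw [hz₀, pow_two] at this
    exact congrArg Subtype.val this
  have hz1 : z ≠ 1 := fun h => by
    rw [show z₀ = 1 from Subtype.ext h, orderOf_one] at hz₀; omega
  have hzinv : ∀ v : V, (z : MulAut V) v = v⁻¹ := by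
    refine eq_inv_of_isIrreducible P hirr z z.2 (fun v => ?_) (fun h => hz1 (Subtype.ext h)) ?_
    · exact congrArg (fun f : P => (f : MulAut V) v) hz2
    · intro φ hφ v
      exact congrArg (fun f : P => (f : MulAut V) v) (hzc ⟨φ, hφ⟩)
  by_cases hex : ∃ e : P, e * e = 1 ∧ e ≠ 1 ∧ e ≠ z ∧ ∀ g, g * e * g⁻¹ = e ∨ g * e * g⁻¹ = z * e
  · obtain ⟨e, he2, he1, hez, hconj⟩ := hex
    set U := eig (e : MulAut V) false with hU
    set U' := eig (e : MulAut V) true with hU'
    have memU : ∀ v, v ∈ U ↔ (e : MulAut V) v = v := fun v => by simp [hU, eig]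
    have memU' : ∀ v, v ∈ U' ↔ (e : MulAut V) v = v⁻¹ := fun v => by simp [hU', eig]
    have hee : ∀ v, (e : MulAut V) ((e : MulAut V) v) = v := fun v =>
      congrArg (fun f : P => (f : MulAut V) v) he2
    have hdisj : ∀ v ∈ U, v ∈ U' → v = 1 := by
      intro v h1 h2
      rw [memU] at h1; rw [memU', h1] at h2
      have h3 : v ^ 2 = 1 := by rw [pow_two]; nth_rewrite 1 [h2]; group
      have hcop : Nat.Coprime 2 q := (Nat.coprime_primes Nat.prime_two hq).mpr (by omega)
      have := pow_gcd_eq_one.mpr ⟨h3, hexp v⟩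
      rwa [hcop.gcd_eq_one, pow_one] at this
    have hdec : ∀ v, ∃ a ∈ U, ∃ b ∈ U', a * b = v := by
      intro v
      obtain ⟨t, ht⟩ := (Nat.odd_iff.mpr (by rcases hq.eq_two_or_odd with rfl | h <;> omega) : Odd q)
      refine ⟨(v * (e : MulAut V) v) ^ (t + 1), ?_, (v * ((e : MulAut V) v)⁻¹) ^ (t + 1), ?_, ?_⟩
      · rw [memU, map_pow, map_mul, hee, mul_comm]
      · rw [memU', map_pow, map_mul, map_inv, hee, ← inv_pow, mul_inv_rev, inv_inv]
      · rw [← mul_pow, show v * (e : MulAut V) v * (v * ((e : MulAut V) v)⁻¹) = v ^ 2 by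
          rw [mul_mul_mul_comm, mul_inv_cancel, mul_one, pow_two], ← pow_mul,
          show 2 * (t + 1) = q + 1 by omega, pow_succ, hexp, one_mul]
    -- the conjugate `z * e`
    have hnc : ∃ g : P, g * e * g⁻¹ = z * e := by
      by_contra h
      push Not at h
      have hc : ∀ g : P, g * e = e * g := fun g =>
        mul_inv_eq_iff_eq_mul.mp ((hconj g).resolve_right (h g))
      have hWinv : ∀ φ ∈ P, ∀ w ∈ U, φ w ∈ U := fun φ hφ w hw => by
        rw [memU] at hw ⊢
        have := congrArg (fun f : P => (f : MulAut V) w) (hc ⟨φ, hφ⟩)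
        simp only [Subgroup.coe_mul, MulAut.mul_apply] at this
        rw [← this, hw]
      rcases hirr U hWinv with h0 | h0
      · apply hez
        refine Subtype.ext (MulEquiv.ext fun v => ?_)
        obtain ⟨a, ha, b, hb, hab⟩ := hdec v
        rw [h0, Subgroup.mem_bot] at ha
        rw [hzinv, ← hab, ha, one_mul]
        exact (memU' b).mp hb
      · apply he1
        refine Subtype.ext (MulEquiv.ext fun v => ?_)
        exact (memU v).mp (h0 ▸ Subgroup.mem_top v)
    obtain ⟨g₀, hg₀⟩ := hnc
    have hze : z * e ≠ e := fun h => hz1 (mul_eq_right.mp h)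
    let H : Subgroup P := Subgroup.centralizer {e}
    have memH : ∀ g : P, g ∈ H ↔ g * e * g⁻¹ = e := fun g => by
      rw [mul_inv_eq_iff_eq_mul]; exact Subgroup.mem_centralizer_singleton_iff
    have hH2 : H.index = 2 := by
      rw [Subgroup.index_eq_two_iff]
      refine ⟨g₀, fun g => ?_⟩
      have hcg : g * g₀ * e * (g * g₀)⁻¹ = z * (g * e * g⁻¹) := by
        calc g * g₀ * e * (g * g₀)⁻¹ = g * (g₀ * e * g₀⁻¹) * g⁻¹ := by group
          _ = (g * z) * e * g⁻¹ := by rw [hg₀]; group
          _ = z * (g * e * g⁻¹) := by rw [hzc]; group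
      rcases hconj g with h | h
      · refine Or.inr ⟨(memH g).mpr h, fun h' => hze ?_⟩
        rw [memH, hcg, h] at h'; exact h'
      · refine Or.inl ⟨?_, fun h' => hze ?_⟩
        · rw [memH, hcg, h, ← mul_assoc, hz2, one_mul]
        · rw [memH, h] at h'; exact h'
    haveI : H.Normal := Subgroup.normal_of_index_eq_two hH2
    set M := H.map P.subtype with hM
    have hMP : M ≤ P := Subgroup.map_subtype_le H
    have hMe : ∀ φ ∈ M, ∀ v, φ ((e : MulAut V) v) = (e : MulAut V) (φ v) := by
      rintro _ ⟨g, hg, rfl⟩ v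
      exact congrArg (fun f : P => (f : MulAut V) v) (Subgroup.mem_centralizer_singleton_iff.mp hg)
    have hMU : ∀ φ ∈ M, ∀ w ∈ U, φ w ∈ U := fun φ hφ w hw => by
      rw [memU] at hw ⊢; rw [← hMe φ hφ, hw]
    have hMU' : ∀ φ ∈ M, ∀ w ∈ U', φ w ∈ U' := fun φ hφ w hw => by
      rw [memU'] at hw ⊢; rw [← hMe φ hφ, hw, map_inv]
    have hout : ∀ g : P, g ∉ H → (∀ w ∈ U, (g : MulAut V) w ∈ U') ∧ ∀ w ∈ U', (g : MulAut V) w ∈ U := by
      intro g hg
      have hge : g * e = z * e * g := mul_inv_eq_iff_eq_mul.mp ((hconj g).resolve_left fun h => hg ((memH g).mpr h))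
      have key : ∀ w, (g : MulAut V) ((e : MulAut V) w) = ((e : MulAut V) ((g : MulAut V) w))⁻¹ :=
        fun w => (congrArg (fun f : P => (f : MulAut V) w) hge).trans (hzinv _)
      constructor
      · intro w hw; rw [memU] at hw; rw [memU']
        have := key w; rw [hw] at this
        rw [← inv_inj]; simpa using this.symm
      · intro w hw; rw [memU'] at hw; rw [memU]
        have := key w; rw [hw, map_inv, inv_inj] at this
        exact this.symm
    have hg₀H : g₀ ∉ H := fun h => hze (by rw [memH, hg₀] at h; exact h)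
    have hg₀i : g₀⁻¹ ∉ H := fun h => hg₀H (by simpa using H.inv_mem h)
    -- the two pieces have the same order
    have hcardU : Nat.card U = Nat.card U' := by
      refine le_antisymm
        (Nat.card_le_card_of_injective (fun w : U => (⟨(g₀ : MulAut V) w, (hout g₀ hg₀H).1 w w.2⟩ : U'))
          fun a b h => Subtype.ext ((g₀ : MulAut V).injective (congrArg Subtype.val h)))
        (Nat.card_le_card_of_injective (fun w : U' => (⟨(g₀ : MulAut V) w, (hout g₀ hg₀H).2 w w.2⟩ : U))
          fun a b h => Subtype.ext ((g₀ : MulAut V).injective (congrArg Subtype.val h)))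
    set y := Nat.card U with hy
    have hny : n = y * y := by
      rw [← hn]
      have hbij : Function.Bijective (fun t : U × U' => ((t.1 : V) * t.2)) := by
        constructor
        · rintro ⟨a, b⟩ ⟨c, d⟩ h
          simp only at h
          have h' : (c : V)⁻¹ * a = d * (b : V)⁻¹ := by
            rw [inv_mul_eq_iff_eq_mul, ← mul_assoc, ← h]; group
          have h1 := hdisj _ (U.mul_mem (U.inv_mem c.2) a.2)
            (h' ▸ U'.mul_mem d.2 (U'.inv_mem b.2))
          have h2 : (a : V) = c := (inv_mul_eq_one.mp h1).symm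
          rw [h1] at h'
          exact Prod.ext (Subtype.ext h2) (Subtype.ext (mul_inv_eq_one.mp h'.symm).symm)
        · intro v
          obtain ⟨a, ha, b, hb, hab⟩ := hdec v
          exact ⟨(⟨a, ha⟩, ⟨b, hb⟩), hab⟩
      rw [← Nat.card_congr (Equiv.ofBijective _ hbij), Nat.card_prod, ← hcardU]
    have hy1 : 1 < y := by
      rcases Nat.lt_or_ge 1 y with h | h
      · exact h
      · interval_cases y <;> omega
    have hylt : y < n := by rw [hny]; nlinarith
    have hyodd : Odd y := (Nat.odd_mul.mp (hny ▸ hodd)).1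
    -- irreducibility of the pieces
    have hirrU : ∀ (X X' : Subgroup V) (hX : ∀ φ ∈ M, ∀ w ∈ X, φ w ∈ X),
        (∀ g : P, g ∉ H → (∀ w ∈ X, (g : MulAut V) w ∈ X') ∧ ∀ w ∈ X', (g : MulAut V) w ∈ X) →
        (∀ v ∈ X, v ∈ X' → v = 1) →
        ∀ W : Subgroup X, (∀ f ∈ (restrict M X hX).range, ∀ w ∈ W, f w ∈ W) → W = ⊥ ∨ W = ⊤ := by
      intro X X' hX hsw hd W hW
      set W₁ := W.map X.subtype with hW₁
      have hW₁X : W₁ ≤ X := Subgroup.map_subtype_le W
      have hMW : ∀ g : P, g ∈ H → ∀ w ∈ W₁, (g : MulAut V) w ∈ W₁ := by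
        rintro g hg _ ⟨w, hw, rfl⟩
        exact ⟨_, hW _ ⟨⟨(g : MulAut V), g, hg, rfl⟩, rfl⟩ w hw, rfl⟩
      set W₂ := W₁.map (g₀ : MulAut V).toMonoidHom with hW₂
      have hW₂X : W₂ ≤ X' := by
        rintro _ ⟨w, hw, rfl⟩; exact (hsw g₀ hg₀H).1 w (hW₁X hw)
      have hinv : ∀ φ ∈ P, ∀ w ∈ W₁ ⊔ W₂, φ w ∈ W₁ ⊔ W₂ := by
        intro φ hφ
        have hle : (W₁ ⊔ W₂).map φ.toMonoidHom ≤ W₁ ⊔ W₂ := by
          rw [Subgroup.map_sup, sup_le_iff]
          by_cases hφH : (⟨φ, hφ⟩ : P) ∈ H
          · refine ⟨?_, ?_⟩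
            · rintro _ ⟨w, hw, rfl⟩; exact Subgroup.mem_sup_left (hMW _ hφH w hw)
            · rintro _ ⟨_, ⟨w, hw, rfl⟩, rfl⟩
              refine Subgroup.mem_sup_right ⟨_, hMW (g₀⁻¹ * ⟨φ, hφ⟩ * g₀) ?_ w hw, ?_⟩
              · simpa using (inferInstance : H.Normal).conj_mem _ hφH g₀⁻¹
              · simp
          · have hmul : ∀ a b : P, a ∉ H → b ∉ H → a * b ∈ H := fun a b ha hb =>
              (Subgroup.mul_mem_iff_of_index_two hH2).mpr (iff_of_false ha hb)
            refine ⟨?_, ?_⟩
            · rintro _ ⟨w, hw, rfl⟩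
              refine Subgroup.mem_sup_right ⟨_, hMW _ (hmul g₀⁻¹ ⟨φ, hφ⟩ hg₀i hφH) w hw, ?_⟩
              simp
            · rintro _ ⟨_, ⟨w, hw, rfl⟩, rfl⟩
              exact Subgroup.mem_sup_left (hMW _ (hmul ⟨φ, hφ⟩ g₀ hφH hg₀H) w hw)
        exact fun w hw => hle ⟨w, hw, rfl⟩
      rcases hirr _ hinv with h0 | h0
      · left
        have h2 : W₁ = ⊥ := le_bot_iff.mp (h0 ▸ le_sup_left)
        exact (Subgroup.map_eq_bot_iff_of_injective W X.subtype_injective).mp h2
      · right
        refine eq_top_iff.mpr fun x _ => ?_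
        obtain ⟨a, ha, b, hb, hab⟩ := Subgroup.mem_sup.mp (h0 ▸ Subgroup.mem_top (x : V) : (x : V) ∈ W₁ ⊔ W₂)
        have hb1 : b = 1 := hd b (by
          have : b = a⁻¹ * (x : V) := by rw [← hab]; group
          rw [this]; exact X.mul_mem (X.inv_mem (hW₁X ha)) x.2) (hW₂X hb)
        rw [hb1, mul_one] at hab
        obtain ⟨w, hw, hwx⟩ := ha
        rwa [show x = w from Subtype.ext (hab ▸ hwx.symm)]
    set f := restrict M U hMU with hf
    set f' := restrict M U' hMU' with hf'
    have hinjM : ∀ x : M, f x = 1 → f' x = 1 → x = 1 := by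
      intro x hx hx'
      refine Subtype.ext (MulEquiv.ext fun v => ?_)
      obtain ⟨a, ha, b, hb, rfl⟩ := hdec v
      have h1 := congrArg (fun F : MulAut U => ((F ⟨a, ha⟩ : U) : V)) hx
      have h2 := congrArg (fun F : MulAut U' => ((F ⟨b, hb⟩ : U') : V)) hx'
      simp only [hf, hf', restrict] at h1 h2
      rw [map_mul]
      exact congrArg₂ (· * ·) h1 h2
    have hMp : IsPGroup 2 M := hP.to_le hMP
    have hMiso : ∀ s, SG M s → SG P (1 + s) := by
      intro s hs
      haveI : IsCyclic (P ⧸ H) := isCyclic_of_prime_card (p := 2) hH2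
      refine SG.ext (QuotientGroup.mk' H) SG.of_isCyclic ?_
      refine SG.of_injective ((H.equivMapOfInjective P.subtype P.subtype_injective).toMonoidHom.comp
        (MulEquiv.subgroupCongr (QuotientGroup.ker_mk' H)).toMonoidHom) ?_ hs
      exact (H.equivMapOfInjective _ P.subtype_injective).injective.comp
        (MulEquiv.subgroupCongr (QuotientGroup.ker_mk' H)).injective
    by_cases hyp : y.Prime
    · -- the pieces have prime order
      have hs1 : SG f.range 1 := sg_of_card_prime f.range.subtype f.range.subtype_injective hyp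
      have hs2 : SG f'.range 1 :=
        sg_of_card_prime f'.range.subtype f'.range.subtype_injective (hcardU ▸ hyp)
      have hs : SG M (1 + 1) := SG.prod f.rangeRestrict f'.rangeRestrict
        (fun x h h' => hinjM x (congrArg Subtype.val h) (congrArg Subtype.val h')) hs1 hs2
      by_cases hy3 : y = 3
      · refine ⟨2, ?_, ?_, fun _ => ?_⟩
        · -- the group has order at most eight
          have hM4 : Nat.card M ≤ 4 := by
            have haut : ∀ X : Subgroup V, Nat.card X = 3 → Nat.card (MulAut X) = 2 := fun X hX => by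
              haveI : Fact (Nat.Prime 3) := ⟨Nat.prime_three⟩
              haveI : IsCyclic X := isCyclic_of_prime_card (p := 3) hX
              rw [IsCyclic.card_mulAut, hX]; rfl
            have hinj : Function.Injective (fun x : M => (f x, f' x)) := by
              intro a b h
              simp only [Prod.mk.injEq] at h
              refine inv_mul_eq_one.mp (hinjM _ ?_ ?_)
              · rw [map_mul, map_inv, h.1, inv_mul_cancel]
              · rw [map_mul, map_inv, h.2, inv_mul_cancel]
            have := Nat.card_le_card_of_injective _ hinj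
            rw [Nat.card_prod, haut U hy3, haut U' (hcardU ▸ hy3)] at this
            exact this
          have hMH : Nat.card M = Nat.card H :=
            (Nat.card_congr (H.equivMapOfInjective _ P.subtype_injective).toEquiv).symm
          obtain ⟨j, hj⟩ := (IsPGroup.iff_card.mp hP)
          have hP8 : Nat.card P ≤ 8 := by
            rw [← H.card_mul_index, hH2]; omega
          refine SG.of_card_dvd_eight ?_ ⟨g₀, e, fun h => hze ?_⟩
          · rw [hj] at hP8 ⊢
            refine Nat.pow_dvd_pow 2 (?_ : j ≤ 3)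
            by_contra hlt
            have : 2 ^ 4 ≤ 2 ^ j := Nat.pow_le_pow_right (by norm_num) (show 4 ≤ j by omega)
            omega
          · rw [← hg₀, h]; group
        · rw [hny, hy3]; norm_num
        · rw [hny, hy3]; norm_num
      · refine ⟨3, hMiso _ hs, ?_, fun _ => ?_⟩
        all_goals
          have h5 : 5 ≤ y := by
            rcases hyodd with ⟨t, ht⟩; omega
          have : 25 ≤ n := by rw [hny]; exact Nat.mul_le_mul h5 h5
          norm_num
          omega
    · -- induction
      obtain ⟨s1, hs1, -, hb1⟩ := IH y hylt U rfl hyodd hy1 f.range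
        (hMp.of_surjective f.rangeRestrict f.rangeRestrict_surjective) (hirrU U U' hMU hout hdisj)
      obtain ⟨s2, hs2, -, hb2⟩ := IH y hylt U' hcardU.symm hyodd hy1 f'.range
        (hMp.of_surjective f'.rangeRestrict f'.rangeRestrict_surjective)
        (hirrU U' U hMU' (fun g hg => ⟨(hout g hg).2, (hout g hg).1⟩) fun v a b => hdisj v b a)
      have h := Nat.mul_le_mul (hb1 hyp) (hb2 hyp)
      refine ⟨1 + (s1 + s2), hMiso _ (SG.prod f.rangeRestrict f'.rangeRestrict
        (fun x h h' => hinjM x (congrArg Subtype.val h) (congrArg Subtype.val h')) hs1 hs2), ?_⟩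
      have e1 : 2 ^ (1 + (s1 + s2) + 1) = 2 ^ (s1 + 1) * 2 ^ (s2 + 1) := by
        rw [← pow_add]; congr 1; omega
      have e2 : 2 ^ (1 + (s1 + s2) + 1) ≤ n - 1 := by
        rw [e1]
        refine h.trans ?_
        rw [hny]
        obtain ⟨w, hw⟩ : ∃ w, y = w + 1 := ⟨y - 1, by omega⟩
        simp only [hw, Nat.add_sub_cancel]
        have : (w + 1) * (w + 1) = w * w + 2 * w + 1 := by ring
        omega
      refine ⟨le_trans ?_ e2, fun _ => e2⟩
      exact Nat.pow_le_pow_right (by norm_num) (by omega)
  · -- cyclic self-centralizing normal subgroup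
    obtain ⟨A, hAn, hAcyc, hAcent⟩ := exists_cyclic_selfCentralizing hP z hzc hz2 hex
    haveI := hAn
    haveI := hAcyc
    set f : P →* MulAut A := MulAut.conjNormal with hf
    have hker : ∀ x : P, x ∈ f.ker → x ∈ A := by
      intro x hx
      refine hAcent x fun a ha => ?_
      have h := congrArg (fun F : MulAut A => ((F ⟨a, ha⟩ : A) : P)) (MonoidHom.mem_ker.mp hx)
      simp only [hf, MulAut.conjNormal_apply] at h
      calc a * x = (x * a * x⁻¹) * x := by rw [h]; rfl
        _ = x * a := by group
    have hkA : SG f.ker 1 :=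
      SG.of_injective (f.ker.subtype.codRestrict A (fun x => hker x x.2))
        (fun a b h => Subtype.ext (congrArg (fun t : A => (t : P)) h)) SG.of_isCyclic
    obtain ⟨j, hj⟩ := IsPGroup.iff_card.mp (hP.to_subgroup A)
    have hsg : SG f.range 2 := by
      refine SG.of_injective ((IsCyclic.mulAutMulEquiv (G := A)).toMonoidHom.comp f.range.subtype)
        ((IsCyclic.mulAutMulEquiv (G := A)).injective.comp f.range.subtype_injective) ?_
      rw [hj]; exact sg_units_two_pow j
    by_cases h9 : n = 9
    · have hq3' : q = 3 := by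
        have hd : q ∣ 3 ^ 2 := by norm_num; exact h9 ▸ hqd
        exact (Nat.prime_dvd_prime_iff_eq hq Nat.prime_three).mp (hq.dvd_of_dvd_pow hd)
      have hP16 := card_le_sixteen P hP (hn.trans h9) (hq3' ▸ hexp)
      haveI : IsCyclic f.range := by
        rcases Nat.lt_or_ge j 3 with hj3 | hj3
        · haveI : IsCyclic (MulAut A) :=
            (MulEquiv.isCyclic (IsCyclic.mulAutMulEquiv (G := A))).mpr
              (by rw [hj]; exact (ZMod.isCyclic_units_two_pow_iff j).mpr (by omega))
          exact Subgroup.isCyclic _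
        · have h8 : 8 ≤ Nat.card A := hj ▸ Nat.pow_le_pow_right (by norm_num : 0 < 2) hj3
          have hAk : A ≤ f.ker := by
            intro a ha
            rw [MonoidHom.mem_ker]
            refine MulEquiv.ext fun b => Subtype.ext ?_
            simp only [hf, MulAut.conjNormal_apply, MulAut.one_apply]
            rw [show a * (b : P) = b * a from congrArg Subtype.val (mul_comm' (⟨a, ha⟩ : A) b)]
            group
          have hle := (Subgroup.card_le_of_le hAk)
          have hmul := f.ker.card_mul_index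
          rw [Subgroup.index_ker] at hmul
          have hr2 : Nat.card f.range ≤ 2 := by
            by_contra hlt
            have : 8 * 3 ≤ Nat.card f.ker * Nat.card f.range := Nat.mul_le_mul (h8.trans hle) (by omega)
            omega
          rcases Nat.lt_or_ge (Nat.card f.range) 2 with h | h
          · haveI : Subsingleton f.range :=
              (Nat.card_eq_one_iff_unique.mp (by have := Nat.card_pos (α := f.range); omega)).1
            exact isCyclic_of_subsingleton
          · exact isCyclic_of_prime_card (p := 2) (le_antisymm hr2 h)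
      have hkA' : SG f.rangeRestrict.ker 1 :=
        SG.of_injective (MulEquiv.subgroupCongr f.ker_rangeRestrict).toMonoidHom
          (MulEquiv.subgroupCongr f.ker_rangeRestrict).injective hkA
      refine ⟨1 + 1, SG.ext f.rangeRestrict SG.of_isCyclic hkA', ?_, fun _ => ?_⟩ <;> (subst h9; norm_num)
    · have hkA' : SG f.rangeRestrict.ker 1 :=
        SG.of_injective (MulEquiv.subgroupCongr f.ker_rangeRestrict).toMonoidHom
          (MulEquiv.subgroupCongr f.ker_rangeRestrict).injective hkA
      refine ⟨2 + 1, SG.ext f.rangeRestrict hsg hkA', ?_, fun _ => ?_⟩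
      all_goals
        have : 17 ≤ n := by
          by_contra hlt
          rcases Nat.lt_or_ge q 5 with h5 | h5
          · have hq3' : q = 3 := by
              interval_cases q
              · rfl
              · exact absurd hq (by norm_num)
            subst hq3'
            rcases Nat.lt_or_ge k 3 with h | h
            · interval_cases k; exact h9 (by rw [hk]; norm_num)
            · have : 3 ^ 3 ≤ 3 ^ k := Nat.pow_le_pow_right (by norm_num) h
              omega
          · have h25 : 5 ^ 2 ≤ q ^ k :=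
              (Nat.pow_le_pow_left h5 2).trans (Nat.pow_le_pow_right (by omega) hk2)
            omega
        norm_num
        omega

end CfsgLib.TwoOddModule
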