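import Mathlib

/-!
Central extensions by elementary abelian groups are determined by the squaring map.
-/

set_option autoImplicit false
set_option linter.style.haveILetI false

namespace CfsgLib.SqExtTwo

/-- A central extension of `A` by `B` with squaring map `q`. -/
structure SqExt₂ (P : Type*) [Group P] {A B : Type*} [AddCommGroup A] [AddCommGroup B] (q : A → B) where
  /-- The quotient map. -/
  j : P →* Multiplicative A
  /-- The inclusion of the centre. -/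
  ι : Multiplicative B →* P
  surj : Function.Surjective j
  inj : Function.Injective ι
  exact : ∀ p, j p = 1 ↔ p ∈ ι.range
  central : ∀ t p, p * ι t = ι t * p
  sq : ∀ p, p * p = ι (Multiplicative.ofAdd (q (j p).toAdd))

/-- Extensions with the same squaring map are isomorphic over the quotient. -/
theorem SqExt₂.exists_mulEquiv {P Q U W : Type*} [Group P] [Group Q] [Finite P] [Finite Q]
    [AddCommGroup U] [AddCommGroup W] {q : U → W} (A : SqExt₂ P q) (B : SqExt₂ Q q) : ∃ e : P ≃* Q, ∀ p, B.j (e p) = A.j p := by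
  classical
  let R : Subgroup (P × Q) := MonoidHom.eqLocus (A.j.comp (MonoidHom.fst P Q)) (B.j.comp (MonoidHom.snd P Q))
  have memR : ∀ x : P × Q, x ∈ R ↔ A.j x.1 = B.j x.2 := fun x => Iff.rfl
  set Δ := (A.ι.prod B.ι).range with hΔ
  set Z1 := (A.ι.prod (1 : Multiplicative W →* Q)).range with hZ1
  have hιj : ∀ t, A.j (A.ι t) = 1 := fun t => (A.exact _).mpr ⟨t, rfl⟩
  have hιj' : ∀ t, B.j (B.ι t) = 1 := fun t => (B.exact _).mpr ⟨t, rfl⟩
  have hΔR : Δ ≤ R := by rintro _ ⟨t, rfl⟩; rw [memR]; exact (hιj t).trans (hιj' t).symm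
  have hsq : ∀ x ∈ R, x * x ∈ Δ := fun x hx => ⟨Multiplicative.ofAdd (q (A.j x.1).toAdd),
    Prod.ext (A.sq x.1).symm (by
      show B.ι (Multiplicative.ofAdd (q (A.j x.1).toAdd)) = x.2 * x.2
      rw [B.sq x.2, (memR x).mp hx])⟩
  -- a subgroup containing `Δ` contains the commutators of `R`
  have hcomm : ∀ Γ : Subgroup (P × Q), Δ ≤ Γ → ∀ a ∈ R, ∀ b ∈ R, a * b * a⁻¹ * b⁻¹ ∈ Γ := by
    intro Γ hΓ a ha b hb
    have h := Γ.mul_mem (Γ.mul_mem (hΓ (hsq a ha)) (hΓ (hsq _ (R.mul_mem (R.inv_mem ha) hb))))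
      (Γ.inv_mem (hΓ (hsq b hb)))
    have e : a * a * (a⁻¹ * b * (a⁻¹ * b)) * (b * b)⁻¹ = a * b * a⁻¹ * b⁻¹ := by group
    rwa [e] at h
  obtain ⟨Γ, ⟨hΓΔ, hΓR, hΓZ⟩, hmax⟩ := (Set.toFinite {Γ : Subgroup (P × Q) | Δ ≤ Γ ∧ Γ ≤ R ∧ Γ ⊓ Z1 = ⊥}).exists_maximal
    ⟨Δ, le_rfl, hΔR, by
      rw [eq_bot_iff]
      rintro _ ⟨⟨t, rfl⟩, u, hu⟩
      have h2 : (1 : Q) = B.ι t := congrArg Prod.snd hu
      have ht : t = 1 := B.inj (h2.symm.trans (map_one B.ι).symm)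
      rw [Subgroup.mem_bot, ht, map_one]⟩
  -- `Γ` and `Z1` generate `R`
  have hgen : ∀ x ∈ R, ∃ γ ∈ Γ, ∃ z ∈ Z1, x = γ * z := by
    intro x hx
    by_contra hne
    push Not at hne
    have hconj : ∀ γ ∈ Γ, x * γ * x⁻¹ ∈ Γ := fun γ hγ => by
      have := Γ.mul_mem (hcomm Γ hΓΔ x hx γ (hΓR hγ)) hγ
      rwa [inv_mul_cancel_right] at this
    have hxx : x * x ∈ Γ := hΓΔ (hsq x hx)
    let Γ' : Subgroup (P × Q) :=
      { carrier := {y | y ∈ Γ ∨ y * x⁻¹ ∈ Γ}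
        one_mem' := Or.inl Γ.one_mem
        mul_mem' := fun {a b} ha hb => by
          rcases ha with ha | ha <;> rcases hb with hb | hb
          · exact Or.inl (Γ.mul_mem ha hb)
          · exact Or.inr (by rw [mul_assoc]; exact Γ.mul_mem ha hb)
          · refine Or.inr ?_
            have := Γ.mul_mem ha (hconj b hb)
            rwa [show a * x⁻¹ * (x * b * x⁻¹) = a * b * x⁻¹ by group] at this
          · refine Or.inl ?_
            have := Γ.mul_mem (Γ.mul_mem ha (hconj _ hb)) hxx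
            rwa [show a * x⁻¹ * (x * (b * x⁻¹) * x⁻¹) * (x * x) = a * b by group] at this
        inv_mem' := fun {a} ha => by
          rcases ha with ha | ha
          · exact Or.inl (Γ.inv_mem ha)
          · refine Or.inr ?_
            have := Γ.mul_mem (Γ.inv_mem hxx) (hconj _ (Γ.inv_mem ha))
            rwa [show (x * x)⁻¹ * (x * (a * x⁻¹)⁻¹ * x⁻¹) = x⁻¹ * (x * a⁻¹ * x⁻¹) by group,
              show x⁻¹ * (x * a⁻¹ * x⁻¹) = a⁻¹ * x⁻¹ by group] at this }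
    have hΓ'Z : Γ' ⊓ Z1 = ⊥ := by
      rw [eq_bot_iff]
      rintro y ⟨hy | hy, hyZ⟩
      · exact hΓZ ▸ ⟨hy, hyZ⟩
      · exact absurd (by group : x = (y * x⁻¹)⁻¹ * y) (hne _ (Γ.inv_mem hy) y hyZ)
    have hle : Γ' ≤ Γ := hmax ⟨fun y hy => Or.inl (hΓΔ hy), fun y hy => by
      rcases hy with hy | hy
      · exact hΓR hy
      · have := R.mul_mem (hΓR hy) hx
        rwa [inv_mul_cancel_right] at this, hΓ'Z⟩ (fun y hy => Or.inl hy)
    have hxΓ : x ∈ Γ := hle (Or.inr (by rw [mul_inv_cancel]; exact Γ.one_mem))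
    exact hne x hxΓ 1 Z1.one_mem (mul_one x).symm
  -- the projections are bijective
  let fP : Γ →* P := (MonoidHom.fst P Q).comp Γ.subtype
  let fQ : Γ →* Q := (MonoidHom.snd P Q).comp Γ.subtype
  have hPinj : Function.Injective fP := by
    rw [injective_iff_map_eq_one]
    rintro ⟨⟨p, r⟩, hx⟩ h
    change p = 1 at h
    subst h
    have h1 : A.j 1 = B.j r := hΓR hx
    rw [map_one] at h1
    obtain ⟨t, rfl⟩ := (B.exact r).mp h1.symm
    have hmem : ((A.ι t)⁻¹, (1 : Q)) ∈ Γ := by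
      have := Γ.mul_mem hx (Γ.inv_mem (hΓΔ ⟨t, rfl⟩))
      simpa using this
    have : ((A.ι t)⁻¹, (1 : Q)) ∈ Γ ⊓ Z1 := ⟨hmem, t⁻¹, by simp⟩
    rw [hΓZ, Subgroup.mem_bot] at this
    have ht : t = 1 := A.inj (by simpa using (inv_eq_one.mp (congrArg Prod.fst this)))
    exact Subtype.ext (by simp [ht])
  have hPsurj : Function.Surjective fP := by
    intro p
    obtain ⟨r, hr⟩ := B.surj (A.j p)
    obtain ⟨γ, hγ, z, ⟨u, rfl⟩, he⟩ := hgen (p, r) hr.symm
    refine ⟨⟨γ * (A.ι.prod B.ι) u, Γ.mul_mem hγ (hΓΔ ⟨u, rfl⟩)⟩, ?_⟩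
    exact (congrArg Prod.fst he).symm
  have hQinj : Function.Injective fQ := by
    rw [injective_iff_map_eq_one]
    rintro ⟨⟨p, r⟩, hx⟩ h
    change r = 1 at h
    subst h
    have h1 : A.j p = B.j 1 := hΓR hx
    rw [map_one] at h1
    obtain ⟨t, rfl⟩ := (A.exact p).mp h1
    have : (A.ι t, (1 : Q)) ∈ Γ ⊓ Z1 := ⟨hx, t, by simp⟩
    rw [hΓZ, Subgroup.mem_bot] at this
    exact Subtype.ext this
  have hQsurj : Function.Surjective fQ := by
    intro r
    obtain ⟨p, hp⟩ := A.surj (B.j r)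
    obtain ⟨γ, hγ, z, ⟨u, rfl⟩, he⟩ := hgen (p, r) hp
    exact ⟨⟨γ, hγ⟩, by simpa [fQ] using (congrArg Prod.snd he).symm⟩
  refine ⟨(MulEquiv.ofBijective fP ⟨hPinj, hPsurj⟩).symm.trans (MulEquiv.ofBijective fQ ⟨hQinj, hQsurj⟩),
    fun p => ?_⟩
  obtain ⟨γ, rfl⟩ := hPsurj p
  show B.j (fQ ((MulEquiv.ofBijective fP ⟨hPinj, hPsurj⟩).symm (MulEquiv.ofBijective fP ⟨hPinj, hPsurj⟩ γ))) = _
  rw [MulEquiv.symm_apply_apply]
  exact (hΓR γ.2).symm

/-- Extensions with the same squaring map are isomorphic. -/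
theorem SqExt₂.nonempty_mulEquiv {P Q U W : Type*} [Group P] [Group Q] [Finite P] [Finite Q]
    [AddCommGroup U] [AddCommGroup W] {q : U → W} (A : SqExt₂ P q) (B : SqExt₂ Q q) : Nonempty (P ≃* Q) :=
  ⟨(SqExt₂.exists_mulEquiv A B).choose⟩

end CfsgLib.SqExtTwo
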