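import Cfsg.Agent.Lib.PGroup.CentralFour
import Cfsg.Agent.Lib.PGroup.SuzukiField
import Cfsg.Agent.Lib.PGroup.SqExtTwo

/-!
`2`-groups with an involutory automorphism whose fixed points form a central elementary abelian
group of order `2 ^ n`, permuted transitively by a commuting automorphism of order `2 ^ n - 1`.
-/

set_option autoImplicit false
set_option linter.style.haveILetI false
set_option linter.unusedSectionVars false

namespace CfsgLib.SingerFixed

open CfsgLib.CentralFour (k k_spec k_uniq map_k k_eq_one k_mul_left k_mul_right k_symm sq_mul fixed_mod V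
  qAut qAut_mk)

universe u

/-- The hypothesis. -/
structure Hyp {T : Type u} [Group T] (t ρ : MulAut T) (n : ℕ) : Prop where
  two : IsPGroup 2 T
  hn : 2 ≤ n
  tt : ∀ x, t (t x) = x
  rpow : ρ ^ (2 ^ n - 1) = 1
  comm : ∀ x, t (ρ x) = ρ (t x)
  card : Nat.card {x : T // t x = x} = 2 ^ n
  sq : ∀ x, t x = x → x * x = 1
  central : ∀ v, t v = v → ∀ g, g * v = v * g
  trans : ∀ v w, t v = v → t w = w → v ≠ 1 → w ≠ 1 → ∃ i : ℕ, (ρ ^ i) v = w

/-- A free action has a group order dividing the size of the set. -/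
theorem card_dvd_of_free {G α : Type*} [Group G] [Finite G] [Finite α] [MulAction G α]
    (hfree : ∀ (g : G) (a : α), g • a = a → g = 1) : Nat.card G ∣ Nat.card α := by
  rw [Nat.card_congr (MulAction.selfEquivSigmaOrbitsQuotientStabilizer G α)]
  haveI := Fintype.ofFinite (Quotient (MulAction.orbitRel G α))
  rw [Nat.card_sigma]
  refine Finset.dvd_sum fun o _ => ?_
  rw [← Subgroup.index_eq_card, show MulAction.stabilizer G o.out = ⊥ from
    (Subgroup.eq_bot_iff_forall _).mpr fun g hg => hfree g _ hg, Subgroup.index_bot]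

variable {T : Type u} [Group T] {t ρ : MulAut T} {n : ℕ}

theorem Hyp.card_V (h : Hyp t ρ n) : Nat.card (V t) = 2 ^ n := h.card

theorem Hyp.cen (h : Hyp t ρ n) {v : T} (hv : v ∈ V t) : ∀ g, g * v = v * g := h.central v hv

theorem Hyp.vv (h : Hyp t ρ n) {v : T} (hv : v ∈ V t) : v * v = 1 := h.sq v hv

theorem Hyp.vinv (h : Hyp t ρ n) {v : T} (hv : v ∈ V t) : v⁻¹ = v :=
  inv_eq_of_mul_eq_one_right (h.vv hv)

theorem Hyp.comm_pow (h : Hyp t ρ n) : ∀ (i : ℕ) (x : T), t ((ρ ^ i) x) = (ρ ^ i) (t x) := by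
  intro i
  induction i with
  | zero => intro x; rfl
  | succ i ih => intro x; rw [pow_succ', MulAut.mul_apply, MulAut.mul_apply, h.comm, ih]

theorem Hyp.rho_V (h : Hyp t ρ n) {v : T} (hv : v ∈ V t) : ρ v ∈ V t := by
  show t (ρ v) = ρ v; rw [h.comm, show t v = v from hv]

theorem Hyp.pow_V (h : Hyp t ρ n) (i : ℕ) {v : T} (hv : v ∈ V t) : (ρ ^ i) v ∈ V t := by
  show t ((ρ ^ i) v) = (ρ ^ i) v; rw [h.comm_pow, show t v = v from hv]

theorem Hyp.normal_V (h : Hyp t ρ n) : (V t).Normal :=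
  ⟨fun v hv g => by rw [h.cen hv g, mul_inv_cancel_right]; exact hv⟩

theorem Hyp.t_V (_h : Hyp t ρ n) : ∀ x ∈ V t, t x ∈ V t := fun x hx => by
  rw [show t x = x from hx]; exact hx

theorem Hyp.two_le_pow (h : Hyp t ρ n) : 4 ≤ 2 ^ n :=
  le_trans (by norm_num) (Nat.pow_le_pow_right two_pos h.hn)

variable [Finite T]

/-- An invariant nontrivial subgroup meets the fixed points. -/
theorem Hyp.meet (h : Hyp t ρ n) (U : Subgroup T) (hU : ∀ u ∈ U, t u ∈ U) (hne : U ≠ ⊥) :
    ∃ v ∈ U, v ∈ V t ∧ v ≠ 1 := by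
  classical
  haveI : Fact (Nat.Prime 2) := ⟨Nat.prime_two⟩
  haveI : Nontrivial U := (Subgroup.nontrivial_iff_ne_bot U).mpr hne
  obtain ⟨j, hj0, hj⟩ := (h.two.to_subgroup U).nontrivial_iff_card.mp inferInstance
  let σ : Equiv.Perm U :=
    { toFun := fun u => ⟨t u, hU u u.2⟩
      invFun := fun u => ⟨t u, hU u u.2⟩
      left_inv := fun u => Subtype.ext (h.tt u)
      right_inv := fun u => Subtype.ext (h.tt u) }
  have hm := fixed_mod σ (p := 2) (n := 1) (Equiv.ext fun u => by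
    simp only [pow_one, pow_two, Equiv.Perm.mul_apply]; exact σ.left_inv u)
  rw [hj] at hm
  by_contra hcon
  push Not at hcon
  haveI : Subsingleton {x : U // σ x = x} := ⟨fun x y => by
    have hx : (x.1 : T) = 1 := hcon x.1 x.1.2 (congrArg Subtype.val x.2)
    have hy : (y.1 : T) = 1 := hcon y.1 y.1.2 (congrArg Subtype.val y.2)
    exact Subtype.ext (Subtype.ext (hx.trans hy.symm))⟩
  haveI : Nonempty {x : U // σ x = x} := ⟨⟨1, Subtype.ext (map_one t)⟩⟩
  rw [Nat.card_eq_one_iff_unique.mpr ⟨inferInstance, inferInstance⟩] at hm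
  obtain ⟨i, rfl⟩ : ∃ i, j = i + 1 := ⟨j - 1, by omega⟩
  unfold Nat.ModEq at hm
  rw [pow_succ] at hm
  omega

/-- The Singer cycle is semiregular. -/
theorem Hyp.free (h : Hyp t ρ n) {i : ℕ} {u : T} (hu : (ρ ^ i) u = u) : u = 1 ∨ ρ ^ i = 1 := by
  classical
  rw [or_iff_not_imp_left]
  intro hu1
  let E : Subgroup T := (ρ ^ i).toMonoidHom.eqLocus (MonoidHom.id T)
  obtain ⟨v, hvE, hv, hv1⟩ := h.meet E (fun x (hx : (ρ ^ i) x = x) => by
    show (ρ ^ i) (t x) = t x; rw [← h.comm_pow, hx])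
    (fun e => hu1 (Subgroup.mem_bot.mp (e ▸ (hu : u ∈ E))))
  -- the orbit of `v` covers the involutions
  obtain ⟨g, hg⟩ : ∃ g, g = Nat.gcd i (2 ^ n - 1) := ⟨_, rfl⟩
  have hgd : g ∣ 2 ^ n - 1 := hg ▸ Nat.gcd_dvd_right _ _
  have hfix : ∀ j, (ρ ^ j) v = (ρ ^ (j % g)) v := by
    have h1 : (ρ ^ g) v = v := by
      have hiter : ∀ (a b : ℕ) (x : T), (ρ ^ a)^[b] x = (ρ ^ (a * b)) x := by
        intro a b
        induction b with
        | zero => intro x; simp
        | succ b ih => intro x; rw [Function.iterate_succ_apply', ih, mul_add, mul_one, add_comm (a * b),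
            pow_add, MulAut.mul_apply]
      have p1 : Function.IsPeriodicPt ρ i v := by
        have : (ρ : T → T)^[i] v = v := by
          have := hiter 1 i v
          rw [pow_one, one_mul] at this
          rw [this]; exact hvE
        exact this
      have p2 : Function.IsPeriodicPt ρ (2 ^ n - 1) v := by
        have := hiter 1 (2 ^ n - 1) v
        rw [pow_one, one_mul, h.rpow] at this
        exact this
      have p3 := p1.gcd p2
      rw [← hg] at p3
      have := hiter 1 g v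
      rw [pow_one, one_mul] at this
      exact this.symm.trans p3
    have h2 : ∀ a, (ρ ^ (g * a)) v = v := by
      intro a
      induction a with
      | zero => rfl
      | succ a ih => rw [mul_add, mul_one, pow_add, MulAut.mul_apply, h1, ih]
    intro j
    conv_lhs => rw [← Nat.mod_add_div j g, pow_add, MulAut.mul_apply, h2]
  have hg0 : 0 < g := hg ▸ Nat.gcd_pos_of_pos_right i (by have := h.two_le_pow; omega)
  let f : Fin g → {x : V t // x ≠ 1} := fun j => ⟨⟨(ρ ^ (j : ℕ)) v, h.pow_V _ hv⟩, fun e =>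
    hv1 ((ρ ^ (j : ℕ)).injective ((congrArg Subtype.val e).trans (map_one _).symm))⟩
  have hf : Function.Surjective f := by
    rintro ⟨⟨w, hw⟩, hw1⟩
    obtain ⟨j, hj⟩ := h.trans v w hv hw hv1 (fun e => hw1 (Subtype.ext e))
    exact ⟨⟨j % g, Nat.mod_lt _ hg0⟩, Subtype.ext (Subtype.ext ((hfix j).symm.trans hj))⟩
  have hle := Nat.card_le_card_of_surjective f hf
  rw [Nat.card_fin] at hle
  haveI := Fintype.ofFinite (V t)
  rw [Nat.card_eq_fintype_card, Fintype.card_subtype_compl, Fintype.card_subtype_eq,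
    ← Nat.card_eq_fintype_card, h.card_V] at hle
  have hle' := Nat.le_of_dvd (by have := h.two_le_pow; omega) hgd
  have : g = 2 ^ n - 1 := by omega
  obtain ⟨c, hc⟩ : 2 ^ n - 1 ∣ i := this ▸ (hg ▸ Nat.gcd_dvd_left _ _)
  rw [hc, pow_mul, h.rpow, one_pow]

theorem Hyp.orderOf_rho (h : Hyp t ρ n) : orderOf ρ = 2 ^ n - 1 := by
  classical
  obtain ⟨v, hv, hv1⟩ : ∃ v, v ∈ V t ∧ v ≠ 1 := by
    by_contra hcon
    push Not at hcon
    have h1 := h.card_V
    rw [(Subgroup.eq_bot_iff_forall _).mpr hcon, Subgroup.card_bot] at h1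
    have := h.two_le_pow
    omega
  have hd : orderOf ρ ∣ 2 ^ n - 1 := orderOf_dvd_of_pow_eq_one h.rpow
  have hpos : 0 < orderOf ρ := Nat.pos_of_dvd_of_pos hd (by have := h.two_le_pow; omega)
  refine le_antisymm (Nat.le_of_dvd (by have := h.two_le_pow; omega) hd) ?_
  let f : Fin (orderOf ρ) → {x : V t // x ≠ 1} := fun j => ⟨⟨(ρ ^ (j : ℕ)) v, h.pow_V _ hv⟩, fun e =>
    hv1 ((ρ ^ (j : ℕ)).injective ((congrArg Subtype.val e).trans (map_one _).symm))⟩
  have hf : Function.Surjective f := by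
    rintro ⟨⟨w, hw⟩, hw1⟩
    obtain ⟨j, hj⟩ := h.trans v w hv hw hv1 (fun e => hw1 (Subtype.ext e))
    exact ⟨⟨j % orderOf ρ, Nat.mod_lt _ hpos⟩, Subtype.ext (Subtype.ext (by
      show (ρ ^ (j % orderOf ρ)) v = w; rw [pow_mod_orderOf, hj]))⟩
  have hle := Nat.card_le_card_of_surjective f hf
  rw [Nat.card_fin] at hle
  haveI := Fintype.ofFinite (V t)
  rwa [Nat.card_eq_fintype_card, Fintype.card_subtype_compl, Fintype.card_subtype_eq,
    ← Nat.card_eq_fintype_card, h.card_V] at hle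

/-- An invariant subgroup has order a power of `2 ^ n`. -/
theorem Hyp.card_invariant (h : Hyp t ρ n) (U : Subgroup T) (hU : ∀ u ∈ U, ρ u ∈ U) :
    ∃ m, Nat.card U = (2 ^ n) ^ m := by
  classical
  haveI : Fact (Nat.Prime 2) := ⟨Nat.prime_two⟩
  obtain ⟨j, hj⟩ := IsPGroup.iff_card.mp (h.two.to_subgroup U)
  have hpow : ∀ (i : ℕ), ∀ u ∈ U, (ρ ^ i) u ∈ U := by
    intro i
    induction i with
    | zero => exact fun u hu => hu
    | succ i ih => intro u hu; rw [pow_succ', MulAut.mul_apply]; exact hU _ (ih u hu)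
  haveI : Finite (Subgroup.zpowers ρ) := Nat.finite_of_card_ne_zero (by
    rw [Nat.card_zpowers, h.orderOf_rho]; have := h.two_le_pow; omega)
  have hmem : ∀ g ∈ Subgroup.zpowers ρ, ∀ u ∈ U, g u ∈ U := by
    intro g hg u hu
    obtain ⟨i, rfl⟩ := (isOfFinOrder_iff_pow_eq_one.mpr ⟨2 ^ n - 1, by have := h.two_le_pow; omega,
      h.rpow⟩).mem_powers_iff_mem_zpowers.mpr hg
    exact hpow i u hu
  let S := {u : U // u ≠ 1}
  letI : MulAction (Subgroup.zpowers ρ) S :=
    { smul := fun g u => ⟨⟨(g : MulAut T) u.1, hmem g g.2 _ u.1.2⟩, fun e => u.2 (Subtype.ext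
        ((g : MulAut T).injective ((congrArg Subtype.val e).trans (map_one (g : MulAut T)).symm)))⟩
      one_smul := fun u => rfl
      mul_smul := fun a b u => rfl }
  have hdvd := card_dvd_of_free (G := Subgroup.zpowers ρ) (α := S) (fun g u e => by
    obtain ⟨i, hi⟩ := (isOfFinOrder_iff_pow_eq_one.mpr ⟨2 ^ n - 1, by have := h.two_le_pow; omega,
      h.rpow⟩).mem_powers_iff_mem_zpowers.mpr g.2
    have e' : (g : MulAut T) (u.1 : T) = u.1 := congrArg (fun w : S => ((w.1 : U) : T)) e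
    simp only at hi
    rw [← hi] at e'
    rcases h.free e' with r | r
    · exact absurd (Subtype.ext r) u.2
    · exact Subtype.ext (hi.symm.trans r))
  haveI := Fintype.ofFinite U
  rw [Nat.card_zpowers, h.orderOf_rho, Nat.card_eq_fintype_card, Fintype.card_subtype_compl,
    Fintype.card_subtype_eq, ← Nat.card_eq_fintype_card, hj] at hdvd
  have hg := Nat.gcd_eq_left hdvd
  rw [Nat.pow_sub_one_gcd_pow_sub_one] at hg
  have h1 := Nat.one_le_two_pow (n := n)
  have h2 := Nat.one_le_two_pow (n := n.gcd j)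
  obtain ⟨m, hm⟩ : n ∣ j := by
    have e : n.gcd j = n := Nat.pow_right_injective le_rfl (show 2 ^ n.gcd j = 2 ^ n by omega)
    exact e ▸ Nat.gcd_dvd_right n j
  exact ⟨m, by rw [hj, hm, pow_mul]⟩

/-- An invariant subgroup strictly above another is at least `2 ^ n` times as large. -/
theorem Hyp.mul_le (h : Hyp t ρ n) {A B : Subgroup T} (hA : ∀ u ∈ A, ρ u ∈ A)
    (hB : ∀ u ∈ B, ρ u ∈ B) (hAB : A < B) : 2 ^ n * Nat.card A ≤ Nat.card B := by
  obtain ⟨a, ha⟩ := h.card_invariant A hA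
  obtain ⟨b, hb⟩ := h.card_invariant B hB
  have hlt : Nat.card A < Nat.card B := lt_of_not_ge fun hge =>
    hAB.ne (Subgroup.eq_of_le_of_card_ge hAB.le hge)
  have h4 := h.two_le_pow
  rw [ha, hb] at hlt ⊢
  rw [← pow_succ']
  exact Nat.pow_le_pow_right (by omega) ((Nat.pow_lt_pow_iff_right (by omega)).mp hlt)

/-- An invariant subgroup of fixed points is trivial or everything. -/
theorem Hyp.irreducible (h : Hyp t ρ n) (R : Subgroup T) (hR : ∀ u ∈ R, ρ u ∈ R) (hRV : R ≤ V t)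
    (hne : R ≠ ⊥) : R = V t := by
  refine Subgroup.eq_of_le_of_card_ge hRV ?_
  have := h.mul_le (A := ⊥) (fun u hu => by rw [Subgroup.mem_bot.mp hu, map_one]; exact one_mem _) hR
    (bot_lt_iff_ne_bot.mpr hne)
  rwa [Subgroup.card_bot, mul_one, ← h.card_V] at this

theorem Hyp.free_mod (h : Hyp t ρ n) {i : ℕ} {u : T} (hu : u⁻¹ * (ρ ^ i) u ∈ V t) :
    u ∈ V t ∨ ρ ^ i = 1 := by
  rw [or_iff_not_imp_right]
  intro hi
  obtain ⟨v, hv, hv'⟩ : ∃ v ∈ V t, (ρ ^ i) u = u * v := ⟨_, hu, by group⟩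
  let f : V t → V t := fun s => ⟨(s : T) * (ρ ^ i) s, mul_mem s.2 (h.pow_V i s.2)⟩
  have hf : Function.Injective f := by
    intro a b e
    have e' : (a : T) * (ρ ^ i) a = (b : T) * (ρ ^ i) b := congrArg Subtype.val e
    have e2 : (b : T)⁻¹ * a = (ρ ^ i) ((b : T)⁻¹ * a) := by
      rw [map_mul, map_inv]
      calc (b : T)⁻¹ * a = (b : T)⁻¹ * (a * (ρ ^ i) a) * ((ρ ^ i) (a : T))⁻¹ := by group
        _ = (ρ ^ i) (b : T) * ((ρ ^ i) (a : T))⁻¹ := by rw [e']; group
        _ = ((ρ ^ i) (b : T))⁻¹ * (ρ ^ i) a := by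
          rw [h.vinv (h.pow_V i a.2), h.vinv (h.pow_V i b.2)]
    rcases h.free e2.symm with r | r
    · exact Subtype.ext (inv_mul_eq_one.mp r).symm
    · exact absurd r hi
  obtain ⟨⟨s, hs⟩, hsv⟩ := Finite.surjective_of_injective hf ⟨v, hv⟩
  have hsv' : s * (ρ ^ i) s = v := congrArg Subtype.val hsv
  have hfix : (ρ ^ i) (u * s) = u * s := by
    rw [map_mul, hv', ← hsv', mul_assoc, mul_assoc s, h.vv (h.pow_V i hs), mul_one]
  rcases h.free hfix with r | r
  · rw [eq_inv_of_mul_eq_one_left r]; exact inv_mem hs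
  · exact absurd r hi

theorem qAut_pow (N : Subgroup T) [N.Normal] (a : MulAut T) (hN : ∀ x ∈ N, a x ∈ N) :
    ∀ (i : ℕ) (x : T), ((qAut a N hN) ^ i) (QuotientGroup.mk' N x) = QuotientGroup.mk' N ((a ^ i) x) := by
  intro i
  induction i with
  | zero => intro x; rfl
  | succ i ih => intro x; rw [pow_succ', MulAut.mul_apply, ih, pow_succ', MulAut.mul_apply]; rfl

/-- The hypothesis passes to the quotient by the fixed points. -/
theorem Hyp.quotient (h : Hyp t ρ n) [(V t).Normal] (hne : V t ≠ ⊤) :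
    Hyp (qAut t (V t) h.t_V) (qAut ρ (V t) fun _ hx => h.rho_V hx) n := by
  classical
  haveI : Fact (Nat.Prime 2) := ⟨Nat.prime_two⟩
  set π := QuotientGroup.mk' (V t) with hπ
  set t' := qAut t (V t) h.t_V with ht'
  set r' := qAut ρ (V t) fun _ hx => h.rho_V hx with hr'
  have hs := QuotientGroup.mk'_surjective (V t)
  have et : ∀ x, t' (π x) = π (t x) := fun x => rfl
  have er : ∀ x, r' (π x) = π (ρ x) := fun x => rfl
  have eri : ∀ i x, (r' ^ i) (π x) = π ((ρ ^ i) x) := qAut_pow _ _ _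
  have htt : ∀ q, t' (t' q) = q := fun q => by obtain ⟨x, rfl⟩ := hs q; rw [et, et, h.tt]
  have hrr : r' ^ (2 ^ n - 1) = 1 := MulEquiv.ext fun q => by
    obtain ⟨x, rfl⟩ := hs q; rw [eri, h.rpow]; rfl
  have hc : ∀ q, t' (r' q) = r' (t' q) := fun q => by
    obtain ⟨x, rfl⟩ := hs q; rw [er, et, et, er, h.comm]
  have hfree : ∀ (i : ℕ) q, (r' ^ i) q = q → q = 1 ∨ ρ ^ i = 1 := fun i q hq => by
    obtain ⟨x, rfl⟩ := hs q
    rw [eri, hπ, QuotientGroup.mk'_apply, QuotientGroup.mk'_apply, eq_comm, QuotientGroup.eq] at hq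
    exact (h.free_mod hq).imp_left fun hx => (QuotientGroup.eq_one_iff x).mpr hx
  have hsq : ∀ q, t' q = q → q * q = 1 := fun q hq => by
    obtain ⟨x, rfl⟩ := hs q
    rw [et, hπ, QuotientGroup.mk'_apply, QuotientGroup.mk'_apply, eq_comm, QuotientGroup.eq] at hq
    obtain ⟨v, hv, e⟩ : ∃ v ∈ V t, t x = x * v := ⟨_, hq, by group⟩
    rw [← map_mul, QuotientGroup.mk'_apply, QuotientGroup.eq_one_iff]
    show t (x * x) = x * x
    rw [map_mul, e, show x * v * (x * v) = x * (v * x) * v by group, ← h.cen hv x,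
      show x * (x * v) * v = x * x * (v * v) by group, h.vv hv, mul_one]
  let F := V t'
  have hFle : Nat.card F ≤ 2 ^ n := by
    have hv : ∀ q : F, (Quotient.out (q : T ⧸ V t))⁻¹ * t (Quotient.out (q : T ⧸ V t)) ∈ V t := by
      intro q
      have e : t' (π (Quotient.out (q : T ⧸ V t))) = π (Quotient.out (q : T ⧸ V t)) := by
        rw [show π (Quotient.out (q : T ⧸ V t)) = (q : T ⧸ V t) from QuotientGroup.out_eq' _]
        exact q.2
      rw [et, hπ, QuotientGroup.mk'_apply, QuotientGroup.mk'_apply, eq_comm, QuotientGroup.eq] at e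
      exact e
    rw [← h.card_V]
    refine Nat.card_le_card_of_injective (fun q : F => (⟨_, hv q⟩ : V t)) ?_
    intro p q e
    have e' := congrArg Subtype.val e
    simp only at e'
    set x := Quotient.out (p : T ⧸ V t) with hx
    set y := Quotient.out (q : T ⧸ V t) with hy
    have e3 : t (x * y⁻¹) = x * y⁻¹ := by
      rw [map_mul, map_inv, show t x = x * (x⁻¹ * t x) by group,
        show t y = y * (y⁻¹ * t y) by group, e']
      group
    apply Subtype.ext
    rw [← QuotientGroup.out_eq' (p : T ⧸ V t), ← QuotientGroup.out_eq' (q : T ⧸ V t), ← hx, ← hy,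
      QuotientGroup.eq]
    have h4 : y * (y⁻¹ * x) * y⁻¹ ∈ V t := by rw [mul_inv_cancel_left]; exact e3
    have h5 := (inferInstance : (V t).Normal).conj_mem _ (inv_mem h4) y⁻¹
    convert h5 using 1; group
  have hnt : ∀ U : Subgroup (T ⧸ V t), (∀ u ∈ U, t' u ∈ U) → U ≠ ⊥ → ∃ v ∈ U, v ∈ F ∧ v ≠ 1 := by
    intro U hU hne'
    haveI : Nontrivial U := (Subgroup.nontrivial_iff_ne_bot U).mpr hne'
    obtain ⟨j, hj0, hj⟩ := ((h.two.to_quotient (V t)).to_subgroup U).nontrivial_iff_card.mp inferInstance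
    let σ : Equiv.Perm U :=
      { toFun := fun u => ⟨t' u, hU u u.2⟩
        invFun := fun u => ⟨t' u, hU u u.2⟩
        left_inv := fun u => Subtype.ext (htt u)
        right_inv := fun u => Subtype.ext (htt u) }
    have hm := fixed_mod σ (p := 2) (n := 1) (Equiv.ext fun u => by
      simp only [pow_one, pow_two, Equiv.Perm.mul_apply]; exact σ.left_inv u)
    rw [hj] at hm
    by_contra hcon
    push Not at hcon
    haveI : Subsingleton {x : U // σ x = x} := ⟨fun x y => by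
      have hx : (x.1 : T ⧸ V t) = 1 := hcon x.1 x.1.2 (congrArg Subtype.val x.2)
      have hy : (y.1 : T ⧸ V t) = 1 := hcon y.1 y.1.2 (congrArg Subtype.val y.2)
      exact Subtype.ext (Subtype.ext (hx.trans hy.symm))⟩
    haveI : Nonempty {x : U // σ x = x} := ⟨⟨1, Subtype.ext (map_one t')⟩⟩
    rw [Nat.card_eq_one_iff_unique.mpr ⟨inferInstance, inferInstance⟩] at hm
    obtain ⟨i, rfl⟩ : ∃ i, j = i + 1 := ⟨j - 1, by omega⟩
    unfold Nat.ModEq at hm
    rw [pow_succ] at hm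
    omega
  haveI : Nontrivial (T ⧸ V t) := QuotientGroup.nontrivial_iff.mpr hne
  haveI := (h.two.to_quotient (V t)).center_nontrivial
  obtain ⟨v, hvZ, hvF, hv1⟩ := hnt (Subgroup.center _) (fun u hu => by
    rw [Subgroup.mem_center_iff]
    intro g
    obtain ⟨g, rfl⟩ := (MulEquiv.surjective t') g
    rw [← map_mul, ← map_mul, Subgroup.mem_center_iff.mp hu])
    ((Subgroup.nontrivial_iff_ne_bot _).mp inferInstance)
  -- the orbit of `v`
  have horbF : ∀ i, (r' ^ i) v ∈ F ∧ (r' ^ i) v ∈ Subgroup.center (T ⧸ V t) ∧ (r' ^ i) v ≠ 1 := by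
    intro i
    refine ⟨?_, ?_, fun e => hv1 ((r' ^ i).injective (e.trans (map_one _).symm))⟩
    · induction i with
      | zero => exact hvF
      | succ i ih =>
        rw [pow_succ', MulAut.mul_apply]
        show t' (r' _) = _
        rw [hc, show t' ((r' ^ i) v) = (r' ^ i) v from ih]
        rfl
    · rw [Subgroup.mem_center_iff]
      intro g
      obtain ⟨g, rfl⟩ := (MulEquiv.surjective (r' ^ i)) g
      rw [← map_mul, ← map_mul, Subgroup.mem_center_iff.mp hvZ]
  let f : Fin (2 ^ n - 1) → {x : F // x ≠ 1} := fun i =>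
    ⟨⟨_, (horbF i).1⟩, fun e => (horbF i).2.2 (congrArg Subtype.val e)⟩
  have hfi : Function.Injective f := by
    intro a b e
    have e' : (r' ^ (a : ℕ)) v = (r' ^ (b : ℕ)) v := congrArg (fun x : {x : F // x ≠ 1} => (x.1 : T ⧸ V t)) e
    wlog hab : (a : ℕ) ≤ b generalizing a b
    · exact (this e.symm e'.symm (le_of_not_ge hab)).symm
    obtain ⟨d, hd⟩ := Nat.exists_eq_add_of_le hab
    rw [hd, pow_add, MulAut.mul_apply] at e'
    have hfix := hfree d v ((r' ^ (a : ℕ)).injective e').symm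
    rcases hfix with r | r
    · exact absurd r hv1
    · have hdd := orderOf_dvd_of_pow_eq_one r
      rw [h.orderOf_rho] at hdd
      apply Fin.ext
      rcases Nat.eq_zero_or_pos d with r0 | r0
      · omega
      · have := Nat.le_of_dvd r0 hdd
        have := b.2
        omega
  have hge := Nat.card_le_card_of_injective f hfi
  haveI := Fintype.ofFinite F
  rw [Nat.card_fin, Nat.card_eq_fintype_card, Fintype.card_subtype_compl, Fintype.card_subtype_eq,
    ← Nat.card_eq_fintype_card] at hge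
  have hcardF : Nat.card F = 2 ^ n := by
    have := Nat.card_pos (α := F)
    omega
  have hfs : Function.Surjective f := by
    refine ((Nat.bijective_iff_injective_and_card f).mpr ⟨hfi, ?_⟩).2
    rw [Nat.card_fin, Nat.card_eq_fintype_card, Fintype.card_subtype_compl, Fintype.card_subtype_eq,
      ← Nat.card_eq_fintype_card, hcardF]
  refine ⟨h.two.to_quotient _, h.hn, htt, hrr, hc, hcardF, hsq, ?_, ?_⟩
  · intro w hw g
    rcases eq_or_ne w 1 with rfl | hw1
    · simp
    obtain ⟨i, hi⟩ := hfs ⟨⟨w, hw⟩, fun e => hw1 (congrArg Subtype.val e)⟩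
    have e : (r' ^ (i : ℕ)) v = w := congrArg (fun x : {x : F // x ≠ 1} => (x.1 : T ⧸ V t)) hi
    exact Subgroup.mem_center_iff.mp (e ▸ (horbF i).2.1) g
  · intro a b ha hb ha1 hb1
    obtain ⟨i, hi⟩ := hfs ⟨⟨a, ha⟩, fun e => ha1 (congrArg Subtype.val e)⟩
    obtain ⟨j, hj⟩ := hfs ⟨⟨b, hb⟩, fun e => hb1 (congrArg Subtype.val e)⟩
    have ei : (r' ^ (i : ℕ)) v = a := congrArg (fun x : {x : F // x ≠ 1} => (x.1 : T ⧸ V t)) hi
    have ej : (r' ^ (j : ℕ)) v = b := congrArg (fun x : {x : F // x ≠ 1} => (x.1 : T ⧸ V t)) hj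
    refine ⟨(j : ℕ) + (2 ^ n - 1 - i), ?_⟩
    rw [← ei, ← MulAut.mul_apply, ← pow_add, add_assoc, Nat.sub_add_cancel i.2.le, pow_add, hrr,
      mul_one, ej]

/-! ### Coordinates -/

/-- A biadditive pairing of the field with itself commuting with scalars is a square root of a
multiple of the product. -/
theorem field_pairing {F : Type*} [Field F] [CharP F 2] (μ : F) (hgen : ∀ x : F, x ≠ 0 → ∃ i : ℕ, μ ^ i = x)
    (B : F → F → F) (h1 : ∀ x x' y, B (x + x') y = B x y + B x' y)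
    (h2 : ∀ x y y', B x (y + y') = B x y + B x y') (he : ∀ x y, B (μ * x) (μ * y) = μ * B x y) :
    ∀ x y, B x y ^ 2 = B 1 1 ^ 2 * (x * y) := by
  have hpow : ∀ i x y, B (μ ^ i * x) (μ ^ i * y) = μ ^ i * B x y := by
    intro i
    induction i with
    | zero => intro x y; simp
    | succ i ih => intro x y; rw [pow_succ', mul_assoc, mul_assoc, mul_assoc, he, ih]
  have hsc : ∀ c x y, c ≠ 0 → B (c * x) (c * y) = c * B x y := fun c x y hc => by
    obtain ⟨i, rfl⟩ := hgen c hc; exact hpow i x y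
  set f := fun y => B 1 y with hf
  have hfa : ∀ y y', f (y + y') = f y + f y' := fun y y' => h2 1 y y'
  have hB : ∀ x y, x ≠ 0 → B x y = x * f (y / x) := fun x y hx => by
    rw [hf]
    show _ = x * B 1 (y / x)
    rw [← hsc x 1 (y / x) hx, mul_one, mul_div_cancel₀ _ hx]
  have hff : ∀ x z : F, f (x * x * z) = x * f z := by
    intro x z
    have hf0 : f 0 = 0 := by
      have := hfa 0 0
      rw [add_zero] at this
      exact left_eq_add.mp this
    rcases eq_or_ne x 0 with rfl | hx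
    · simp [hf0]
    rcases eq_or_ne x 1 with rfl | hx1
    · simp
    have hx2 : x + 1 ≠ 0 := fun e => hx1 (by rwa [CharTwo.add_eq_zero] at e)
    have key := h1 x 1 (x * (x + 1) * z)
    rw [hB _ _ hx2, hB _ _ hx, hB _ _ one_ne_zero, div_one, one_mul,
      show x * (x + 1) * z / (x + 1) = x * z by field_simp,
      show x * (x + 1) * z / x = x * z + z by field_simp,
      show x * (x + 1) * z = x * x * z + x * z by ring, hfa, hfa] at key
    have h0 : f (x * x * z) + x * f z = 0 := by linear_combination -key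
    rwa [CharTwo.add_eq_zero] at h0
  intro x y
  rcases eq_or_ne x 0 with rfl | hx
  · have h0 := h1 0 0 y
    rw [add_zero] at h0
    simp [left_eq_add.mp h0]
  obtain ⟨r, hr⟩ : ∃ r, r * r = y / x := by
    rcases eq_or_ne (y / x) 0 with e | e
    · exact ⟨0, by rw [e, mul_zero]⟩
    obtain ⟨i, hi⟩ := hgen _ e
    obtain ⟨j, hj⟩ : ∃ j, μ ^ (j + j) = μ ^ i := by
      rcases Nat.even_or_odd i with ⟨j, hj⟩ | ⟨j, hj⟩
      · exact ⟨j, by rw [hj]⟩
      · -- the multiplicative order is odd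
        have hμ : μ ≠ 0 := fun h0 => e (by rw [← hi, hj, h0, zero_pow (by omega)])
        obtain ⟨m, hm⟩ := hgen μ⁻¹ (inv_ne_zero hμ)
        have hm1 : μ ^ (m + 1) = 1 := by rw [pow_succ, hm, inv_mul_cancel₀ hμ]
        have hord : orderOf μ ∣ m + 1 := orderOf_dvd_of_pow_eq_one hm1
        have hpos : 0 < orderOf μ := Nat.pos_of_dvd_of_pos hord (Nat.succ_pos m)
        have hodd : Odd (orderOf μ) := by
          rw [← Nat.not_even_iff_odd]
          rintro ⟨d, hd⟩
          have hsq : (μ ^ d) ^ 2 = 1 := by rw [← pow_mul, mul_two, ← hd, pow_orderOf_eq_one]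
          have h0 : (μ ^ d + 1) ^ 2 = 0 := by
            have h2 : (2 : F) = 0 := CharTwo.two_eq_zero
            linear_combination hsq + (μ ^ d + 1) * h2
          have : μ ^ d = 1 := by rwa [sq_eq_zero_iff, CharTwo.add_eq_zero] at h0
          have := Nat.le_of_dvd (by omega) (orderOf_dvd_of_pow_eq_one this)
          omega
        obtain ⟨d, hd⟩ := hodd
        refine ⟨j + d + 1, ?_⟩
        rw [show j + d + 1 + (j + d + 1) = i + orderOf μ by omega, pow_add, pow_orderOf_eq_one, mul_one]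
    exact ⟨μ ^ j, by rw [← pow_add, hj, hi]⟩
  have : B x y = x * (r * B 1 1) := by
    rw [hB x y hx, ← hr, show r * r = r * r * 1 by rw [mul_one], hff, hf]
  rw [this, show y = x * (r * r) by rw [hr, mul_div_cancel₀ _ hx]]
  ring

/-- Coordinates on the fixed points. -/
structure Coord (t ρ : MulAut T) (F : Type u) [Field F] (cV : T → F) (μ : F) : Prop where
  add : ∀ a b, a ∈ V t → b ∈ V t → cV (a * b) = cV a + cV b
  inj : ∀ a, a ∈ V t → cV a = 0 → a = 1
  surj : ∀ x, ∃ a ∈ V t, cV a = x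
  rho : ∀ a, a ∈ V t → cV (ρ a) = μ * cV a
  gen : ∀ x : F, x ≠ 0 → ∃ i : ℕ, μ ^ i = x
  char : CharP F 2

theorem Hyp.exists_coord (h : Hyp t ρ n) :
    ∃ (F : Type u) (_ : Field F) (_ : Finite F) (cV : T → F) (μ : F),
      Coord t ρ F cV μ ∧ Nat.card F = 2 ^ n := by
  classical
  letI : CommGroup (V t) :=
    { (inferInstance : Group (V t)) with mul_comm := fun a b => Subtype.ext (h.cen b.2 a) }
  have hmem : ∀ g ∈ Subgroup.zpowers ρ, ∀ v ∈ V t, g v ∈ V t := by
    intro g hg v hv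
    obtain ⟨i, rfl⟩ := (isOfFinOrder_iff_pow_eq_one.mpr ⟨2 ^ n - 1, by have := h.two_le_pow; omega,
      h.rpow⟩).mem_powers_iff_mem_zpowers.mpr hg
    exact h.pow_V i hv
  letI : DistribMulAction (Subgroup.zpowers ρ) (Additive (V t)) :=
    { smul := fun g v => Additive.ofMul ⟨(g : MulAut T) (v.toMul : T), hmem g g.2 _ v.toMul.2⟩
      one_smul := fun v => rfl
      mul_smul := fun a b v => rfl
      smul_zero := fun g => congrArg Additive.ofMul (Subtype.ext (map_one (g : MulAut T)))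
      smul_add := fun g u v => congrArg Additive.ofMul (Subtype.ext (map_mul (g : MulAut T) _ _)) }
  haveI : Nontrivial (Additive (V t)) := by
    rw [← Finite.one_lt_card_iff_nontrivial, Nat.card_congr Additive.toMul, h.card_V]
    have := h.two_le_pow
    omega
  obtain ⟨F, hF, hfin, e, lam, hlam, hl⟩ := SuzukiField.exists_field
    (V := Additive (V t)) (K := Subgroup.zpowers ρ)
    (fun a b => by
      obtain ⟨i, hi⟩ := a.2
      obtain ⟨j, hj⟩ := b.2
      apply Subtype.ext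
      show (a : MulAut T) * b = b * a
      rw [← hi, ← hj]
      exact (Commute.zpow_zpow (Commute.refl ρ) i j).eq)
    (fun v w hv hw => by
      obtain ⟨i, hi⟩ := h.trans (v.toMul : T) (w.toMul : T) v.toMul.2 w.toMul.2
        (fun e => hv (congrArg Additive.ofMul (Subtype.ext e : v.toMul = 1)))
        (fun e => hw (congrArg Additive.ofMul (Subtype.ext e : w.toMul = 1)))
      exact ⟨⟨ρ ^ i, pow_mem (Subgroup.mem_zpowers ρ) i⟩, congrArg Additive.ofMul (Subtype.ext hi)⟩)
  have hcard : Nat.card F = 2 ^ n := by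
    rw [Nat.card_congr e.toEquiv, Nat.card_congr Additive.toMul, h.card_V]
  haveI := Fintype.ofFinite F
  haveI : Fact (Nat.Prime 2) := ⟨Nat.prime_two⟩
  haveI hchar : CharP F 2 := charP_of_card_eq_prime_pow (f := n) (by rw [← hcard, Nat.card_eq_fintype_card])
  let cV : T → F := fun x => if hx : x ∈ V t then e.symm (Additive.ofMul ⟨x, hx⟩) else 0
  have hc : ∀ x (hx : x ∈ V t), cV x = e.symm (Additive.ofMul ⟨x, hx⟩) := fun x hx => dif_pos hx
  refine ⟨F, hF, hfin, cV, (lam ⟨ρ, Subgroup.mem_zpowers ρ⟩ : F),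
    ⟨?_, ?_, ?_, ?_, ?_, hchar⟩, hcard⟩
  · intro a b ha hb
    rw [hc _ (mul_mem ha hb), hc _ ha, hc _ hb, ← map_add]
    rfl
  · intro a ha e0
    rw [hc a ha, map_eq_zero_iff _ e.symm.injective] at e0
    exact congrArg Subtype.val (Additive.ofMul.injective e0 : (⟨a, ha⟩ : V t) = 1)
  · intro x
    refine ⟨((e x).toMul : T), (e x).toMul.2, ?_⟩
    rw [hc _ (e x).toMul.2]
    exact e.symm_apply_apply x
  · intro a ha
    rw [hc _ (h.rho_V ha), hc _ ha]
    refine e.injective ?_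
    rw [hl, AddEquiv.apply_symm_apply, AddEquiv.apply_symm_apply]
    rfl
  · intro x hx
    obtain ⟨g, hg⟩ := hlam (Units.mk0 x hx)
    obtain ⟨i, hi⟩ := (isOfFinOrder_iff_pow_eq_one.mpr ⟨2 ^ n - 1, by have := h.two_le_pow; omega,
      h.rpow⟩).mem_powers_iff_mem_zpowers.mpr g.2
    have hg' : g = ⟨ρ, Subgroup.mem_zpowers ρ⟩ ^ i := Subtype.ext hi.symm
    refine ⟨i, ?_⟩
    have hmul : ∀ j : ℕ, (lam (⟨ρ, Subgroup.mem_zpowers ρ⟩ ^ j) : F) =
        (lam ⟨ρ, Subgroup.mem_zpowers ρ⟩ : F) ^ j := by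
      intro j
      induction j with
      | zero =>
        have := hl (1 : Subgroup.zpowers ρ) 1
        rw [mul_one, one_smul] at this
        rw [pow_zero, pow_zero, e.injective this]
      | succ j ih =>
        rw [pow_succ' (lam ⟨ρ, Subgroup.mem_zpowers ρ⟩ : F), ← ih]
        apply e.injective
        rw [hl, pow_succ']
        rw [← mul_one (lam (_ * _) : F), hl, mul_smul, ← hl (⟨ρ, Subgroup.mem_zpowers ρ⟩ ^ j) 1, mul_one]
    rw [← hmul, ← hg', hg]
    rfl

section coord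

variable {F : Type u} [Field F] {cV : T → F} {μ : F}

theorem Coord.one (c : Coord t ρ F cV μ) : cV 1 = 0 := by
  have := c.add 1 1 (one_mem _) (one_mem _)
  rw [mul_one] at this
  exact left_eq_add.mp this

theorem Coord.eq (h : Hyp t ρ n) (c : Coord t ρ F cV μ) {a b : T} (ha : a ∈ V t) (hb : b ∈ V t)
    (e : cV a = cV b) : a = b := by
  haveI := c.char
  have h1 : cV (a * b) = 0 := by rw [c.add a b ha hb, e, CharTwo.add_self_eq_zero]
  rw [eq_inv_of_mul_eq_one_left (c.inj _ (mul_mem ha hb) h1), h.vinv hb]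

theorem Coord.mu_ne_zero (h : Hyp t ρ n) (c : Coord t ρ F cV μ) : μ ≠ 0 := by
  intro e
  obtain ⟨v, hv, hv1⟩ := c.surj 1
  have hρv := c.rho v hv
  rw [e, zero_mul] at hρv
  have hv0 : v = 1 := ρ.injective ((c.inj _ (h.rho_V hv) hρv).trans (map_one ρ).symm)
  rw [hv0, c.one] at hv1
  exact zero_ne_one hv1

theorem Coord.mu_ne_one (h : Hyp t ρ n) (c : Coord t ρ F cV μ) : μ ≠ 1 := by
  intro hμ1
  have hf : ∀ z : F, z = 0 ∨ z = 1 := fun z => by
    rcases eq_or_ne z 0 with e | e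
    · exact Or.inl e
    · obtain ⟨i, hi⟩ := c.gen z e
      exact Or.inr (by rw [← hi, hμ1, one_pow])
  classical
  have hle : Nat.card (V t) ≤ 2 := by
    refine (Nat.card_le_card_of_injective (fun v : V t => if cV v = 0 then (0 : Fin 2) else 1) ?_).trans
      (by rw [Nat.card_fin])
    intro v w e
    simp only at e
    apply Subtype.ext
    apply c.eq h v.2 w.2
    rcases hf (cV v) with r1 | r1 <;> rcases hf (cV w) with r2 | r2 <;> rw [r1, r2] at e ⊢ <;>
      simp at e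
  rw [h.card_V] at hle
  have := h.two_le_pow
  omega

/-- A level: a subgroup with an equivariant coordinate. -/
structure Lvl (ρ : MulAut T) (μ : F) (S : Subgroup T) (f : T → F) : Prop where
  inv : ∀ x ∈ S, ρ x ∈ S
  add : ∀ x ∈ S, ∀ y ∈ S, f (x * y) = f x + f y
  rho : ∀ x ∈ S, f (ρ x) = μ * f x
  surj : ∀ z, ∃ x ∈ S, f x = z

theorem Lvl.one {S : Subgroup T} {f : T → F} (L : Lvl ρ μ S f) : f 1 = 0 := by
  have := L.add 1 (one_mem S) 1 (one_mem S)
  rw [mul_one] at this
  exact left_eq_add.mp this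

/-- A coordinate which is not identically zero is onto. -/
theorem Lvl.mk' (c : Coord t ρ F cV μ) {S : Subgroup T} {f : T → F} (hinv : ∀ x ∈ S, ρ x ∈ S)
    (hadd : ∀ x ∈ S, ∀ y ∈ S, f (x * y) = f x + f y) (hrho : ∀ x ∈ S, f (ρ x) = μ * f x)
    (hne : ∃ x ∈ S, f x ≠ 0) : Lvl ρ μ S f := by
  refine ⟨hinv, hadd, hrho, fun z => ?_⟩
  rcases eq_or_ne z 0 with rfl | hz
  · refine ⟨1, one_mem S, ?_⟩
    have := hadd 1 (one_mem S) 1 (one_mem S)
    rw [mul_one] at this
    exact left_eq_add.mp this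
  obtain ⟨x, hx, hx0⟩ := hne
  obtain ⟨i, hi⟩ := c.gen (z / f x) (div_ne_zero hz hx0)
  have h : ∀ j : ℕ, (ρ ^ j) x ∈ S ∧ f ((ρ ^ j) x) = μ ^ j * f x := by
    intro j
    induction j with
    | zero => exact ⟨hx, by simp⟩
    | succ j ih =>
      rw [pow_succ', MulAut.mul_apply]
      exact ⟨hinv _ ih.1, by rw [hrho _ ih.1, ih.2, pow_succ', mul_assoc]⟩
  exact ⟨_, (h i).1, by rw [(h i).2, hi, div_mul_cancel₀ _ hx0]⟩

theorem Coord.lvl (h : Hyp t ρ n) (c : Coord t ρ F cV μ) : Lvl ρ μ (V t) cV :=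
  ⟨fun _ hx => h.rho_V hx, fun _ hx _ hy => c.add _ _ hx hy, c.rho, c.surj⟩

/-- The next level up. -/
theorem Lvl.up (c : Coord t ρ F cV μ) (htρ : ∀ x, t (ρ x) = ρ (t x)) {S S' : Subgroup T} {f : T → F}
    (L : Lvl ρ μ S f) (hinv : ∀ x ∈ S', ρ x ∈ S') (hmem : ∀ x ∈ S', x⁻¹ * t x ∈ S)
    (hcen : ∀ x ∈ S', ∀ y ∈ S', f (y⁻¹ * (x⁻¹ * t x) * y) = f (x⁻¹ * t x))
    (hconj : ∀ x ∈ S', ∀ y ∈ S', y⁻¹ * (x⁻¹ * t x) * y ∈ S)
    (hne : ∃ x ∈ S', f (x⁻¹ * t x) ≠ 0) : Lvl ρ μ S' (fun x => f (x⁻¹ * t x)) := by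
  refine Lvl.mk' c hinv (fun x hx y hy => ?_) (fun x hx => ?_) hne
  · show f ((x * y)⁻¹ * t (x * y)) = f (x⁻¹ * t x) + f (y⁻¹ * t y)
    rw [map_mul, show (x * y)⁻¹ * (t x * t y) = y⁻¹ * (x⁻¹ * t x) * y * (y⁻¹ * t y) by group,
      L.add _ (hconj x hx y hy) _ (hmem y hy), hcen x hx y hy]
  · show f ((ρ x)⁻¹ * t (ρ x)) = μ * f (x⁻¹ * t x)
    rw [htρ, ← map_inv, ← map_mul, L.rho _ (hmem x hx)]

/-- An equivariant additive map on a level is a multiple of the coordinate. -/
theorem Lvl.linear (c : Coord t ρ F cV μ) {S : Subgroup T} {f g : T → F} (L : Lvl ρ μ S f)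
    (hadd : ∀ x ∈ S, ∀ y ∈ S, g (x * y) = g x + g y) (hrho : ∀ x ∈ S, g (ρ x) = μ * g x)
    (h0 : ∀ x ∈ S, f x = 0 → g x = 0) : ∃ a : F, ∀ x ∈ S, g x = a * f x := by
  obtain ⟨s, hs, hs1⟩ := L.surj 1
  refine ⟨g s, fun x hx => ?_⟩
  rcases eq_or_ne (f x) 0 with e | e
  · rw [h0 x hx e, e, mul_zero]
  obtain ⟨i, hi⟩ := c.gen (f x) e
  have h : ∀ j : ℕ, (ρ ^ j) s ∈ S ∧ f ((ρ ^ j) s) = μ ^ j * f s ∧ g ((ρ ^ j) s) = μ ^ j * g s := by
    intro j
    induction j with
    | zero => exact ⟨hs, by simp, by simp⟩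
    | succ j ih =>
      rw [pow_succ', MulAut.mul_apply]
      exact ⟨L.inv _ ih.1, by rw [L.rho _ ih.1, ih.2.1, pow_succ', mul_assoc],
        by rw [hrho _ ih.1, ih.2.2, pow_succ', mul_assoc]⟩
  obtain ⟨h1, h2, h3⟩ := h i
  rw [hs1, mul_one, hi] at h2
  have hd : x * ((ρ ^ i) s)⁻¹ ∈ S := mul_mem hx (inv_mem h1)
  have e1 := L.add _ hd _ h1
  rw [inv_mul_cancel_right, h2] at e1
  have e2 := hadd _ hd _ h1
  rw [inv_mul_cancel_right, h0 _ hd (right_eq_add.mp e1), zero_add, h3, hi] at e2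
  rw [e2, mul_comm]

/-- An equivariant pairing of two levels. -/
theorem Lvl.pairing (c : Coord t ρ F cV μ) {S₁ S₂ : Subgroup T} {f₁ f₂ : T → F}
    (L₁ : Lvl ρ μ S₁ f₁) (L₂ : Lvl ρ μ S₂ f₂) (β : T → T → F)
    (hl : ∀ x ∈ S₁, ∀ x' ∈ S₁, ∀ y ∈ S₂, β (x * x') y = β x y + β x' y)
    (hr : ∀ x ∈ S₁, ∀ y ∈ S₂, ∀ y' ∈ S₂, β x (y * y') = β x y + β x y')
    (he : ∀ x ∈ S₁, ∀ y ∈ S₂, β (ρ x) (ρ y) = μ * β x y)
    (h1 : ∀ x ∈ S₁, ∀ y ∈ S₂, f₁ x = 0 → β x y = 0) (h2 : ∀ x ∈ S₁, ∀ y ∈ S₂, f₂ y = 0 → β x y = 0) :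
    ∃ a : F, ∀ x ∈ S₁, ∀ y ∈ S₂, β x y ^ 2 = a * (f₁ x * f₂ y) := by
  haveI := c.char
  choose g₁ hg₁ hg₁' using L₁.surj
  choose g₂ hg₂ hg₂' using L₂.surj
  have hβ : ∀ x ∈ S₁, ∀ y ∈ S₂, β x y = β (g₁ (f₁ x)) (g₂ (f₂ y)) := by
    intro x hx y hy
    have e : ∀ x ∈ S₁, ∀ x' ∈ S₁, f₁ x = f₁ x' → ∀ y ∈ S₂, β x y = β x' y := by
      intro x hx x' hx' e y hy
      have hd : x * x'⁻¹ ∈ S₁ := mul_mem hx (inv_mem hx')
      have e1 := L₁.add _ hd _ hx'
      rw [inv_mul_cancel_right, e] at e1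
      have e2 := hl _ hd _ hx' y hy
      rwa [inv_mul_cancel_right, h1 _ hd y hy (right_eq_add.mp e1), zero_add] at e2
    have e' : ∀ y ∈ S₂, ∀ y' ∈ S₂, f₂ y = f₂ y' → ∀ x ∈ S₁, β x y = β x y' := by
      intro y hy y' hy' e x hx
      have hd : y * y'⁻¹ ∈ S₂ := mul_mem hy (inv_mem hy')
      have e1 := L₂.add _ hd _ hy'
      rw [inv_mul_cancel_right, e] at e1
      have e2 := hr x hx _ hd _ hy'
      rwa [inv_mul_cancel_right, h2 x hx _ hd (right_eq_add.mp e1), zero_add] at e2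
    rw [e x hx _ (hg₁ _) (hg₁' _).symm y hy, e' y hy _ (hg₂ _) (hg₂' _).symm _ (hg₁ _)]
  have key := field_pairing μ c.gen (fun a b => β (g₁ a) (g₂ b))
    (fun a a' b => by
      rw [← hl _ (hg₁ a) _ (hg₁ a') _ (hg₂ b)]
      rw [hβ _ (mul_mem (hg₁ a) (hg₁ a')) _ (hg₂ b), L₁.add _ (hg₁ a) _ (hg₁ a'), hg₁', hg₁', hg₂'])
    (fun a b b' => by
      rw [← hr _ (hg₁ a) _ (hg₂ b) _ (hg₂ b')]
      rw [hβ _ (hg₁ a) _ (mul_mem (hg₂ b) (hg₂ b')), L₂.add _ (hg₂ b) _ (hg₂ b'), hg₁', hg₂', hg₂'])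
    (fun a b => by
      rw [← he _ (hg₁ a) _ (hg₂ b), hβ _ (L₁.inv _ (hg₁ a)) _ (L₂.inv _ (hg₂ b)), L₁.rho _ (hg₁ a),
        L₂.rho _ (hg₂ b), hg₁', hg₂'])
  exact ⟨_, fun x hx y hy => by rw [hβ x hx y hy]; exact key _ _⟩

/-- An alternating equivariant pairing vanishes. -/
theorem Lvl.alt (c : Coord t ρ F cV μ) {S : Subgroup T} {f : T → F} (L : Lvl ρ μ S f) (β : T → T → F)
    (hl : ∀ x ∈ S, ∀ x' ∈ S, ∀ y ∈ S, β (x * x') y = β x y + β x' y)
    (hr : ∀ x ∈ S, ∀ y ∈ S, ∀ y' ∈ S, β x (y * y') = β x y + β x y')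
    (he : ∀ x ∈ S, ∀ y ∈ S, β (ρ x) (ρ y) = μ * β x y) (halt : ∀ x ∈ S, β x x = 0)
    (h1 : ∀ x ∈ S, ∀ y ∈ S, f x = 0 → β x y = 0) (h2 : ∀ x ∈ S, ∀ y ∈ S, f y = 0 → β x y = 0) :
    ∀ x ∈ S, ∀ y ∈ S, β x y = 0 := by
  obtain ⟨a, ha⟩ := L.pairing c L β hl hr he h1 h2
  obtain ⟨s, hs, hs1⟩ := L.surj 1
  have ha0 : a = 0 := by
    have := ha s hs s hs
    rw [halt s hs, hs1, mul_one, mul_one] at this
    rw [← this]; ring
  intro x hx y hy
  have := ha x hx y hy
  rw [ha0, zero_mul, sq_eq_zero_iff] at this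
  exact this

end coord

/-! ### The structure theorem -/

section structure_theorem

variable {F : Type u} [Field F] {cV : T → F} {μ : F}

theorem Hyp.kl (h : Hyp t ρ n) (c : Coord t ρ F cV μ) {x x' y : T} (h1 : k x y ∈ V t) (h2 : k x' y ∈ V t) :
    cV (k (x * x') y) = cV (k x y) + cV (k x' y) := by
  rw [k_mul_left (h.cen h1), c.add _ _ h1 h2]

theorem Hyp.kr (h : Hyp t ρ n) (c : Coord t ρ F cV μ) {x y y' : T} (h1 : k x y ∈ V t) (h2 : k x y' ∈ V t) :
    cV (k x (y * y')) = cV (k x y) + cV (k x y') := by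
  rw [k_mul_right (h.cen h1), c.add _ _ h1 h2]

/-- A pairing by commutators on a level with values in the fixed points is trivial. -/
theorem Hyp.alt_k (h : Hyp t ρ n) (c : Coord t ρ F cV μ) {S : Subgroup T} {f : T → F} (L : Lvl ρ μ S f)
    (hS : ∀ x ∈ S, ∀ y ∈ S, k x y ∈ V t) (h0 : ∀ x ∈ S, ∀ y ∈ S, f x = 0 → k x y = 1) :
    ∀ x ∈ S, ∀ y ∈ S, k x y = 1 := by
  have := L.alt c (fun x y => cV (k x y)) (fun x hx x' hx' y hy => h.kl c (hS x hx y hy) (hS x' hx' y hy))
    (fun x hx y hy y' hy' => h.kr c (hS x hx y hy) (hS x hx y' hy'))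
    (fun x hx y hy => by rw [← map_k, c.rho _ (hS x hx y hy)])
    (fun x _ => by rw [show k x x = 1 by simp [k], c.one])
    (fun x hx y hy e => by rw [h0 x hx y hy e, c.one])
    (fun x hx y hy e => by rw [k_symm, h0 y hy x hx e, inv_one, c.one])
  exact fun x hx y hy => c.inj _ (hS x hx y hy) (this x hx y hy)

/-- Coordinates for the quotient. -/
theorem Hyp.coord_quot (h : Hyp t ρ n) (c : Coord t ρ F cV μ) [(V t).Normal] (hne : V t ≠ ⊤) :
    ∃ cX : T ⧸ V t → F,
      Coord (qAut t (V t) h.t_V) (qAut ρ (V t) fun _ hx => h.rho_V hx) F cX μ ∧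
      ∀ u : T, u⁻¹ * t u ∈ V t → cX (QuotientGroup.mk' (V t) u) = cV (u⁻¹ * t u) := by
  classical
  haveI := c.char
  have hq := h.quotient hne
  set π := QuotientGroup.mk' (V t) with hπ
  set t' := qAut t (V t) h.t_V
  set r' := qAut ρ (V t) fun _ hx => h.rho_V hx
  have hs := QuotientGroup.mk'_surjective (V t)
  have hker : ∀ x : T, π x = 1 ↔ x ∈ V t := fun x => QuotientGroup.eq_one_iff x
  have hX : ∀ u, π u ∈ V t' ↔ u⁻¹ * t u ∈ V t := fun u => by
    rw [← hker, map_mul, map_inv, inv_mul_eq_one, eq_comm]; rfl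
  let cX : T ⧸ V t → F := fun p => cV ((Quotient.out p)⁻¹ * t (Quotient.out p))
  have hval : ∀ u : T, u⁻¹ * t u ∈ V t → cX (π u) = cV (u⁻¹ * t u) := by
    intro u hu
    show cV _ = _
    obtain ⟨v, hv, e⟩ : ∃ v ∈ V t, Quotient.out (π u) = u * v := by
      refine ⟨u⁻¹ * Quotient.out (π u), ?_, by group⟩
      rw [← hker, map_mul, map_inv, show π (Quotient.out (π u)) = π u from QuotientGroup.out_eq' _,
        inv_mul_cancel]
    rw [e, map_mul, show t v = v from hv,
      show (u * v)⁻¹ * (t u * v) = v⁻¹ * ((u⁻¹ * t u) * v) by group, h.cen hv, inv_mul_cancel_left]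
  refine ⟨cX, ⟨?_, ?_, ?_, ?_, c.gen, c.char⟩, hval⟩
  · intro p q hp hq'
    obtain ⟨x, rfl⟩ := hs p
    obtain ⟨y, rfl⟩ := hs q
    have hx := (hX x).mp hp
    have hy := (hX y).mp hq'
    have e : (x * y)⁻¹ * t (x * y) = (x⁻¹ * t x) * (y⁻¹ * t y) := by
      rw [map_mul, show (x * y)⁻¹ * (t x * t y) = y⁻¹ * ((x⁻¹ * t x) * y) * (y⁻¹ * t y) by group,
        ← h.cen hx y, inv_mul_cancel_left]
    rw [← map_mul, hval _ (e ▸ mul_mem hx hy), hval _ hx, hval _ hy, e, c.add _ _ hx hy]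
  · intro p hp e
    obtain ⟨x, rfl⟩ := hs p
    rw [hval _ ((hX x).mp hp)] at e
    have := c.inj _ ((hX x).mp hp) e
    exact (hker x).mpr (show t x = x from (inv_mul_eq_one.mp this).symm)
  · intro z
    have hf : Function.Injective fun p : V t' => (⟨_, (hX (Quotient.out (p : T ⧸ V t))).mp (by
        rw [show π (Quotient.out (p : T ⧸ V t)) = (p : T ⧸ V t) from QuotientGroup.out_eq' _]; exact p.2)⟩ : V t) := by
      intro p q e
      have e' := congrArg Subtype.val e
      simp only at e'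
      set x := Quotient.out (p : T ⧸ V t) with hx
      set y := Quotient.out (q : T ⧸ V t) with hy
      have e3 : y * (y⁻¹ * x) * y⁻¹ ∈ V t := by
        show t (y * (y⁻¹ * x) * y⁻¹) = y * (y⁻¹ * x) * y⁻¹
        rw [mul_inv_cancel_left, map_mul, map_inv, show t x = x * (x⁻¹ * t x) by group,
          show t y = y * (y⁻¹ * t y) by group, e']
        group
      apply Subtype.ext
      rw [← QuotientGroup.out_eq' (p : T ⧸ V t), ← QuotientGroup.out_eq' (q : T ⧸ V t), ← hx, ← hy,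
        QuotientGroup.eq]
      have h5 := (inferInstance : (V t).Normal).conj_mem _ (inv_mem e3) y⁻¹
      convert h5 using 1; group
    have hs' := ((Nat.bijective_iff_injective_and_card _).mpr ⟨hf, by rw [hq.card_V, h.card_V]⟩).2
    obtain ⟨a, ha, rfl⟩ := c.surj z
    obtain ⟨p, hp⟩ := hs' ⟨a, ha⟩
    exact ⟨p, p.2, congrArg (fun w : V t => cV w) hp⟩
  · intro p hp
    obtain ⟨x, rfl⟩ := hs p
    have hx := (hX x).mp hp
    have e : (ρ x)⁻¹ * t (ρ x) = ρ (x⁻¹ * t x) := by rw [h.comm, map_mul, map_inv]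
    show cX (π (ρ x)) = _
    rw [hval _ (e ▸ h.rho_V hx), hval _ hx, e, c.rho _ hx]

/-- The abelian groups. -/
theorem Hyp.abelian (h : Hyp t ρ n) (hc : ∀ x y : T, x * y = y * x) :
    ((∀ x : T, x * x = 1) ∧ (V t = ⊤ ∨ Nat.card T = 2 ^ n * 2 ^ n)) ∨ ∀ x : T, x * x = 1 → x ∈ V t := by
  classical
  letI : CommGroup T := { (inferInstance : Group T) with mul_comm := hc }
  let E : Subgroup T :=
    { carrier := {x | x * x = 1}
      one_mem' := one_mul 1
      mul_mem' := fun {a b} (ha : a * a = 1) (hb : b * b = 1) => by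
        show a * b * (a * b) = 1
        rw [mul_mul_mul_comm, ha, hb, one_mul]
      inv_mem' := fun {a} (ha : a * a = 1) => by show a⁻¹ * a⁻¹ = 1; rw [← mul_inv_rev, ha, inv_one] }
  have hVE : V t ≤ E := fun v hv => h.vv hv
  by_cases hEV : E ≤ V t
  · exact Or.inr fun x hx => hEV hx
  left
  have htE : ∀ e ∈ E, e * t e ∈ V t := fun e he => by
    show t (e * t e) = e * t e
    rw [map_mul, h.tt, mul_comm]
  let ν : E →* V t :=
    { toFun := fun e => ⟨(e : T) * t e, htE e e.2⟩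
      map_one' := Subtype.ext (by simp)
      map_mul' := fun e f => Subtype.ext (by
        show (e : T) * f * t ((e : T) * f) = (e : T) * t e * ((f : T) * t f)
        rw [map_mul, mul_mul_mul_comm]) }
  have hEρ : ∀ e ∈ E, ρ e ∈ E := fun e (he : e * e = 1) => by
    show ρ e * ρ e = 1; rw [← map_mul, he, map_one]
  let R := (ν.range).map (V t).subtype
  have hR : ∀ u ∈ R, ρ u ∈ R := by
    rintro _ ⟨v, ⟨e, rfl⟩, rfl⟩
    exact ⟨_, ⟨⟨ρ e, hEρ e e.2⟩, rfl⟩, by
      show ρ (e : T) * t (ρ e) = ρ ((e : T) * t e); rw [map_mul, h.comm]⟩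
  have hne : R ≠ ⊥ := by
    intro e0
    apply hEV
    intro e he
    have : (e : T) * t e = 1 := Subgroup.mem_bot.mp (e0 ▸ (⟨_, ⟨⟨e, he⟩, rfl⟩, rfl⟩ : e * t e ∈ R))
    show t e = e
    rw [← inv_eq_of_mul_eq_one_right this, inv_eq_of_mul_eq_one_right he]
  have hsurj := h.irreducible R hR (Subgroup.map_subtype_le _) hne
  have hEcard : Nat.card E = 2 ^ n * 2 ^ n := by
    have h1 : ν.range = ⊤ := by
      refine eq_top_iff.mpr fun v _ => ?_
      obtain ⟨w, hw, e⟩ := (hsurj.symm ▸ v.2 : (v : T) ∈ R)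
      exact (Subtype.ext e : w = v) ▸ hw
    have h2 : Nat.card ν.ker = 2 ^ n := by
      rw [← h.card_V]
      refine Nat.card_congr ⟨fun e => ⟨e.1.1, ?_⟩, fun v => ⟨⟨v.1, hVE v.2⟩, ?_⟩, fun e => rfl, fun v => rfl⟩
      · have : (e.1 : T) * t e.1 = 1 := congrArg Subtype.val e.2
        show t e.1.1 = e.1.1
        rw [← inv_eq_of_mul_eq_one_right this, inv_eq_of_mul_eq_one_right (e.1.2 : (e.1 : T) * e.1 = 1)]
      · exact Subtype.ext (show (v : T) * t v = 1 by rw [show t (v : T) = v from v.2, h.vv v.2])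
    rw [Subgroup.card_eq_card_quotient_mul_card_subgroup ν.ker,
      Nat.card_congr (QuotientGroup.quotientKerEquivRange ν).toEquiv, h1, h2, Subgroup.card_top,
      h.card_V]
  have hall : ∀ x : T, x * x = 1 := by
    by_contra hx
    push Not at hx
    obtain ⟨x, hx⟩ := hx
    let F' : Subgroup T :=
      { carrier := {y | ∃ a : T, a * a * (a * a) = 1 ∧ y = a * a}
        one_mem' := ⟨1, by simp, by simp⟩
        mul_mem' := by
          rintro _ _ ⟨a, ha, rfl⟩ ⟨b, hb, rfl⟩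
          exact ⟨a * b, by rw [mul_mul_mul_comm a b a b, mul_mul_mul_comm (a * a), ha, hb, one_mul],
            by rw [mul_mul_mul_comm]⟩
        inv_mem' := by
          rintro _ ⟨a, ha, rfl⟩
          exact ⟨a⁻¹, by rw [← mul_inv_rev a a, ← mul_inv_rev, ha, inv_one], mul_inv_rev a a⟩ }
    have hne' : F' ≠ ⊥ := by
      intro e
      obtain ⟨m, hm⟩ : ∃ m, x ^ 2 ^ m = 1 := h.two x
      suffices ∀ j, ∀ y : T, y ^ 2 ^ j = 1 → y * y = 1 from hx (this m x hm)
      intro j
      induction j with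
      | zero => intro y hy; rw [pow_zero, pow_one] at hy; rw [hy, one_mul]
      | succ j ih =>
        intro y hy
        have h4 := ih (y * y) (by rw [← pow_two, ← pow_mul, ← pow_succ']; exact hy)
        exact Subgroup.mem_bot.mp (e ▸ (⟨y, h4, rfl⟩ : y * y ∈ F'))
    obtain ⟨v, ⟨a, ha, rfl⟩, hv, hv1⟩ := h.meet F' (by
      rintro _ ⟨a, ha, rfl⟩
      exact ⟨t a, by rw [← map_mul, ← map_mul, ha, map_one], map_mul t a a⟩) hne'
    have he : a⁻¹ * t a ∈ E := by
      show a⁻¹ * t a * (a⁻¹ * t a) = 1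
      rw [mul_mul_mul_comm, ← map_mul, show t (a * a) = a * a from hv, ← mul_inv_rev, inv_mul_cancel]
    have heV : a⁻¹ * t a ∈ V t := by
      show t (a⁻¹ * t a) = a⁻¹ * t a
      rw [map_mul, map_inv, h.tt, ← inv_eq_of_mul_eq_one_right (he : a⁻¹ * t a * (a⁻¹ * t a) = 1),
        mul_inv_rev, inv_inv]
    obtain ⟨w, ⟨f, rfl⟩, e⟩ := (hsurj.symm ▸ heV : a⁻¹ * t a ∈ R)
    have hfe : (f : T) * t f = a⁻¹ * t a := e
    have hfix : a * f ∈ V t := by
      show t (a * f) = a * f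
      rw [map_mul, show t a = a * ((f : T) * t f) by rw [hfe, mul_inv_cancel_left], mul_assoc,
        mul_assoc (f : T), ← map_mul, show (f : T) * f = 1 from f.2, map_one, mul_one]
    have := h.vv hfix
    rw [mul_mul_mul_comm, show (f : T) * f = 1 from f.2, mul_one] at this
    exact hv1 this
  exact ⟨hall, Or.inr (by rw [← hEcard, show E = ⊤ from eq_top_iff.mpr fun x _ => hall x,
    Subgroup.card_top])⟩

/-- The nonabelian groups have order `q ^ 3` and class two. -/
theorem Hyp.nonabelian : ∀ {T : Type u} [Group T] [Finite T] {t ρ : MulAut T} {n : ℕ}, Hyp t ρ n →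
    ∀ {F : Type u} [Field F] {cV : T → F} {μ : F}, Coord t ρ F cV μ → (∃ x y : T, x * y ≠ y * x) →
    Nat.card T = 2 ^ n * 2 ^ n * 2 ^ n ∧ (∀ x : T, x * x ∈ V t) ∧ ∀ x y : T, k x y ∈ V t := by
  suffices H : ∀ (N : ℕ) (T : Type u) [Group T] [Finite T] (t ρ : MulAut T) (n : ℕ), Nat.card T = N →
      Hyp t ρ n → ∀ (F : Type u) [Field F] (cV : T → F) (μ : F), Coord t ρ F cV μ →
      (∃ x y : T, x * y ≠ y * x) →
      Nat.card T = 2 ^ n * 2 ^ n * 2 ^ n ∧ (∀ x : T, x * x ∈ V t) ∧ ∀ x y : T, k x y ∈ V t from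
    fun {T} _ _ {t ρ n} h {F} _ {cV μ} c hna => H _ T t ρ n rfl h F cV μ c hna
  intro N
  induction N using Nat.strong_induction_on with
  | h N ih =>
    intro T _ _ t ρ n hN h F _ cV μ c hna
    classical
    haveI := c.char
    haveI := h.normal_V
    have h4 := h.two_le_pow
    have hVne : V t ≠ ⊤ := fun e => by
      obtain ⟨x, y, hxy⟩ := hna
      exact hxy (h.cen (e ▸ Subgroup.mem_top y : y ∈ V t) x)
    have hq := h.quotient hVne
    obtain ⟨cX, hcX, hcXv⟩ := h.coord_quot c hVne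
    set π := QuotientGroup.mk' (V t) with hπ
    set t' := qAut t (V t) h.t_V with ht'
    set r' := qAut ρ (V t) fun _ hx => h.rho_V hx with hr'
    have hs := QuotientGroup.mk'_surjective (V t)
    have hker : ∀ x : T, π x = 1 ↔ x ∈ V t := fun x => QuotientGroup.eq_one_iff x
    have et : ∀ x, t' (π x) = π (t x) := fun x => rfl
    have er : ∀ x, r' (π x) = π (ρ x) := fun x => rfl
    have hqcard : Nat.card T = Nat.card (T ⧸ V t) * 2 ^ n := by
      rw [Subgroup.card_eq_card_quotient_mul_card_subgroup (V t), h.card_V]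
    have hlt : Nat.card (T ⧸ V t) < N := by
      have := Nat.card_pos (α := T ⧸ V t)
      rw [← hN, hqcard]
      exact lt_mul_of_one_lt_right this (by omega)
    set X := (V t').comap π with hX
    have hVX : V t ≤ X := fun v hv => by
      show t' (π v) = π v
      rw [(hker v).mpr hv, map_one]
    have hXmem : ∀ u, u ∈ X ↔ u⁻¹ * t u ∈ V t := fun u => by
      rw [← hker, map_mul, map_inv, inv_mul_eq_one, eq_comm]; rfl
    have hXρ : ∀ u ∈ X, ρ u ∈ X := fun u hu => by
      show π (ρ u) ∈ V t'; rw [← er]; exact hq.rho_V hu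
    have hXV : ∀ u ∈ X, ∀ g : T, k u g ∈ V t := fun u hu g => by
      rw [← hker, map_k]; exact k_eq_one.mpr (hq.cen hu _)
    have hXV' : ∀ u ∈ X, ∀ g : T, k g u ∈ V t := fun u hu g => by
      rw [k_symm]; exact inv_mem (hXV u hu g)
    have hkv : ∀ v ∈ V t, ∀ g : T, k v g = 1 ∧ k g v = 1 := fun v hv g =>
      ⟨k_eq_one.mpr (h.cen hv g), k_eq_one.mpr (h.cen hv g).symm⟩
    let fX : T → F := fun u => cX (π u)
    have LX : Lvl ρ μ X fX := by
      refine ⟨hXρ, fun x hx y hy => ?_, fun x hx => ?_, fun z => ?_⟩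
      · show cX (π (x * y)) = _; rw [map_mul]; exact hcX.add _ _ hx hy
      · show cX (π (ρ x)) = _; rw [← er]; exact hcX.rho _ hx
      · obtain ⟨p, hp, hp'⟩ := hcX.surj z
        obtain ⟨x, rfl⟩ := hs p
        exact ⟨x, hp, hp'⟩
    have hfX0 : ∀ u ∈ X, fX u = 0 → u ∈ V t := fun u hu e => (hker u).mp (hcX.inj _ hu e)
    have hX1 : ∀ u ∈ X, ∀ w ∈ X, k u w = 1 :=
      h.alt_k c LX (fun u hu w _ => hXV u hu w) fun u hu w _ e => (hkv u (hfX0 u hu e) w).1
    by_cases hqc : ∀ p q : T ⧸ V t, p * q = q * p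
    · have hkV : ∀ x y : T, k x y ∈ V t := fun x y => by
        rw [← hker, map_k]; exact k_eq_one.mpr (hqc _ _)
      rcases hq.abelian hqc with ⟨hexp, htop | hcard⟩ | h3
      · exfalso
        obtain ⟨a, b, hab⟩ := hna
        have hall : ∀ u : T, u ∈ X := fun u => by
          show π u ∈ V t'; rw [htop]; exact Subgroup.mem_top _
        exact hab (k_eq_one.mp (hX1 b (hall b) a (hall a)))
      · refine ⟨by rw [hqcard, hcard], fun x => ?_, hkV⟩
        rw [← hker, map_mul]; exact hexp _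
      · exfalso
        letI : CommGroup (T ⧸ V t) := { (inferInstance : Group (T ⧸ V t)) with mul_comm := hqc }
        obtain ⟨g₀, hg₀⟩ := Monoid.exists_orderOf_eq_exponent (G := T ⧸ V t)
          (Monoid.ExponentExists.of_finite)
        obtain ⟨m, hm⟩ : ∃ m, Monoid.exponent (T ⧸ V t) = 2 ^ m := by
          obtain ⟨j, hj⟩ := hq.two g₀
          obtain ⟨m, -, hm⟩ := (Nat.dvd_prime_pow Nat.prime_two).mp (orderOf_dvd_of_pow_eq_one hj)
          exact ⟨m, hg₀ ▸ hm⟩
        obtain ⟨v, hv, hv1⟩ := hcX.surj 1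
        have hvne : v ≠ 1 := fun e => by rw [e, hcX.one] at hv1; exact zero_ne_one hv1
        rcases m with _ | m
        · exact hvne (by have := Monoid.pow_exponent_eq_one v; rwa [hm, pow_zero, pow_one] at this)
        have hgm : ∀ p : T ⧸ V t, p ^ 2 ^ m ∈ V t' := fun p => by
          apply h3
          rw [← pow_add, ← two_mul, ← pow_succ', ← hm, Monoid.pow_exponent_eq_one]
        let f : T → F := fun x => cX (π x ^ 2 ^ m)
        have L : Lvl ρ μ ⊤ f := by
          refine Lvl.mk' c (fun _ _ => Subgroup.mem_top _) (fun x _ y _ => ?_) (fun x _ => ?_) ?_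
          · show cX (π (x * y) ^ 2 ^ m) = _
            rw [map_mul, mul_pow]; exact hcX.add _ _ (hgm _) (hgm _)
          · show cX (π (ρ x) ^ 2 ^ m) = _
            rw [← er, ← map_pow]; exact hcX.rho _ (hgm _)
          · obtain ⟨x, hx⟩ := hs g₀
            refine ⟨x, Subgroup.mem_top x, fun e => ?_⟩
            have h1 := hcX.inj _ (hgm (π x)) e
            rw [hx] at h1
            have := orderOf_dvd_of_pow_eq_one h1
            rw [hg₀, hm, Nat.pow_dvd_pow_iff_le_right (by norm_num)] at this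
            omega
        -- elements killed by the half exponent are squares
        have hsq : ∀ j ≤ m, ∀ p : T ⧸ V t, p ^ 2 ^ j = 1 → ∃ g, p = g * g := by
          intro j
          induction j with
          | zero => intro _ p hp; exact ⟨1, by rw [pow_zero, pow_one] at hp; rw [hp, one_mul]⟩
          | succ j ihj =>
            intro hj p hp
            have hw : p ^ 2 ^ j ∈ V t' := h3 _ (by rw [← pow_add, ← two_mul, ← pow_succ', hp])
            obtain ⟨x, -, hx⟩ := L.surj (cX (p ^ 2 ^ j))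
            have e : π x ^ 2 ^ m = p ^ 2 ^ j := hcX.eq hq (hgm _) hw hx
            obtain ⟨g, hg⟩ := ihj (by omega) (p * (π x ^ 2 ^ (m - j))⁻¹) (by
              rw [mul_pow, inv_pow, ← pow_mul, ← pow_add, Nat.sub_add_cancel (by omega), e, mul_inv_cancel])
            refine ⟨g * π x ^ 2 ^ (m - j - 1), ?_⟩
            rw [mul_mul_mul_comm, ← hg, ← pow_add, ← two_mul, ← pow_succ',
              show m - j - 1 + 1 = m - j by omega, inv_mul_cancel_right]
        have h0 : ∀ x ∈ (⊤ : Subgroup T), ∀ y ∈ (⊤ : Subgroup T), f x = 0 → k x y = 1 := by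
          intro x _ y _ e
          obtain ⟨g, hg⟩ := hsq m le_rfl (π x) (hcX.inj _ (hgm _) e)
          obtain ⟨g, rfl⟩ := hs g
          obtain ⟨v, hv', e'⟩ : ∃ v ∈ V t, x = g * g * v := by
            refine ⟨(g * g)⁻¹ * x, ?_, by group⟩
            rw [← hker, map_mul, map_inv, map_mul, hg, inv_mul_cancel]
          rw [e', k_mul_left (h.cen (hkV _ y)), (hkv v hv' y).1, mul_one, k_mul_left (h.cen (hkV g y)),
            h.vv (hkV g y)]
        obtain ⟨a, b, hab⟩ := hna
        exact hab (k_eq_one.mp (h.alt_k c L (fun x _ y _ => hkV x y) h0 b (Subgroup.mem_top b) a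
          (Subgroup.mem_top a)))
    -- the quotient is not abelian
    exfalso
    push Not at hqc
    obtain ⟨q3, qsq, qk⟩ := ih _ hlt (T ⧸ V t) t' r' n rfl hq F cX μ hcX hqc
    haveI hXn : X.Normal := by
      haveI := hq.normal_V
      exact Subgroup.Normal.comap inferInstance π
    have hXsq : ∀ x : T, x * x ∈ X := fun x => by
      show π (x * x) ∈ V t'; rw [map_mul]; exact qsq _
    have hXk : ∀ x y : T, k x y ∈ X := fun x y => by
      show π (k x y) ∈ V t'; rw [map_k]; exact qk _ _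
    have htt : ∀ g, (g⁻¹ * t g)⁻¹ * t (g⁻¹ * t g) ∈ X := fun g => by
      rw [map_mul, map_inv, h.tt, mul_inv_rev, inv_inv]
      exact hXsq _
    let A : Subgroup T :=
      { carrier := {g | g⁻¹ * t g ∈ X}
        one_mem' := by simp
        mul_mem' := fun {a b} ha hb => by
          show (a * b)⁻¹ * t (a * b) ∈ X
          rw [map_mul, show (a * b)⁻¹ * (t a * t b) = b⁻¹ * (a⁻¹ * t a) * b⁻¹⁻¹ * (b⁻¹ * t b) by group]
          exact mul_mem (hXn.conj_mem _ ha b⁻¹) hb
        inv_mem' := fun {a} ha => by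
          show a⁻¹⁻¹ * t a⁻¹ ∈ X
          rw [map_inv, show a⁻¹⁻¹ * (t a)⁻¹ = a * (a⁻¹ * t a)⁻¹ * a⁻¹ by group]
          exact hXn.conj_mem _ (inv_mem ha) a }
    have hAρ : ∀ a ∈ A, ρ a ∈ A := fun a ha => by
      show (ρ a)⁻¹ * t (ρ a) ∈ X
      rw [h.comm, ← map_inv, ← map_mul]
      exact hXρ _ ha
    have hXA : X ≤ A := fun u hu => hVX ((hXmem u).mp hu)
    have hmove : ∀ c₀ : T, c₀⁻¹ * t c₀ ∈ A := htt
    obtain ⟨c₀, hc₀⟩ : ∃ c₀, c₀⁻¹ * t c₀ ∉ X := by
      by_contra hall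
      push Not at hall
      haveI := hq.normal_V
      have hne' : V t' ≠ ⊤ := fun e => by
        have h1 := hq.card_V
        rw [e, Subgroup.card_top, q3] at h1
        have : 2 ^ n * 1 < 2 ^ n * (2 ^ n * 2 ^ n) := by
          refine (Nat.mul_lt_mul_left (by omega)).mpr ?_
          exact Nat.one_lt_mul_iff.mpr ⟨by omega, by omega, Or.inl (by omega)⟩
        rw [← mul_assoc, mul_one, h1] at this
        omega
      have h4' := (hq.quotient hne').card
      have hall' : ∀ q : (T ⧸ V t) ⧸ V t', qAut t' (V t') hq.t_V q = q := by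
        intro q
        obtain ⟨p, rfl⟩ := QuotientGroup.mk'_surjective (V t') q
        obtain ⟨g, rfl⟩ := hs p
        show QuotientGroup.mk' (V t') (t' (π g)) = QuotientGroup.mk' (V t') (π g)
        rw [et]
        refine Eq.symm (QuotientGroup.eq.mpr ?_)
        rw [← map_inv, ← map_mul]
        exact hall g
      rw [Nat.card_congr (Equiv.subtypeUnivEquiv hall')] at h4'
      have h5 := Subgroup.card_eq_card_quotient_mul_card_subgroup (V t')
      rw [hq.card_V, q3, h4'] at h5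
      have : 2 ^ n * 2 ^ n * 1 < 2 ^ n * 2 ^ n * 2 ^ n :=
        (Nat.mul_lt_mul_left (Nat.mul_pos (by omega) (by omega))).mpr (by omega)
      rw [mul_one, h5] at this
      exact lt_irrefl _ this
    -- the coordinates two levels up
    have hconjX : ∀ u ∈ X, ∀ y : T, fX (y⁻¹ * u * y) = fX u := fun u hu y => by
      show cX (π (y⁻¹ * u * y)) = cX (π u)
      rw [map_mul, map_mul, map_inv, mul_assoc, ← hq.cen hu (π y), inv_mul_cancel_left]
    have hne1 : (c₀⁻¹ * t c₀) ∈ A ∧ fX ((c₀⁻¹ * t c₀)⁻¹ * t (c₀⁻¹ * t c₀)) ≠ 0 :=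
      ⟨htt c₀, fun e => hc₀ ((hXmem _).mpr (hfX0 _ (htt c₀) e))⟩
    have LA : Lvl ρ μ A (fun a => fX (a⁻¹ * t a)) :=
      LX.up c h.comm hAρ (fun a ha => ha) (fun a ha y _ => hconjX _ ha y)
        (fun a ha y _ => by
          have := hXn.conj_mem _ ha y⁻¹
          rwa [inv_inv] at this) ⟨_, hne1⟩
    set fA : T → F := fun a => fX (a⁻¹ * t a) with hfA
    have hfA0 : ∀ a ∈ A, fA a = 0 → a ∈ X := fun a ha e => (hXmem a).mpr (hfX0 _ ha e)
    have hfAX : ∀ w ∈ X, fA w = 0 := fun w hw => by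
      show cX (π (w⁻¹ * t w)) = 0
      rw [(hker _).mpr ((hXmem w).mp hw), hcX.one]
    have hconjA : ∀ a ∈ A, ∀ y : T, y⁻¹ * a * y ∈ A ∧ fA (y⁻¹ * a * y) = fA a := fun a ha y => by
      have hk : y⁻¹ * a * y = a * k y a := by simp only [k]; group
      refine ⟨hk ▸ mul_mem ha (hXA (hXk y a)), ?_⟩
      rw [hk, LA.add a ha _ (hXA (hXk y a)), hfAX _ (hXk y a), add_zero]
    have LT : Lvl ρ μ ⊤ (fun g => fA (g⁻¹ * t g)) :=
      LA.up c h.comm (fun _ _ => Subgroup.mem_top _) (fun g _ => htt g)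
        (fun g _ y _ => (hconjA _ (htt g) y).2) (fun g _ y _ => (hconjA _ (htt g) y).1)
        ⟨c₀, Subgroup.mem_top _, hne1.2⟩
    set fT : T → F := fun g => fA (g⁻¹ * t g) with hfT
    have hfT0 : ∀ g, fT g = 0 → g ∈ A := fun g e => hfA0 _ (htt g) e
    -- `X` commutes with `A`
    have hXA1 : ∀ u ∈ X, ∀ a ∈ A, k u a = 1 := by
      intro u hu a ha
      obtain ⟨g, -, hg⟩ := LT.surj (fA a)
      have h1 : k u (g⁻¹ * t g) = 1 := by
        have h1 : t (k u g) = k u g := hXV u hu g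
        obtain ⟨v, hv, hv'⟩ : ∃ v ∈ V t, t u = u * v := ⟨_, (hXmem u).mp hu, by group⟩
        rw [map_k, hv', k_mul_left (h.cen (hXV u hu _)), (hkv v hv _).1, mul_one,
          show t g = g * (g⁻¹ * t g) by group, k_mul_right (h.cen (hXV u hu g)), mul_eq_left] at h1
        exact h1
      have hw : (g⁻¹ * t g)⁻¹ * a ∈ X := by
        have e1 := LA.add _ (htt g) _ (mul_mem (inv_mem (htt g)) ha)
        rw [mul_inv_cancel_left] at e1
        refine hfA0 _ (mul_mem (inv_mem (htt g)) ha) ?_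
        rw [show fA (g⁻¹ * t g) = fA a from hg] at e1
        exact left_eq_add.mp e1
      rw [show a = g⁻¹ * t g * ((g⁻¹ * t g)⁻¹ * a) by group, k_mul_right (h.cen (hXV u hu _)), h1,
        hX1 u hu _ hw, one_mul]
    have hfXk : ∀ x y, k x y ∈ V t → fX (k x y) = 0 := fun x y hk => by
      show cX (π (k x y)) = 0; rw [(hker _).mpr hk, hcX.one]
    have hXl : ∀ x x' y : T, fX (k (x * x') y) = fX (k x y) + fX (k x' y) := fun x x' y => by
      show cX (π _) = cX (π _) + cX (π _)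
      rw [map_k, map_k, map_k, map_mul]; exact hq.kl hcX (qk _ _) (qk _ _)
    have hXr : ∀ x y y' : T, fX (k x (y * y')) = fX (k x y) + fX (k x y') := fun x y y' => by
      show cX (π _) = cX (π _) + cX (π _)
      rw [map_k, map_k, map_k, map_mul]; exact hq.kr hcX (qk _ _) (qk _ _)
    have hXe : ∀ x y : T, fX (k (ρ x) (ρ y)) = μ * fX (k x y) := fun x y => by
      rw [← map_k]; exact LX.rho _ (hXk x y)
    have hAA : ∀ a ∈ A, ∀ b ∈ A, k a b = 1 := by
      have hV' : ∀ a ∈ A, ∀ b ∈ A, k a b ∈ V t := fun a ha b hb => hfX0 _ (hXk a b)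
        (LA.alt c (fun x y => fX (k x y)) (fun x _ x' _ y _ => hXl x x' y) (fun x _ y _ y' _ => hXr x y y')
          (fun x _ y _ => hXe x y) (fun x _ => by rw [show k x x = 1 by simp [k]]; exact LX.one)
          (fun x hx y _ e => hfXk x y (hXV x (hfA0 x hx e) y))
          (fun x _ y hy e => hfXk x y (hXV' y (hfA0 y hy e) x)) a ha b hb)
      exact h.alt_k c LA hV' fun a ha b hb e => hXA1 a (hfA0 a ha e) b hb
    -- the two pairings
    obtain ⟨γ, hγ⟩ := LX.pairing c LT (fun u g => cV (k u g))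
      (fun u hu u' hu' g _ => h.kl c (hXV u hu g) (hXV u' hu' g))
      (fun u hu g _ g' _ => h.kr c (hXV u hu g) (hXV u hu g'))
      (fun u hu g _ => by rw [← map_k, c.rho _ (hXV u hu g)])
      (fun u hu g _ e => by rw [(hkv u (hfX0 u hu e) g).1, c.one])
      (fun u hu g _ e => by rw [hXA1 u hu g (hfT0 g e), c.one])
    obtain ⟨β, hβ⟩ := LA.pairing c LT (fun a g => fX (k a g))
      (fun a _ a' _ g _ => hXl a a' g) (fun a _ g _ g' _ => hXr a g g') (fun a _ g _ => hXe a g)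
      (fun a ha g _ e => hfXk a g (hXV a (hfA0 a ha e) g))
      (fun a ha g _ e => by rw [hAA a ha g (hfT0 g e)]; exact LX.one)
    have hβ0 : β ≠ 0 := by
      intro e0
      obtain ⟨p, q, hpq⟩ := hqc
      obtain ⟨p, rfl⟩ := hs p
      obtain ⟨q, rfl⟩ := hs q
      have h0 : ∀ a ∈ A, ∀ g : T, fX (k a g) = 0 := fun a ha g => by
        have := hβ a ha g (Subgroup.mem_top g)
        rw [e0, zero_mul, sq_eq_zero_iff] at this
        exact this
      have := LT.alt c (fun x y => fX (k x y)) (fun x _ x' _ y _ => hXl x x' y) (fun x _ y _ y' _ => hXr x y y')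
        (fun x _ y _ => hXe x y) (fun x _ => by rw [show k x x = 1 by simp [k]]; exact LX.one)
        (fun x _ y _ e => h0 x (hfT0 x e) y)
        (fun x _ y _ e => by
          have h1 := h0 y (hfT0 y e) x
          show cX (π (k x y)) = 0
          rw [k_symm, map_inv, hq.vinv (hXk y x)]
          exact h1)
        q (Subgroup.mem_top q) p (Subgroup.mem_top p)
      apply hpq
      have h1 := hcX.inj _ (hXk q p) this
      rw [map_k, k_eq_one] at h1
      exact h1
    -- the symmetry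
    have hsymm : ∀ a ∈ A, ∀ g g' : T, k (k a g) g' = k (k a g') g := by
      intro a ha g g'
      have hexp : ∀ g g' : T, k a (g * g') = k a g * k (k a g) g' * k a g' := fun g g' => k_uniq <| by
        calc g * g' * a = g * (g' * a) := by group
          _ = (g * a) * (g' * k a g') := by rw [k_spec a g']; group
          _ = a * g * (k a g * g') * k a g' := by rw [k_spec a g]; group
          _ = a * (g * g') * (k a g * k (k a g) g' * k a g') := by
            rw [show k a g * g' = g' * k a g * (k g' (k a g)) from k_spec g' (k a g),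
              k_symm (k a g) g', h.vinv (hXV _ (hXk a g) g')]
            group
      have hswap : k a (g * g') = k a (g' * g) := by
        rw [k_spec g' g, hexp (g' * g) (k g' g), hXA1 _ (hXk _ _) _ (hXA (hXk g' g)), mul_one,
          show k a (k g' g) = 1 from hAA a ha _ (hXA (hXk g' g)), mul_one]
      rw [hexp, hexp] at hswap
      have c1 : k a g' * k a g = k a g * k a g' := k_eq_one.mp (hX1 _ (hXk a g) _ (hXk a g'))
      rw [mul_assoc, ← h.cen (hXV _ (hXk a g) g') (k a g'), ← mul_assoc,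
        mul_assoc (k a g') (k (k a g') g), ← h.cen (hXV _ (hXk a g') g) (k a g), ← mul_assoc, c1] at hswap
      exact mul_left_cancel hswap
    have hγ0 : γ = 0 := by
      obtain ⟨a, ha, ha1⟩ := LA.surj 1
      obtain ⟨g, -, hg⟩ := LT.surj 1
      obtain ⟨g', -, hg'⟩ := LT.surj μ
      have e1 := hγ _ (hXk a g) g' (Subgroup.mem_top g')
      have e2 := hγ _ (hXk a g') g (Subgroup.mem_top g)
      have b1 := hβ a ha g (Subgroup.mem_top g)
      have b2 := hβ a ha g' (Subgroup.mem_top g')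
      rw [hsymm a ha g g'] at e1
      rw [ha1, hg, one_mul, mul_one] at b1
      rw [ha1, hg', one_mul] at b2
      rw [hg'] at e1
      rw [hg, mul_one] at e2
      have e3 : γ * (fX (k a g) * μ) = γ * fX (k a g') := e1.symm.trans e2
      by_contra hne
      have e4 := congrArg (fun z => z * z) (mul_left_cancel₀ hne e3)
      have e5 : β * μ * μ = β * μ := by
        have : fX (k a g) ^ 2 * μ * μ = fX (k a g') ^ 2 := by linear_combination e4
        rwa [b1, b2] at this
      have : β * μ * (μ - 1) = 0 := by linear_combination e5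
      rcases mul_eq_zero.mp this with r | r
      · exact mul_ne_zero hβ0 (c.mu_ne_zero h) r
      · exact c.mu_ne_one h (sub_eq_zero.mp r)
    have hXz : ∀ u ∈ X, ∀ g : T, g * u = u * g := fun u hu g => k_eq_one.mp (c.inj _ (hXV u hu g) (by
      have := hγ u hu g (Subgroup.mem_top g)
      rw [hγ0, zero_mul, sq_eq_zero_iff] at this
      exact this))
    have hkc : ∀ x y : T, ∀ g : T, g * k x y = k x y * g := fun x y => hXz _ (hXk x y)
    obtain ⟨a, ha, ha1⟩ := LA.surj 1
    obtain ⟨g, -, hg⟩ := LT.surj 1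
    have hfix : k a g ∈ V t := by
      show t (k a g) = k a g
      have hta : a⁻¹ * t a ∈ X := ha
      rw [map_k, show t a = a * (a⁻¹ * t a) by group, k_mul_left (hkc _ _),
        show k (a⁻¹ * t a) (t g) = 1 from k_eq_one.mpr (hXz _ hta (t g)), mul_one,
        show t g = g * (g⁻¹ * t g) by group, k_mul_right (hkc _ _), hAA a ha _ (htt g), mul_one]
    have := hβ a ha g (Subgroup.mem_top g)
    rw [hfXk a g hfix, ha1, hg, mul_one, mul_one] at this
    exact hβ0 (by linear_combination -this)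

end structure_theorem

/-- The nonabelian groups are extensions with a quadratic form as squaring map. -/
theorem Hyp.sqExt (h : Hyp t ρ n) {F : Type u} [Field F] [Finite F] {cV : T → F} {μ : F}
    (c : Coord t ρ F cV μ) (hna : ∃ x y : T, x * y ≠ y * x) :
    ∃ a b d : F, d ≠ 0 ∧ Nonempty (SqExtTwo.SqExt₂ T
      (fun p : F × F => a * p.1 ^ 2 + b * p.2 ^ 2 + d * (p.1 * p.2))) := by
  classical
  haveI := c.char
  haveI := h.normal_V
  have h4 := h.two_le_pow
  obtain ⟨q3, hsqV, hkV⟩ := h.nonabelian c hna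
  have hVne : V t ≠ ⊤ := fun e => by
    obtain ⟨x, y, hxy⟩ := hna
    exact hxy (h.cen (e ▸ Subgroup.mem_top y : y ∈ V t) x)
  have hq := h.quotient hVne
  obtain ⟨cX, hcX, -⟩ := h.coord_quot c hVne
  set π := QuotientGroup.mk' (V t) with hπ
  set t' := qAut t (V t) h.t_V
  set r' := qAut ρ (V t) fun _ hx => h.rho_V hx
  have hs := QuotientGroup.mk'_surjective (V t)
  have hker : ∀ x : T, π x = 1 ↔ x ∈ V t := fun x => QuotientGroup.eq_one_iff x
  have et : ∀ x, t' (π x) = π (t x) := fun x => rfl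
  have er : ∀ x, r' (π x) = π (ρ x) := fun x => rfl
  have hqc : ∀ p q : T ⧸ V t, p * q = q * p := fun p q => by
    obtain ⟨x, rfl⟩ := hs p
    obtain ⟨y, rfl⟩ := hs q
    apply k_eq_one.mp
    rw [← map_k]
    exact (hker _).mpr (hkV y x)
  have hqsq : ∀ p : T ⧸ V t, p * p = 1 := fun p => by
    obtain ⟨x, rfl⟩ := hs p
    rw [← map_mul]; exact (hker _).mpr (hsqV x)
  have hmem : ∀ g : T, π (g⁻¹ * t g) ∈ V t' := fun g => by
    show t' _ = _
    rw [et, map_mul, map_inv, h.tt, map_mul, map_inv, map_mul, map_inv]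
    have hi : ∀ p : T ⧸ V t, p⁻¹ = p := fun p => inv_eq_of_mul_eq_one_right (hqsq p)
    rw [hi, hi, hqc]
    rfl
  set X := (V t').comap π with hX
  let fX : T → F := fun u => cX (π u)
  have LX : Lvl ρ μ X fX := by
    refine ⟨fun u hu => ?_, fun x hx y hy => ?_, fun x hx => ?_, fun z => ?_⟩
    · show π (ρ u) ∈ V t'; rw [← er]; exact hq.rho_V hu
    · show cX (π (x * y)) = _; rw [map_mul]; exact hcX.add _ _ hx hy
    · show cX (π (ρ x)) = _; rw [← er]; exact hcX.rho _ hx
    · obtain ⟨p, hp, hp'⟩ := hcX.surj z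
      obtain ⟨x, rfl⟩ := hs p
      exact ⟨x, hp, hp'⟩
  have hfX0 : ∀ u ∈ X, fX u = 0 → u ∈ V t := fun u hu e => (hker u).mp (hcX.inj _ hu e)
  have hVX : V t ≤ X := fun v hv => by show t' (π v) = π v; rw [(hker v).mpr hv, map_one]
  have hfXV : ∀ v ∈ V t, fX v = 0 := fun v hv => by show cX (π v) = 0; rw [(hker v).mpr hv, hcX.one]
  have hkv : ∀ v ∈ V t, ∀ g : T, k v g = 1 ∧ k g v = 1 := fun v hv g =>
    ⟨k_eq_one.mpr (h.cen hv g), k_eq_one.mpr (h.cen hv g).symm⟩
  obtain ⟨g₀, hg₀⟩ : ∃ g₀, fX (g₀⁻¹ * t g₀) ≠ 0 := by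
    by_contra hall
    push Not at hall
    have htop : V t' = ⊤ := eq_top_iff.mpr fun p _ => by
      obtain ⟨g, rfl⟩ := hs p
      show t' (π g) = π g
      rw [et]
      have := hcX.inj _ (hmem g) (hall g)
      rw [map_mul, map_inv, inv_mul_eq_one] at this
      exact this.symm
    have h1 := hq.card_V
    rw [htop, Subgroup.card_top] at h1
    have h2 := Subgroup.card_eq_card_quotient_mul_card_subgroup (V t)
    rw [h.card_V, h1, q3] at h2
    have : 2 ^ n * 2 ^ n * 1 < 2 ^ n * 2 ^ n * 2 ^ n :=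
      (Nat.mul_lt_mul_left (Nat.mul_pos (by omega) (by omega))).mpr (by omega)
    rw [mul_one, h2] at this
    exact lt_irrefl _ this
  have hconj : ∀ u ∈ X, ∀ y : T, fX (y⁻¹ * u * y) = fX u ∧ y⁻¹ * u * y ∈ X := fun u hu y => by
    have e : π (y⁻¹ * u * y) = π u := by
      rw [map_mul, map_mul, map_inv, mul_assoc, hqc (π u), inv_mul_cancel_left]
    exact ⟨congrArg cX e, show π _ ∈ V t' by rw [e]; exact hu⟩
  have LT : Lvl ρ μ ⊤ (fun g => fX (g⁻¹ * t g)) :=
    LX.up c h.comm (fun _ _ => Subgroup.mem_top _) (fun g _ => hmem g)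
      (fun g _ y _ => (hconj _ (hmem g) y).1) (fun g _ y _ => (hconj _ (hmem g) y).2)
      ⟨g₀, Subgroup.mem_top _, hg₀⟩
  set fT : T → F := fun g => fX (g⁻¹ * t g) with hfT
  have hfT0 : ∀ g, fT g = 0 → g ∈ X := fun g e => by
    show t' (π g) = π g
    rw [et]
    have := hcX.inj _ (hmem g) e
    rw [map_mul, map_inv, inv_mul_eq_one] at this
    exact this.symm
  have hfTX : ∀ u ∈ X, fT u = 0 := fun u hu => by
    refine hfXV _ ((hker _).mp ?_)
    rw [map_mul, map_inv, ← et, show t' (π u) = π u from hu, inv_mul_cancel]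
  -- an equivariant projection to `X`
  letI : CommGroup (T ⧸ V t) := { (inferInstance : Group (T ⧸ V t)) with mul_comm := hqc }
  letI : Module (ZMod 2) (Additive (T ⧸ V t)) := AddCommGroup.zmodModule fun x => by
    rw [two_nsmul]; exact hqsq x
  letI : Module (ZMod 2) F := AddCommGroup.zmodModule fun x => by
    rw [two_nsmul]; exact CharTwo.add_self_eq_zero x
  let Xs : Submodule (ZMod 2) (Additive (T ⧸ V t)) :=
    AddSubgroup.toZModSubmodule 2 (Subgroup.toAddSubgroup (V t'))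
  let l : Xs →ₗ[ZMod 2] F := AddMonoidHom.toZModLinearMap 2
    (AddMonoidHom.mk' (fun p => cX (Additive.toMul (p : Additive (T ⧸ V t))))
      (fun p q => hcX.add _ _ p.2 q.2))
  obtain ⟨L, hL⟩ := LinearMap.exists_extend l
  let p0 : T → F := fun g => L (Additive.ofMul (π g))
  have p0add : ∀ g g', p0 (g * g') = p0 g + p0 g' := fun g g' => by
    show L _ = L _ + L _
    rw [← map_add]; rfl
  have p0X : ∀ u ∈ X, p0 u = fX u := fun u hu =>
    LinearMap.congr_fun hL (⟨Additive.ofMul (π u), hu⟩ : Xs)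
  obtain ⟨N, hN⟩ : ∃ N, N = 2 ^ n - 1 := ⟨_, rfl⟩
  have hμN : μ ^ N = 1 := by
    obtain ⟨v, hv, hv1⟩ := c.surj 1
    have hi : ∀ i : ℕ, cV ((ρ ^ i) v) = μ ^ i := by
      intro i
      induction i with
      | zero => rw [pow_zero, pow_zero]; exact hv1
      | succ i ih => rw [pow_succ', MulAut.mul_apply, c.rho _ (h.pow_V i hv), ih, pow_succ']
    have := hi N
    rw [hN, h.rpow, MulAut.one_apply, hv1] at this
    rw [hN]; exact this.symm
  let p : T → F := fun g => ∑ i ∈ Finset.range N, μ ^ (N - i) * p0 ((ρ ^ i) g)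
  have padd : ∀ g g', p (g * g') = p g + p g' := fun g g' => by
    simp only [p, map_mul, p0add, mul_add, Finset.sum_add_distrib]
  have prho : ∀ g, p (ρ g) = μ * p g := fun g => by
    let G : ℕ → F := fun i => μ ^ (N - i) * p0 ((ρ ^ i) g)
    have hG : ∑ i ∈ Finset.range N, G (i + 1) = ∑ i ∈ Finset.range N, G i := by
      have e1 := Finset.sum_range_succ G N
      have e2 := Finset.sum_range_succ' G N
      have e3 : G N = G 0 := by
        show μ ^ (N - N) * p0 ((ρ ^ N) g) = μ ^ (N - 0) * p0 ((ρ ^ 0) g)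
        rw [Nat.sub_self, Nat.sub_zero, hμN, pow_zero, pow_zero, hN, h.rpow]
      rw [e1, e3] at e2
      exact (add_right_cancel e2).symm
    show ∑ i ∈ Finset.range N, μ ^ (N - i) * p0 ((ρ ^ i) (ρ g)) = μ * p g
    rw [show p g = ∑ i ∈ Finset.range N, G i from rfl, ← hG, Finset.mul_sum]
    refine Finset.sum_congr rfl fun i hi => ?_
    have hi' := Finset.mem_range.mp hi
    show _ = μ * (μ ^ (N - (i + 1)) * p0 ((ρ ^ (i + 1)) g))
    rw [← mul_assoc, ← pow_succ', show N - (i + 1) + 1 = N - i by omega, pow_succ, MulAut.mul_apply]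
  have pX : ∀ u ∈ X, p u = fX u := fun u hu => by
    have hi : ∀ i : ℕ, (ρ ^ i) u ∈ X ∧ fX ((ρ ^ i) u) = μ ^ i * fX u := by
      intro i
      induction i with
      | zero => exact ⟨hu, by simp⟩
      | succ i ih =>
        rw [pow_succ', MulAut.mul_apply]
        exact ⟨LX.inv _ ih.1, by rw [LX.rho _ ih.1, ih.2, pow_succ', mul_assoc]⟩
    show ∑ i ∈ Finset.range N, μ ^ (N - i) * p0 ((ρ ^ i) u) = fX u
    rw [Finset.sum_congr rfl (fun i hi' => by
      rw [p0X _ (hi i).1, (hi i).2, ← mul_assoc, ← pow_add,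
        Nat.sub_add_cancel (Finset.mem_range.mp hi').le, hμN, one_mul]), Finset.sum_const,
      Finset.card_range, nsmul_eq_mul]
    obtain ⟨m, hm⟩ : Odd N := by
      rw [hN]
      exact Nat.Even.sub_odd (by omega) (Nat.even_pow.mpr ⟨even_two, by have := h.hn; omega⟩) odd_one
    rw [hm]; push_cast
    rw [CharTwo.two_eq_zero, zero_mul, zero_add, one_mul]
  have p1 : p 1 = 0 := by rw [pX 1 (one_mem X)]; exact LX.one
  -- the complement
  let W : Subgroup T :=
    { carrier := {g | p g = 0}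
      one_mem' := p1
      mul_mem' := fun {a b} (ha : p a = 0) (hb : p b = 0) => by
        show p (a * b) = 0; rw [padd, ha, hb, add_zero]
      inv_mem' := fun {a} (ha : p a = 0) => by
        show p a⁻¹ = 0
        have := padd a a⁻¹
        rw [mul_inv_cancel, p1, ha, zero_add] at this
        exact this.symm }
  have hsplit : ∀ g, ∃ x ∈ X, ∃ w ∈ W, g = x * w ∧ fX x = p g ∧ fT w = fT g := fun g => by
    obtain ⟨x, hx, hx'⟩ := LX.surj (p g)
    refine ⟨x, hx, x⁻¹ * g, ?_, by group, hx', ?_⟩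
    · show p (x⁻¹ * g) = 0
      have := padd x (x⁻¹ * g)
      rw [mul_inv_cancel_left, pX x hx, hx'] at this
      exact left_eq_add.mp this
    · have := LT.add x (Subgroup.mem_top x) (x⁻¹ * g) (Subgroup.mem_top _)
      simp only [mul_inv_cancel_left] at this
      rw [hfTX x hx, zero_add] at this
      exact this.symm
  have LW : Lvl ρ μ W fT := by
    refine ⟨fun g (hg : p g = 0) => ?_, fun x _ y _ => LT.add x (Subgroup.mem_top x) y (Subgroup.mem_top y),
      fun x _ => LT.rho x (Subgroup.mem_top x), fun z => ?_⟩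
    · show p (ρ g) = 0; rw [prho, hg, mul_zero]
    · obtain ⟨g, -, hg⟩ := LT.surj z
      obtain ⟨x, hx, w, hw, -, -, hw'⟩ := hsplit g
      exact ⟨w, hw, hw'.trans hg⟩
  have hW0 : ∀ w ∈ W, fT w = 0 → w ∈ V t := fun w hw e => by
    have hwX := hfT0 w e
    exact hfX0 w hwX ((pX w hwX).symm.trans hw)
  have hX1 : ∀ u ∈ X, ∀ w ∈ X, k u w = 1 :=
    h.alt_k c LX (fun u _ w _ => hkV u w) fun u hu w _ e => (hkv u (hfX0 u hu e) w).1
  have hW1 : ∀ u ∈ W, ∀ w ∈ W, k u w = 1 :=
    h.alt_k c LW (fun u _ w _ => hkV u w) fun u hu w _ e => (hkv u (hW0 u hu e) w).1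
  let σ : T → F := fun g => cV (g * g)
  have hσρ : ∀ g, σ (ρ g) = μ * σ g := fun g => by
    show cV (ρ g * ρ g) = _; rw [← map_mul]; exact c.rho _ (hsqV g)
  have hσm : ∀ g g', σ (g * g') = σ g + σ g' + cV (k g g') := fun g g' => by
    show cV (g * g' * (g * g')) = _
    rw [sq_mul (h.cen (hkV g g')), c.add _ _ (mul_mem (hsqV g) (hsqV g')) (hkV g g'),
      c.add _ _ (hsqV g) (hsqV g')]
  obtain ⟨a, ha⟩ := LX.linear c (g := σ) (fun x hx y hy => by rw [hσm, hX1 x hx y hy, c.one, add_zero])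
    (fun x _ => hσρ x) (fun x hx e => by show cV (x * x) = 0; rw [h.vv (hfX0 x hx e), c.one])
  obtain ⟨b, hb⟩ := LW.linear c (g := σ) (fun x hx y hy => by rw [hσm, hW1 x hx y hy, c.one, add_zero])
    (fun x _ => hσρ x) (fun x hx e => by show cV (x * x) = 0; rw [h.vv (hW0 x hx e), c.one])
  obtain ⟨d, hd⟩ := LX.pairing c LW (fun u g => cV (k u g))
    (fun u _ u' _ g _ => h.kl c (hkV u g) (hkV u' g)) (fun u _ g _ g' _ => h.kr c (hkV u g) (hkV u g'))
    (fun u _ g _ => by rw [← map_k, c.rho _ (hkV u g)])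
    (fun u hu g _ e => by rw [(hkv u (hfX0 u hu e) g).1, c.one])
    (fun u _ g hg e => by rw [(hkv g (hW0 g hg e) u).2, c.one])
  have hd0 : d ≠ 0 := by
    intro e0
    obtain ⟨g, g', hgg⟩ := hna
    apply hgg
    have hcomm : ∀ u ∈ X, ∀ w ∈ W, k u w = 1 := fun u hu w hw => c.inj _ (hkV u w) (by
      have := hd u hu w hw
      rw [e0, zero_mul, sq_eq_zero_iff] at this
      exact this)
    obtain ⟨x, hx, w, hw, rfl, -, -⟩ := hsplit g
    obtain ⟨x', hx', w', hw', rfl, -, -⟩ := hsplit g'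
    apply k_eq_one.mp
    rw [k_mul_left (h.cen (hkV _ _)), k_mul_right (h.cen (hkV _ _)), k_mul_right (h.cen (hkV _ _)),
      hX1 x' hx' x hx, hcomm x' hx' w hw, hW1 w' hw' w hw, k_symm x w', hcomm x hx w' hw', inv_one,
      mul_one, mul_one]
  refine ⟨a ^ 2, b ^ 2, d, hd0, ?_⟩
  have hfrob : Function.Bijective fun z : F => z ^ 2 := by
    refine Finite.injective_iff_bijective.mp fun z z' e => ?_
    have e' : z ^ 2 = z' ^ 2 := e
    have h2 : (2 : F) = 0 := CharTwo.two_eq_zero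
    have : (z + z') ^ 2 = 0 := by linear_combination e' + (z' ^ 2 + z * z') * h2
    rwa [sq_eq_zero_iff, CharTwo.add_eq_zero] at this
  choose sec hsec hsec' using c.surj
  choose rt hrt using hfrob.2
  have hrt1 : ∀ z z', rt (z + z') = rt z + rt z' := fun z z' => hfrob.1 (by
    show (rt (z + z')) ^ 2 = (rt z + rt z') ^ 2
    rw [CharTwo.add_sq]
    exact (hrt _).trans (congrArg₂ (· + ·) (hrt z).symm (hrt z').symm))
  let ι : Multiplicative F →* T := MonoidHom.mk' (fun z => sec (rt z.toAdd)) fun z z' => by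
    apply c.eq h (hsec _) (mul_mem (hsec _) (hsec _))
    rw [hsec', c.add _ _ (hsec _) (hsec _), hsec', hsec', toAdd_mul, hrt1]
  let j : T →* Multiplicative (F × F) := MonoidHom.mk' (fun g => Multiplicative.ofAdd (p g, fT g))
    fun g g' => by
      show Multiplicative.ofAdd _ = _
      rw [padd, show fT (g * g') = fT g + fT g' from LT.add g (Subgroup.mem_top g) g' (Subgroup.mem_top g'),
        ← ofAdd_add, Prod.mk_add_mk]
  refine ⟨⟨j, ι, ?_, ?_, ?_, ?_, ?_⟩⟩
  · intro z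
    obtain ⟨x, hx, hx'⟩ := LX.surj z.toAdd.1
    obtain ⟨w, hw, hw'⟩ := LW.surj z.toAdd.2
    refine ⟨x * w, ?_⟩
    show Multiplicative.ofAdd _ = z
    rw [padd, show fT (x * w) = fT x + fT w from LT.add x (Subgroup.mem_top x) w (Subgroup.mem_top w),
      pX x hx, hx', show p w = 0 from hw, hfTX x hx, hw', add_zero, zero_add]
    rfl
  · intro z z' e
    have := congrArg cV (show sec (rt z.toAdd) = sec (rt z'.toAdd) from e)
    rw [hsec', hsec'] at this
    have h2 := congrArg (fun r => r ^ 2) this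
    exact Multiplicative.toAdd.injective ((hrt _).symm.trans (h2.trans (hrt _)))
  · intro g
    constructor
    · intro e
      have e' := congrArg Multiplicative.toAdd e
      have e1 : p g = 0 := congrArg Prod.fst e'
      have e2 : fT g = 0 := congrArg Prod.snd e'
      have hv := hW0 g e1 e2
      refine ⟨Multiplicative.ofAdd (cV g ^ 2), c.eq h (hsec _) hv ?_⟩
      show cV (sec (rt (cV g ^ 2))) = cV g
      rw [hsec']
      exact hfrob.1 (hrt _)
    · rintro ⟨z, rfl⟩
      show Multiplicative.ofAdd (p _, fT _) = 1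
      have hv : ι z ∈ V t := hsec _
      rw [pX _ (hVX hv), hfXV _ hv, hfTX _ (hVX hv)]
      rfl
  · exact fun z g => h.cen (hsec _) g
  · intro g
    apply c.eq h (hsqV g) (hsec _)
    show σ g = _
    rw [hsec']
    apply hfrob.1
    show σ g ^ 2 = rt _ ^ 2
    refine Eq.trans ?_ (hrt _).symm
    obtain ⟨x, hx, w, hw, rfl, e1, e2⟩ := hsplit g
    show σ (x * w) ^ 2 = a ^ 2 * p (x * w) ^ 2 + b ^ 2 * fT (x * w) ^ 2 + d * (p (x * w) * fT (x * w))
    rw [← e1, ← e2, hσm, CharTwo.add_sq, CharTwo.add_sq, ha x hx, hb w hw, hd x hx w hw]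
    ring

end CfsgLib.SingerFixed
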