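import Mathlib
import Cfsg.Agent.Lib.PGroup.NormalRankTwo

/-!
Normal subgroups of every order inside a normal subgroup of a `p`-group.
-/

set_option autoImplicit false

namespace CfsgLib.CyclicMax

variable {R : Type*} [Group R] [Finite R] {p : ℕ} [hp : Fact p.Prime]

/-- A normal subgroup of order `p ^ m` of a `p`-group contains normal subgroups of every smaller
order `p ^ j`. -/
theorem exists_normal_le_card_pow (hR : IsPGroup p R) : ∀ (d : ℕ) {j : ℕ} (S : Subgroup R),
    S.Normal → Nat.card S = p ^ (j + d) →
      ∃ M : Subgroup R, M.Normal ∧ M ≤ S ∧ Nat.card M = p ^ j := by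
  intro d
  induction d with
  | zero => exact fun S hS h => ⟨S, hS, le_rfl, h⟩
  | succ d ih =>
    intro j S hS h
    haveI := hS
    have hne : S ≠ ⊥ := by
      rintro rfl
      rw [Subgroup.card_bot] at h
      exact (Nat.one_lt_pow (by omega) hp.out.one_lt).ne h
    obtain ⟨M, hMn, hMS, hidx⟩ := exists_normal_relIndex_prime hR S hne
    have hcard : Nat.card M = p ^ (j + d) := by
      refine Nat.eq_of_mul_eq_mul_right hp.out.pos ?_
      have := Subgroup.relIndex_mul_relIndex ⊥ M S bot_le hMS
      rw [Subgroup.relIndex_bot_left, Subgroup.relIndex_bot_left, hidx] at this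
      rw [this, h]; ring
    obtain ⟨N, hN, hNM, hNc⟩ := ih M hMn hcard
    exact ⟨N, hN, hNM.trans hMS, hNc⟩

end CfsgLib.CyclicMax
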