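import Mathlib
import Cfsg.Prelude.Def_PLocal
import Cfsg.Agent.Lib.Regular.Lazard
import Cfsg.Agent.Lib.Regular.Basic
import Cfsg.Agent.Lib.PGroup.MaximalClass
import Cfsg.Agent.S4209

/-!
In a `p`-group of maximal class the `p`-th powers lie deep in the lower central series, and
`γ_k / γ_{2k+1}` is elementary abelian when `k + 2 ≤ p`.
-/

set_option autoImplicit false
set_option linter.style.haveILetI false
set_option linter.unusedSectionVars false

open scoped commutatorElement

namespace CfsgLib.MaxClassSection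

open CfsgLib.Regular

variable {G : Type*} [Group G] {p : ℕ} [hp : Fact p.Prime]

theorem gam_map {Q : Type*} [Group Q] (f : G →* Q) (hf : Function.Surjective f) (i : ℕ) :
    (gam i : Subgroup G).map f = gam i := by
  unfold gam
  rw [Subgroup.map_lowerCentralSeries, Subgroup.map_top_of_surjective _ hf]

theorem gam_succ (i : ℕ) (hi : 1 ≤ i) :
    (gam (i + 1) : Subgroup G) = ⁅(gam i : Subgroup G), (⊤ : Subgroup G)⁆ := by
  unfold gam
  rw [← Subgroup.lowerCentralSeries_succ]
  congr 1
  omega

theorem pow_mul_of_class_lt [Finite G] (hG : IsPGroup p G) {r : ℕ} (hr : r < p)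
    (hbot : (gam (r + 1) : Subgroup G) = ⊥) (hpow : ∀ x : G, x ^ p ∈ gam r) :
    ∀ a b : G, (a * b) ^ p = a ^ p * b ^ p := by
  have hcl : (⊤ : Subgroup G).lowerCentralSeries (p - 1) = ⊥ := by
    refine eq_bot_iff.mpr (le_trans (Subgroup.lowerCentralSeries_antitone _ ?_) hbot.le)
    omega
  have h : LevelReg p 1 G :=
    levelReg_of_regular (Cfsg.Agent.S4209.result hG hcl) 1
  intro a b
  have hcomm : ⁅a, b⁆ ^ p ^ 1 = 1 := by
    have hc : (a⁻¹) ^ p ^ 1 * b⁻¹ = b⁻¹ * (a⁻¹) ^ p ^ 1 := by
      have h1 : ⁅(a⁻¹) ^ p, b⁻¹⁆ ∈ (gam (r + 1) : Subgroup G) :=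
        gam_comm (hpow a⁻¹) (show b⁻¹ ∈ gam 1 by simp [gam])
      rw [hbot, Subgroup.mem_bot, commutatorElement_eq_one_iff_commute] at h1
      rw [pow_one]
      exact h1
    have := (pow_commute_iff hG h a⁻¹ b⁻¹).mp hc
    simpa [commutatorElement_def] using this
  obtain ⟨c, hc, e⟩ := h a b
  rw [derived_powers_eq_bot hG h hcomm, Subgroup.mem_bot] at hc
  simpa [hc] using e

theorem gam_eq_commutator : (gam 2 : Subgroup G) = commutator G :=
  Subgroup.top_lowerCentralSeries_one

theorem card_gam [Finite G] {n : ℕ} (hG : Nat.card G = p ^ n)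
    (hcl : Group.nilpotencyClass G = n - 1) (hn : 3 ≤ n) {j : ℕ} (h2 : 2 ≤ j) (hj : j ≤ n) :
    Nat.card ↥(gam j : Subgroup G) = p ^ (n - j) := by
  obtain ⟨i, rfl⟩ : ∃ i, j = i + 2 := ⟨j - 2, by omega⟩
  rw [show n - (i + 2) = n - 2 - i by omega]
  exact MaxClass.card_lcs_eq hG hcl hn i hj

theorem gam_not_le_succ [Finite G] {n : ℕ} (hG : Nat.card G = p ^ n)
    (hcl : Group.nilpotencyClass G = n - 1) (hn : 3 ≤ n) {j : ℕ} (h2 : 2 ≤ j) (hj : j + 1 ≤ n) :
    ¬ (gam j : Subgroup G) ≤ gam (j + 1) := fun h => by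
  have := Subgroup.card_le_of_le h
  rw [card_gam hG hcl hn h2 (by omega), card_gam hG hcl hn (by omega) hj] at this
  exact absurd this (not_le.mpr (Nat.pow_lt_pow_right hp.out.one_lt (by omega)))

theorem gam_le_of_mem [Finite G] {n : ℕ} (hG : Nat.card G = p ^ n)
    (hcl : Group.nilpotencyClass G = n - 1) (hn : 3 ≤ n) {j : ℕ} (h2 : 2 ≤ j) (hj : j + 1 ≤ n)
    {H : Subgroup G} (hH : H ≤ gam j) (hle : (gam (j + 1) : Subgroup G) ≤ H)
    {s : G} (hs : s ∈ H) (hs' : s ∉ (gam (j + 1) : Subgroup G)) : (gam j : Subgroup G) ≤ H := by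
  refine (Subgroup.eq_of_le_of_card_ge hH ?_).ge
  obtain ⟨a, ha⟩ := IsPGroup.iff_card.mp ((IsPGroup.of_card hG).to_subgroup H)
  rw [card_gam hG hcl hn h2 (by omega), ha]
  refine Nat.pow_le_pow_right hp.out.pos ?_
  by_contra hlt
  refine hs' ((Subgroup.eq_of_le_of_card_ge hle ?_) ▸ hs)
  rw [card_gam hG hcl hn (by omega) hj, ha]
  exact Nat.pow_le_pow_right hp.out.pos (by omega)

/-- The `p`-th powers lie in `γ_p`, as long as that term is not trivial. -/
theorem pow_mem_gam [Finite G] {n : ℕ} (hG : Nat.card G = p ^ n)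
    (hcl : Group.nilpotencyClass G = n - 1) (hn : 3 ≤ n) :
    ∀ r, 2 ≤ r → r ≤ p → r + 1 ≤ n → ∀ x : G, x ^ p ∈ (gam r : Subgroup G) := by
  intro r hr2
  induction r, hr2 using Nat.le_induction with
  | base =>
    intro _ _ x
    set Q := G ⧸ (gam 2 : Subgroup G)
    have hQ : Nat.card Q = p ^ 2 := by
      have := Subgroup.card_eq_card_quotient_mul_card_subgroup (gam 2 : Subgroup G)
      rw [hG, card_gam hG hcl hn le_rfl (by omega),
        show n = 2 + (n - 2) by omega, pow_add, Nat.add_sub_cancel_left] at this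
      exact (Nat.eq_of_mul_eq_mul_right (pow_pos hp.out.pos _) this).symm
    have hnc : ¬ IsCyclic Q := by
      intro hc
      haveI := hc
      refine gam_not_le_succ hG hcl hn le_rfl (by omega) ?_
      set N := (gam 3 : Subgroup G)
      have hle : N ≤ (gam 2 : Subgroup G) := gam_anti (by omega)
      let f : G ⧸ N →* Q :=
        QuotientGroup.map N (gam 2) (MonoidHom.id G) (by simpa using hle)
      have hker : f.ker ≤ Subgroup.center (G ⧸ N) := by
        intro y hy
        obtain ⟨y, rfl⟩ := QuotientGroup.mk_surjective y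
        have hy' : y ∈ (gam 2 : Subgroup G) := by
          rw [MonoidHom.mem_ker] at hy
          exact (QuotientGroup.eq_one_iff y).mp hy
        rw [Subgroup.mem_center_iff]
        intro z
        obtain ⟨z, rfl⟩ := QuotientGroup.mk_surjective z
        have h1 : ⁅z, y⁆ ∈ N := gam_comm (show z ∈ gam 1 by simp [gam]) hy'
        have h2 := (QuotientGroup.eq_one_iff ⁅z, y⁆).mpr h1
        exact commutatorElement_eq_one_iff_commute.mp
          ((map_commutatorElement (QuotientGroup.mk' N) z y).symm.trans h2)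
      rw [gam_eq_commutator]
      refine Subgroup.commutator_le.mpr fun a _ b _ => ?_
      rw [← QuotientGroup.eq_one_iff]
      show QuotientGroup.mk' N ⁅a, b⁆ = 1
      rw [map_commutatorElement, commutatorElement_eq_one_iff_commute]
      exact commutative_of_cyclic_center_quotient f hker _ _
    haveI : Finite Q := inferInstance
    have hexp : (x : Q) ^ p = 1 := by
      by_contra hne
      obtain ⟨k, hk, hord⟩ := (Nat.dvd_prime_pow hp.out).mp
        (hQ ▸ orderOf_dvd_natCard (x : Q))
      have h1 : ¬ k ≤ 1 := fun h => hne (by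
        rw [← orderOf_dvd_iff_pow_eq_one, hord]
        exact (pow_dvd_pow p h).trans (pow_one p).dvd)
      exact hnc (isCyclic_of_orderOf_eq_card (x : Q)
        (by rw [hord, hQ, show k = 2 by omega]))
    rw [← QuotientGroup.mk_pow] at hexp
    exact (QuotientGroup.eq_one_iff _).mp hexp
  | succ r hr ih =>
    intro hrp hrn x
    have hpow := ih (by omega) (by omega)
    set N := (gam (r + 1) : Subgroup G)
    set π := QuotientGroup.mk' N
    have hadd : ∀ a b : G, π ((a * b) ^ p) = π (a ^ p) * π (b ^ p) := by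
      intro a b
      simp only [map_pow, map_mul]
      refine pow_mul_of_class_lt ((IsPGroup.of_card hG).to_quotient N) (r := r) (by omega)
        ?_ (fun y => ?_) _ _
      · rw [← gam_map π (QuotientGroup.mk'_surjective N), QuotientGroup.map_mk'_self]
      · obtain ⟨y, rfl⟩ := QuotientGroup.mk'_surjective N y
        rw [← gam_map π (QuotientGroup.mk'_surjective N), ← map_pow]
        exact Subgroup.mem_map_of_mem _ (hpow y)
    let f : G →* G ⧸ N :=
      MonoidHom.mk' (fun x => π (x ^ p)) hadd
    by_contra hx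
    have hxK : x ∉ f.ker := fun h => hx ((QuotientGroup.eq_one_iff _).mp (MonoidHom.mem_ker.mp h))
    set N₂ := (gam (r + 2) : Subgroup G)
    let C : Subgroup G :=
      (Subgroup.centralizer (((gam r : Subgroup G).map (QuotientGroup.mk' N₂) : Subgroup (G ⧸ N₂)) :
        Set (G ⧸ N₂))).comap (QuotientGroup.mk' N₂)
    have hC : ∀ y, y ∉ f.ker → y ∈ C := by
      intro y hy
      have hy' : y ^ p ∉ N := fun h => hy (MonoidHom.mem_ker.mpr ((QuotientGroup.eq_one_iff _).mpr h))
      let H : Subgroup G := (gam r : Subgroup G) ⊓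
        (Subgroup.centralizer ({QuotientGroup.mk' N₂ y} : Set (G ⧸ N₂))).comap (QuotientGroup.mk' N₂)
      have hH : (gam r : Subgroup G) ≤ H := by
        refine gam_le_of_mem hG hcl hn hr (by omega) inf_le_left (fun u hu => ⟨?_, ?_⟩)
          (s := y ^ p) ⟨hpow y, ?_⟩ hy'
        · exact gam_anti (Nat.le_succ r) hu
        · refine Subgroup.mem_centralizer_singleton_iff.mpr ?_
          have h1 : ⁅u, y⁆ ∈ N₂ :=
            gam_anti (by omega) (gam_comm hu (show y ∈ gam 1 by simp [gam]))
          have h2 := (QuotientGroup.eq_one_iff ⁅u, y⁆).mpr h1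
          exact commutatorElement_eq_one_iff_commute.mp
            ((map_commutatorElement (QuotientGroup.mk' N₂) u y).symm.trans h2)
        · refine Subgroup.mem_centralizer_singleton_iff.mpr ?_
          rw [map_pow]
          exact (Commute.pow_self _ p).eq
      rw [Subgroup.mem_comap, Subgroup.mem_centralizer_iff]
      rintro _ ⟨u, hu, rfl⟩
      exact Subgroup.mem_centralizer_singleton_iff.mp (hH hu).2
    have hCtop : ∀ g, g ∈ C := by
      intro g
      by_cases hg : g ∈ f.ker
      · have h1 : x * g ∉ f.ker := fun h => hxK (by simpa using mul_mem h (inv_mem hg))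
        simpa using mul_mem (inv_mem (hC x hxK)) (hC _ h1)
      · exact hC g hg
    refine gam_not_le_succ hG hcl hn (j := r + 1) (by omega) (by omega) ?_
    rw [gam_succ r (by omega), Subgroup.commutator_le]
    intro u hu g _
    have h := Subgroup.mem_centralizer_iff.mp (hCtop g) _ (Subgroup.mem_map_of_mem _ hu)
    exact (QuotientGroup.eq_one_iff _).mp
      ((map_commutatorElement (QuotientGroup.mk' N₂) u g).trans
        (commutatorElement_eq_one_iff_commute.mpr h))

/-- If `γ_{2k+1} = 1` and `p`-th powers commute with `γ_{k-1}`, then `γ_k` has exponent `p`, once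
it is abelian. -/
theorem exponent_gam [Finite G] {k : ℕ} (hk : 2 ≤ k) (hkp : k + 2 ≤ p)
    (hbot : (gam (2 * k + 1) : Subgroup G) = ⊥) (hpow : ∀ x : G, x ^ p ∈ gam (k + 2))
    (hab : ∀ a ∈ (gam k : Subgroup G), ∀ b ∈ (gam k : Subgroup G), Commute a b) :
    ∀ a ∈ (gam k : Subgroup G), a ^ p = 1 := by
  suffices H : ∀ d j, k ≤ j → j + d = 2 * k + 1 → ∀ a ∈ (gam j : Subgroup G), a ^ p = 1 from
    H (k + 1) k le_rfl (by omega)
  intro d
  induction d with
  | zero =>
    intro j _ hj a ha
    rw [show j = 2 * k + 1 by omega, hbot, Subgroup.mem_bot] at ha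
    rw [ha, one_pow]
  | succ d ih =>
    intro j hkj hj a ha
    let P : Subgroup G :=
      { carrier := {a | a ∈ (gam j : Subgroup G) ∧ a ^ p = 1}
        one_mem' := ⟨one_mem _, one_pow _⟩
        mul_mem' := fun {u v} hu hv => ⟨mul_mem hu.1 hv.1, by
          rw [(hab u (gam_anti hkj hu.1) v (gam_anti hkj hv.1)).mul_pow, hu.2, hv.2, one_mul]⟩
        inv_mem' := fun {u} hu => ⟨inv_mem hu.1, by rw [inv_pow, hu.2, inv_one]⟩ }
    obtain ⟨i, rfl⟩ : ∃ i, j = i + 1 := ⟨j - 1, by omega⟩
    have hle : ⁅(gam i : Subgroup G), (⊤ : Subgroup G)⁆ ≤ P := by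
      rw [Subgroup.commutator_le]
      intro b hb x _
      set e := ⁅b, x⁆ with he
      have hei : e ∈ (gam (i + 1) : Subgroup G) := gam_comm hb (show x ∈ gam 1 by simp [gam])
      refine ⟨hei, ?_⟩
      set T := Subgroup.closure ({e, x} : Set G) with hT
      have hT2 : T.lowerCentralSeries 1 ≤ gam (i + 2) := by
        rw [Subgroup.lowerCentralSeries_succ, Subgroup.lowerCentralSeries_zero]
        refine commutator_pair_le (gam_anti (by omega) (gam_comm hei (show x ∈ gam 1 by simp [gam])))
          fun g _ y hy => ?_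
        exact Subgroup.Normal.conj_mem inferInstance y hy g
      have hTl : ∀ m, T.lowerCentralSeries (m + 1) ≤ gam (i + 2 + m) := by
        intro m
        induction m with
        | zero => exact hT2
        | succ m ihm =>
          rw [Subgroup.lowerCentralSeries_succ, Subgroup.commutator_le]
          intro u hu v _
          exact gam_anti (by omega) (gam_comm (ihm hu) (show v ∈ gam 1 by simp [gam]))
      have hclT : (⊤ : Subgroup ↥T).lowerCentralSeries (p - 1) = ⊥ := by
        refine Subgroup.map_injective T.subtype_injective ?_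
        rw [Subgroup.map_bot, Subgroup.top_subtype_lowerCentralSeries, eq_bot_iff, ← hbot]
        rw [show p - 1 = (p - 2) + 1 by have := hp.out.two_le; omega]
        exact (hTl _).trans (gam_anti (by omega))
      obtain ⟨c, hc, hec⟩ := mul_pow_prime hp.out hclT
        ⟨e, Subgroup.subset_closure (by simp)⟩ ⟨x, Subgroup.subset_closure (by simp)⟩
      have hcom : ∀ y ∈ commutator ↥T, y ^ p ^ 1 = 1 := by
        intro y hy
        rw [← Subgroup.top_lowerCentralSeries_one] at hy
        have h1 : (y : G) ∈ (gam (i + 2) : Subgroup G) := by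
          refine hT2 ?_
          rw [← Subgroup.top_subtype_lowerCentralSeries]
          exact Subgroup.mem_map_of_mem _ hy
        refine Subtype.ext ?_
        simpa using ih (i + 2) (by omega) (by omega) _ h1
      rw [powerClosure_eq_bot hcom, Subgroup.mem_bot] at hc
      have hec' : (e * x) ^ p = e ^ p * x ^ p := by
        have := congrArg Subtype.val hec
        simpa [hc] using this
      have hbx : b * x ^ p * b⁻¹ = x ^ p := by
        have h1 : ⁅b, x ^ p⁆ ∈ (gam (2 * k + 1) : Subgroup G) :=
          gam_anti (by omega) (gam_comm hb (hpow x))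
        rw [hbot, Subgroup.mem_bot] at h1
        rw [commutatorElement_eq_one_iff_commute] at h1
        rw [h1.eq, mul_inv_cancel_right]
      have hex : e * x = b * x * b⁻¹ := by rw [he, commutatorElement_def]; group
      rw [hex, conj_pow, hbx] at hec'
      exact mul_eq_right.mp hec'.symm
    rw [← gam_succ i (by omega)] at hle
    exact (hle ha).2

end CfsgLib.MaxClassSection
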