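import Mathlib

/-!
The wreath product of two groups of order `p`, with the filtration of its base by differences.
-/

set_option autoImplicit false

open scoped commutatorElement

namespace CfsgLib.CyclicWreath

variable (p : ℕ) [hp : Fact p.Prime]

/-- The wreath product of two cyclic groups of order `p`. -/
abbrev W : Type := Multiplicative (ZMod p) ≀ᵣ Multiplicative (ZMod p)

/-- The difference operator. -/
def diffHom : (ZMod p → ZMod p) →+ (ZMod p → ZMod p) :=
  AddMonoidHom.mk' (fun f y => f (y + 1) - f y) fun f g => by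
    funext y; simp only [Pi.add_apply]; ring

theorem diffHom_iter (n : ℕ) (f : ZMod p → ZMod p) :
    (diffHom p)^[n] f = (fwdDiff (1 : ZMod p))^[n] f := rfl

theorem diffHom_iter_prime (f : ZMod p → ZMod p) : (diffHom p)^[p] f = 0 := by
  funext y
  rw [diffHom_iter, fwdDiff_iter_eq_sum_shift, Finset.sum_range_succ, Finset.sum_eq_single 0]
  · have hodd : ((-1 : ℤ) ^ p : ℤ) • f y + f y = 0 := by
      rcases hp.out.eq_two_or_odd' with h | h
      · subst h
        rw [neg_one_sq, one_zsmul, ← two_mul, show (2 : ZMod 2) = 0 from rfl, zero_mul]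
      · rw [h.neg_one_pow, neg_one_zsmul, neg_add_cancel]
    simpa using hodd
  · intro k hk hk0
    have hdvd : (p : ℤ) ∣ (-1 : ℤ) ^ (p - k) * p.choose k :=
      Dvd.dvd.mul_left (Int.natCast_dvd_natCast.2
        (hp.out.dvd_choose_self hk0 (Finset.mem_range.1 hk))) _
    rw [zsmul_eq_mul, (ZMod.intCast_zmod_eq_zero_iff_dvd _ _).2 hdvd, zero_mul]
  · intro h
    exact absurd (Finset.mem_range.2 hp.out.pos) h

/-- A base element. -/
def base (f : ZMod p → ZMod p) : W p :=
  ⟨fun y => Multiplicative.ofAdd (f (Multiplicative.toAdd y)), 1⟩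

theorem base_add (f g : ZMod p → ZMod p) : base p (f + g) = base p f * base p g := by
  ext y <;> simp [base]

theorem base_zero : base p 0 = 1 := by
  ext y <;> simp [base]

theorem base_neg (f : ZMod p → ZMod p) : base p (-f) = (base p f)⁻¹ := by
  refine eq_inv_of_mul_eq_one_left ?_
  rw [← base_add, neg_add_cancel, base_zero]

/-- The shift. -/
def shift : W p := RegularWreathProduct.inl (Multiplicative.ofAdd (-1 : ZMod p))

/-- The generator of the base. -/
def point : W p := base p (fun y => if y = 1 then 1 else 0)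

theorem commute_base (f g : ZMod p → ZMod p) : base p f * base p g = base p g * base p f := by
  rw [← base_add, ← base_add, add_comm]

theorem commutator_shift (f : ZMod p → ZMod p) :
    ⁅base p f, shift p⁆ = base p (-(diffHom p f)) := by
  rw [commutatorElement_def]
  refine RegularWreathProduct.ext (funext fun y => ?_) ?_
  · apply Multiplicative.toAdd.injective
    simp only [base, shift, RegularWreathProduct.mul_left, RegularWreathProduct.mul_right,
      RegularWreathProduct.inv_left, RegularWreathProduct.inv_right, RegularWreathProduct.left_inl,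
      RegularWreathProduct.right_inl, diffHom, AddMonoidHom.mk'_apply, Pi.mul_apply, Pi.inv_apply,
      Pi.one_apply, Pi.neg_apply, toAdd_mul, toAdd_inv, toAdd_ofAdd, toAdd_one, inv_one, one_mul,
      mul_one, toAdd_one]
    ring_nf
  · simp [base, shift]

/-- The filtration of the base. -/
def row (m : ℕ) : Subgroup (W p) where
  carrier := {u | ∃ f, (diffHom p)^[p - m] f = 0 ∧ u = base p f}
  one_mem' := ⟨0, iterate_map_zero _ _, (base_zero p).symm⟩
  mul_mem' := by
    rintro _ _ ⟨f, hf, rfl⟩ ⟨g, hg, rfl⟩
    exact ⟨f + g, by rw [iterate_map_add, hf, hg, add_zero], (base_add p f g).symm⟩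
  inv_mem' := by
    rintro _ ⟨f, hf, rfl⟩
    exact ⟨-f, by rw [iterate_map_neg, hf, neg_zero], (base_neg p f).symm⟩

theorem point_mem : point p ∈ row p 0 :=
  ⟨_, by rw [Nat.sub_zero]; exact diffHom_iter_prime p _, rfl⟩

theorem row_anti {m n : ℕ} (h : m ≤ n) : row p n ≤ row p m := by
  rintro _ ⟨f, hf, rfl⟩
  refine ⟨f, ?_, rfl⟩
  rw [show p - m = (p - m - (p - n)) + (p - n) by omega, Function.iterate_add_apply, hf,
    iterate_map_zero]

theorem row_prime : row p p = ⊥ := by
  rw [Subgroup.eq_bot_iff_forall]
  rintro _ ⟨f, hf, rfl⟩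
  rw [Nat.sub_self] at hf
  rw [show f = 0 from hf, base_zero]

theorem commute_point {m : ℕ} {u : W p} (hu : u ∈ row p m) : u * point p = point p * u := by
  obtain ⟨f, -, rfl⟩ := hu
  exact commute_base p f _

theorem commutator_shift_mem {m : ℕ} {u : W p} (hu : u ∈ row p m) :
    ⁅u, shift p⁆ ∈ row p (m + 1) := by
  obtain ⟨f, hf, rfl⟩ := hu
  refine ⟨_, ?_, commutator_shift p f⟩
  rw [iterate_map_neg, neg_eq_zero]
  rcases Nat.lt_or_ge m p with h | h
  · rw [← Function.iterate_succ_apply, show (p - (m + 1)).succ = p - m by omega, hf]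
  · rw [show p - m = 0 by omega] at hf
    rw [show f = 0 from hf, map_zero, iterate_map_zero]

theorem pow_eq_one_of_mem {m : ℕ} {u : W p} (hu : u ∈ row p m) : u ^ p = 1 := by
  obtain ⟨f, -, rfl⟩ := hu
  have : ∀ n : ℕ, base p f ^ n = base p (n • f) := fun n => by
    induction n with
    | zero => rw [pow_zero, zero_nsmul, base_zero]
    | succ n ih => rw [pow_succ, ih, ← base_add, succ_nsmul]
  rw [this, show p • f = 0 from funext fun y => by simp, base_zero]

theorem shift_pow : shift p ^ p = 1 := by
  rw [shift, ← map_pow, ← ofAdd_nsmul]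
  simp

theorem point_pow : point p ^ p = 1 := pow_eq_one_of_mem p (point_mem p)

/-- The product of the generators has order `p ^ 2`. -/
theorem pow_ne_one : (point p * (shift p)⁻¹) ^ p ≠ 1 := by
  have key : ∀ n : ℕ, ((point p * (shift p)⁻¹) ^ n).right = Multiplicative.ofAdd (n : ZMod p) ∧
      ∀ y : ZMod p, Multiplicative.toAdd (((point p * (shift p)⁻¹) ^ n).left (Multiplicative.ofAdd y))
        = ∑ k ∈ Finset.range n, if y - (k : ZMod p) = 1 then 1 else 0 := by
    intro n
    induction n with
    | zero => simp
    | succ n ih =>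
      refine ⟨?_, fun y => ?_⟩
      · rw [pow_succ, RegularWreathProduct.mul_right, ih.1]
        apply Multiplicative.toAdd.injective
        simp [point, shift, base]
      · rw [pow_succ, RegularWreathProduct.mul_left, Pi.mul_apply, toAdd_mul, ih.2,
          Finset.sum_range_succ, ih.1]
        congr 1
        simp [point, shift, base, sub_eq_neg_add]
  intro e
  have h := (key p).2 1
  rw [e, Finset.sum_eq_single 0] at h
  · simp at h
  · intro k hk hk0
    rw [if_neg]
    intro h'
    rw [sub_eq_self, ZMod.natCast_eq_zero_iff] at h'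
    exact hk0 (Nat.eq_zero_of_dvd_of_lt h' (Finset.mem_range.1 hk))
  · intro h'
    exact absurd (Finset.mem_range.2 hp.out.pos) h'

end CfsgLib.CyclicWreath
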