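import Mathlib
import Cfsg.Agent.Lib.PGroup.CyclicWreath
import Cfsg.Agent.Lib.PGroup.MaximalClass
import Cfsg.Agent.Lib.PGroup.SelfCentralizing
import Cfsg.Agent.Lib.Regular.Basic
import Cfsg.Agent.S4209

/-!
A `p`-group with an element of order `p` whose centralizer has order `p ^ 2`: the power map moves the
lower central series down by `p - 1` steps, and every subgroup is generated by `p` elements.
-/

set_option autoImplicit false
set_option linter.style.haveILetI false
set_option linter.unusedSectionVars false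

open scoped commutatorElement

namespace CfsgLib.UniserialPower

open CfsgLib

variable {p : ℕ} [hp : Fact p.Prime]

/-! ### General facts -/

theorem conj_eq_commutator {G : Type*} [Group G] (g u : G) : g * u * g⁻¹ = ⁅u, g⁆⁻¹ * u := by
  simp only [commutatorElement_def]; group

theorem inv_conj_eq_commutator {G : Type*} [Group G] (g u : G) :
    g⁻¹ * u * g = ⁅g⁻¹ * u * g, g⁆ * u := by
  simp only [commutatorElement_def]; group

theorem inv_conj_eq_commutator' {G : Type*} [Group G] (g u : G) :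
    g⁻¹ * u * g = ⁅u, g⁻¹⁆⁻¹ * u := by
  simp only [commutatorElement_def]; group

theorem inv_conj_conj {G : Type*} [Group G] (g u : G) : g⁻¹ * (g * u * g⁻¹) * g = u := by group

theorem commutator_closure_le {G : Type*} [Group G] {N : Subgroup G} {A B : Set G}
    (hA : ∀ a ∈ A, ∀ n ∈ N, a * n * a⁻¹ ∈ N ∧ a⁻¹ * n * a ∈ N)
    (hB : ∀ b ∈ B, ∀ n ∈ N, b * n * b⁻¹ ∈ N ∧ b⁻¹ * n * b ∈ N)
    (h : ∀ a ∈ A, ∀ b ∈ B, ⁅a, b⁆ ∈ N) :
    ⁅Subgroup.closure A, Subgroup.closure B⁆ ≤ N := by
  have conjA : ∀ g ∈ Subgroup.closure A, ∀ n ∈ N, g * n * g⁻¹ ∈ N ∧ g⁻¹ * n * g ∈ N := by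
    intro g hg
    refine Subgroup.closure_induction (p := fun g _ => ∀ n ∈ N, g * n * g⁻¹ ∈ N ∧ g⁻¹ * n * g ∈ N)
      hA (fun n hn => by simpa using hn) ?_ ?_ hg
    · intro u v _ _ hu hv n hn
      refine ⟨?_, ?_⟩
      · have := (hu _ (hv n hn).1).1
        rwa [mul_inv_rev, show u * (v * n * v⁻¹) * u⁻¹ = u * v * n * (v⁻¹ * u⁻¹) by group] at *
      · have := (hv _ (hu n hn).2).2
        rwa [mul_inv_rev, show v⁻¹ * (u⁻¹ * n * u) * v = v⁻¹ * u⁻¹ * n * (u * v) by group] at *
    · intro u _ hu n hn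
      rw [inv_inv]
      exact ⟨(hu n hn).2, (hu n hn).1⟩
  have conjB : ∀ g ∈ Subgroup.closure B, ∀ n ∈ N, g * n * g⁻¹ ∈ N ∧ g⁻¹ * n * g ∈ N := by
    intro g hg
    refine Subgroup.closure_induction (p := fun g _ => ∀ n ∈ N, g * n * g⁻¹ ∈ N ∧ g⁻¹ * n * g ∈ N)
      hB (fun n hn => by simpa using hn) ?_ ?_ hg
    · intro u v _ _ hu hv n hn
      refine ⟨?_, ?_⟩
      · have := (hu _ (hv n hn).1).1
        rwa [mul_inv_rev, show u * (v * n * v⁻¹) * u⁻¹ = u * v * n * (v⁻¹ * u⁻¹) by group] at *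
      · have := (hv _ (hu n hn).2).2
        rwa [mul_inv_rev, show v⁻¹ * (u⁻¹ * n * u) * v = v⁻¹ * u⁻¹ * n * (u * v) by group] at *
    · intro u _ hu n hn
      rw [inv_inv]
      exact ⟨(hu n hn).2, (hu n hn).1⟩
  rw [Subgroup.commutator_le]
  intro g hg k hk
  refine Subgroup.closure_induction (p := fun g _ => ⁅g, k⁆ ∈ N) (fun a ha => ?_) ?_ ?_ ?_ hg
  · refine Subgroup.closure_induction (p := fun k _ => ⁅a, k⁆ ∈ N) (h a ha) ?_ ?_ ?_ hk
    · simp
    · intro u v hu _ hu' hv'
      rw [show ⁅a, u * v⁆ = ⁅a, u⁆ * (u * ⁅a, v⁆ * u⁻¹) by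
        simp only [commutatorElement_def]; group]
      exact mul_mem hu' (conjB u hu _ hv').1
    · intro u hu hu'
      rw [show ⁅a, u⁻¹⁆ = u⁻¹ * ⁅a, u⁆⁻¹ * u by simp only [commutatorElement_def]; group]
      exact (conjB u hu _ (inv_mem hu')).2
  · simp
  · intro u v hu _ hu' hv'
    rw [show ⁅u * v, k⁆ = (u * ⁅v, k⁆ * u⁻¹) * ⁅u, k⁆ by
      simp only [commutatorElement_def]; group]
    exact mul_mem (conjA u hu _ hv').1 hu'
  · intro u hu hu'
    rw [show ⁅u⁻¹, k⁆ = u⁻¹ * ⁅u, k⁆⁻¹ * u by simp only [commutatorElement_def]; group]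
    exact (conjA u hu _ (inv_mem hu')).2

/-- A nilpotent group generated by `p`-elements is a `p`-group. -/
theorem isPGroup_of_generated {G : Type*} [Group G] [Finite G] [Group.IsNilpotent G] {A : Set G}
    (hgen : Subgroup.closure A = ⊤) (hA : ∀ a ∈ A, a ^ p = 1) : IsPGroup p G := by
  obtain ⟨P⟩ := (inferInstance : Nonempty (Sylow p G))
  have hn : (P : Subgroup G).Normal := Sylow.normal_of_normalizerCondition
    (Group.normalizerCondition_of_isNilpotent (G := G)) P
  have hle : A ⊆ (P : Subgroup G) := by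
    intro a ha
    have hz : IsPGroup p (Subgroup.zpowers a) := IsPGroup.of_card_dvd_pow (n := 1) (by
      rw [Nat.card_zpowers, pow_one]
      exact orderOf_dvd_of_pow_eq_one (hA a ha))
    obtain ⟨Q, hQ⟩ := hz.exists_le_sylow
    haveI := Sylow.unique_of_normal P hn
    rw [show P = Q from Subsingleton.elim _ _]
    exact hQ (Subgroup.mem_zpowers a)
  have htop : (P : Subgroup G) = ⊤ := top_le_iff.1 (hgen ▸ (Subgroup.closure_le _).2 hle)
  exact (htop ▸ P.isPGroup').of_equiv Subgroup.topEquiv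

/-- A group of class less than `p` generated by elements of order `p` has exponent `p`. -/
theorem pow_eq_one_of_generated {G : Type*} [Group G] [Finite G] {A : Set G}
    (hgen : Subgroup.closure A = ⊤) (hA : ∀ a ∈ A, a ^ p = 1)
    (hcl : (⊤ : Subgroup G).lowerCentralSeries (p - 1) = ⊥) (g : G) : g ^ p = 1 := by
  haveI : Group.IsNilpotent G := by
    haveI : Group.IsNilpotent (⊤ : Subgroup G) :=
      (Subgroup.isNilpotent_iff_lowerCentralSeries _).2 ⟨_, hcl⟩
    exact Group.isNilpotent_congr (Subgroup.topEquiv : (⊤ : Subgroup G) ≃* G) |>.1 inferInstance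
  have hG : IsPGroup p G := isPGroup_of_generated hgen hA
  have hreg := Regular.levelReg_of_regular (Cfsg.Agent.S4209.result hG hcl) 1
  have hmem : g ∈ Subgroup.closure A := hgen ▸ Subgroup.mem_top g
  refine Subgroup.closure_induction (p := fun g _ => g ^ p = 1) hA (one_pow p) ?_ ?_ hmem
  · intro u v _ _ hu hv
    simpa using Regular.omega_mul hG hreg u v (by simpa using hu) (by simpa using hv)
  · intro u _ hu
    rw [inv_pow, hu, inv_one]

/-- The same inside a subgroup. -/
theorem pow_mem_of_generated {G : Type*} [Group G] [Finite G] {A : Set G}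
    (hA : ∀ a ∈ A, a ^ p = 1) {g : G} (hg : g ∈ Subgroup.closure A) :
    g ^ p ∈ (Subgroup.closure A).lowerCentralSeries (p - 1) := by
  set H := Subgroup.closure A with hH
  set N : Subgroup H := (⊤ : Subgroup H).lowerCentralSeries (p - 1) with hN
  haveI hNn : N.Normal := by rw [hN]; infer_instance
  have hmap := Subgroup.map_lowerCentralSeries (S := (⊤ : Subgroup H)) (QuotientGroup.mk' N) (p - 1)
  rw [Subgroup.map_top_of_surjective _ (QuotientGroup.mk'_surjective N)] at hmap
  have hcl : (⊤ : Subgroup (H ⧸ N)).lowerCentralSeries (p - 1) = ⊥ := by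
    rw [← hmap, Subgroup.map_eq_bot_iff, QuotientGroup.ker_mk']
  have hgen : Subgroup.closure ((QuotientGroup.mk' N) '' ((fun x : H => (x : G)) ⁻¹' A)) = ⊤ := by
    rw [← MonoidHom.map_closure,
      show Subgroup.closure ((fun x : H => (x : G)) ⁻¹' A) = ⊤ from
        Subgroup.closure_closure_coe_preimage,
      Subgroup.map_top_of_surjective _ (QuotientGroup.mk'_surjective N)]
  have h1 := pow_eq_one_of_generated hgen (by
    rintro _ ⟨a, ha, rfl⟩
    rw [← map_pow, show a ^ p = 1 from Subtype.ext (hA _ ha), map_one]) hcl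
    (QuotientGroup.mk' N ⟨g, hg⟩)
  rw [← map_pow, ← MonoidHom.mem_ker, QuotientGroup.ker_mk'] at h1
  rw [← Subgroup.top_subtype_lowerCentralSeries]
  exact ⟨_, h1, rfl⟩

theorem lcs_le_of_chain {G : Type*} [Group G] (H : Subgroup G) (M : ℕ → Subgroup G)
    (h1 : ⁅H, H⁆ ≤ M 1) (hstep : ∀ k, 1 ≤ k → ⁅M k, H⁆ ≤ M (k + 1)) :
    ∀ k, 1 ≤ k → H.lowerCentralSeries k ≤ M k := by
  intro k hk
  induction k, hk using Nat.le_induction with
  | base => rwa [Subgroup.lowerCentralSeries_succ, Subgroup.lowerCentralSeries_zero]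
  | succ k hk ih =>
    rw [Subgroup.lowerCentralSeries_succ]
    exact (Subgroup.commutator_mono ih le_rfl).trans (hstep k hk)

/-! ### An element with centralizer of order `p ^ 2` -/

/-- `x` has order `p` and centralizer of order `p ^ 2` in the group of order `p ^ n`. -/
structure Setting (X : Type*) [Group X] (p n : ℕ) (x : X) : Prop where
  card : Nat.card X = p ^ n
  three_le : 3 ≤ n
  pow : x ^ p = 1
  cent : Nat.card (Subgroup.centralizer ({x} : Set X)) = p ^ 2

variable {X : Type*} [Group X] [Finite X] {n : ℕ} {x : X}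

/-- The terms of the lower central series. -/
abbrev Γ (X : Type*) [Group X] (j : ℕ) : Subgroup X := (⊤ : Subgroup X).lowerCentralSeries j

theorem class_eq (h : Setting X p n x) : Group.nilpotencyClass X = n - 1 := by
  refine PGroup.nilpotencyClass_of_self_centralizing n X h.card _ h.cent (le_antisymm ?_ ?_)
  · exact Subgroup.centralizer_le (Set.singleton_subset_iff.2
      (Subgroup.mem_centralizer_singleton_iff.2 rfl))
  · intro u hu
    letI := IsPGroup.commGroupOfCardEqPrimeSq h.cent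
    intro v hv
    exact congrArg Subtype.val (mul_comm (⟨v, hv⟩ : Subgroup.centralizer ({x} : Set X)) ⟨u, hu⟩)

theorem card_gamma (h : Setting X p n x) {j : ℕ} (hj : 1 ≤ j) (hjn : j + 1 ≤ n) :
    Nat.card (Γ X j) = p ^ (n - 1 - j) := by
  obtain ⟨i, rfl⟩ : ∃ i, j = i + 1 := ⟨j - 1, by omega⟩
  rw [MaxClass.card_lcs_eq h.card (class_eq h) h.three_le i (by omega)]
  congr 1
  omega

theorem gamma_eq_bot (h : Setting X p n x) {j : ℕ} (hj : n - 1 ≤ j) : Γ X j = ⊥ := by
  have := h.three_le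
  refine le_bot_iff.1 ((Subgroup.lowerCentralSeries_antitone _ hj).trans
    (Subgroup.eq_bot_of_card_eq _ ?_).le)
  rw [card_gamma h (by omega) (by omega), Nat.sub_self, pow_zero]

theorem gamma_commutator {i : ℕ} {g k : X} (hg : g ∈ Γ X i) : ⁅g, k⁆ ∈ Γ X (i + 1) := by
  rw [Γ, Subgroup.lowerCentralSeries_succ]
  exact Subgroup.commutator_mem_commutator hg (Subgroup.mem_top k)

theorem conj_mem_class {g : X} : x⁻¹ * (g * x * g⁻¹) ∈ Γ X 1 := by
  rw [show x⁻¹ * (g * x * g⁻¹) = ⁅x⁻¹, g⁆ by rw [commutatorElement_def]; group]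
  exact gamma_commutator (i := 0) (Subgroup.mem_top _)

/-- The conjugates of `x` fill the coset `x Γ₁`. -/
theorem exists_conj_eq (h : Setting X p n x) {d : X} (hd : d ∈ Γ X 1) :
    ∃ g, g * x * g⁻¹ = x * d := by
  classical
  set C := Subgroup.centralizer ({x} : Set X) with hC
  let f : X ⧸ C → Γ X 1 := Quotient.lift
    (fun g : X => (⟨x⁻¹ * (g * x * g⁻¹), conj_mem_class⟩ : Γ X 1))
    (fun a b (hab : QuotientGroup.leftRel C a b) => by
      have h1 := Subgroup.mem_centralizer_singleton_iff.1 (QuotientGroup.leftRel_apply.1 hab)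
      refine Subtype.ext ?_
      show x⁻¹ * (a * x * a⁻¹) = x⁻¹ * (b * x * b⁻¹)
      rw [show b * x * b⁻¹ = a * (a⁻¹ * b * x) * b⁻¹ by group, h1]
      group)
  have hinj : Function.Injective f := by
    rintro ⟨a⟩ ⟨b⟩ e
    have e' : x⁻¹ * (a * x * a⁻¹) = x⁻¹ * (b * x * b⁻¹) := congrArg Subtype.val e
    refine QuotientGroup.eq.2 (Subgroup.mem_centralizer_singleton_iff.2 ?_)
    rw [show a⁻¹ * b * x = a⁻¹ * (b * x * b⁻¹) * b by group, ← mul_left_cancel e']
    group
  have hcard : Nat.card (X ⧸ C) = Nat.card (Γ X 1) := by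
    have h1 := Subgroup.card_eq_card_quotient_mul_card_subgroup C
    have h3 := h.three_le
    rw [h.card, h.cent, show p ^ n = p ^ (n - 2) * p ^ 2 by rw [← pow_add]; congr 1; omega] at h1
    rw [← Nat.eq_of_mul_eq_mul_right (pow_pos hp.out.pos 2) h1,
      card_gamma h le_rfl (by omega), Nat.sub_sub]
  obtain ⟨q, hq⟩ := ((Nat.bijective_iff_injective_and_card f).2 ⟨hinj, hcard⟩).2 ⟨d, hd⟩
  obtain ⟨g, rfl⟩ := QuotientGroup.mk_surjective q
  have e : x⁻¹ * (g * x * g⁻¹) = d := congrArg Subtype.val hq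
  exact ⟨g, by rw [← e, mul_inv_cancel_left]⟩

theorem pow_mul_eq_one (h : Setting X p n x) {d : X} (hd : d ∈ Γ X 1) : (x * d) ^ p = 1 := by
  obtain ⟨g, hg⟩ := exists_conj_eq h hd
  rw [← hg, conj_pow, h.pow, mul_one, mul_inv_cancel]

theorem pow_mul_inv_eq_one (h : Setting X p n x) {d : X} (hd : d ∈ Γ X 1) :
    (d * x⁻¹) ^ p = 1 := by
  rw [show d * x⁻¹ = (x * d⁻¹)⁻¹ by group, inv_pow, pow_mul_eq_one h (inv_mem hd), inv_one]

theorem notMem_gamma_one (h : Setting X p n x) : x ∉ Γ X 1 := by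
  intro hx
  obtain ⟨g, hg⟩ := exists_conj_eq h (inv_mem hx)
  rw [mul_inv_cancel, conj_eq_one_iff] at hg
  have h1 := h.cent
  rw [hg] at h1
  have h2 : Subgroup.centralizer ({1} : Set X) = ⊤ := eq_top_iff.2 fun u _ =>
    Subgroup.mem_centralizer_singleton_iff.2 (by simp)
  rw [h2, Subgroup.card_top, h.card] at h1
  have := Nat.pow_right_injective hp.out.two_le h1
  have := h.three_le
  omega

/-- Commutation with `x` moves each layer exactly one step down. -/
theorem commutator_notMem (h : Setting X p n x) {j : ℕ} (hj : 1 ≤ j) (hjn : j + 2 ≤ n - 1)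
    {d : X} (hd : d ∈ Γ X j) (hd' : d ∉ Γ X (j + 1)) : ⁅d, x⁆ ∉ Γ X (j + 2) := by
  classical
  intro hcom
  have hn3 := h.three_le
  set N := Γ X (j + 2) with hN
  set K := (Subgroup.centralizer ({QuotientGroup.mk' N x} : Set (X ⧸ N))).comap
    (QuotientGroup.mk' N) with hK
  have memK : ∀ g, g ∈ K ↔ (g * x)⁻¹ * (x * g) ∈ N := fun g => by
    rw [hK, Subgroup.mem_comap, Subgroup.mem_centralizer_singleton_iff, ← map_mul, ← map_mul]
    exact QuotientGroup.eq
  choose c hc using fun e : Γ X 1 => exists_conj_eq h e.2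
  -- the cosets of `N` in `Γ₁` give distinct cosets of `K`
  have hidx : N.relIndex (Γ X 1) ≤ Nat.card (X ⧸ K) := by
    refine Nat.card_le_card_of_injective
      (fun q : Γ X 1 ⧸ N.subgroupOf (Γ X 1) => (QuotientGroup.mk (c q.out) : X ⧸ K))
      fun q r e => ?_
    have h1 := (memK _).1 (QuotientGroup.eq.1 e)
    have e1 := hc q.out
    have e2 := hc r.out
    rw [← q.out_eq, ← r.out_eq]
    refine QuotientGroup.eq.2 ?_
    show ((q.out : X))⁻¹ * (r.out : X) ∈ N
    have h2 := (inferInstance : N.Normal).conj_mem _ h1 (c r.out)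
    rw [show c r.out * (((c q.out)⁻¹ * c r.out * x)⁻¹ * (x * ((c q.out)⁻¹ * c r.out))) *
        (c r.out)⁻¹
      = (c r.out * x * (c r.out)⁻¹)⁻¹ * (c q.out * x * (c q.out)⁻¹) by group, e1, e2,
      show (x * (r.out : X))⁻¹ * (x * (q.out : X)) = ((q.out : X)⁻¹ * (r.out : X))⁻¹ by group] at h2
    exact inv_mem_iff.1 h2
  have hKc : Nat.card K ≤ p ^ 2 * Nat.card N := by
    have h1 := Subgroup.card_eq_card_quotient_mul_card_subgroup K
    have h2 := Subgroup.relIndex_mul_relIndex ⊥ N (Γ X 1) bot_le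
      ((⊤ : Subgroup X).lowerCentralSeries_antitone (by omega))
    rw [Subgroup.relIndex_bot_left, Subgroup.relIndex_bot_left, card_gamma h le_rfl (by omega)] at h2
    have h3 : Nat.card X = p ^ 2 * p ^ (n - 1 - 1) := by
      rw [h.card, ← pow_add]; congr 1; omega
    rw [h3, ← h2] at h1
    refine Nat.le_of_mul_le_mul_left (?_ : N.relIndex (Γ X 1) * _ ≤ N.relIndex (Γ X 1) * _)
      (Nat.pos_of_ne_zero fun e => ?_)
    · calc N.relIndex (Γ X 1) * Nat.card K ≤ Nat.card (X ⧸ K) * Nat.card K :=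
            Nat.mul_le_mul_right _ hidx
        _ = N.relIndex (Γ X 1) * (p ^ 2 * Nat.card N) := by rw [← h1]; ring
    · rw [e, mul_zero] at h2
      exact (pow_pos hp.out.pos _).ne h2
  -- but `K` contains `x`, `d` and the next layer
  have hK1 : Γ X (j + 1) ≤ K := fun g hg => (memK g).2 (by
    rw [show (g * x)⁻¹ * (x * g) = ⁅g⁻¹, x⁻¹⁆⁻¹ by simp only [commutatorElement_def]; group]
    exact inv_mem (gamma_commutator (i := j + 1) (inv_mem hg)))
  have hKd : d ∈ K := (memK d).2 (by
    rw [show (d * x)⁻¹ * (x * d) = (d * x)⁻¹ * ⁅d, x⁆⁻¹ * (d * x) by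
      simp only [commutatorElement_def]; group]
    simpa using (inferInstance : N.Normal).conj_mem _ (inv_mem hcom) (d * x)⁻¹)
  have hKx : x ∈ K := (memK x).2 (by rw [inv_mul_cancel]; exact N.one_mem)
  -- a strictly increasing chain inside `K`
  have hlt1 : Γ X (j + 1) < Γ X (j + 1) ⊔ Subgroup.zpowers d := lt_of_le_of_ne le_sup_left
    fun e => hd' (e.ge (Subgroup.mem_sup_right (Subgroup.mem_zpowers d)))
  have hlt2 : Γ X (j + 1) ⊔ Subgroup.zpowers d < K := lt_of_le_of_ne
    (sup_le hK1 (Subgroup.zpowers_le.2 hKd)) fun e => notMem_gamma_one h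
      ((sup_le ((⊤ : Subgroup X).lowerCentralSeries_antitone (by omega))
        (Subgroup.zpowers_le.2 ((⊤ : Subgroup X).lowerCentralSeries_antitone hj hd))) (e.ge hKx))
  have hXp : IsPGroup p X := IsPGroup.of_card h.card
  have hstep : ∀ A B : Subgroup X, A < B → Nat.card A * p ≤ Nat.card B := by
    intro A B hAB
    obtain ⟨a, ha⟩ := IsPGroup.iff_card.1 (hXp.to_subgroup A)
    obtain ⟨b, hb⟩ := IsPGroup.iff_card.1 (hXp.to_subgroup B)
    rw [ha, hb, ← pow_succ]
    refine Nat.pow_le_pow_right hp.out.pos ?_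
    by_contra hcon
    refine hAB.ne (Subgroup.eq_of_le_of_card_ge hAB.le ?_)
    rw [ha, hb]
    exact Nat.pow_le_pow_right hp.out.pos (by omega)
  have h4 := (Nat.mul_le_mul_right p (hstep _ _ hlt1)).trans (hstep _ _ hlt2)
  have h5 := h4.trans hKc
  rw [card_gamma h (by omega) (by omega), hN, card_gamma h (by omega) (by omega)] at h5
  have h6 : p ^ (n - 1 - (j + 1) + 2) ≤ p ^ (2 + (n - 1 - (j + 2))) := by
    calc p ^ (n - 1 - (j + 1) + 2) = p ^ (n - 1 - (j + 1)) * p * p := by
          rw [pow_add, pow_two, mul_assoc]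
      _ ≤ p ^ 2 * p ^ (n - 1 - (j + 2)) := h5
      _ = _ := (pow_add _ _ _).symm
  have := (Nat.pow_le_pow_iff_right hp.out.one_lt).1 h6
  omega

/-- The `p`-th power of an element of a layer lies `p - 1` layers below. -/
theorem pow_mem_gamma (h : Setting X p n x) {j : ℕ} (hj : 1 ≤ j) {d : X} (hd : d ∈ Γ X j) :
    d ^ p ∈ Γ X (j + (p - 1)) := by
  have hd1 : d ∈ Γ X 1 := (⊤ : Subgroup X).lowerCentralSeries_antitone hj hd
  set A : Set X := {x, x * d} with hA
  have hdA : d ∈ Subgroup.closure A := by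
    have := mul_mem (inv_mem (Subgroup.subset_closure (show x ∈ A by simp [hA])))
      (Subgroup.subset_closure (show x * d ∈ A by simp [hA]))
    rwa [inv_mul_cancel_left] at this
  have h1 := pow_mem_of_generated (p := p) (A := A) (by
    rintro a (rfl | rfl)
    · exact h.pow
    · exact pow_mul_eq_one h hd1) hdA
  have hnorm : ∀ k, ∀ g : X, ∀ u ∈ Γ X k, g * u * g⁻¹ ∈ Γ X k ∧ g⁻¹ * u * g ∈ Γ X k :=
    fun k g u hu => ⟨(inferInstance : (Γ X k).Normal).conj_mem u hu g,
      by simpa using (inferInstance : (Γ X k).Normal).conj_mem u hu g⁻¹⟩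
  have hbase : ⁅Subgroup.closure A, Subgroup.closure A⁆ ≤ Γ X (j + 1) := by
    refine commutator_closure_le (fun a _ u hu => hnorm _ a u hu) (fun a _ u hu => hnorm _ a u hu) ?_
    have e : ⁅x * d, x⁆ ∈ Γ X (j + 1) := by
      rw [show ⁅x * d, x⁆ = x * ⁅d, x⁆ * x⁻¹ by simp only [commutatorElement_def]; group]
      exact (hnorm _ x _ (gamma_commutator hd)).1
    rintro a (rfl | rfl) b (rfl | rfl)
    · simp
    · rw [← commutatorElement_inv]; exact inv_mem e
    · exact e
    · simp
  refine lcs_le_of_chain (Subgroup.closure A) (fun k => Γ X (j + k)) hbase (fun k _ => ?_) (p - 1)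
    (by have := hp.out.two_le; omega) h1
  exact (Subgroup.commutator_mono le_rfl le_top).trans
    (by rw [← add_assoc]; exact ((⊤ : Subgroup X).lowerCentralSeries_succ _).ge)

/-- The iterated commutators with `x`. -/
def iterC {G : Type*} [Group G] (a b : G) : ℕ → G
  | 0 => a
  | k + 1 => ⁅iterC a b k, b⁆

theorem iterC_map {G H : Type*} [Group G] [Group H] (f : G →* H) (a b : G) :
    ∀ k, f (iterC a b k) = iterC (f a) (f b) k
  | 0 => rfl
  | k + 1 => by rw [iterC, iterC, map_commutatorElement, iterC_map f a b k]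

theorem iterC_level (h : Setting X p n x) {j : ℕ} (hj : 1 ≤ j) {d : X} (hd : d ∈ Γ X j)
    (hd' : d ∉ Γ X (j + 1)) : ∀ k, j + k + 1 ≤ n - 1 →
      iterC d x k ∈ Γ X (j + k) ∧ iterC d x k ∉ Γ X (j + k + 1) := by
  intro k
  induction k with
  | zero => exact fun _ => ⟨hd, hd'⟩
  | succ k ih =>
    intro hk
    obtain ⟨h1, h2⟩ := ih (by omega)
    exact ⟨gamma_commutator h1, commutator_notMem h (j := j + k) (by omega) (by omega) h1 h2⟩

/-- The `p`-th power of an element of a layer is exactly `p - 1` layers below. -/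
theorem pow_notMem_gamma (h : Setting X p n x) {j : ℕ} (hj : 1 ≤ j) {d : X} (hd : d ∈ Γ X j)
    (hd' : d ∉ Γ X (j + 1)) (hjn : j + p ≤ n - 1) : d ^ p ∉ Γ X (j + p) := by
  classical
  intro hdp
  have hp2 := hp.out.two_le
  have hd1 : d ∈ Γ X 1 := (⊤ : Subgroup X).lowerCentralSeries_antitone hj hd
  set N := Γ X (j + p) with hN
  set π := QuotientGroup.mk' N with hπ
  let a : (X ⧸ N) × CyclicWreath.W p := (π d, CyclicWreath.point p)
  let b : (X ⧸ N) × CyclicWreath.W p := (π x, CyclicWreath.shift p)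
  let Lk : ℕ → Subgroup ((X ⧸ N) × CyclicWreath.W p) := fun m =>
    ((Γ X (j + m)).map π).prod (CyclicWreath.row p m)
  let M : ℕ → Subgroup ((X ⧸ N) × CyclicWreath.W p) := fun k =>
    Subgroup.zpowers (iterC a b k) ⊔ Lk (k + 1)
  set A : Set ((X ⧸ N) × CyclicWreath.W p) := {a, b} with hA
  have hanti : ∀ {m m' : ℕ}, m ≤ m' → Lk m' ≤ Lk m := fun {m m'} hm => Subgroup.prod_mono
    (Subgroup.map_mono ((⊤ : Subgroup X).lowerCentralSeries_antitone (by omega)))
    (CyclicWreath.row_anti p hm)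
  have hLa : ∀ m, 1 ≤ m → ∀ u ∈ Lk m, ⁅u, a⁆ ∈ Lk (m + 1) := by
    rintro m hm ⟨_, w⟩ ⟨⟨g, hg, rfl⟩, hw⟩
    refine Subgroup.mem_prod.2 ⟨⟨⁅g, d⁆, ?_, ?_⟩, ?_⟩
    · exact (⊤ : Subgroup X).lowerCentralSeries_antitone (by omega : j + (m + 1) ≤ j + m + j + 1)
        (Regular.lcs_commutator_le (j + m) j (Subgroup.commutator_mem_commutator hg hd))
    · exact map_commutatorElement π g d
    · show ⁅w, CyclicWreath.point p⁆ ∈ _
      rw [commutatorElement_eq_one_iff_mul_comm.2 (CyclicWreath.commute_point p hw)]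
      exact one_mem _
  have hLb : ∀ m, ∀ u ∈ Lk m, ⁅u, b⁆ ∈ Lk (m + 1) := by
    rintro m ⟨_, w⟩ ⟨⟨g, hg, rfl⟩, hw⟩
    exact Subgroup.mem_prod.2 ⟨⟨⁅g, x⁆, gamma_commutator hg, map_commutatorElement π g x⟩,
      CyclicWreath.commutator_shift_mem p hw⟩
  have hLn : ∀ g ∈ A, ∀ m, 1 ≤ m → ∀ u ∈ Lk m, g * u * g⁻¹ ∈ Lk m ∧ g⁻¹ * u * g ∈ Lk m := by
    intro g hg m hm u hu
    have hc : ∀ v ∈ Lk m, ⁅v, g⁆ ∈ Lk m := by
      intro v hv
      rcases hg with rfl | rfl
      · exact hanti (Nat.le_succ m) (hLa m hm v hv)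
      · exact hanti (Nat.le_succ m) (hLb m v hv)
    have h1 : ∀ v ∈ Lk m, g * v * g⁻¹ ∈ Lk m := fun v hv => by
      rw [conj_eq_commutator g v]
      exact mul_mem (inv_mem (hc v hv)) hv
    refine ⟨h1 u hu, ?_⟩
    obtain ⟨⟨v, hv⟩, hvu⟩ := (Finite.injective_iff_surjective
      (f := fun v : Lk m => (⟨g * v * g⁻¹, h1 v v.2⟩ : Lk m))).1
      (fun v w e => Subtype.ext (mul_left_cancel (mul_right_cancel (congrArg Subtype.val e))))
      ⟨u, hu⟩
    rw [← show g * v * g⁻¹ = u from congrArg Subtype.val hvu]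
    rw [inv_conj_conj]
    exact hv
  have haL : a ∈ Lk 0 := Subgroup.mem_prod.2 ⟨⟨d, hd, rfl⟩, CyclicWreath.point_mem p⟩
  have hiter : ∀ k, iterC a b k ∈ Lk k := by
    intro k
    induction k with
    | zero => exact haL
    | succ k ih => exact hLb k _ ih
  have hMle : ∀ k, M k ≤ Lk k := fun k =>
    sup_le (Subgroup.zpowers_le.2 (hiter k)) (hanti (Nat.le_succ k))
  have hLc : ∀ k, 1 ≤ k → ∀ g ∈ A, ∀ u ∈ Lk k, ⁅u, g⁆ ∈ Lk (k + 1) := by
    rintro k hk g (rfl | rfl) u hu
    · exact hLa k hk u hu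
    · exact hLb k u hu
  have hMn : ∀ k, 1 ≤ k → ∀ g ∈ A, ∀ u ∈ M k, g * u * g⁻¹ ∈ M k ∧ g⁻¹ * u * g ∈ M k := by
    intro k hk g hg u hu
    have hu' := hMle k hu
    have h1 : g * u * g⁻¹ ∈ M k := by
      rw [conj_eq_commutator g u]
      exact mul_mem (inv_mem (Subgroup.mem_sup_right (hLc k hk g hg u hu'))) hu
    refine ⟨h1, ?_⟩
    have hw : ⁅g⁻¹ * u * g, g⁆ ∈ Lk (k + 1) := hLc k hk g hg _ (hLn g hg k hk u hu').2
    rw [inv_conj_eq_commutator g u]
    exact mul_mem (Subgroup.mem_sup_right hw) hu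
  have hbase : ⁅Subgroup.closure A, Subgroup.closure A⁆ ≤ M 1 := by
    refine commutator_closure_le (fun g hg u hu => hMn 1 le_rfl g hg u hu)
      (fun g hg u hu => hMn 1 le_rfl g hg u hu) ?_
    have e : ⁅a, b⁆ ∈ M 1 := Subgroup.mem_sup_left (Subgroup.mem_zpowers (iterC a b 1))
    rintro g (rfl | rfl) k (rfl | rfl)
    · simp
    · exact e
    · rw [← commutatorElement_inv]; exact inv_mem e
    · simp
  have hstep : ∀ k, 1 ≤ k → ⁅M k, Subgroup.closure A⁆ ≤ M (k + 1) := by
    intro k hk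
    have hMcl : M k = Subgroup.closure ({iterC a b k} ∪ (Lk (k + 1) : Set _)) := by
      rw [Subgroup.closure_union, Subgroup.closure_eq, ← Subgroup.zpowers_eq_closure]
    rw [hMcl]
    refine commutator_closure_le (fun v hv u hu => ?_)
      (fun g hg u hu => hMn (k + 1) (by omega) g hg u hu) ?_
    · -- the generators of `M k` lie in the subgroup generated by `A`
      have hu' := hMle (k + 1) hu
      have hvL : v ∈ Lk k := by
        rcases hv with rfl | hv
        · exact hiter k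
        · exact hanti (Nat.le_succ k) hv
      have hvw : ∀ w ∈ Lk k, ⁅u, w⁆ ∈ Lk (k + 2) := by
        rintro ⟨_, w⟩ ⟨⟨g, hg, rfl⟩, hw⟩
        obtain ⟨⟨g', hg', hgu⟩, hu2⟩ := hu'
        refine Subgroup.mem_prod.2 ⟨⟨⁅g', g⁆, ?_, ?_⟩, ?_⟩
        · exact (⊤ : Subgroup X).lowerCentralSeries_antitone
            (by omega : j + (k + 2) ≤ j + (k + 1) + (j + k) + 1)
            (Regular.lcs_commutator_le _ _ (Subgroup.commutator_mem_commutator hg' hg))
        · show π ⁅g', g⁆ = ⁅u.1, π g⁆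
          rw [map_commutatorElement, hgu]
        · show ⁅u.2, w⁆ ∈ CyclicWreath.row p (k + 2)
          rw [commutatorElement_eq_one_iff_mul_comm.2 ?_]
          · exact one_mem _
          · obtain ⟨f, -, hf⟩ := hu2
            obtain ⟨f', -, rfl⟩ := hw
            rw [show u.2 = CyclicWreath.base p f from hf]
            exact CyclicWreath.commute_base p f f'
      constructor
      · rw [conj_eq_commutator v u]
        exact mul_mem (inv_mem (Subgroup.mem_sup_right (hvw v hvL))) hu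
      · rw [inv_conj_eq_commutator' v u]
        exact mul_mem (inv_mem (Subgroup.mem_sup_right (hvw _ (inv_mem hvL)))) hu
    · rintro v (rfl | hv) g hg
      · rcases hg with rfl | rfl
        · refine Subgroup.mem_sup_right ?_
          obtain ⟨⟨g, hg, hgv⟩, hw⟩ := hiter k
          refine Subgroup.mem_prod.2 ⟨⟨⁅g, d⁆, ?_, ?_⟩, ?_⟩
          · exact (⊤ : Subgroup X).lowerCentralSeries_antitone
              (by omega : j + (k + 1 + 1) ≤ j + k + j + 1)
              (Regular.lcs_commutator_le (j + k) j (Subgroup.commutator_mem_commutator hg hd))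
          · show π ⁅g, d⁆ = ⁅(iterC a b k).1, π d⁆
            rw [map_commutatorElement, hgv]
          · show ⁅(iterC a b k).2, CyclicWreath.point p⁆ ∈ _
            rw [commutatorElement_eq_one_iff_mul_comm.2 (CyclicWreath.commute_point p hw)]
            exact one_mem _
        · exact Subgroup.mem_sup_left (Subgroup.mem_zpowers (iterC a b (k + 1)))
      · exact Subgroup.mem_sup_right (hLc (k + 1) (by omega) g hg v hv)
  have hlcs := lcs_le_of_chain (Subgroup.closure A) M hbase hstep (p - 1) (by omega)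
  have hLp : Lk p = ⊥ := by
    show ((Γ X (j + p)).map π).prod (CyclicWreath.row p p) = ⊥
    rw [CyclicWreath.row_prime, (Subgroup.map_eq_bot_iff (Γ X (j + p))).2
      (QuotientGroup.ker_mk' N).ge, Subgroup.bot_prod_bot]
  have hAp : ∀ g ∈ A, g ^ p = 1 := by
    rintro g (rfl | rfl)
    · refine Prod.ext ?_ (CyclicWreath.point_pow p)
      show (π d) ^ p = 1
      rw [← map_pow]
      exact (QuotientGroup.eq_one_iff _).2 hdp
    · refine Prod.ext ?_ (CyclicWreath.shift_pow p)
      show (π x) ^ p = 1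
      rw [← map_pow, h.pow, map_one]
  have hmem := hlcs (pow_mem_of_generated hAp (g := a * b⁻¹)
    (mul_mem (Subgroup.subset_closure (by simp [hA])) (inv_mem (Subgroup.subset_closure (by simp [hA])))))
  have hM : M (p - 1) = Subgroup.zpowers (iterC a b (p - 1)) := by
    show _ ⊔ Lk (p - 1 + 1) = _
    rw [Nat.sub_add_cancel (by omega : 1 ≤ p), hLp, sup_bot_eq]
  rw [hM] at hmem
  obtain ⟨i, hi⟩ := Subgroup.mem_zpowers_iff.1 hmem
  -- the first component is trivial, so is `i` modulo `p`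
  set e := iterC a b (p - 1) with he
  have hfst : (a * b⁻¹).1 ^ p = 1 := by
    show (π d * (π x)⁻¹) ^ p = 1
    rw [← map_inv, ← map_mul, ← map_pow, pow_mul_inv_eq_one h hd1, map_one]
  have he1 : e.1 ≠ 1 := by
    have h1 : e.1 = π (iterC d x (p - 1)) := by
      rw [iterC_map π, he]
      exact iterC_map (MonoidHom.fst _ _) a b (p - 1)
    rw [h1]
    intro h2
    have h3 := (iterC_level h hj hd hd' (p - 1) (by omega)).2
    rw [show j + (p - 1) + 1 = j + p by omega] at h3
    exact h3 ((QuotientGroup.eq_one_iff _).1 h2)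
  have hep : e ^ p = 1 := by
    obtain ⟨⟨g, hg, hge⟩, hw⟩ := hiter (p - 1)
    refine Prod.ext ?_ (CyclicWreath.pow_eq_one_of_mem p hw)
    show e.1 ^ p = 1
    rw [show e.1 = π g from hge.symm, ← map_pow]
    exact (QuotientGroup.eq_one_iff _).2
      ((⊤ : Subgroup X).lowerCentralSeries_antitone (by omega)
        (pow_mem_gamma h (by omega : 1 ≤ j + (p - 1)) hg))
  have hord : orderOf e.1 = p := orderOf_eq_prime
    ((map_pow (MonoidHom.fst (X ⧸ N) (CyclicWreath.W p)) e p).symm.trans (by rw [hep]; rfl)) he1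
  have hdvd : (p : ℤ) ∣ i := by
    rw [← hord, orderOf_dvd_iff_zpow_eq_one,
      ← show (e ^ i).1 = e.1 ^ i from map_zpow (MonoidHom.fst (X ⧸ N) (CyclicWreath.W p)) e i, hi]
    exact hfst
  obtain ⟨t, rfl⟩ := hdvd
  rw [zpow_mul, zpow_natCast, hep, one_zpow] at hi
  exact CyclicWreath.pow_ne_one p (congrArg Prod.snd hi.symm)

/-! ### Generators of subgroups -/

theorem commutator_le_frattini_top (h : Setting X p n x) : Γ X 1 ≤ frattini X := by
  rw [Γ, Subgroup.top_lowerCentralSeries_one]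
  exact (PSolvable.commutator_le_frattini (IsPGroup.of_card h.card)).1

theorem card_map_layer (h : Setting X p n x) :
    Nat.card (X ⧸ Γ X 1) = p ^ 2 := by
  have h1 := Subgroup.card_eq_card_quotient_mul_card_subgroup (Γ X 1)
  have h3 := h.three_le
  rw [h.card, card_gamma h le_rfl (by omega), show p ^ n = p ^ 2 * p ^ (n - 1 - 1) by
    rw [← pow_add]; congr 1; omega] at h1
  exact (Nat.eq_of_mul_eq_mul_right (pow_pos hp.out.pos _) h1).symm

/-- The subgroups of `Γ₁` are generated by `p - 1` elements. -/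
theorem exists_generators_gamma (h : Setting X p n x) (H : Subgroup X) (hH : H ≤ Γ X 1) :
    ∃ T : Finset X, T.card ≤ p - 1 ∧ Subgroup.closure (T : Set X) = H := by
  classical
  have hp2 := hp.out.two_le
  have hn3 := h.three_le
  -- the levels met by `H`
  let P : ℕ → Prop := fun j => 1 ≤ j ∧ ∃ g ∈ H, g ∈ Γ X j ∧ g ∉ Γ X (j + 1)
  let Q : Fin (p - 1) → ℕ → Prop := fun r j => P j ∧ j % (p - 1) = r
  let pick : Fin (p - 1) → X := fun r =>
    if hr : ∃ j, Q r j then Classical.choose (Nat.find_spec hr).1.2 else 1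
  have hpick : ∀ r, pick r ∈ H := fun r => by
    simp only [pick]
    split_ifs with hr
    · exact (Classical.choose_spec (Nat.find_spec hr).1.2).1
    · exact H.one_mem
  refine ⟨Finset.univ.image pick, Finset.card_image_le.trans (by simp), ?_⟩
  have hT : (↑(Finset.univ.image pick) : Set X) = Set.range pick := by simp
  rw [hT]
  set K := Subgroup.closure (Set.range pick) with hK
  have hKH : K ≤ H := (Subgroup.closure_le _).2 (by rintro _ ⟨r, rfl⟩; exact hpick r)
  refine le_antisymm hKH ?_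
  have hlevel : ∀ j, P j → ∃ k ∈ K, k ∈ Γ X j ∧ k ∉ Γ X (j + 1) := by
    intro j
    induction j using Nat.strong_induction_on with
    | _ j ih => ?_
    intro hj
    let r : Fin (p - 1) := ⟨j % (p - 1), Nat.mod_lt _ (by omega)⟩
    have hr : ∃ i, Q r i := ⟨j, hj, rfl⟩
    rcases (Nat.find_min' hr ⟨hj, rfl⟩).lt_or_eq with hlt | heq
    · obtain ⟨hi, hmod⟩ := Nat.find_spec hr
      set i := Nat.find hr with hidef
      have hmod' : i % (p - 1) = j % (p - 1) := hmod
      obtain ⟨t, ht⟩ := (Nat.modEq_iff_dvd' hlt.le).1 hmod'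
      have ht1 : 1 ≤ t := by
        rcases Nat.eq_zero_or_pos t with rfl | h'
        · omega
        · exact h'
      have hge : p - 1 ≤ (p - 1) * t := Nat.le_mul_of_pos_right _ ht1
      have hP : P (j - (p - 1)) := by
        by_cases e : j - (p - 1) = i
        · exact e ▸ hi
        · -- go up from the least level
          have : ∀ s, i + (p - 1) * s ≤ j - (p - 1) → P (i + (p - 1) * s) := by
            intro s
            induction s with
            | zero => intro _; simpa using hi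
            | succ s ihs =>
              intro hs
              obtain ⟨hs1, g, hgH, hg, hg'⟩ := ihs (by rw [Nat.mul_succ] at hs; omega)
              have hne : Γ X j ≠ ⊥ := by
                obtain ⟨-, g', -, hg1, hg2⟩ := hj
                intro e'
                rw [e', Subgroup.mem_bot] at hg1
                exact hg2 (hg1 ▸ one_mem _)
              have hjn : j ≤ n - 2 := by
                by_contra hc
                exact hne (gamma_eq_bot h (by omega))
              rw [Nat.mul_succ] at hs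
              refine ⟨by omega, g ^ p, H.pow_mem hgH p, ?_, ?_⟩
              · rw [Nat.mul_succ, ← add_assoc]
                exact pow_mem_gamma h hs1 hg
              · have h2 := pow_notMem_gamma h hs1 hg hg' (by omega)
                rwa [show i + (p - 1) * (s + 1) + 1 = i + (p - 1) * s + p by
                  rw [Nat.mul_succ]; omega]
          have h1 := this (t - 1)
          rw [show i + (p - 1) * (t - 1) = j - (p - 1) by rw [Nat.mul_sub, mul_one]; omega] at h1
          exact h1 le_rfl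
      obtain ⟨k, hk, hk1, hk2⟩ := ih (j - (p - 1)) (by omega) hP
      have hne : Γ X j ≠ ⊥ := by
        obtain ⟨-, g', -, hg1, hg2⟩ := hj
        intro e'
        rw [e', Subgroup.mem_bot] at hg1
        exact hg2 (hg1 ▸ one_mem _)
      have hjn : j ≤ n - 2 := by
        by_contra hc
        exact hne (gamma_eq_bot h (by omega))
      refine ⟨k ^ p, K.pow_mem hk p, ?_, ?_⟩
      · have := pow_mem_gamma h hP.1 hk1
        rwa [show j - (p - 1) + (p - 1) = j by omega] at this
      · have := pow_notMem_gamma h hP.1 hk1 hk2 (by omega)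
        rwa [show j - (p - 1) + p = j + 1 by omega] at this
    · refine ⟨pick r, Subgroup.subset_closure ⟨r, rfl⟩, ?_⟩
      simp only [pick, dif_pos hr]
      have := (Classical.choose_spec (Nat.find_spec hr).1.2).2
      exact ⟨(congrArg (Γ X) heq).le this.1, fun h' => this.2 ((congrArg (fun i => Γ X (i + 1)) heq).ge h')⟩
  -- descend through the layers
  suffices ∀ d j, 1 ≤ j → n - 1 ≤ j + d → ∀ g ∈ H, g ∈ Γ X j → g ∈ K from
    fun g hg => this (n - 1) 1 le_rfl (by omega) g hg (hH hg)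
  intro d
  induction d with
  | zero =>
    intro j _ hjn g _ hg
    rw [gamma_eq_bot h (by omega), Subgroup.mem_bot] at hg
    exact hg ▸ K.one_mem
  | succ d ih =>
    intro j hj hjn g hgH hg
    by_cases hg' : g ∈ Γ X (j + 1)
    · exact ih (j + 1) (by omega) (by omega) g hgH hg'
    obtain ⟨k, hk, hk1, hk2⟩ := hlevel j ⟨hj, g, hgH, hg, hg'⟩
    have hjn2 : j + 1 ≤ n - 1 := by
      by_contra hc
      rw [gamma_eq_bot h (by omega), Subgroup.mem_bot] at hg
      exact hg' (hg ▸ one_mem _)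
    -- the layer has order `p`
    have hrel : ((Γ X (j + 1)).subgroupOf (Γ X j)).index = p := by
      have h1 := Subgroup.relIndex_mul_relIndex ⊥ (Γ X (j + 1)) (Γ X j) bot_le
        ((⊤ : Subgroup X).lowerCentralSeries_antitone (Nat.le_succ j))
      rw [Subgroup.relIndex_bot_left, Subgroup.relIndex_bot_left, card_gamma h hj (by omega),
        card_gamma h (by omega) (by omega), show n - 1 - j = n - 1 - (j + 1) + 1 by omega,
        pow_succ] at h1
      exact Nat.eq_of_mul_eq_mul_left (pow_pos hp.out.pos _) h1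
    haveI : Fact (Nat.card (Γ X j ⧸ (Γ X (j + 1)).subgroupOf (Γ X j))).Prime :=
      ⟨by rw [← Subgroup.index_eq_card, hrel]; exact hp.out⟩
    have hcyc : Subgroup.zpowers (QuotientGroup.mk ⟨k, hk1⟩ :
        Γ X j ⧸ (Γ X (j + 1)).subgroupOf (Γ X j)) = ⊤ :=
      zpowers_eq_top_of_prime_card rfl fun e => hk2 ((QuotientGroup.eq_one_iff (⟨k, hk1⟩ : Γ X j)).1 e)
    obtain ⟨i, hi⟩ := Subgroup.mem_zpowers_iff.1
      (hcyc.ge (Subgroup.mem_top (QuotientGroup.mk ⟨g, hg⟩)))
    have h1 : k ^ (-i) * g ∈ Γ X (j + 1) := by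
      rw [← QuotientGroup.mk_zpow, QuotientGroup.eq] at hi
      have : ((⟨k, hk1⟩ : Γ X j) ^ i)⁻¹ * ⟨g, hg⟩ ∈ (Γ X (j + 1)).subgroupOf (Γ X j) := hi
      rw [zpow_neg]
      exact this
    have h2 := ih (j + 1) (by omega) (by omega) _
      (H.mul_mem (H.zpow_mem (hKH hk) _) hgH) h1
    have h3 := K.mul_mem (K.zpow_mem hk i) h2
    rwa [← mul_assoc, ← zpow_add, add_neg_cancel, zpow_zero, one_mul] at h3

/-- Every subgroup is generated by at most `p` elements. -/
theorem exists_generators (h : Setting X p n x) (H : Subgroup X) :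
    ∃ T : Finset X, T.card ≤ p ∧ Subgroup.closure (T : Set X) = H := by
  classical
  have hp2 := hp.out.two_le
  set π := QuotientGroup.mk' (Γ X 1) with hπ
  obtain ⟨T, hT, hTc⟩ := exists_generators_gamma h (H ⊓ Γ X 1) inf_le_right
  have hQ := card_map_layer h
  by_cases hbot : H.map π = ⊥
  · have hle : H ≤ Γ X 1 := by
      rw [Subgroup.map_eq_bot_iff, hπ, QuotientGroup.ker_mk'] at hbot
      exact hbot
    exact ⟨T, hT.trans (Nat.sub_le _ _), by rw [hTc, inf_eq_left.2 hle]⟩
  obtain ⟨⟨u, hu⟩, hu1⟩ := Subgroup.ne_bot_iff_exists_ne_one.1 hbot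
  obtain ⟨y, hy, rfl⟩ := hu
  have hy1 : π y ≠ 1 := fun e => hu1 (Subtype.ext e)
  by_cases hcyc : H.map π ≤ Subgroup.zpowers (π y)
  · refine ⟨insert y T, (Finset.card_insert_le _ _).trans (by omega), ?_⟩
    rw [Finset.coe_insert, Set.insert_eq, Subgroup.closure_union, hTc,
      ← Subgroup.zpowers_eq_closure]
    refine le_antisymm (sup_le (Subgroup.zpowers_le.2 hy) inf_le_left) fun g hg => ?_
    obtain ⟨i, hi⟩ := Subgroup.mem_zpowers_iff.1 (hcyc ⟨g, hg, rfl⟩)
    rw [← map_zpow, hπ, QuotientGroup.mk'_eq_mk'] at hi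
    obtain ⟨z, hz, e⟩ := hi
    rw [← e]
    refine Subgroup.mul_mem_sup (Subgroup.zpow_mem_zpowers y i) (Subgroup.mem_inf.2 ⟨?_, hz⟩)
    have h1 := H.mul_mem (H.inv_mem (H.zpow_mem hy i)) hg
    rwa [← e, inv_mul_cancel_left] at h1
  · -- `H` covers the quotient, so it is the whole group
    obtain ⟨v, hv, hv'⟩ := SetLike.not_le_iff_exists.1 hcyc
    obtain ⟨w, hw, rfl⟩ := hv
    refine ⟨{y, w}, (Finset.card_insert_le _ _).trans (by simp; omega), ?_⟩
    rw [Finset.coe_insert, Finset.coe_singleton]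
    have hle : Subgroup.closure ({y, w} : Set X) ≤ H := Regular.pair_le hy hw
    refine le_antisymm hle (le_of_le_of_eq le_top (Eq.symm ?_))
    refine frattini_nongenerating ?_
    rw [eq_top_iff]
    refine le_trans ?_ (sup_le_sup_left (commutator_le_frattini_top h) _)
    intro g _
    set D := (Subgroup.closure ({y, w} : Set X)).map π with hD
    have hDtop : D = ⊤ := by
      have hyD : Subgroup.zpowers (π y) < D := lt_of_le_of_ne
        (Subgroup.zpowers_le.2 ⟨y, Subgroup.subset_closure (by simp), rfl⟩)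
        fun e => hv' (e.ge ⟨w, Subgroup.subset_closure (by simp), rfl⟩)
      have hd : Nat.card D ∣ p ^ 2 := hQ ▸ Subgroup.card_subgroup_dvd_card D
      obtain ⟨d, hd2, hd'⟩ := (Nat.dvd_prime_pow hp.out).1 hd
      have h1 : Nat.card (Subgroup.zpowers (π y)) < Nat.card D := lt_of_le_of_ne
        (Subgroup.card_le_of_le hyD.le) fun e => hyD.ne (Subgroup.eq_of_le_of_card_ge hyD.le e.ge)
      have h2 : 1 < Nat.card (Subgroup.zpowers (π y)) := by
        rw [Subgroup.one_lt_card_iff_ne_bot, ne_eq, Subgroup.zpowers_eq_bot]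
        exact hy1
      have h3 : p ≤ Nat.card (Subgroup.zpowers (π y)) := by
        obtain ⟨c, -, hc⟩ := (Nat.dvd_prime_pow hp.out).1
          (hQ ▸ Subgroup.card_subgroup_dvd_card (Subgroup.zpowers (π y)))
        rw [hc] at h2 ⊢
        exact Nat.le_self_pow (by rintro rfl; simp at h2) p
      refine Subgroup.eq_top_of_card_eq D ?_
      rw [hQ, hd']
      rw [hd'] at h1
      have : p ^ 1 < p ^ d := by rw [pow_one]; exact lt_of_le_of_lt h3 h1
      have := (Nat.pow_lt_pow_iff_right hp.out.one_lt).1 this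
      congr 1
      omega
    obtain ⟨c, hc, e⟩ := hDtop.ge (Subgroup.mem_top (π g))
    rw [hπ, QuotientGroup.mk'_eq_mk'] at e
    obtain ⟨z, hz, rfl⟩ := e
    exact Subgroup.mul_mem_sup hc hz

end CfsgLib.UniserialPower
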