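import Mathlib
import Cfsg.Agent.Lib.PGroup.UniserialPower

/-!
A `3`-group with an element of order `3` whose centralizer has order `9`: its subgroups are
generated by two elements, unless it is the wreath product of two groups of order `3`.
-/

set_option autoImplicit false
set_option linter.style.haveILetI false
set_option linter.unusedSectionVars false

open scoped commutatorElement

namespace CfsgLib.UniserialThree

open CfsgLib CfsgLib.UniserialPower

local instance : Fact (Nat.Prime 3) := ⟨Nat.prime_three⟩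

theorem cube_mul {G : Type*} [Group G] (d e : G) (hc : ∀ g : G, g * ⁅e, d⁆ = ⁅e, d⁆ * g)
    (h3 : ⁅e, d⁆ ^ 3 = 1) : (d * e) ^ 3 = d ^ 3 * e ^ 3 := by
  obtain ⟨c, hcd⟩ : ∃ c, c = ⁅e, d⁆ := ⟨_, rfl⟩
  rw [← hcd] at hc h3
  have hed : e * d = c * (d * e) := by rw [hcd, commutatorElement_def]; group
  have hd' : ∀ r, d * (c * r) = c * (d * r) := fun r => by rw [← mul_assoc, hc d, mul_assoc]
  have he' : ∀ r, e * (c * r) = c * (e * r) := fun r => by rw [← mul_assoc, hc e, mul_assoc]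
  have hed' : ∀ r, e * (d * r) = c * (d * (e * r)) := fun r => by
    rw [← mul_assoc, hed]; simp only [mul_assoc]
  calc (d * e) ^ 3 = c ^ 3 * (d ^ 3 * e ^ 3) := by
        simp only [pow_three, mul_assoc, hd', he', hed', hed]
    _ = d ^ 3 * e ^ 3 := by rw [h3, one_mul]

variable {X : Type*} [Group X] [Finite X] {n : ℕ} {x : X}

theorem mem_mk_iff {N : Subgroup X} [N.Normal] {g : X} :
    QuotientGroup.mk' N g = 1 ↔ g ∈ N := QuotientGroup.eq_one_iff g

theorem exists_level (h : Setting X 3 n x) {j : ℕ} (hj : 1 ≤ j) (hjn : j + 1 ≤ n - 1) :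
    ∃ d, d ∈ Γ X j ∧ d ∉ Γ X (j + 1) := by
  by_contra hcon
  push Not at hcon
  have h1 := Subgroup.card_le_of_le (show Γ X j ≤ Γ X (j + 1) from hcon)
  rw [card_gamma h hj (by omega), card_gamma h (by omega) (by omega)] at h1
  have := (Nat.pow_le_pow_iff_right (by norm_num : 1 < 3)).1 h1
  omega

/-- `s` centralizes the first layer modulo the third term. -/
def IsOne (X : Type*) [Group X] (s : X) : Prop := ∀ g ∈ Γ X 1, ⁅g, s⁆ ∈ Γ X 3

theorem central_mod {k : ℕ} {c : X} (hc : c ∈ Γ X k) (g : X ⧸ Γ X (k + 1)) :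
    g * QuotientGroup.mk' (Γ X (k + 1)) c = QuotientGroup.mk' (Γ X (k + 1)) c * g := by
  obtain ⟨u, rfl⟩ := QuotientGroup.mk'_surjective (Γ X (k + 1)) g
  rw [eq_comm, ← commutatorElement_eq_one_iff_mul_comm, ← map_commutatorElement, mem_mk_iff]
  exact gamma_commutator hc

theorem commute_mod {k : ℕ} {a b : X} (h : ⁅a, b⁆ ∈ Γ X k) :
    Commute (QuotientGroup.mk' (Γ X k) a) (QuotientGroup.mk' (Γ X k) b) := by
  refine commutatorElement_eq_one_iff_mul_comm.1 ?_
  rw [← map_commutatorElement, mem_mk_iff]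
  exact h

theorem gamma_anti {i j : ℕ} (h : i ≤ j) : Γ X j ≤ Γ X i :=
  (⊤ : Subgroup X).lowerCentralSeries_antitone h

theorem conj_gamma {k : ℕ} {u : X} (hu : u ∈ Γ X k) (g : X) : g * u * g⁻¹ ∈ Γ X k :=
  (inferInstance : (Γ X k).Normal).conj_mem u hu g

/-- An element of a layer together with the next term gives the whole layer. -/
theorem exists_layer_mul (h : Setting X 3 n x) {j : ℕ} (hj : 1 ≤ j) {d : X} (hd : d ∈ Γ X j)
    (hd' : d ∉ Γ X (j + 1)) {g : X} (hg : g ∈ Γ X j) :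
    ∃ i : ℕ, g * ((d ^ i))⁻¹ ∈ Γ X (j + 1) := by
  have hn3 := h.three_le
  have hjn : j + 1 ≤ n - 1 := by
    by_contra hc
    rw [gamma_eq_bot h (by omega), Subgroup.mem_bot] at hd
    exact hd' (hd ▸ one_mem _)
  set N := (Γ X (j + 1)).subgroupOf (Γ X j) with hN
  have hq : Nat.card (Γ X j ⧸ N) = 3 := by
    have h1 := Subgroup.card_eq_card_quotient_mul_card_subgroup N
    rw [hN, Nat.card_congr (Subgroup.subgroupOfEquivOfLe (gamma_anti (X := X) (Nat.le_succ j))).toEquiv,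
      card_gamma h hj (by omega), card_gamma h (by omega) (by omega),
      show n - 1 - j = 1 + (n - 1 - (j + 1)) by omega, pow_add, pow_one] at h1
    exact (Nat.eq_of_mul_eq_mul_right (pow_pos (by norm_num) _) h1).symm
  haveI : Fact (Nat.card (Γ X j ⧸ N)).Prime := ⟨hq ▸ Nat.prime_three⟩
  have hcyc : Subgroup.zpowers (QuotientGroup.mk ⟨d, hd⟩ : Γ X j ⧸ N) = ⊤ :=
    zpowers_eq_top_of_prime_card rfl fun e =>
      hd' ((QuotientGroup.eq_one_iff (⟨d, hd⟩ : Γ X j)).1 e)
  have hmem : (QuotientGroup.mk ⟨g, hg⟩ : Γ X j ⧸ N) ∈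
      Submonoid.powers (QuotientGroup.mk ⟨d, hd⟩ : Γ X j ⧸ N) := by
    rw [mem_powers_iff_mem_zpowers, hcyc]; trivial
  obtain ⟨i, hi⟩ := (Submonoid.mem_powers_iff _ _).1 hmem
  refine ⟨i, ?_⟩
  rw [← QuotientGroup.mk_pow, QuotientGroup.eq] at hi
  have h2 : (d ^ i)⁻¹ * g ∈ Γ X (j + 1) := hi
  have h3 := conj_gamma h2 (d ^ i)
  rwa [mul_inv_cancel_left] at h3

theorem one_mem_gamma_two (h : Setting X 3 n x) {s : X} (hs : IsOne X s) :
    ∀ g ∈ Γ X 2, ⁅g, s⁆ ∈ Γ X 4 := by
  have hone : ∀ a b : X, IsOne X a → IsOne X b → IsOne X (a * b) := fun a b ha hb g hg => by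
    rw [show ⁅g, a * b⁆ = ⁅g, a⁆ * (a * ⁅g, b⁆ * a⁻¹) by simp only [commutatorElement_def]; group]
    exact mul_mem (ha g hg) (conj_gamma (hb g hg) a)
  let T : Subgroup X :=
    { carrier := {s | IsOne X s}
      one_mem' := fun g _ => by simp
      mul_mem' := fun {a b} ha hb => hone a b ha hb
      inv_mem' := fun {a} ha g hg => by
        rw [show ⁅g, a⁻¹⁆ = a⁻¹ * ⁅g, a⁆⁻¹ * a by simp only [commutatorElement_def]; group]
        simpa using conj_gamma (inv_mem (ha g hg)) a⁻¹ }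
  suffices ⁅Γ X 2, T⁆ ≤ Γ X 4 from fun g hg =>
    this (Subgroup.commutator_mem_commutator hg (show s ∈ T from hs))
  rw [show Γ X 2 = ⁅Γ X 1, (⊤ : Subgroup X)⁆ from Subgroup.lowerCentralSeries_succ _ 1]
  refine Regular.commutator_commutator_le _ _ _ _ ?_ ?_
  · -- `[[X, T], Γ₁]` lies in the square of the first term
    refine le_trans (Subgroup.commutator_mono (?_ : ⁅(⊤ : Subgroup X), T⁆ ≤ Γ X 1) le_rfl) ?_
    · rw [Γ, Subgroup.lowerCentralSeries_succ]
      exact Subgroup.commutator_mono le_rfl le_top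
    rw [Subgroup.commutator_le]
    intro a ha b hb
    by_cases hn : n ≤ 3
    · have h3 : ⁅a, b⁆ ∈ (⊥ : Subgroup X) := (gamma_eq_bot h (j := 1 + 1 + 1) (by omega)).le
        (Regular.lcs_commutator_le 1 1 (Subgroup.commutator_mem_commutator ha hb))
      rw [Subgroup.mem_bot.1 h3]
      exact one_mem _
    obtain ⟨d, hd, hd'⟩ := exists_level h le_rfl (by omega)
    obtain ⟨i, hi⟩ := exists_layer_mul h le_rfl hd hd' ha
    obtain ⟨k, hk⟩ := exists_layer_mul h le_rfl hd hd' hb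
    have c1 : ∀ u ∈ Γ X 1, ∀ v ∈ Γ X 2, Commute (QuotientGroup.mk' (Γ X 4) u)
        (QuotientGroup.mk' (Γ X 4) v) := fun u hu v hv =>
      commute_mod (Regular.lcs_commutator_le 1 2 (Subgroup.commutator_mem_commutator hu hv))
    rw [← mem_mk_iff, map_commutatorElement, commutatorElement_eq_one_iff_mul_comm]
    set π := QuotientGroup.mk' (Γ X 4)
    have ea : π a = π (a * (d ^ i)⁻¹) * π d ^ i := by
      rw [← map_pow, ← map_mul, inv_mul_cancel_right]
    have eb : π b = π (b * (d ^ k)⁻¹) * π d ^ k := by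
      rw [← map_pow, ← map_mul, inv_mul_cancel_right]
    have hdi : Commute (π (a * (d ^ i)⁻¹)) (π b) := (c1 b hb _ hi).symm
    have hdk : Commute (π d) (π (b * (d ^ k)⁻¹)) := c1 d hd _ hk
    have hdb : Commute (π d) (π b) := eb ▸ hdk.mul_right ((Commute.refl _).pow_right k)
    rw [ea]
    exact (hdi.mul_left (hdb.pow_left i)).eq
  · have h1 : ⁅T, Γ X 1⁆ ≤ Γ X 3 := by
      rw [Subgroup.commutator_le]
      intro a ha g hg
      rw [← commutatorElement_inv]
      exact inv_mem (ha g hg)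
    exact (Subgroup.commutator_mono h1 le_top).trans
      ((⊤ : Subgroup X).lowerCentralSeries_succ 3).ge

/-- Elements centralizing the first layer centralize all layers. -/
theorem commutator_isOne (h : Setting X 3 n x) {s : X} (hs : IsOne X s) :
    ∀ j, 1 ≤ j → ∀ g ∈ Γ X j, ⁅g, s⁆ ∈ Γ X (j + 2) := by
  intro j
  induction j using Nat.strong_induction_on with
  | _ j ih => ?_
  intro hj g hg
  rcases Nat.lt_or_ge j 3 with hj3 | hj3
  · interval_cases j
    · exact hs g hg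
    · exact one_mem_gamma_two h hs g hg
  obtain ⟨i, rfl⟩ : ∃ i, j = i + 2 := ⟨j - 2, by omega⟩
  by_cases hbig : n - 1 ≤ i + 3
  · exact gamma_anti (X := X) (le_refl _) ((gamma_eq_bot h hbig).le (gamma_commutator hg) |>
      fun e => by rw [Subgroup.mem_bot] at e; rw [e]; exact one_mem _)
  obtain ⟨u, hu, hu'⟩ := exists_level h (show 1 ≤ i by omega) (by omega)
  have hu3 : u ^ 3 ∈ Γ X (i + 2) := pow_mem_gamma h (by omega) hu
  have hu3' : u ^ 3 ∉ Γ X (i + 2 + 1) := pow_notMem_gamma h (by omega) hu hu' (by omega)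
  obtain ⟨k, hk⟩ := exists_layer_mul h (by omega) hu3 hu3' hg
  have hsu : ⁅u, s⁆ ∈ Γ X (i + 2) := ih i (by omega) (by omega) u hu
  set π := QuotientGroup.mk' (Γ X (i + 2 + 2))
  have hc3 : π ⁅u, s⁆ ^ 3 = 1 := by
    rw [← map_pow, mem_mk_iff]
    exact pow_mem_gamma h (by omega) hsu
  have hcu : Commute (π ⁅u, s⁆⁻¹) (π u) := by
    refine commute_mod (gamma_anti (by omega : i + 2 + 2 ≤ i + 2 + i + 1) ?_)
    exact Regular.lcs_commutator_le (i + 2) i (Subgroup.commutator_mem_commutator (inv_mem hsu) hu)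
  have hc : Commute (π s) (π (u ^ 3)) := by
    have e : π s * π u * (π s)⁻¹ = π ⁅u, s⁆⁻¹ * π u := by
      rw [← map_inv, ← map_mul, ← map_mul, ← map_mul]
      exact congrArg π (by simp only [commutatorElement_def]; group)
    have e2 : π s * π u ^ 3 * (π s)⁻¹ = π u ^ 3 := by
      rw [← conj_pow, e, hcu.mul_pow, map_inv, inv_pow, hc3, inv_one, one_mul]
    rw [map_pow]
    exact mul_inv_eq_iff_eq_mul.1 e2
  have hg' : Commute (π (g * ((u ^ 3) ^ k)⁻¹)) (π s) := by
    refine commute_mod ?_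
    exact gamma_commutator (i := i + 2 + 1) hk
  have : Commute (π g) (π s) := by
    have eg : π g = π (g * ((u ^ 3) ^ k)⁻¹) * π (u ^ 3) ^ k := by
      rw [← map_pow, ← map_mul, inv_mul_cancel_right]
    rw [eg]
    exact hg'.mul_left (hc.symm.pow_left k)
  rw [← mem_mk_iff, map_commutatorElement]
  exact commutatorElement_eq_one_iff_mul_comm.2 this.eq

/-! ### The maximal subgroup centralizing the first layer -/

/-- The layers, starting with the maximal subgroup `S₁`. -/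
def IsLayer (X : Type*) [Group X] (j : ℕ) (g : X) : Prop :=
  if j = 0 then IsOne X g else g ∈ Γ X j

theorem isOne_of_gamma_one {g : X} (hg : g ∈ Γ X 1) : IsOne X g := fun v hv =>
  Regular.lcs_commutator_le 1 1 (Subgroup.commutator_mem_commutator hv hg)

theorem isOne_mul {a b : X} (ha : IsOne X a) (hb : IsOne X b) : IsOne X (a * b) := fun g hg => by
  rw [show ⁅g, a * b⁆ = ⁅g, a⁆ * (a * ⁅g, b⁆ * a⁻¹) by simp only [commutatorElement_def]; group]
  exact mul_mem (ha g hg) (conj_gamma (hb g hg) a)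

theorem isOne_inv {a : X} (ha : IsOne X a) : IsOne X a⁻¹ := fun g hg => by
  rw [show ⁅g, a⁻¹⁆ = a⁻¹ * ⁅g, a⁆⁻¹ * a by simp only [commutatorElement_def]; group]
  simpa using conj_gamma (inv_mem (ha g hg)) a⁻¹

/-- The subgroup `S₁`. -/
def one (X : Type*) [Group X] [Finite X] : Subgroup X where
  carrier := {s | IsOne X s}
  one_mem' := fun g _ => by simp
  mul_mem' := fun ha hb => isOne_mul ha hb
  inv_mem' := fun ha => isOne_inv ha

/-- All layers. -/
def Λ (X : Type*) [Group X] [Finite X] (j : ℕ) : Subgroup X := if j = 0 then one X else Γ X j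

theorem Λ_zero : Λ X 0 = one X := if_pos rfl

theorem Λ_pos {j : ℕ} (hj : 1 ≤ j) : Λ X j = Γ X j := if_neg (by omega)

theorem gamma_le_one : Γ X 1 ≤ one X := fun _ hg => isOne_of_gamma_one hg

theorem Λ_anti {i j : ℕ} (h : i ≤ j) : Λ X j ≤ Λ X i := by
  rcases Nat.eq_zero_or_pos i with rfl | hi
  · rcases Nat.eq_zero_or_pos j with rfl | hj
    · exact le_rfl
    · rw [Λ_pos hj, Λ_zero]
      exact (gamma_anti hj).trans gamma_le_one
  · rw [Λ_pos hi, Λ_pos (by omega : 1 ≤ j)]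
    exact gamma_anti h

theorem notMem_one (h : Setting X 3 n x) (h4 : 4 ≤ n) : x ∉ one X := by
  intro hx
  obtain ⟨d, hd, hd'⟩ := exists_level h le_rfl (by omega)
  exact commutator_notMem h le_rfl (by omega) hd hd' (hx d hd)

theorem exists_mul_pow (h : Setting X 3 n x) (h4 : 4 ≤ n) (s : X) :
    ∃ i < 3, s * (x ^ i)⁻¹ ∈ one X := by
  obtain ⟨d, hd, hd'⟩ := exists_level h le_rfl (by omega)
  have hdx := gamma_commutator (k := x) hd
  obtain ⟨i, hi⟩ := exists_layer_mul h (j := 2) (by norm_num) hdx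
    (commutator_notMem h le_rfl (by omega) hd hd') (gamma_commutator (k := s) hd)
  refine ⟨i % 3, Nat.mod_lt _ (by norm_num), ?_⟩
  rw [← pow_eq_pow_mod i h.pow]
  set π := QuotientGroup.mk' (Γ X 3)
  -- commutation with `d` is a homomorphism into a central layer
  let δ : X →* X ⧸ Γ X 3 := MonoidHom.mk' (fun g => π ⁅d, g⁆) fun a b => by
    rw [show ⁅d, a * b⁆ = ⁅d, a⁆ * (a * ⁅d, b⁆ * a⁻¹) by simp only [commutatorElement_def]; group,
      map_mul, map_mul, map_mul]
    rw [central_mod (k := 2) (gamma_commutator hd) (π a), map_inv, mul_inv_cancel_right]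
  have hδ : δ (s * (x ^ i)⁻¹) = 1 := by
    rw [map_mul, map_inv, map_pow]
    show π ⁅d, s⁆ * (π ⁅d, x⁆ ^ i)⁻¹ = 1
    rw [← map_pow, ← map_inv, ← map_mul, mem_mk_iff]
    exact hi
  intro g hg
  obtain ⟨k, hk⟩ := exists_layer_mul h le_rfl hd hd' hg
  have h1 : Commute (π d) (π (s * (x ^ i)⁻¹)) := commute_mod (mem_mk_iff.1 hδ)
  have h2 : Commute (π (g * (d ^ k)⁻¹)) (π (s * (x ^ i)⁻¹)) := commute_mod (gamma_commutator hk)
  have h3 : Commute (π g) (π (s * (x ^ i)⁻¹)) := by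
    have eg : π g = π (g * (d ^ k)⁻¹) * π d ^ k := by
      rw [← map_pow, ← map_mul, inv_mul_cancel_right]
    rw [eg]
    exact h2.mul_left (h1.pow_left k)
  rw [← mem_mk_iff, map_commutatorElement]
  exact commutatorElement_eq_one_iff_mul_comm.2 h3.eq

theorem card_Λ (h : Setting X 3 n x) (h4 : 4 ≤ n) {j : ℕ} (hj : j + 1 ≤ n) :
    Nat.card (Λ X j) = 3 ^ (n - 1 - j) := by
  rcases Nat.eq_zero_or_pos j with rfl | hj0
  swap
  · rw [Λ_pos hj0]; exact card_gamma h hj0 hj
  rw [Λ_zero]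
  obtain ⟨a, ha⟩ := IsPGroup.iff_card.1 ((IsPGroup.of_card h.card).to_subgroup (one X))
  have hlt : Nat.card (one X) < Nat.card X := lt_of_le_of_ne (Subgroup.card_le_card_group _)
    fun e => notMem_one h h4 ((Subgroup.eq_top_of_card_eq _ e) ▸ Subgroup.mem_top x)
  choose c hc1 hc2 using exists_mul_pow h h4
  have hle : Nat.card X ≤ Nat.card (one X) * 3 := by
    have h3 : Nat.card (one X × Fin 3) = Nat.card (one X) * 3 := by
      rw [Nat.card_prod, Nat.card_fin]
    rw [← h3]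
    refine Nat.card_le_card_of_injective
      (fun s => ((⟨s * (x ^ c s)⁻¹, hc2 s⟩ : one X), (⟨c s, hc1 s⟩ : Fin 3))) fun s t e => ?_
    have e1 : s * (x ^ c s)⁻¹ = t * (x ^ c t)⁻¹ := Subtype.ext_iff.1 (congrArg Prod.fst e)
    have e2 : c s = c t := Fin.ext_iff.1 (congrArg Prod.snd e)
    rw [e2] at e1
    exact mul_right_cancel e1
  rw [ha, h.card] at hlt hle
  rw [← pow_succ] at hle
  have e1 := (Nat.pow_lt_pow_iff_right (by norm_num : 1 < 3)).1 hlt
  have e2 := (Nat.pow_le_pow_iff_right (by norm_num : 1 < 3)).1 hle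
  rw [ha]
  congr 1
  omega

theorem exists_Λ_mul (h : Setting X 3 n x) (h4 : 4 ≤ n) {j : ℕ} {d : X} (hd : d ∈ Λ X j)
    (hd' : d ∉ Λ X (j + 1)) {g : X} (hg : g ∈ Λ X j) :
    ∃ i : ℕ, g * (d ^ i)⁻¹ ∈ Λ X (j + 1) := by
  rcases Nat.eq_zero_or_pos j with rfl | hj
  swap
  · rw [Λ_pos hj] at hd hg
    rw [Λ_pos (by omega : 1 ≤ j + 1)] at hd' ⊢
    exact exists_layer_mul h hj hd hd' hg
  rw [Λ_pos (le_refl (0 + 1))] at hd' ⊢
  rw [Λ_zero] at hd hg
  haveI : (Γ X 1).Normal := inferInstance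
  set π := QuotientGroup.mk' (Γ X 1)
  have himg : Nat.card ((one X).map π) = 3 := by
    have h1 : (π.ker).relIndex (one X) = Nat.card ((one X).map π) := Subgroup.relIndex_ker _ π
    rw [QuotientGroup.ker_mk'] at h1
    have h2 := Subgroup.relIndex_mul_relIndex ⊥ (Γ X 1) (one X) bot_le gamma_le_one
    rw [Subgroup.relIndex_bot_left, Subgroup.relIndex_bot_left, h1, card_gamma h le_rfl (by omega),
      ← Λ_zero, card_Λ h h4 (by omega), Λ_zero, show n - 1 - 0 = n - 1 - 1 + 1 by omega, pow_succ] at h2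
    exact Nat.eq_of_mul_eq_mul_left (pow_pos (by norm_num) _) h2
  haveI : Fact (Nat.card ((one X).map π)).Prime := ⟨himg ▸ Nat.prime_three⟩
  have hcyc : Subgroup.zpowers (⟨π d, d, hd, rfl⟩ : (one X).map π) = ⊤ :=
    zpowers_eq_top_of_prime_card rfl fun e => hd' (mem_mk_iff.1 (Subtype.ext_iff.1 e))
  have hmem : (⟨π g, g, hg, rfl⟩ : (one X).map π) ∈
      Submonoid.powers (⟨π d, d, hd, rfl⟩ : (one X).map π) := by
    rw [mem_powers_iff_mem_zpowers, hcyc]; trivial
  obtain ⟨i, hi⟩ := (Submonoid.mem_powers_iff _ _).1 hmem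
  have hi' : π d ^ i = π g := Subtype.ext_iff.1 hi
  exact ⟨i, mem_mk_iff.1 (by rw [map_mul, map_inv, map_pow, hi', mul_inv_cancel])⟩

theorem exists_Λ_level (h : Setting X 3 n x) (h4 : 4 ≤ n) {j : ℕ} (hjn : j + 1 ≤ n - 1) :
    ∃ d, d ∈ Λ X j ∧ d ∉ Λ X (j + 1) := by
  by_contra hcon
  push Not at hcon
  have h1 := Subgroup.card_le_of_le (show Λ X j ≤ Λ X (j + 1) from hcon)
  rw [card_Λ h h4 (by omega), card_Λ h h4 (by omega)] at h1
  have := (Nat.pow_le_pow_iff_right (by norm_num : 1 < 3)).1 h1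
  omega

/-- Commutation with `S₁` moves two steps down. -/
theorem Λ_commutator_one (h : Setting X 3 n x) (h4 : 4 ≤ n) {j : ℕ} {g s : X} (hg : g ∈ Λ X j)
    (hs : s ∈ one X) : ⁅g, s⁆ ∈ Γ X (if j = 0 then 3 else j + 2) := by
  rcases Nat.eq_zero_or_pos j with rfl | hj
  swap
  · rw [if_neg (by omega)]
    rw [Λ_pos hj] at hg
    exact commutator_isOne h hs j hj g hg
  rw [if_pos rfl, ← mem_mk_iff, map_commutatorElement, commutatorElement_eq_one_iff_mul_comm]
  obtain ⟨d, hd, hd'⟩ := exists_Λ_level h h4 (j := 0) (by omega)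
  set π := QuotientGroup.mk' (Γ X 3)
  have key : ∀ u, u ∈ Λ X 0 → ∃ i : ℕ, ∃ v ∈ Γ X 1, π u = π v * π d ^ i := by
    intro u hu
    obtain ⟨i, hi⟩ := exists_Λ_mul h h4 hd hd' hu
    rw [Λ_pos (le_refl (0 + 1))] at hi
    exact ⟨i, _, hi, by rw [← map_pow, ← map_mul, inv_mul_cancel_right]⟩
  have hd1 : IsOne X d := by rw [Λ_zero] at hd; exact hd
  have c1 : ∀ v ∈ Γ X 1, Commute (π v) (π d) := fun v hv => commute_mod (hd1 v hv)
  have c2 : ∀ v ∈ Γ X 1, ∀ w ∈ Γ X 1, Commute (π v) (π w) := fun v hv w hw =>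
    commute_mod (isOne_of_gamma_one hw v hv)
  obtain ⟨i, v, hv, eg⟩ := key g hg
  obtain ⟨k, w, hw, es⟩ := key s (by rw [Λ_zero]; exact hs)
  rw [eg, es]
  have cd : Commute (π d) (π w * π d ^ k) := (c1 w hw).symm.mul_right ((Commute.refl _).pow_right k)
  exact (((c2 v hv w hw).mul_right ((c1 v hv).pow_right k)).mul_left (cd.pow_left i)).eq

theorem Λ_commutator_mem {j : ℕ} {g : X} (hg : g ∈ Λ X j) (y : X) : ⁅g, y⁆ ∈ Γ X (j + 1) := by
  rcases Nat.eq_zero_or_pos j with rfl | hj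
  · exact gamma_commutator (i := 0) (Subgroup.mem_top g)
  · rw [Λ_pos hj] at hg
    exact gamma_commutator hg

theorem commutator_x_notMem (h : Setting X 3 n x) (h4 : 4 ≤ n) {j : ℕ} (hjn : j + 2 ≤ n - 1)
    {d : X} (hd : d ∈ Λ X j) (hd' : d ∉ Λ X (j + 1)) : ⁅d, x⁆ ∉ Γ X (j + 2) := by
  rcases Nat.eq_zero_or_pos j with rfl | hj
  swap
  · rw [Λ_pos hj] at hd
    rw [Λ_pos (by omega : 1 ≤ j + 1)] at hd'
    exact commutator_notMem h hj hjn hd hd'
  intro hc
  -- then the whole group would be abelian modulo the second term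
  obtain ⟨e, he, he'⟩ := exists_level h le_rfl (show 1 + 1 ≤ n - 1 by omega)
  refine he' ((?_ : Γ X 1 ≤ Γ X 2) he)
  rw [show Γ X 1 = ⁅(⊤ : Subgroup X), (⊤ : Subgroup X)⁆ from Subgroup.lowerCentralSeries_succ _ 0,
    Subgroup.commutator_le]
  intro a _ b _
  set π := QuotientGroup.mk' (Γ X 2)
  rw [← mem_mk_iff, map_commutatorElement, commutatorElement_eq_one_iff_mul_comm]
  have key : ∀ u : X, ∃ i k : ℕ, ∃ v ∈ Γ X 1, π u = π v * π d ^ i * π x ^ k := by
    intro u
    obtain ⟨k, -, hk⟩ := exists_mul_pow h h4 u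
    obtain ⟨i, hi⟩ := exists_Λ_mul h h4 hd hd' (g := u * (x ^ k)⁻¹) (by rw [Λ_zero]; exact hk)
    rw [Λ_pos (le_refl (0 + 1))] at hi
    refine ⟨i, k, _, hi, ?_⟩
    rw [← map_pow, ← map_pow, ← map_mul, ← map_mul, inv_mul_cancel_right, inv_mul_cancel_right]
  have cv : ∀ v ∈ Γ X 1, ∀ u : X, Commute (π v) (π u) := fun v hv u =>
    commute_mod (gamma_commutator hv)
  have cdx : Commute (π d) (π x) := commute_mod hc
  obtain ⟨i, k, v, hv, ea⟩ := key a
  obtain ⟨i', k', w, hw, eb⟩ := key b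
  have ed : Commute (π d) (π b) := by
    rw [eb]
    exact ((cv w hw d).symm.mul_right ((Commute.refl _).pow_right i')).mul_right (cdx.pow_right k')
  have ex : Commute (π x) (π b) := by
    rw [eb]
    exact ((cv w hw x).symm.mul_right (cdx.symm.pow_right i')).mul_right ((Commute.refl _).pow_right k')
  rw [ea]
  exact (((cv v hv b).mul_left (ed.pow_left i)).mul_left (ex.pow_left k)).eq

/-- Elements outside `S₁` move each layer exactly one step down. -/
theorem commutator_notMem_of_notMem (h : Setting X 3 n x) (h4 : 4 ≤ n) {y : X} (hy : y ∉ one X)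
    {j : ℕ} (hjn : j + 2 ≤ n - 1) {d : X} (hd : d ∈ Λ X j) (hd' : d ∉ Λ X (j + 1)) :
    ⁅d, y⁆ ∉ Γ X (j + 2) := by
  intro hc
  obtain ⟨i, hi3, hi⟩ := exists_mul_pow h h4 y
  set π := QuotientGroup.mk' (Γ X (j + 2))
  have hs : Commute (π d) (π (y * (x ^ i)⁻¹)) := by
    refine commute_mod (gamma_anti ?_ (Λ_commutator_one h h4 hd hi))
    split_ifs <;> omega
  have hxi : Commute (π d) (π x ^ i) := by
    have h1 : Commute (π d) (π y) := commute_mod hc
    have h2 := hs.inv_right.mul_right h1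
    rwa [← map_inv, ← map_mul, show (y * (x ^ i)⁻¹)⁻¹ * y = x ^ i by group, map_pow] at h2
  have hi0 : i ≠ 0 := fun e => hy (by rw [e, pow_zero, inv_one, mul_one] at hi; exact hi)
  have hx3 : π x ^ 3 = 1 := by rw [← map_pow, h.pow, map_one]
  have hcx : Commute (π d) (π x) := by
    interval_cases i
    · exact absurd rfl hi0
    · rwa [pow_one] at hxi
    · have h3 := hxi.pow_right 2
      rwa [← pow_mul, show 2 * 2 = 3 + 1 from rfl, pow_add, hx3, one_mul, pow_one] at h3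
  refine commutator_x_notMem h h4 hjn hd hd' ?_
  rw [← mem_mk_iff, map_commutatorElement]
  exact commutatorElement_eq_one_iff_mul_comm.2 hcx.eq

/-! ### Powers in the first maximal subgroup -/

/-- Cubes of `S₁ \ Γ₁` lie in `Γ₂ \ Γ₃`. -/
def CubeZero (X : Type*) [Group X] [Finite X] : Prop :=
  ∀ d ∈ Λ X 0, d ∉ Λ X 1 → d ^ 3 ∈ Γ X 2 ∧ d ^ 3 ∉ Γ X 3

theorem cube_mem_gamma_two (h : Setting X 3 n x) (h4 : 4 ≤ n) {d : X} (hd : d ∈ Λ X 0)
    (hd' : d ∉ Λ X 1) : d ^ 3 ∈ Γ X 2 := by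
  obtain ⟨e, he⟩ : ∃ e, e = ⁅d⁻¹, x⁆ := ⟨_, rfl⟩
  have hd3 : d ^ 3 ∈ Γ X 1 := by
    obtain ⟨i, hi⟩ := exists_Λ_mul h h4 hd hd' (g := d ^ 3) (by exact pow_mem hd 3)
    -- the layer has order three
    set π := QuotientGroup.mk' (Γ X 1)
    have hcard : Nat.card ((one X).map π) = 3 := by
      have h1 : (π.ker).relIndex (one X) = Nat.card ((one X).map π) := Subgroup.relIndex_ker _ π
      rw [QuotientGroup.ker_mk'] at h1
      have h2 := Subgroup.relIndex_mul_relIndex ⊥ (Γ X 1) (one X) bot_le gamma_le_one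
      rw [Subgroup.relIndex_bot_left, Subgroup.relIndex_bot_left, h1, card_gamma h le_rfl (by omega),
        ← Λ_zero, card_Λ h h4 (by omega), Λ_zero, show n - 1 - 0 = n - 1 - 1 + 1 by omega, pow_succ] at h2
      exact Nat.eq_of_mul_eq_mul_left (pow_pos (by norm_num) _) h2
    have hd0 : d ∈ one X := by rw [Λ_zero] at hd; exact hd
    have h3 : (⟨π d, d, hd0, rfl⟩ : (one X).map π) ^ 3 = 1 := by
      rw [← hcard]; exact pow_card_eq_one'
    rw [← mem_mk_iff, map_pow]
    exact Subtype.ext_iff.1 h3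
  have hd0 : IsOne X d := by rw [Λ_zero] at hd; exact hd
  have he1 : e ∈ Γ X 1 := he ▸ gamma_commutator (i := 0) (Subgroup.mem_top _)
  have hconj : x * d * x⁻¹ = d * e := by rw [he, commutatorElement_def]; group
  by_contra hcon
  refine commutator_notMem h le_rfl (by omega) hd3 hcon ?_
  set π := QuotientGroup.mk' (Γ X 3)
  have hde : Commute (π e) (π d) := commute_mod (hd0 e he1)
  have hcube : (π d * π e) ^ 3 = π d ^ 3 := by
    rw [hde.symm.mul_pow, ← map_pow π e, mem_mk_iff.2 (pow_mem_gamma h le_rfl he1), mul_one]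
  have h2 : π x * π (d ^ 3) * (π x)⁻¹ = π (d ^ 3) := by
    rw [map_pow, ← conj_pow, ← map_inv, ← map_mul, ← map_mul, hconj, map_mul, hcube]
  rw [← mem_mk_iff, map_commutatorElement, commutatorElement_eq_one_iff_mul_comm]
  exact (mul_inv_eq_iff_eq_mul.1 h2).symm

theorem cubeZero_of_five (h : Setting X 3 n x) (h5 : 5 ≤ n) : CubeZero X := by
  intro d hd hd'
  refine ⟨cube_mem_gamma_two h (by omega) hd hd', fun hcon => ?_⟩
  obtain ⟨e, he⟩ : ∃ e, e = ⁅d⁻¹, x⁆ := ⟨_, rfl⟩
  have he1 : e ∈ Γ X 1 := he ▸ gamma_commutator (i := 0) (Subgroup.mem_top _)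
  have hd0 : IsOne X d := by rw [Λ_zero] at hd; exact hd
  -- `e` does not lie in the second term
  have hdi : d⁻¹ ∉ Λ X 1 := fun hh => hd' (by simpa using inv_mem hh)
  have hdi0 : d⁻¹ ∈ Λ X 0 := inv_mem hd
  have he2 : e ∉ Γ X 2 := he ▸ commutator_x_notMem h (by omega) (j := 0) (by omega) hdi0 hdi
  have hconj : x * d * x⁻¹ = d * e := by rw [he, commutatorElement_def]; group
  refine pow_notMem_gamma h le_rfl he1 he2 (by omega) ?_
  set π := QuotientGroup.mk' (Γ X (1 + 3))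
  have hc : ∀ g, g * ⁅π e, π d⁆ = ⁅π e, π d⁆ * g := by
    rw [← map_commutatorElement]
    exact central_mod (k := 3) (hd0 e he1)
  have hc3 : ⁅π e, π d⁆ ^ 3 = 1 := by
    rw [← map_commutatorElement, ← map_pow, mem_mk_iff]
    exact gamma_anti (by omega) (pow_mem_gamma h (by omega) (hd0 e he1))
  have h2 : π x * π (d ^ 3) * (π x)⁻¹ = π (d ^ 3) * π (e ^ 3) := by
    rw [map_pow, map_pow, ← conj_pow, ← map_inv, ← map_mul, ← map_mul, hconj, map_mul,
      cube_mul _ _ hc hc3]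
  rw [central_mod (k := 3) hcon (π x), mul_inv_cancel_right, left_eq_mul, mem_mk_iff] at h2
  exact h2

/-! ### Generators -/

theorem level_le (h : Setting X 3 n x) (h4 : 4 ≤ n) {j : ℕ} {g : X} (hg : g ∈ Λ X j)
    (hg' : g ∉ Λ X (j + 1)) : j + 1 ≤ n - 1 := by
  by_contra hc
  rw [Λ_pos (show 1 ≤ j by omega), gamma_eq_bot h (by omega), Subgroup.mem_bot] at hg
  exact hg' (hg ▸ one_mem _)

/-- A subgroup meeting all the levels of `H` below `S₁` contains that part of `H`. -/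
theorem descend (h : Setting X 3 n x) (h4 : 4 ≤ n) {H K : Subgroup X} (hKH : K ≤ H)
    (hlev : ∀ j g, g ∈ H → g ∈ Λ X j → g ∉ Λ X (j + 1) → ∃ k ∈ K, k ∈ Λ X j ∧ k ∉ Λ X (j + 1)) :
    H ⊓ Λ X 0 ≤ K := by
  suffices ∀ d j, n - 1 ≤ j + d → ∀ g ∈ H, g ∈ Λ X j → g ∈ K from
    fun g hg => this (n - 1) 0 (by omega) g hg.1 hg.2
  intro d
  induction d with
  | zero =>
    intro j hjn g _ hg
    rw [Λ_pos (show 1 ≤ j by omega), gamma_eq_bot h (by omega), Subgroup.mem_bot] at hg
    exact hg ▸ K.one_mem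
  | succ d ih =>
    intro j hjn g hgH hg
    by_cases hg' : g ∈ Λ X (j + 1)
    · exact ih (j + 1) (by omega) g hgH hg'
    obtain ⟨k, hk, hk1, hk2⟩ := hlev j g hgH hg hg'
    obtain ⟨i, hi⟩ := exists_Λ_mul h h4 hk1 hk2 hg
    have h1 := ih (j + 1) (by omega) _
      (H.mul_mem hgH (H.inv_mem (H.pow_mem (hKH hk) i))) hi
    have h2 := K.mul_mem h1 (K.pow_mem hk i)
    rwa [inv_mul_cancel_right] at h2

/-- With cubes moving two steps down, two elements generate any subgroup of `S₁`. -/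
theorem exists_two_of_le (h : Setting X 3 n x) (h4 : 4 ≤ n) (hc : CubeZero X) {H : Subgroup X}
    (hH : H ≤ Λ X 0) :
    ∃ T : Finset X, T.card ≤ 2 ∧ Subgroup.closure (T : Set X) = H := by
  classical
  let P : ℕ → Prop := fun j => ∃ g ∈ H, g ∈ Λ X j ∧ g ∉ Λ X (j + 1)
  let pick : Fin 2 → X := fun r =>
    if hr : ∃ j : ℕ, j % 2 = (r : ℕ) ∧ P j then Classical.choose (Nat.find_spec hr).2 else 1
  have hpick : ∀ r, pick r ∈ H := fun r => by
    simp only [pick]
    split_ifs with hr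
    · exact (Classical.choose_spec (Nat.find_spec hr).2).1
    · exact H.one_mem
  refine ⟨Finset.univ.image pick, Finset.card_image_le.trans (by simp), ?_⟩
  rw [show (↑(Finset.univ.image pick) : Set X) = Set.range pick by simp]
  set K := Subgroup.closure (Set.range pick) with hK
  have hKH : K ≤ H := (Subgroup.closure_le _).2 (by rintro _ ⟨r, rfl⟩; exact hpick r)
  refine le_antisymm hKH ((le_inf le_rfl hH).trans (descend h h4 hKH fun j g hg hg1 hg2 => ?_))
  obtain ⟨r, hrj⟩ : ∃ r : Fin 2, (r : ℕ) = j % 2 := ⟨⟨j % 2, Nat.mod_lt _ (by norm_num)⟩, rfl⟩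
  have hr : ∃ i : ℕ, i % 2 = (r : ℕ) ∧ P i := ⟨j, hrj.symm, g, hg, hg1, hg2⟩
  obtain ⟨hmod, hPi⟩ := Nat.find_spec hr
  have hmin := Nat.find_min' hr ⟨hrj.symm, g, hg, hg1, hg2⟩
  have hjn := level_le h h4 hg1 hg2
  have hup : ∀ t, Nat.find hr + 2 * t ≤ j →
      ∃ k ∈ K, k ∈ Λ X (Nat.find hr + 2 * t) ∧ k ∉ Λ X (Nat.find hr + 2 * t + 1) := by
    intro t
    induction t with
    | zero =>
      intro _
      have h1 := Classical.choose_spec (Nat.find_spec hr).2
      refine ⟨pick r, Subgroup.subset_closure ⟨r, rfl⟩, ?_⟩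
      simp only [pick, dif_pos hr, mul_zero, add_zero]
      exact h1.2
    | succ t iht =>
      intro ht
      obtain ⟨k, hk, hk1, hk2⟩ := iht (by omega)
      refine ⟨k ^ 3, K.pow_mem hk 3, ?_⟩
      rw [show Nat.find hr + 2 * (t + 1) = Nat.find hr + 2 * t + 2 by omega] at ht ⊢
      generalize Nat.find hr + 2 * t = m at *
      rcases Nat.eq_zero_or_pos m with rfl | hm
      · rw [Λ_pos (by norm_num : 1 ≤ 0 + 2), Λ_pos (by norm_num : 1 ≤ 0 + 2 + 1)]
        exact hc k hk1 hk2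
      · rw [Λ_pos hm] at hk1
        rw [Λ_pos (by omega : 1 ≤ m + 1)] at hk2
        rw [Λ_pos (by omega : 1 ≤ m + 2), Λ_pos (by omega : 1 ≤ m + 2 + 1)]
        exact ⟨pow_mem_gamma h hm hk1, pow_notMem_gamma h hm hk1 hk2 (by omega)⟩
  have hj2 : Nat.find hr + 2 * ((j - Nat.find hr) / 2) = j := by omega
  have := hup ((j - Nat.find hr) / 2) (by omega)
  rwa [hj2] at this

/-- A subgroup not inside `S₁` is generated by two elements. -/
theorem exists_two_of_notLe (h : Setting X 3 n x) (h4 : 4 ≤ n) {H : Subgroup X}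
    (hH : ¬ H ≤ Λ X 0) :
    ∃ T : Finset X, T.card ≤ 2 ∧ Subgroup.closure (T : Set X) = H := by
  classical
  obtain ⟨y, hy, hy1⟩ := SetLike.not_le_iff_exists.1 hH
  rw [Λ_zero] at hy1
  have hcov : ∀ g ∈ H, ∃ k : ℕ, g * (y ^ k)⁻¹ ∈ Λ X 0 := by
    intro g _
    obtain ⟨a, ha3, ha⟩ := exists_mul_pow h h4 g
    obtain ⟨b, hb3, hb⟩ := exists_mul_pow h h4 y
    haveI : (one X).Normal := by
      refine ⟨fun s hs u => ?_⟩
      have := (one X).mul_mem (gamma_le_one (gamma_commutator (i := 0) (Subgroup.mem_top u) (k := s))) hs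
      rwa [show ⁅u, s⁆ * s = u * s * u⁻¹ by simp only [commutatorElement_def]; group] at this
    set π := QuotientGroup.mk' (one X)
    have hx3 : π x ^ 3 = 1 := by rw [← map_pow, h.pow, map_one]
    have ega : π g = π x ^ a := by
      have h1 := mem_mk_iff.2 ha
      rwa [map_mul, map_inv, map_pow, mul_inv_eq_one] at h1
    have eyb : π y = π x ^ b := by
      have h1 := mem_mk_iff.2 hb
      rwa [map_mul, map_inv, map_pow, mul_inv_eq_one] at h1
    have hb0 : b ≠ 0 := fun e => hy1 (mem_mk_iff.1 (by rw [eyb, e, pow_zero]))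
    refine ⟨a * b, ?_⟩
    rw [Λ_zero, ← mem_mk_iff, map_mul, map_inv, map_pow, eyb, ega, mul_inv_eq_one, ← pow_mul,
      pow_eq_pow_mod (b * (a * b)) hx3, pow_eq_pow_mod a hx3]
    congr 1
    interval_cases b
    · exact absurd rfl hb0
    · omega
    · omega
  have hgen : ∀ K : Subgroup X, y ∈ K → K ≤ H → H ⊓ Λ X 0 ≤ K → K = H := by
    intro K hyK hKH hle
    refine le_antisymm hKH fun g hg => ?_
    obtain ⟨k, hk⟩ := hcov g hg
    have := K.mul_mem (hle (Subgroup.mem_inf.2 ⟨H.mul_mem hg (H.inv_mem (H.pow_mem hy k)), hk⟩))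
      (K.pow_mem hyK k)
    rwa [inv_mul_cancel_right] at this
  by_cases hex : ∃ j, ∃ g ∈ H, g ∈ Λ X j ∧ g ∉ Λ X (j + 1)
  · obtain ⟨u, hu, hu1, hu2⟩ := Nat.find_spec hex
    refine ⟨{y, u}, (Finset.card_insert_le _ _).trans (by simp), ?_⟩
    rw [Finset.coe_insert, Finset.coe_singleton]
    set K := Subgroup.closure ({y, u} : Set X) with hK
    have hKH : K ≤ H := Regular.pair_le hy hu
    have hyK : y ∈ K := Subgroup.subset_closure (by simp)
    refine hgen K hyK hKH (descend h h4 hKH fun j g hg hg1 hg2 => ?_)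
    have hmin := Nat.find_min' hex ⟨g, hg, hg1, hg2⟩
    have hjn := level_le h h4 hg1 hg2
    have hall : ∀ t, Nat.find hex + t ≤ j →
        ∃ k ∈ K, k ∈ Λ X (Nat.find hex + t) ∧ k ∉ Λ X (Nat.find hex + t + 1) := by
      intro t
      induction t with
      | zero => exact fun _ => ⟨u, Subgroup.subset_closure (by simp), hu1, hu2⟩
      | succ t iht =>
        intro ht
        obtain ⟨k, hk, hk1, hk2⟩ := iht (by omega)
        refine ⟨⁅k, y⁆, ?_, ?_, ?_⟩
        · rw [commutatorElement_def]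
          exact K.mul_mem (K.mul_mem (K.mul_mem hk hyK) (K.inv_mem hk)) (K.inv_mem hyK)
        · rw [Λ_pos (by omega : 1 ≤ Nat.find hex + (t + 1))]
          exact Λ_commutator_mem hk1 y
        · rw [Λ_pos (by omega : 1 ≤ Nat.find hex + (t + 1) + 1)]
          exact commutator_notMem_of_notMem h h4 hy1 (j := Nat.find hex + t) (by omega) hk1 hk2
    have := hall (j - Nat.find hex) (by omega)
    rwa [show Nat.find hex + (j - Nat.find hex) = j by omega] at this
  · refine ⟨{y}, by simp, ?_⟩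
    rw [Finset.coe_singleton]
    have hKH : Subgroup.closure ({y} : Set X) ≤ H := (Subgroup.closure_le _).2 (by simpa using hy)
    exact hgen _ (Subgroup.subset_closure (by simp)) hKH
      (descend h h4 hKH fun j g hg hg1 hg2 => absurd ⟨j, g, hg, hg1, hg2⟩ hex)

theorem exists_two (h : Setting X 3 n x) (h4 : 4 ≤ n) (hc : CubeZero X) (H : Subgroup X) :
    ∃ T : Finset X, T.card ≤ 2 ∧ Subgroup.closure (T : Set X) = H := by
  by_cases hH : H ≤ Λ X 0
  · exact exists_two_of_le h h4 hc hH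
  · exact exists_two_of_notLe h h4 hH

/-! ### Order `81` -/

/-- In order `81`, either cubes behave or the group is the wreath product. -/
theorem cubeZero_or_wreath (h : Setting X 3 4 x) :
    CubeZero X ∨ Nonempty (CyclicWreath.W 3 ≃* X) := by
  classical
  have h4 : 4 ≤ 4 := le_rfl
  have hcomm : ∀ a ∈ Λ X 0, ∀ b ∈ Λ X 0, a * b = b * a := by
    intro a ha b hb
    rw [← commutatorElement_eq_one_iff_mul_comm]
    have h1 := Λ_commutator_one h h4 ha (by rw [← Λ_zero]; exact hb)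
    rw [if_pos rfl, gamma_eq_bot h (by norm_num), Subgroup.mem_bot] at h1
    exact h1
  have hg3 : ∀ g ∈ Γ X 1, g ^ 3 = 1 := fun g hg => by
    have h1 := pow_mem_gamma h le_rfl hg
    rwa [gamma_eq_bot h (by norm_num), Subgroup.mem_bot] at h1
  obtain ⟨d, hd, hd'⟩ := exists_Λ_level h h4 (j := 0) (by norm_num)
  by_cases hd3 : d ^ 3 = 1
  swap
  · left
    intro e he he'
    refine ⟨cube_mem_gamma_two h h4 he he', fun hcon => hd3 ?_⟩
    rw [gamma_eq_bot h (by norm_num), Subgroup.mem_bot] at hcon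
    obtain ⟨i, hi⟩ := exists_Λ_mul h h4 he he' hd
    have hcom : Commute (d * (e ^ i)⁻¹) (e ^ i) := hcomm _ (Λ_anti (Nat.zero_le _) hi) _ (pow_mem he i)
    rw [Λ_pos (le_refl (0 + 1))] at hi
    calc d ^ 3 = (d * (e ^ i)⁻¹ * e ^ i) ^ 3 := by rw [inv_mul_cancel_right]
      _ = 1 := by rw [hcom.mul_pow, hg3 _ hi, ← pow_mul, mul_comm i 3, pow_mul, hcon, one_pow, one_mul]
  right
  haveI hn1 : (one X).Normal := by
    refine ⟨fun s hs u => ?_⟩
    have := (one X).mul_mem (gamma_le_one (gamma_commutator (i := 0) (Subgroup.mem_top u) (k := s))) hs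
    rwa [show ⁅u, s⁆ * s = u * s * u⁻¹ by simp only [commutatorElement_def]; group] at this
  have hdone : d ∈ one X := by rw [← Λ_zero]; exact hd
  obtain ⟨d₁, hd₁⟩ : ∃ a, a = x * d * x⁻¹ := ⟨_, rfl⟩
  obtain ⟨d₂, hd₂⟩ : ∃ a, a = x * d₁ * x⁻¹ := ⟨_, rfl⟩
  have h1m : d₁ ∈ one X := hd₁ ▸ hn1.conj_mem d hdone x
  have h2m : d₂ ∈ one X := hd₂ ▸ hn1.conj_mem d₁ h1m x
  have hd13 : d₁ ^ 3 = 1 := by rw [hd₁, conj_pow, hd3, mul_one, mul_inv_cancel]
  have hd23 : d₂ ^ 3 = 1 := by rw [hd₂, conj_pow, hd13, mul_one, mul_inv_cancel]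
  have h30 : x * d₂ * x⁻¹ = d := by
    rw [hd₂, hd₁, show x * (x * (x * d * x⁻¹) * x⁻¹) * x⁻¹ = (x * (x * x)) * d * (x * (x * x))⁻¹ by group,
      ← pow_three, h.pow,
      one_mul, inv_one, mul_one]
  -- the homomorphism from the wreath product
  let t : ZMod 3 → X := fun i => if i = 0 then d else if i = 1 then d₁ else d₂
  have ht3 : ∀ i, t i ^ 3 = 1 := by
    intro i; simp only [t]; split_ifs <;> assumption
  have htm : ∀ i, t i ∈ one X := by
    intro i; simp only [t]; split_ifs <;> assumption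
  have htc : ∀ i j, Commute (t i) (t j) := fun i j =>
    hcomm _ (by rw [Λ_zero]; exact htm i) _ (by rw [Λ_zero]; exact htm j)
  have hts : ∀ i, x * t i * x⁻¹ = t (i + 1) := by
    intro i
    fin_cases i <;> first | exact hd₁.symm | exact hd₂.symm | exact h30
  let e : X → ZMod 3 → X := fun a i => a ^ (i.val)
  have he_add : ∀ a : X, a ^ 3 = 1 → ∀ i j : ZMod 3, a ^ (i + j).val = a ^ i.val * a ^ j.val := by
    intro a ha i j
    rw [← pow_add, ZMod.val_add, ← pow_eq_pow_mod _ ha]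
  obtain ⟨N, hNdef⟩ : ∃ N : (Multiplicative (ZMod 3) → Multiplicative (ZMod 3)) → X, ∀ f, N f =
    t 0 ^ (Multiplicative.toAdd (f (Multiplicative.ofAdd 0))).val *
    t 1 ^ (Multiplicative.toAdd (f (Multiplicative.ofAdd 1))).val *
    t 2 ^ (Multiplicative.toAdd (f (Multiplicative.ofAdd 2))).val := ⟨_, fun f => rfl⟩
  have hN_mul : ∀ f g, N (f * g) = N f * N g := by
    intro f g
    simp only [hNdef, Pi.mul_apply, toAdd_mul]
    rw [he_add _ (ht3 0), he_add _ (ht3 1), he_add _ (ht3 2)]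
    generalize (Multiplicative.toAdd (f (Multiplicative.ofAdd 0))).val = a0
    generalize (Multiplicative.toAdd (f (Multiplicative.ofAdd 1))).val = a1
    generalize (Multiplicative.toAdd (f (Multiplicative.ofAdd 2))).val = a2
    generalize (Multiplicative.toAdd (g (Multiplicative.ofAdd 0))).val = b0
    generalize (Multiplicative.toAdd (g (Multiplicative.ofAdd 1))).val = b1
    generalize (Multiplicative.toAdd (g (Multiplicative.ofAdd 2))).val = b2
    have c1 : Commute (t 0 ^ b0) (t 1 ^ a1) := (htc 0 1).pow_pow _ _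
    have c2 : Commute (t 0 ^ b0) (t 2 ^ a2) := (htc 0 2).pow_pow _ _
    have c3 : Commute (t 1 ^ b1) (t 2 ^ a2) := (htc 1 2).pow_pow _ _
    calc t 0 ^ a0 * t 0 ^ b0 * (t 1 ^ a1 * t 1 ^ b1) * (t 2 ^ a2 * t 2 ^ b2)
        = t 0 ^ a0 * ((t 0 ^ b0 * t 1 ^ a1) * (t 1 ^ b1 * t 2 ^ a2)) * t 2 ^ b2 := by
          simp only [mul_assoc]
      _ = t 0 ^ a0 * t 1 ^ a1 * (t 0 ^ b0 * t 2 ^ a2) * t 1 ^ b1 * t 2 ^ b2 := by
          rw [c1.eq, c3.eq]; simp only [mul_assoc]
      _ = t 0 ^ a0 * t 1 ^ a1 * t 2 ^ a2 * (t 0 ^ b0 * t 1 ^ b1 * t 2 ^ b2) := by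
          rw [c2.eq]; simp only [mul_assoc]
  have hN_shift : ∀ f, x * N f * x⁻¹ = N (fun y => f ((Multiplicative.ofAdd (1 : ZMod 3))⁻¹ * y)) := by
    intro f
    simp only [hNdef]
    rw [show ∀ a b c : X, x * (a * b * c) * x⁻¹ = (x * a * x⁻¹) * (x * b * x⁻¹) * (x * c * x⁻¹) from
      fun a b c => by group, ← conj_pow, ← conj_pow, ← conj_pow, hts, hts, hts]
    simp only [← ofAdd_neg, ← ofAdd_add, zero_add, show (1 : ZMod 3) + 1 = 2 by decide,
      show (2 : ZMod 3) + 1 = 0 by decide, show (-1 : ZMod 3) + 0 = 2 by decide,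
      show (-1 : ZMod 3) + 1 = 0 by decide, show (-1 : ZMod 3) + 2 = 1 by decide]
    generalize (Multiplicative.toAdd (f (Multiplicative.ofAdd 0))).val = a0
    generalize (Multiplicative.toAdd (f (Multiplicative.ofAdd 1))).val = a1
    generalize (Multiplicative.toAdd (f (Multiplicative.ofAdd 2))).val = a2
    have c1 : Commute (t 0 ^ a2) (t 1 ^ a0 * t 2 ^ a1) :=
      ((htc 0 1).pow_pow _ _).mul_right ((htc 0 2).pow_pow _ _)
    rw [← c1.eq, mul_assoc]
  have hN_pow : ∀ (k : ℕ) f, x ^ k * N f = N (fun y =>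
      f ((Multiplicative.ofAdd (k : ZMod 3))⁻¹ * y)) * x ^ k := by
    intro k
    induction k with
    | zero => intro f; simp
    | succ k ih =>
      intro f
      have hN' : ∀ f, x * N f = N (fun y => f ((Multiplicative.ofAdd (1 : ZMod 3))⁻¹ * y)) * x :=
        fun f => mul_inv_eq_iff_eq_mul.1 (hN_shift f)
      rw [pow_succ', mul_assoc, ih, ← mul_assoc, hN', mul_assoc]
      congr 2
      funext y
      simp only [Nat.cast_succ, ofAdd_add, mul_inv_rev, mul_assoc, mul_left_comm, mul_comm]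
  let φ : CyclicWreath.W 3 →* X := MonoidHom.mk'
    (fun w => N w.left * x ^ (Multiplicative.toAdd w.right).val) fun a b => by
      simp only [RegularWreathProduct.mul_left, RegularWreathProduct.mul_right, toAdd_mul]
      rw [hN_mul, he_add x h.pow, mul_assoc (N a.left), mul_assoc (N a.left), ← mul_assoc (x ^ _) (N b.left),
        hN_pow, ZMod.natCast_zmod_val, ofAdd_toAdd, mul_assoc]
  have hsurj : Function.Surjective φ := by
    rw [← MonoidHom.range_eq_top]
    have hN1 : N 1 = 1 := by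
      have := hN_mul 1 1
      rwa [mul_one, left_eq_mul] at this
    have hxr : x ∈ φ.range := ⟨⟨1, Multiplicative.ofAdd 1⟩, by
      show N 1 * x ^ (Multiplicative.toAdd (Multiplicative.ofAdd (1 : ZMod 3))).val = x
      rw [hN1, one_mul, toAdd_ofAdd, ZMod.val_one, pow_one]⟩
    have hdr : d ∈ φ.range := ⟨⟨fun y => if y = Multiplicative.ofAdd 0 then Multiplicative.ofAdd 1 else 1, 1⟩, by
      show N _ * x ^ (Multiplicative.toAdd (1 : Multiplicative (ZMod 3))).val = d
      simp [hNdef, t, ZMod.val_one, show (1 : ZMod 3) ≠ 0 by decide, show (2 : ZMod 3) ≠ 0 by decide]⟩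
    -- `x` and `d` generate
    refine eq_top_iff.2 fun g _ => ?_
    have hgam : Γ X 1 ≤ φ.range := by
      have hle : ∀ k, ∀ j, 3 ≤ j + k → 1 ≤ j → Γ X j ≤ φ.range := by
        intro k
        induction k with
        | zero =>
          intro j hj _
          rw [gamma_eq_bot h (by omega)]
          exact bot_le
        | succ k ih =>
          intro j hj hj1 u hu
          by_cases hu' : u ∈ Γ X (j + 1)
          · exact ih (j + 1) (by omega) (by omega) hu'
          have hjn := level_le h h4 (j := j) (g := u) (by rw [Λ_pos hj1]; exact hu)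
            (by rw [Λ_pos (by omega : 1 ≤ j + 1)]; exact hu')
          -- an element of this layer in the range
          obtain ⟨c, hc, hc1, hc2⟩ : ∃ c ∈ φ.range, c ∈ Γ X j ∧ c ∉ Γ X (j + 1) := by
            have hb : ⁅d, x⁆ ∈ φ.range := by
              rw [commutatorElement_def]
              exact mul_mem (mul_mem (mul_mem hdr hxr) (inv_mem hdr)) (inv_mem hxr)
            have hb1 : ⁅d, x⁆ ∈ Γ X 1 ∧ ⁅d, x⁆ ∉ Γ X 2 :=
              ⟨gamma_commutator (i := 0) (Subgroup.mem_top _),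
                commutator_x_notMem h h4 (j := 0) (by norm_num) hd hd'⟩
            have hj2 : j ≤ 2 := by omega
            interval_cases j
            · exact ⟨_, hb, hb1⟩
            · refine ⟨⁅⁅d, x⁆, x⁆, ?_, gamma_commutator hb1.1,
                commutator_notMem h le_rfl (by norm_num) hb1.1 hb1.2⟩
              rw [commutatorElement_def ⁅d, x⁆ x]
              exact mul_mem (mul_mem (mul_mem hb hxr) (inv_mem hb)) (inv_mem hxr)
          obtain ⟨i, hi⟩ := exists_layer_mul h hj1 hc1 hc2 hu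
          have := mul_mem (ih (j + 1) (by omega) (by omega) hi) (pow_mem hc i)
          rwa [inv_mul_cancel_right] at this
      exact hle 2 1 le_rfl le_rfl
    obtain ⟨i, -, hi⟩ := exists_mul_pow h h4 g
    obtain ⟨k, hk⟩ := exists_Λ_mul h h4 hd hd' (g := g * (x ^ i)⁻¹) (by rw [Λ_zero]; exact hi)
    rw [Λ_pos (le_refl (0 + 1))] at hk
    have := mul_mem (mul_mem (hgam hk) (pow_mem hdr k)) (pow_mem hxr i)
    rwa [inv_mul_cancel_right, inv_mul_cancel_right] at this
  have hcard : Nat.card (CyclicWreath.W 3) = Nat.card X := by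
    rw [RegularWreathProduct.card, h.card]; simp
  exact ⟨MulEquiv.ofBijective φ ⟨((Nat.bijective_iff_surjective_and_card φ).2 ⟨hsurj, hcard⟩).1, hsurj⟩⟩

end CfsgLib.UniserialThree
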