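import Cfsg.Agent.Lib.PGroup.NormalRankTwo
import Cfsg.Agent.Lib.PGroup.NormalSub
import Cfsg.Agent.Lib.Char.TwoGroupLinear
import Cfsg.Agent.Lib.PGroup.AlperinElementary
import Cfsg.Agent.Lib.Fusion.DStar
import Cfsg.Agent.Lib.Coprime.Generation

/-!
# A normal elementary abelian subgroup of order `p ^ 2` in a `p`-group of rank at least three
-/

set_option autoImplicit false
set_option linter.style.haveILetI false

namespace CfsgLib.NormalFour

variable {P : Type*} [Group P] [Finite P] {p : ℕ} [hp : Fact p.Prime]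

/-- A normal elementary abelian subgroup of order at least `p ^ 2` contains a normal one of order
exactly `p ^ 2`. -/
theorem exists_normal_sq (hP : IsPGroup p P) (A : Subgroup P) [A.Normal]
    (hA : Cfsg.IsElementaryAbelian p A) (hc : p ^ 2 ≤ Nat.card A) :
    ∃ U : Subgroup P, U.Normal ∧ Cfsg.IsElementaryAbelian p U ∧ Nat.card U = p ^ 2 := by
  haveI := hA.1
  obtain ⟨a, ha⟩ := IsPGroup.iff_card.mp (hP.to_subgroup A)
  rw [ha] at hc
  obtain ⟨M, hM, hMA, hcM⟩ := CyclicMax.exists_normal_le_card_pow hP (a - 2) (j := 2) A inferInstance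
    (by rw [ha]; congr 1; have := (Nat.pow_le_pow_iff_right hp.out.one_lt).mp hc; omega)
  exact ⟨M, hM, ⟨⟨⟨fun u v => Subtype.ext (show (u : P) * v = v * u from congrArg Subtype.val
    (mul_comm' (⟨u, hMA u.2⟩ : A) ⟨v, hMA v.2⟩))⟩⟩, fun u hu => hA.2 u (hMA hu)⟩, hcM⟩

theorem exists_normal_four {P : Type*} [Group P] [Finite P] (hP : IsPGroup 2 P) {E : Subgroup P}
    (hE : Cfsg.IsElementaryAbelian 2 E) (hE3 : 2 ^ 3 ≤ Nat.card E) :
    ∃ U : Subgroup P, U.Normal ∧ Cfsg.IsElementaryAbelian 2 U ∧ Nat.card U = 2 ^ 2 := by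
  haveI : Fact (Nat.Prime 2) := ⟨Nat.prime_two⟩
  haveI : Group.IsNilpotent (⊤ : Subgroup P) := (hP.to_subgroup _).isNilpotent
  obtain ⟨A, -, hAn', hAc, hAs⟩ := DStar.exists_self_centralizing (⊤ : Subgroup P)
  haveI hAn : A.Normal := Subgroup.normalizer_eq_top_iff.mp (top_le_iff.mp hAn')
  haveI : IsMulCommutative A := ⟨⟨fun u v => Subtype.ext (hAc u u.2 v v.2).eq⟩⟩
  by_cases hcyc : IsCyclic A
  swap
  · set W : Subgroup P :=
      { carrier := {g | g ∈ A ∧ g ^ 2 = 1}
        mul_mem' := fun {a b} ha hb => ⟨mul_mem ha.1 hb.1, by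
          rw [(hAc a ha.1 b hb.1).mul_pow, ha.2, hb.2, one_mul]⟩
        one_mem' := ⟨one_mem _, one_pow _⟩
        inv_mem' := fun {a} ha => ⟨inv_mem ha.1, by rw [inv_pow, ha.2, inv_one]⟩ } with hW
    haveI : W.Normal := ⟨fun a ha g =>
      ⟨hAn.conj_mem a ha.1 g, by rw [conj_pow, ha.2, mul_one, mul_inv_cancel]⟩⟩
    refine exists_normal_sq hP W ⟨⟨⟨fun u v => Subtype.ext (hAc u u.2.1 v v.2.1).eq⟩⟩, fun u hu => hu.2⟩ ?_
    by_contra hlt
    apply hcyc
    letI : CommGroup A := IsMulCommutative.instCommGroup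
    refine Char.TwoGroupLinear.isCyclic_of_sq (hP.to_subgroup A) ?_
    refine le_trans (Nat.card_le_card_of_injective
      (fun u : {x : A // x ^ 2 = 1} => (⟨(u.1 : P), u.1.2, congrArg Subtype.val u.2⟩ : W))
      fun u v h => Subtype.ext (Subtype.ext (congrArg (fun w : W => (w : P)) h))) ?_
    obtain ⟨k, hk⟩ := IsPGroup.iff_card.mp (hP.to_subgroup W)
    rw [hk] at hlt ⊢
    calc 2 ^ k ≤ 2 ^ 1 := Nat.pow_le_pow_right two_pos (by
          by_contra h
          exact hlt (Nat.pow_le_pow_right two_pos (by omega)))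
      _ = 2 := pow_one 2
  obtain ⟨⟨a, haA⟩, hgen⟩ := hcyc.exists_generator
  have hgen' : ∀ u ∈ A, ∃ i : ℤ, a ^ i = u := fun u hu => by
    obtain ⟨i, hi⟩ := Subgroup.mem_zpowers_iff.mp (hgen ⟨u, hu⟩)
    exact ⟨i, congrArg Subtype.val hi⟩
  have hcent : ∀ g : P, Commute g a → g ∈ A := fun g hg => hAs ⟨Subgroup.mem_top g, fun u hu => by
    obtain ⟨i, rfl⟩ := hgen' u hu
    exact ((hg.zpow_right i).symm).eq⟩
  obtain ⟨n, hn⟩ := IsPGroup.iff_orderOf.mp hP a
  have hcA : ∀ u ∈ E, ∀ v ∈ E, Commute u v := fun u hu v hv => by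
    haveI := hE.1
    exact congrArg Subtype.val (mul_comm' (⟨u, hu⟩ : E) ⟨v, hv⟩)
  have hee : ∀ e ∈ E, e * e = 1 := fun e he => by rw [← pow_two]; exact hE.2 e he
  -- elements of `E` act on `a ^ 2` by a sign
  have hsign : ∀ e ∈ E, ∃ i : ℤ, e * a * e⁻¹ = a ^ i ∧
      (a ^ (2 * (i - 1)) = 1 ∨ a ^ (2 * (i + 1)) = 1) := by
    intro e he
    obtain ⟨i, hi⟩ := hgen' _ (hAn.conj_mem a haA e)
    refine ⟨i, hi.symm, ?_⟩
    have h2 : a ^ (i * i - 1) = 1 := by
      have h3 : a ^ (i * i) = a := by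
        rw [zpow_mul, hi, conj_zpow, hi]
        calc e * (e * a * e⁻¹) * e⁻¹ = (e * e) * a * (e * e)⁻¹ := by group
          _ = a := by rw [hee e he]; group
      rw [zpow_sub, h3, zpow_one, mul_inv_cancel]
    rw [← orderOf_dvd_iff_zpow_eq_one, hn] at h2 ⊢
    rw [← orderOf_dvd_iff_zpow_eq_one, hn]
    push_cast at h2 ⊢
    rcases Int.even_or_odd i with ⟨t, ht⟩ | ⟨t, ht⟩
    · rcases Nat.eq_zero_or_pos n with h0 | h0
      · left; rw [h0, pow_zero]; exact one_dvd _
      · exfalso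
        obtain ⟨q, hq⟩ := dvd_trans (dvd_pow_self (2 : ℤ) h0.ne') h2
        rw [ht] at hq
        ring_nf at hq
        omega
    · rw [ht] at h2 ⊢
      rcases n with _ | _ | n
      · left; simp
      · left; rw [pow_one]; exact dvd_mul_right _ _
      · rw [show (2 : ℤ) ^ (n + 1 + 1) = 4 * 2 ^ n by rw [pow_succ, pow_succ]; ring] at h2 ⊢
        rw [show (2 * t + 1) * (2 * t + 1) - 1 = 4 * (t * (t + 1)) by ring] at h2
        have h3 : (2 : ℤ) ^ n ∣ t * (t + 1) := (mul_dvd_mul_iff_left (by norm_num)).mp h2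
        rcases Int.even_or_odd t with ⟨s, hs⟩ | ⟨s, hs⟩
        · left
          rw [show 2 * (2 * t + 1 - 1) = 4 * t by ring]
          refine mul_dvd_mul_left 4 ((IsCoprime.pow_left ?_).dvd_of_dvd_mul_right h3)
          exact ⟨-s, 1, by rw [hs]; ring⟩
        · right
          rw [show 2 * (2 * t + 1 + 1) = 4 * (t + 1) by ring]
          refine mul_dvd_mul_left 4 ((IsCoprime.pow_left ?_).dvd_of_dvd_mul_left h3)
          exact ⟨-s, 1, by rw [hs]; ring⟩
  have hA2 : ∀ i : ℤ, a ^ (2 * (i - 1)) = 1 → (a ^ 2) ^ i = a ^ 2 := fun i h => by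
    rw [← zpow_natCast a 2, ← zpow_mul]
    calc a ^ (((2 : ℕ) : ℤ) * i) = a ^ (2 * (i - 1)) * a ^ ((2 : ℕ) : ℤ) := by
          rw [← zpow_add]; congr 1; push_cast; ring
      _ = _ := by rw [h, one_mul]
  have hA2' : ∀ i : ℤ, a ^ (2 * (i + 1)) = 1 → (a ^ 2) ^ i = (a ^ 2)⁻¹ := fun i h => by
    rw [← zpow_natCast a 2, ← zpow_mul, ← zpow_neg]
    calc a ^ (((2 : ℕ) : ℤ) * i) = a ^ (2 * (i + 1)) * a ^ (-((2 : ℕ) : ℤ)) := by
          rw [← zpow_add]; congr 1; push_cast; ring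
      _ = _ := by rw [h, one_mul]
  set E₀ := E ⊓ Subgroup.centralizer ({a ^ 2} : Set P) with hE₀
  have hE₀i : 2 ^ 2 ≤ Nat.card E₀ := by
    by_cases hall : ∀ e ∈ E, Commute e (a ^ 2)
    · have : E₀ = E := inf_eq_left.mpr fun e he => Subgroup.mem_centralizer_singleton_iff.mpr (hall e he).eq
      rw [this]
      exact le_trans (by norm_num) hE3
    push Not at hall
    obtain ⟨e₁, he₁, hne₁⟩ := hall
    have hneg : ∀ e ∈ E, ¬ Commute e (a ^ 2) → e * a ^ 2 * e⁻¹ = (a ^ 2)⁻¹ := by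
      intro e he hne
      obtain ⟨i, hi, h⟩ := hsign e he
      have e2 : e * a ^ 2 * e⁻¹ = (a ^ 2) ^ i := by
        rw [← conj_pow, hi, ← zpow_natCast, ← zpow_natCast a 2, ← zpow_mul, ← zpow_mul, mul_comm]
      rcases h with h | h
      · exact absurd (by rw [hA2 i h, mul_inv_eq_iff_eq_mul] at e2; exact e2) hne
      · rw [e2, hA2' i h]
    have hsub : (E : Set P) ⊆ (E₀ : Set P) ∪ (fun x => e₁ * x) '' (E₀ : Set P) := by
      intro e he
      by_cases hc : Commute e (a ^ 2)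
      · exact Or.inl (Subgroup.mem_inf.mpr ⟨he, Subgroup.mem_centralizer_singleton_iff.mpr hc.eq⟩)
      · refine Or.inr ⟨e₁ * e, Subgroup.mem_inf.mpr ⟨mul_mem he₁ he, ?_⟩, ?_⟩
        · refine Subgroup.mem_centralizer_singleton_iff.mpr ?_
          rw [← mul_inv_eq_iff_eq_mul]
          calc e₁ * e * a ^ 2 * (e₁ * e)⁻¹ = e₁ * (e * a ^ 2 * e⁻¹) * e₁⁻¹ := by group
            _ = (e₁ * a ^ 2 * e₁⁻¹)⁻¹ := by rw [hneg e he hc]; group
            _ = a ^ 2 := by rw [hneg e₁ he₁ hne₁, inv_inv]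
        · show e₁ * (e₁ * e) = e
          rw [← mul_assoc, hee e₁ he₁, one_mul]
    have h1 := (Set.ncard_le_ncard hsub (Set.toFinite _)).trans (Set.ncard_union_le _ _)
    rw [Set.ncard_image_of_injective _ (mul_right_injective e₁), ← Nat.card_coe_set_eq,
      ← Nat.card_coe_set_eq] at h1
    change Nat.card E ≤ Nat.card E₀ + Nat.card E₀ at h1
    omega
  -- an element of `E` outside `A` centralizing `a ^ 2`
  obtain ⟨e, heE, he2, heA⟩ : ∃ e ∈ E, Commute e (a ^ 2) ∧ e ∉ A := by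
    by_contra hcon
    push Not at hcon
    have hle : E₀ ≤ A := fun e he => hcon e he.1 (Subgroup.mem_centralizer_singleton_iff.mp he.2)
    have hcyc' : IsCyclic E₀ :=
      isCyclic_of_injective (Subgroup.inclusion hle) (Subgroup.inclusion_injective hle)
    obtain ⟨g, hg⟩ := hcyc'.exists_ofOrder_eq_natCard
    have h1 : orderOf g ∣ 2 := orderOf_dvd_of_pow_eq_one (Subtype.ext (hE.2 g g.2.1))
    rw [hg] at h1
    have := Nat.le_of_dvd (by norm_num) h1
    omega
  have hn3 : 3 ≤ n := by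
    by_contra hn3
    have hcase : ∀ f ∈ E, f * a * f⁻¹ = a ∨ f * a * f⁻¹ = a⁻¹ := by
      intro f hf
      obtain ⟨i, hi, -⟩ := hsign f hf
      rw [hi]
      rcases Int.even_or_odd i with ⟨t, ht⟩ | ⟨t, ht⟩
      · rcases Nat.eq_zero_or_pos n with h0 | h0
        · left; rw [h0, pow_zero, orderOf_eq_one_iff] at hn; rw [hn, one_zpow]
        · exfalso
          have h4 : orderOf (a ^ i) = 2 ^ n := by
            rw [← hi, ← hn]; exact (MulAut.conj f).orderOf_eq a
          rw [ht, ← two_mul, zpow_mul] at h4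
          have h5 : orderOf ((a ^ (2 : ℤ)) ^ t) ∣ orderOf (a ^ (2 : ℤ)) :=
            orderOf_dvd_of_mem_zpowers (Subgroup.zpow_mem_zpowers _ t)
          rw [h4, show (2 : ℤ) = ((2 : ℕ) : ℤ) from rfl, zpow_natCast, orderOf_pow' _ two_ne_zero, hn,
            Nat.gcd_eq_right (dvd_pow_self 2 h0.ne')] at h5
          have h6 := Nat.le_of_dvd (Nat.div_pos (Nat.le_self_pow h0.ne' 2) two_pos) h5
          have h7 := Nat.div_lt_self (show 0 < 2 ^ n by positivity) one_lt_two
          omega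
      · have h4 : a ^ (4 : ℤ) = 1 := by
          rw [← orderOf_dvd_iff_zpow_eq_one, hn]
          push_cast
          exact (pow_dvd_pow (2 : ℤ) (show n ≤ 2 by omega)).trans (by norm_num)
        rcases Int.even_or_odd t with ⟨s, hs⟩ | ⟨s, hs⟩
        · left
          rw [ht, hs, show 2 * (s + s) + 1 = 4 * s + 1 by ring, zpow_add, zpow_mul, h4, one_zpow,
            one_mul, zpow_one]
        · right
          rw [ht, hs, show 2 * (2 * s + 1) + 1 = 4 * (s + 1) + (-1) by ring, zpow_add, zpow_mul, h4,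
            one_zpow, one_mul, zpow_neg_one]
    -- an index-two subgroup of `E` lies in `A`
    have hsub : (E : Set P) ⊆ ((E ⊓ A : Subgroup P) : Set P) ∪ (fun x => e * x) '' ((E ⊓ A : Subgroup P) : Set P) := by
      intro f hf
      have hex : ∀ f ∈ E, f ∉ A → f * a * f⁻¹ = a⁻¹ := fun f hf hfA => (hcase f hf).resolve_left
        fun h => hfA (hcent f (mul_inv_eq_iff_eq_mul.mp h))
      by_cases hfA : f ∈ A
      · exact Or.inl (Subgroup.mem_inf.mpr ⟨hf, hfA⟩)
      · refine Or.inr ⟨e * f, Subgroup.mem_inf.mpr ⟨mul_mem heE hf, hcent _ ?_⟩, ?_⟩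
        · refine mul_inv_eq_iff_eq_mul.mp ?_
          calc e * f * a * (e * f)⁻¹ = e * (f * a * f⁻¹) * e⁻¹ := by group
            _ = (e * a * e⁻¹)⁻¹ := by rw [hex f hf hfA]; group
            _ = a := by rw [hex e heE heA, inv_inv]
        · show e * (e * f) = f
          rw [← mul_assoc, hee e heE, one_mul]
    have h1 := (Set.ncard_le_ncard hsub (Set.toFinite _)).trans (Set.ncard_union_le _ _)
    rw [Set.ncard_image_of_injective _ (mul_right_injective e), ← Nat.card_coe_set_eq,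
      ← Nat.card_coe_set_eq] at h1
    change Nat.card E ≤ Nat.card (E ⊓ A : Subgroup P) + Nat.card (E ⊓ A : Subgroup P) at h1
    haveI : IsCyclic ↥(E ⊓ A : Subgroup P) :=
      isCyclic_of_injective (Subgroup.inclusion (inf_le_right : E ⊓ A ≤ A)) (Subgroup.inclusion_injective _)
    obtain ⟨g, hg⟩ := IsCyclic.exists_ofOrder_eq_natCard (α := ↥(E ⊓ A : Subgroup P))
    have h2 : orderOf g ∣ 2 := orderOf_dvd_of_pow_eq_one (Subtype.ext (hE.2 g g.2.1))
    rw [hg] at h2
    have := Nat.le_of_dvd (by norm_num) h2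
    omega
  -- the involution `z` of `A`
  obtain ⟨m, rfl⟩ : ∃ m, n = m + 3 := ⟨n - 3, by omega⟩
  set z := a ^ (2 ^ (m + 2)) with hz
  have hz1 : z ≠ 1 := fun h => by
    have h1 := Nat.le_of_dvd (by positivity) (orderOf_dvd_of_pow_eq_one h)
    rw [hn] at h1
    exact absurd ((Nat.pow_le_pow_iff_right one_lt_two).mp h1) (by omega)
  have hz2 : z * z = 1 := by
    rw [hz, ← pow_add, ← two_mul, ← pow_succ', ← hn, pow_orderOf_eq_one]
  have hroot : ∀ u ∈ A, u ^ 2 = 1 → u = 1 ∨ u = z := by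
    intro u hu hu2
    obtain ⟨i, rfl⟩ := hgen' u hu
    rw [← zpow_natCast, ← zpow_mul, ← orderOf_dvd_iff_zpow_eq_one, hn] at hu2
    push_cast at hu2
    obtain ⟨j, hj⟩ : (2 : ℤ) ^ (m + 2) ∣ i :=
      (mul_dvd_mul_iff_left (a := (2 : ℤ)) two_ne_zero).mp (by rw [← pow_succ', mul_comm 2 i]; exact hu2)
    rw [hj, zpow_mul, show a ^ ((2 : ℤ) ^ (m + 2)) = z by rw [hz, ← zpow_natCast]; norm_cast]
    rcases Int.even_or_odd j with ⟨t, ht⟩ | ⟨t, ht⟩
    · left; rw [ht, ← two_mul, zpow_mul, zpow_two, hz2, one_zpow]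
    · right; rw [ht, zpow_add, zpow_mul, zpow_two, hz2, one_zpow, one_mul, zpow_one]
  have haz : ∀ g : P, Commute g (a ^ 2) → g ∉ A → g * a * g⁻¹ = a * z := by
    intro g hg hgA
    obtain ⟨i, hi⟩ := hgen' _ (hAn.conj_mem a haA g)
    have h1 : ((a ^ (i - 1)) : P) ^ 2 = 1 := by
      have h2 : (g * a * g⁻¹) ^ 2 = a ^ 2 := by rw [conj_pow, hg.eq, mul_inv_cancel_right]
      rw [← hi, ← zpow_natCast, ← zpow_natCast a 2, ← zpow_mul] at h2
      rw [← zpow_natCast, ← zpow_mul, sub_mul, zpow_sub, one_mul, h2, mul_inv_cancel]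
    have h3 : a ^ i = a * a ^ (i - 1) := by rw [← zpow_one_add]; congr 1; ring
    rcases hroot _ (zpow_mem haA _) h1 with h | h
    · refine absurd (hcent g (mul_inv_eq_iff_eq_mul.mp ?_)) hgA
      rw [← hi, h3, h, mul_one]
    · rw [← hi, h3, h]
  set C₂ := Subgroup.centralizer ({a ^ 2} : Set P) with hC₂
  have hdec : ∀ g ∈ C₂, g ∈ A ∨ e⁻¹ * g ∈ A := by
    intro g hg
    by_cases hgA : g ∈ A
    · exact Or.inl hgA
    refine Or.inr (hcent _ (mul_inv_eq_iff_eq_mul.mp ?_))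
    calc e⁻¹ * g * a * (e⁻¹ * g)⁻¹ = e⁻¹ * (g * a * g⁻¹) * e := by group
      _ = e⁻¹ * (e * a * e⁻¹) * e := by
          rw [haz g (Subgroup.mem_centralizer_singleton_iff.mp hg) hgA, haz e he2 heA]
      _ = a := by group
  have hC₂n : C₂.Normal := by
    refine ⟨fun c hc g => Subgroup.mem_centralizer_singleton_iff.mpr ?_⟩
    have hc' : Commute c (a ^ 2) := Subgroup.mem_centralizer_singleton_iff.mp hc
    obtain ⟨i, hi⟩ := hgen' _ (hAn.conj_mem a haA g⁻¹)
    have h2 : g⁻¹ * a ^ 2 * g = (a ^ 2) ^ i := by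
      have e : (g⁻¹ * a * g) ^ (2 : ℕ) = g⁻¹ * a ^ (2 : ℕ) * g := by rw [pow_two, pow_two]; group
      rw [inv_inv] at hi
      rw [← e, ← hi, ← zpow_natCast, ← zpow_mul, ← zpow_natCast a 2, ← zpow_mul, mul_comm]
    have h3 : Commute c (g⁻¹ * a ^ 2 * g) := h2 ▸ hc'.zpow_right i
    calc g * c * g⁻¹ * a ^ 2 = g * (c * (g⁻¹ * a ^ 2 * g)) * g⁻¹ := by group
      _ = g * ((g⁻¹ * a ^ 2 * g) * c) * g⁻¹ := by rw [h3.eq]
      _ = a ^ 2 * (g * c * g⁻¹) := by group
  have heC : e ∈ C₂ := Subgroup.mem_centralizer_singleton_iff.mpr he2.eq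
  -- the involutions of `C₂`
  have hze : Commute e z := by
    rw [hz, pow_succ', pow_mul]
    exact he2.pow_right _
  let U : Subgroup P := Subgroup.closure {e, z}
  have hUc : IsMulCommutative U := Subgroup.isMulCommutative_closure (by
    rintro u (rfl | rfl) v (rfl | rfl)
    · rfl
    · exact hze.eq
    · exact hze.symm.eq
    · rfl)
  have hUmem : ∀ g : P, g ∈ U ↔ g ∈ C₂ ∧ g ^ 2 = 1 := by
    intro g
    constructor
    · intro hg
      induction hg using Subgroup.closure_induction with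
      | mem u hu =>
        rcases hu with rfl | rfl
        · exact ⟨heC, hE.2 _ heE⟩
        · refine ⟨Subgroup.mem_centralizer_singleton_iff.mpr ?_, by rw [pow_two, hz2]⟩
          exact ((Commute.refl a).pow_pow _ _).eq
      | one => exact ⟨one_mem _, one_pow _⟩
      | mul u v hu hv iu iv =>
        haveI := hUc
        have huv : Commute u v := congrArg Subtype.val (mul_comm' (⟨u, hu⟩ : U) ⟨v, hv⟩)
        exact ⟨mul_mem iu.1 iv.1, by rw [huv.mul_pow, iu.2, iv.2, one_mul]⟩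
      | inv u _ iu => exact ⟨inv_mem iu.1, by rw [inv_pow, iu.2, inv_one]⟩
    · rintro ⟨hgC, hg2⟩
      have hzU : z ∈ U := Subgroup.subset_closure (by simp)
      have heU : e ∈ U := Subgroup.subset_closure (by simp)
      rcases hdec g hgC with hgA | hgA
      · rcases hroot g hgA hg2 with rfl | rfl
        · exact one_mem _
        · exact hzU
      · obtain ⟨j, hj⟩ := hgen' _ hgA
        have hg : g = e * a ^ j := by rw [hj, mul_inv_cancel_left]
        have heinv : e⁻¹ = e := inv_eq_of_mul_eq_one_right (hee e heE)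
        have h1 : (a * z) ^ j * a ^ j = 1 := by
          rw [← haz e he2 heA, conj_zpow, heinv]
          rw [hg, pow_two, mul_assoc e, ← mul_assoc (a ^ j)] at hg2
          calc e * a ^ j * e * a ^ j = e * (a ^ j * e * a ^ j) := by group
            _ = 1 := hg2
        have hazc : Commute a z := (Commute.refl a).pow_right _
        rw [hazc.mul_zpow, mul_assoc, (hazc.symm.zpow_zpow j j).eq, ← mul_assoc, ← zpow_add] at h1
        have hj2 : a ^ (4 * j) = 1 := by
          have h4 : (a ^ (j + j) * z ^ j) ^ (2 : ℤ) = 1 := by rw [h1, one_zpow]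
          rw [(hazc.zpow_zpow _ _).mul_zpow, ← zpow_mul, ← zpow_mul, mul_comm j 2, zpow_mul z,
            zpow_two z, hz2, one_zpow, mul_one] at h4
          rw [show 4 * j = (j + j) * 2 by ring]
          exact h4
        rw [← orderOf_dvd_iff_zpow_eq_one, hn] at hj2
        push_cast at hj2
        obtain ⟨s, hs⟩ : (2 : ℤ) ∣ j := by
          have h8 : (8 : ℤ) ∣ 4 * j := (Dvd.intro_left _ (show (2 : ℤ) ^ m * 8 = 2 ^ (m + 3) by ring)).trans hj2
          omega
        have hzj : z ^ j = 1 := by rw [hs, zpow_mul, zpow_two, hz2, one_zpow]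
        rw [hzj, mul_one] at h1
        have h5 : (a ^ j) ^ 2 = 1 := by rw [pow_two, ← zpow_add, h1]
        rw [hg]
        rcases hroot _ (zpow_mem haA j) h5 with h | h <;> rw [h]
        · rw [mul_one]; exact heU
        · exact mul_mem heU hzU
  haveI hUn : U.Normal := ⟨fun u hu g => (hUmem _).mpr ⟨hC₂n.conj_mem u ((hUmem u).mp hu).1 g, by
    rw [conj_pow, ((hUmem u).mp hu).2, mul_one, mul_inv_cancel]⟩⟩
  refine exists_normal_sq hP U ⟨hUc, fun u hu => ((hUmem u).mp hu).2⟩ ?_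
  have hzU : z ∈ U := Subgroup.subset_closure (by simp)
  have heU : e ∈ U := Subgroup.subset_closure (by simp)
  have hzo : orderOf z = 2 := orderOf_eq_prime (by rw [pow_two, hz2]) hz1
  obtain ⟨k, hk⟩ := IsPGroup.iff_card.mp (hP.to_subgroup U)
  rw [hk]
  refine Nat.pow_le_pow_right two_pos ?_
  by_contra hk2
  have hle := Subgroup.eq_of_le_of_card_ge (Subgroup.zpowers_le.mpr hzU) (by
    rw [Nat.card_zpowers, hzo, hk]
    calc 2 ^ k ≤ 2 ^ 1 := Nat.pow_le_pow_right two_pos (by omega)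
      _ = 2 := pow_one 2)
  have he' : e ∈ Subgroup.zpowers z := hle ▸ heU
  exact heA (Subgroup.zpowers_le.mpr (pow_mem haA _) he')

/-- Existence of a normal `E_{p^2}` when the rank is at least three. -/
theorem exists_normal_rank_two_any (hP : IsPGroup p P) (hrk : ¬ Cfsg.PRankLE p 2 P) :
    ∃ U : Subgroup P, U.Normal ∧ Cfsg.IsElementaryAbelian p U ∧ Nat.card U = p ^ 2 := by
  obtain ⟨E, hE, hE3⟩ := AlperinElem.exists_large_elementary hP hrk
  by_cases hp2 : p = 2
  · subst hp2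
    exact exists_normal_four hP hE hE3
  · have hnc : ¬ IsCyclic (⊤ : Subgroup P) := fun hc => by
      haveI : IsCyclic E :=
        isCyclic_of_injective (Subgroup.inclusion (le_top : E ≤ ⊤)) (Subgroup.inclusion_injective _)
      refine CfsgLib.Coprime.not_isCyclic_of_exponent hE.2 hp.out.pos ?_ inferInstance
      exact lt_of_lt_of_le (by simpa using Nat.pow_lt_pow_right hp.out.one_lt (show 1 < 3 by omega)) hE3
    obtain ⟨A, -, hA⟩ := CyclicMax.exists_normal_rank_two hP hp2 ⊤ inferInstance hnc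
    exact ⟨A, hA⟩

end CfsgLib.NormalFour
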