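import Mathlib
import Cfsg.Prelude.Def_OddOrderLocal
import Cfsg.Agent.Lib.OddOmega.Basic
import Cfsg.Agent.Lib.Critical.Basic

/-!
Metacyclic `p`-groups, `p` odd, and more generally `p`-groups with cyclic derived subgroup:
`|G : C(y)|` is the order of `y` modulo the centre, and `R ↦ C(R)` is a duality above the centre.
-/

set_option autoImplicit false
set_option linter.style.haveILetI false
set_option linter.unusedSectionVars false

open scoped commutatorElement

namespace CfsgLib.Metacyclic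

theorem pow_dvd_geom_sum_iff {p : ℕ} (hp : p.Prime) (hp2 : p ≠ 2) {r : ℕ} (hr : r ≡ 1 [MOD p])
    (j g : ℕ) : p ^ g ∣ ∑ i ∈ Finset.range j, r ^ i ↔ p ^ g ∣ j := by
  rcases eq_or_ne r 1 with rfl | hr1
  · simp
  have h1 : (p : ℤ) ∣ (r : ℤ) - 1 := by
    have := Nat.modEq_iff_dvd.mp hr.symm
    exact_mod_cast this
  have h2 : ¬ (p : ℤ) ∣ (r : ℤ) := fun hd =>
    hp.not_dvd_one (Int.natCast_dvd_natCast.mp (by simpa using dvd_sub hd h1))
  have hlte := Int.emultiplicity_pow_sub_pow hp (hp.odd_of_ne_two hp2) h1 h2 j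
  rw [one_pow, ← geom_sum_mul, emultiplicity_mul (Nat.prime_iff_prime_int.mp hp), add_comm] at hlte
  have hfin : emultiplicity (p : ℤ) ((r : ℤ) - 1) ≠ ⊤ := by
    rw [← finiteMultiplicity_iff_emultiplicity_ne_top, Int.finiteMultiplicity_iff]
    exact ⟨by simpa using hp.one_lt.ne', sub_ne_zero.mpr (by exact_mod_cast hr1)⟩
  have h3 := WithTop.add_left_cancel hfin hlte
  have hcast : (∑ i ∈ Finset.range j, (r : ℤ) ^ i) = ((∑ i ∈ Finset.range j, r ^ i : ℕ) : ℤ) := by
    push_cast; rfl
  rw [hcast, Int.natCast_emultiplicity] at h3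
  rw [pow_dvd_iff_le_emultiplicity, pow_dvd_iff_le_emultiplicity, h3]

theorem mul_pow_of_conj {G : Type*} [Group G] {a b : G} {r : ℕ} (h : b * a * b⁻¹ = a ^ r) (j : ℕ) :
    (a * b) ^ j = a ^ (∑ i ∈ Finset.range j, r ^ i) * b ^ j := by
  induction j with
  | zero => simp
  | succ j ih =>
    have hk : b * a ^ (∑ i ∈ Finset.range j, r ^ i) =
        (a ^ r) ^ (∑ i ∈ Finset.range j, r ^ i) * b := by
      rw [← h, conj_pow]; group
    rw [pow_succ' (a * b), ih, geom_sum_succ, mul_assoc a b, ← mul_assoc b, hk, pow_succ', ← pow_mul,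
      pow_succ' b]
    group

/-- A finite `p`-group, `p` odd, with cyclic derived subgroup. -/
structure CyclicDerived (p : ℕ) (G : Type*) [Group G] : Prop where
  pgroup : IsPGroup p G
  odd : p ≠ 2
  cyclic : IsCyclic (commutator G)

variable {G : Type*} [Group G] [Finite G] {p : ℕ} [hp : Fact p.Prime]

theorem comm_mem (x y : G) : ⁅x, y⁆ ∈ commutator G :=
  Subgroup.commutator_mem_commutator (Subgroup.mem_top x) (Subgroup.mem_top y)

theorem CyclicDerived.commute (h : CyclicDerived p G) {c d : G} (hc : c ∈ commutator G)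
    (hd : d ∈ commutator G) : c * d = d * c := by
  haveI := h.cyclic
  obtain ⟨g, hg⟩ := IsCyclic.exists_generator (α := ↥(commutator G))
  obtain ⟨i, hi⟩ := Subgroup.mem_zpowers_iff.mp (hg ⟨c, hc⟩)
  obtain ⟨j, hj⟩ := Subgroup.mem_zpowers_iff.mp (hg ⟨d, hd⟩)
  have hi' : (g : G) ^ i = c := by rw [← Subgroup.coe_zpow, hi]
  have hj' : (g : G) ^ j = d := by rw [← Subgroup.coe_zpow, hj]
  rw [← hi', ← hj', ← zpow_add, ← zpow_add, add_comm]

theorem CyclicDerived.conj_exp (h : CyclicDerived p G) (x : G) {d : G} (hd : d ∈ commutator G) :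
    ∃ r : ℕ, r ≡ 1 [MOD p] ∧ x * d * x⁻¹ = d ^ r := by
  haveI := h.cyclic
  obtain ⟨m, hm⟩ := MonoidHom.map_cyclic
    (MulAut.conjNormal (H := commutator G) x).toMonoidHom
  have hxd : x * d * x⁻¹ = d ^ m := by
    have := congrArg Subtype.val (hm ⟨d, hd⟩)
    simpa using this
  obtain ⟨g, hg⟩ := IsPGroup.iff_orderOf.mp h.pgroup d
  rcases Nat.eq_zero_or_pos g with rfl | hg0
  · rw [pow_zero, orderOf_eq_one_iff] at hg
    subst hg
    exact ⟨1, Nat.ModEq.refl _, by simp⟩
  set r : ℕ := (m % (orderOf d : ℤ)).toNat with hrdef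
  have hr : x * d * x⁻¹ = d ^ r := by
    rw [hxd, ← zpow_natCast d r, hrdef, Int.toNat_of_nonneg (Int.emod_nonneg _ (by
      exact_mod_cast (orderOf_pos d).ne')), zpow_mod_orderOf]
  have hit : ∀ k : ℕ, x ^ k * d * (x ^ k)⁻¹ = d ^ r ^ k := by
    intro k
    induction k with
    | zero => simp
    | succ k ih =>
      calc x ^ (k + 1) * d * (x ^ (k + 1))⁻¹ = x * (x ^ k * d * (x ^ k)⁻¹) * x⁻¹ := by group
        _ = (x * d * x⁻¹) ^ r ^ k := by rw [ih, conj_pow]
        _ = _ := by rw [hr, ← pow_mul, pow_succ']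
  obtain ⟨N, hN⟩ := h.pgroup x
  have h1 := hit (p ^ N)
  rw [hN] at h1
  have h2 : d ^ r ^ p ^ N = d ^ 1 := by rw [pow_one, ← h1]; simp
  have h3 := (pow_eq_pow_iff_modEq.mp h2).of_dvd (hg ▸ dvd_pow_self p hg0.ne')
  refine ⟨r, ?_, hr⟩
  have h4 := (ZMod.natCast_eq_natCast_iff _ _ p).mpr h3
  push_cast at h4
  rw [ZMod.pow_card_pow] at h4
  exact (ZMod.natCast_eq_natCast_iff _ _ p).mp (by push_cast; exact h4)

/-- `[x ^ j, y] = 1` iff `[x, y] ^ j = 1`. -/
theorem CyclicDerived.comm_pow_eq_one (h : CyclicDerived p G) (x y : G) (j : ℕ) :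
    ⁅x ^ j, y⁆ = 1 ↔ ⁅x, y⁆ ^ j = 1 := by
  obtain ⟨r, hr1, hr⟩ := h.conj_exp x (comm_mem x y)
  have key : ∀ k : ℕ, ⁅x ^ k, y⁆ = ⁅x, y⁆ ^ (∑ i ∈ Finset.range k, r ^ i) := by
    intro k
    induction k with
    | zero => simp
    | succ k ih =>
      have h1 : ⁅x ^ (k + 1), y⁆ = (x * ⁅x ^ k, y⁆ * x⁻¹) * ⁅x, y⁆ := by
        simp only [commutatorElement_def, pow_succ']; group
      rw [h1, ih, ← conj_pow, hr, ← pow_mul, geom_sum_succ, pow_succ]
  obtain ⟨g, hg⟩ := IsPGroup.iff_orderOf.mp h.pgroup ⁅x, y⁆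
  rw [key, ← orderOf_dvd_iff_pow_eq_one, ← orderOf_dvd_iff_pow_eq_one, hg,
    pow_dvd_geom_sum_iff hp.out h.odd hr1]

theorem CyclicDerived.comm_pow_eq_one_right (h : CyclicDerived p G) (x y : G) (j : ℕ) :
    ⁅x, y ^ j⁆ = 1 ↔ ⁅x, y⁆ ^ j = 1 := by
  rw [← inv_eq_one, commutatorElement_inv, h.comm_pow_eq_one, ← commutatorElement_inv, inv_pow,
    inv_eq_one]

/-- The elements `y` with `[x, y] ^ (p ^ k) = 1` for all `x`. -/
def CyclicDerived.tor (h : CyclicDerived p G) (k : ℕ) : Subgroup G where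
  carrier := {y | ∀ x : G, ⁅x, y⁆ ^ p ^ k = 1}
  one_mem' := fun x => by simp
  mul_mem' := by
    intro y z hy hz x
    have e : ⁅x, y * z⁆ = ⁅x, y⁆ * (y * ⁅x, z⁆ * y⁻¹) := by
      simp only [commutatorElement_def]; group
    have hm : y * ⁅x, z⁆ * y⁻¹ ∈ commutator G :=
      (inferInstance : (commutator G).Normal).conj_mem _ (comm_mem x z) y
    rw [e, (show Commute _ _ from h.commute (comm_mem x y) hm).mul_pow, hy x, one_mul, conj_pow,
      hz x, mul_one, mul_inv_cancel]
  inv_mem' := by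
    intro y hy x
    have e : ⁅x, y⁻¹⁆ = y⁻¹ * ⁅x, y⁆⁻¹ * y⁻¹⁻¹ := by simp only [commutatorElement_def]; group
    rw [e, conj_pow, inv_pow, hy x, inv_one, mul_one, mul_inv_cancel]

theorem CyclicDerived.mem_tor (h : CyclicDerived p G) {k : ℕ} {y : G} :
    y ∈ h.tor k ↔ ∀ x : G, ⁅x, y⁆ ^ p ^ k = 1 := Iff.rfl

theorem CyclicDerived.mem_tor_iff (h : CyclicDerived p G) (k : ℕ) (y : G) :
    y ∈ h.tor k ↔ y ^ p ^ k ∈ Subgroup.center G := by
  rw [h.mem_tor, Subgroup.mem_center_iff]
  exact forall_congr' fun x => by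
    rw [← h.comm_pow_eq_one_right, commutatorElement_eq_one_iff_mul_comm]

theorem CyclicDerived.tor_mono (h : CyclicDerived p G) {k l : ℕ} (hkl : k ≤ l) :
    h.tor k ≤ h.tor l := fun y hy x => by
  obtain ⟨c, hc⟩ := pow_dvd_pow p hkl
  rw [hc, pow_mul, hy x, one_pow]

theorem CyclicDerived.center_le_tor (h : CyclicDerived p G) (k : ℕ) :
    Subgroup.center G ≤ h.tor k := fun y hy => (h.mem_tor_iff k y).mpr (Subgroup.pow_mem _ hy _)

theorem CyclicDerived.tor_normal (h : CyclicDerived p G) (k : ℕ) : (h.tor k).Normal :=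
  ⟨fun y hy g => (h.mem_tor_iff k _).mpr (by
    rw [conj_pow]
    have hc := (h.mem_tor_iff k y).mp hy
    rw [Subgroup.mem_center_iff.mp hc g, mul_inv_cancel_right]
    exact hc)⟩

/-- The class of `y` has size at most `p ^ k` iff `y ^ (p ^ k)` is central. -/
theorem CyclicDerived.index_centralizer_le_iff (h : CyclicDerived p G) (k : ℕ) (y : G) :
    (Subgroup.centralizer ({y} : Set G)).index ≤ p ^ k ↔ y ∈ h.tor k := by
  haveI := h.cyclic
  classical
  haveI := Fintype.ofFinite ↥(commutator G)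
  set C := Subgroup.centralizer ({y} : Set G) with hC
  have hmC : ∀ g, g ∈ C ↔ g * y = y * g := fun g => by
    rw [hC, Subgroup.mem_centralizer_singleton_iff]
  obtain ⟨c, hc⟩ := IsPGroup.iff_card.mp h.pgroup
  obtain ⟨i, -, hi⟩ := (Nat.dvd_prime_pow hp.out).mp ((Subgroup.index_dvd_card C).trans hc.dvd)
  constructor
  · intro hle x
    have hik : i ≤ k := (Nat.pow_le_pow_iff_right hp.out.one_lt).mp (hi ▸ hle)
    -- `x ^ (index)` centralises `y`
    obtain ⟨n, hn⟩ := IsPGroup.iff_orderOf.mp h.pgroup ⁅x, y⁆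
    rw [← orderOf_dvd_iff_pow_eq_one, hn]
    refine pow_dvd_pow p (le_trans ?_ hik)
    have hd : C.relIndex (Subgroup.zpowers x) ≤ p ^ i :=
      hi ▸ (Subgroup.relIndex_le_of_le_right le_top (by
        rw [Subgroup.relIndex_top_right]; exact Subgroup.index_ne_zero_of_finite)).trans
          (Subgroup.relIndex_top_right _).le
    have hmem : x ^ C.relIndex (Subgroup.zpowers x) ∈ C := by
      haveI : (C.subgroupOf (Subgroup.zpowers x)).Normal := inferInstance
      exact Subgroup.pow_index_mem (C.subgroupOf (Subgroup.zpowers x))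
        (⟨x, Subgroup.mem_zpowers x⟩ : Subgroup.zpowers x)
    rw [hmC, ← commutatorElement_eq_one_iff_mul_comm, h.comm_pow_eq_one,
      ← orderOf_dvd_iff_pow_eq_one, hn] at hmem
    exact (Nat.pow_le_pow_iff_right hp.out.one_lt).mp
      ((Nat.le_of_dvd (Nat.pos_of_ne_zero Subgroup.index_ne_zero_of_finite) hmem).trans hd)
  · intro hy
    have hwd : ∀ g₁ g₂ : G, g₁⁻¹ * g₂ ∈ C ↔ ⁅g₁, y⁆ = ⁅g₂, y⁆ := by
      intro g₁ g₂
      rw [hmC, commutatorElement_def, commutatorElement_def, mul_left_inj]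
      constructor
      · intro e
        calc g₁ * y * g₁⁻¹ = g₁ * (y * (g₁⁻¹ * g₂)) * g₂⁻¹ := by group
          _ = g₁ * ((g₁⁻¹ * g₂) * y) * g₂⁻¹ := by rw [e]
          _ = _ := by group
      · intro e
        calc g₁⁻¹ * g₂ * y = g₁⁻¹ * (g₂ * y * g₂⁻¹) * g₂ := by group
          _ = g₁⁻¹ * (g₁ * y * g₁⁻¹) * g₂ := by rw [e]
          _ = _ := by group
    let f : G ⧸ C → {d : ↥(commutator G) // d ^ p ^ k = 1} :=
      Quotient.lift (fun g => ⟨⟨⁅g, y⁆, comm_mem g y⟩, Subtype.ext (hy g)⟩) fun g₁ g₂ e => by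
        have := (hwd g₁ g₂).mp (QuotientGroup.leftRel_apply.mp e)
        simp [this]
    have hf : Function.Injective f := by
      intro a b
      induction a using Quotient.inductionOn with | h a =>
      induction b using Quotient.inductionOn with | h b =>
      intro e
      refine Quotient.sound (QuotientGroup.leftRel_apply.mpr ((hwd a b).mpr ?_))
      exact congrArg Subtype.val (congrArg Subtype.val e)
    calc C.index = Nat.card (G ⧸ C) := rfl
      _ ≤ Nat.card {d : ↥(commutator G) // d ^ p ^ k = 1} := Nat.card_le_card_of_injective f hf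
      _ ≤ p ^ k := by
        rw [Nat.card_eq_fintype_card, Fintype.card_subtype]
        exact IsCyclic.card_pow_eq_one_le (pow_pos hp.out.pos k)

/-- `|R| |C(R)|` does not decrease with `R`. -/
theorem CyclicDerived.card_mul_mono (h : CyclicDerived p G) (R S : Subgroup G) (hRS : R ≤ S) :
    Nat.card R * Nat.card (Subgroup.centralizer (R : Set G)) ≤
      Nat.card S * Nat.card (Subgroup.centralizer (S : Set G)) := by
  haveI := h.cyclic
  classical
  haveI := Fintype.ofFinite ↥(commutator G)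
  induction hn : Nat.card S - Nat.card R using Nat.strong_induction_on generalizing R with
  | _ n ih => ?_
  rcases hRS.eq_or_lt with rfl | hlt
  · exact le_rfl
  obtain ⟨s₀, hs₀, hs₀'⟩ := SetLike.exists_of_lt hlt
  obtain ⟨s, hsS, hsR, hsp⟩ : ∃ s ∈ S, s ∉ R ∧ s ^ p ∈ R := by
    have hex : ∃ k, s₀ ^ p ^ k ∈ R := by
      obtain ⟨k, hk⟩ := h.pgroup s₀
      exact ⟨k, hk ▸ R.one_mem⟩
    obtain ⟨k, hk⟩ : ∃ k, Nat.find hex = k + 1 := Nat.exists_eq_succ_of_ne_zero fun e => hs₀' (by
      simpa [e] using Nat.find_spec hex)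
    exact ⟨s₀ ^ p ^ k, S.pow_mem hs₀ _, Nat.find_min hex (by omega), by
      simpa [hk, pow_succ, pow_mul] using Nat.find_spec hex⟩
  set T := R ⊔ Subgroup.zpowers s with hT
  have hTS : T ≤ S := sup_le hlt.le (Subgroup.zpowers_le.mpr hsS)
  have hRT : R < T := lt_of_le_of_ne le_sup_left fun e => hsR (by
    have : s ∈ T := Subgroup.mem_sup_right (Subgroup.mem_zpowers s)
    rwa [← e] at this)
  have hcard : p * Nat.card R ≤ Nat.card T := by
    obtain ⟨a, ha⟩ := IsPGroup.iff_card.mp (h.pgroup.to_subgroup R)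
    obtain ⟨b, hb⟩ := IsPGroup.iff_card.mp (h.pgroup.to_subgroup T)
    have hab : Nat.card R < Nat.card T := by
      refine (Subgroup.card_le_of_le hRT.le).lt_of_ne fun e => hRT.ne ?_
      exact Subgroup.eq_of_le_of_card_ge hRT.le e.ge
    rw [ha, hb] at hab ⊢
    rw [← pow_succ']
    exact Nat.pow_le_pow_right hp.out.pos ((Nat.pow_lt_pow_iff_right hp.out.one_lt).mp hab)
  set CR := Subgroup.centralizer (R : Set G) with hCR
  set CT := Subgroup.centralizer (T : Set G) with hCT
  have hle : CT ≤ CR := Subgroup.centralizer_le (SetLike.coe_subset_coe.mpr hRT.le)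
  have hCle : Nat.card CR ≤ p * Nat.card CT := by
    have hmem : ∀ u ∈ CR, u ∈ CT ↔ ⁅u, s⁆ = 1 := by
      intro u hu
      rw [commutatorElement_eq_one_iff_mul_comm]
      constructor
      · exact fun hT' => (Subgroup.mem_centralizer_iff.mp hT' s
          (Subgroup.mem_sup_right (Subgroup.mem_zpowers s))).symm
      · intro e
        have : T ≤ Subgroup.centralizer {u} := sup_le
          (fun r hr => Subgroup.mem_centralizer_singleton_iff.mpr
            (Subgroup.mem_centralizer_iff.mp hu r hr))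
          (Subgroup.zpowers_le.mpr (Subgroup.mem_centralizer_singleton_iff.mpr e.symm))
        exact Subgroup.mem_centralizer_iff.mpr fun t ht =>
          Subgroup.mem_centralizer_singleton_iff.mp (this ht)
    have hdp : ∀ u ∈ CR, ⁅u, s⁆ ^ p = 1 := by
      intro u hu
      rw [← h.comm_pow_eq_one_right, commutatorElement_eq_one_iff_mul_comm]
      exact (Subgroup.mem_centralizer_iff.mp hu _ hsp).symm
    have hwd : ∀ u₁ u₂ : CR, u₁⁻¹ * u₂ ∈ CT.subgroupOf CR ↔ ⁅(u₁ : G), s⁆ = ⁅(u₂ : G), s⁆ := by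
      intro u₁ u₂
      rw [Subgroup.mem_subgroupOf, hmem _ (u₁⁻¹ * u₂).2]
      rw [commutatorElement_eq_one_iff_mul_comm, Subgroup.coe_mul, Subgroup.coe_inv,
        commutatorElement_def, commutatorElement_def, mul_left_inj]
      constructor
      · intro e
        calc (u₁ : G) * s * (u₁ : G)⁻¹ = u₁ * (s * ((u₁ : G)⁻¹ * u₂)) * (u₂ : G)⁻¹ := by group
          _ = u₁ * (((u₁ : G)⁻¹ * u₂) * s) * (u₂ : G)⁻¹ := by rw [e]
          _ = _ := by group
      · intro e
        calc (u₁ : G)⁻¹ * u₂ * s = (u₁ : G)⁻¹ * ((u₂ : G) * s * (u₂ : G)⁻¹) * u₂ := by group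
          _ = (u₁ : G)⁻¹ * ((u₁ : G) * s * (u₁ : G)⁻¹) * u₂ := by rw [e]
          _ = _ := by group
    let f : CR ⧸ CT.subgroupOf CR → {d : ↥(commutator G) // d ^ p = 1} :=
      Quotient.lift (fun u => ⟨⟨⁅(u : G), s⁆, comm_mem _ s⟩, Subtype.ext (hdp u u.2)⟩)
        fun u₁ u₂ e => by
          have := (hwd u₁ u₂).mp (QuotientGroup.leftRel_apply.mp e)
          simp [this]
    have hf : Function.Injective f := by
      intro a b
      induction a using Quotient.inductionOn with | h a =>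
      induction b using Quotient.inductionOn with | h b =>
      intro e
      refine Quotient.sound (QuotientGroup.leftRel_apply.mpr ((hwd a b).mpr ?_))
      exact congrArg Subtype.val (congrArg Subtype.val e)
    have h1 : (CT.subgroupOf CR).index ≤ p := by
      refine (Nat.card_le_card_of_injective f hf).trans ?_
      rw [Nat.card_eq_fintype_card, Fintype.card_subtype]
      exact IsCyclic.card_pow_eq_one_le hp.out.pos
    have h2 := (CT.subgroupOf CR).card_mul_index
    rw [Nat.card_congr (Subgroup.subgroupOfEquivOfLe hle).toEquiv] at h2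
    rw [← h2, mul_comm p]
    exact Nat.mul_le_mul_left _ h1
  have hstep : Nat.card R * Nat.card CR ≤ Nat.card T * Nat.card CT :=
    calc Nat.card R * Nat.card CR ≤ Nat.card R * (p * Nat.card CT) := Nat.mul_le_mul_left _ hCle
      _ = (p * Nat.card R) * Nat.card CT := by ring
      _ ≤ _ := Nat.mul_le_mul_right _ hcard
  refine hstep.trans (ih _ ?_ T hTS rfl)
  have h1 := hp.out.two_le
  have h2 := Subgroup.card_le_of_le hTS
  have h3 : 0 < Nat.card R := Nat.card_pos
  subst hn
  have h4 : 2 * Nat.card R ≤ Nat.card T := (Nat.mul_le_mul_right _ h1).trans hcard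
  omega

theorem CyclicDerived.card_mul_le (h : CyclicDerived p G) (R : Subgroup G) :
    Nat.card R * Nat.card (Subgroup.centralizer (R : Set G)) ≤
      Nat.card G * Nat.card (Subgroup.center G) := by
  refine (h.card_mul_mono R ⊤ le_top).trans (le_of_eq ?_)
  rw [Subgroup.card_top, Subgroup.coe_top, Subgroup.centralizer_univ]

/-- Equality `|R| |C(R)| = |G| |Z(G)|` holds exactly for the subgroups containing the centre. -/
theorem CyclicDerived.card_mul_eq_iff (h : CyclicDerived p G) (R : Subgroup G) :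
    Nat.card R * Nat.card (Subgroup.centralizer (R : Set G)) =
      Nat.card G * Nat.card (Subgroup.center G) ↔ Subgroup.center G ≤ R := by
  constructor
  · intro e
    have h1 := h.card_mul_le (R ⊔ Subgroup.center G)
    have hc : Subgroup.centralizer (R : Set G) ≤
        Subgroup.centralizer ((R ⊔ Subgroup.center G : Subgroup G) : Set G) := by
      intro u hu
      refine Subgroup.mem_centralizer_iff.mpr fun t ht => ?_
      have : R ⊔ Subgroup.center G ≤ Subgroup.centralizer {u} := sup_le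
        (fun r hr => Subgroup.mem_centralizer_singleton_iff.mpr
          (Subgroup.mem_centralizer_iff.mp hu r hr)) (Subgroup.center_le_centralizer _)
      exact Subgroup.mem_centralizer_singleton_iff.mp (this ht)
    have h2 : Nat.card ↥(R ⊔ Subgroup.center G) ≤ Nat.card R := by
      refine Nat.le_of_mul_le_mul_right ?_ (Nat.card_pos
        (α := Subgroup.centralizer (R : Set G)))
      exact ((Nat.mul_le_mul_left _ (Subgroup.card_le_of_le hc)).trans h1).trans e.ge
    exact le_sup_right.trans (Subgroup.eq_of_le_of_card_ge le_sup_left h2).ge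
  · intro hZ
    refine le_antisymm (h.card_mul_le R) ?_
    refine le_trans (le_of_eq ?_) (h.card_mul_mono _ R hZ)
    rw [mul_comm (Nat.card G)]
    congr 1
    rw [show Subgroup.centralizer (Subgroup.center G : Set G) = ⊤ from ?_, Subgroup.card_top]
    exact (Subgroup.eq_top_iff' _).mpr fun g => Subgroup.mem_centralizer_iff.mpr fun z hz =>
      (Subgroup.mem_center_iff.mp hz g).symm

theorem CyclicDerived.pow_card_derived (h : CyclicDerived p G) {n : ℕ}
    (hn : Nat.card (commutator G) = p ^ n) : h.tor n = ⊤ :=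
  (Subgroup.eq_top_iff' _).mpr fun y x => by
    have e : (⟨⁅x, y⁆, comm_mem x y⟩ : ↥(commutator G)) ^ Nat.card (commutator G) = 1 :=
      pow_card_eq_one'
    rw [hn] at e
    exact congrArg Subtype.val e

/-! ### Two generators -/

/-- If `G = ⟨a, b⟩`, the commutator `[a, b]` generates the derived subgroup. -/
theorem CyclicDerived.orderOf_comm (h : CyclicDerived p G) {a b : G}
    (hgen : Subgroup.closure ({a, b} : Set G) = ⊤) :
    orderOf ⁅a, b⁆ = Nat.card (commutator G) := by
  obtain ⟨k, hk⟩ := IsPGroup.iff_orderOf.mp h.pgroup ⁅a, b⁆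
  have hab : ⁅a, b⁆ ^ p ^ k = 1 := hk ▸ pow_orderOf_eq_one _
  have htop : h.tor k = ⊤ := by
    rw [eq_top_iff, ← hgen, Subgroup.closure_le]
    have hcen : ∀ y : G, ⁅a, y⁆ ^ p ^ k = 1 → ⁅b, y⁆ ^ p ^ k = 1 → y ∈ h.tor k := by
      intro y h1 h2
      rw [h.mem_tor_iff, Subgroup.mem_center_iff]
      intro g
      have hle : Subgroup.closure ({a, b} : Set G) ≤ Subgroup.centralizer {y ^ p ^ k} := by
        rw [Subgroup.closure_le]
        intro z hz
        rw [SetLike.mem_coe, Subgroup.mem_centralizer_singleton_iff,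
          ← commutatorElement_eq_one_iff_mul_comm]
        rcases hz with rfl | rfl
        · exact (h.comm_pow_eq_one_right _ _ _).mpr h1
        · exact (h.comm_pow_eq_one_right _ _ _).mpr h2
      exact Subgroup.mem_centralizer_singleton_iff.mp (hle (hgen ▸ Subgroup.mem_top g))
    intro z hz
    rcases hz with rfl | rfl
    · exact hcen _ (by simp) (by rw [← commutatorElement_inv, inv_pow, hab, inv_one])
    · exact hcen _ hab (by simp)
  have hle : ∀ d ∈ commutator G, d ^ p ^ k = 1 := by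
    intro d hd
    have hd' := hd
    rw [commutator_eq_closure] at hd'
    refine (Subgroup.closure_induction (p := fun d _ => d ∈ commutator G ∧ d ^ p ^ k = 1)
      ?_ ⟨one_mem _, one_pow _⟩ ?_ ?_ hd').2
    · rintro _ ⟨x, y, rfl⟩
      exact ⟨comm_mem x y, (htop ▸ Subgroup.mem_top y : y ∈ h.tor k) x⟩
    · rintro u v - - ⟨hu, hu'⟩ ⟨hv, hv'⟩
      exact ⟨mul_mem hu hv, by
        rw [(show Commute u v from h.commute hu hv).mul_pow, hu', hv', mul_one]⟩
    · rintro u - ⟨hu, hu'⟩
      exact ⟨inv_mem hu, by rw [inv_pow, hu', inv_one]⟩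
  haveI := h.cyclic
  obtain ⟨g, hg⟩ := IsCyclic.exists_ofOrder_eq_natCard (α := ↥(commutator G))
  refine le_antisymm ?_ ?_
  · have e := orderOf_le_card (x := (⟨⁅a, b⁆, comm_mem a b⟩ : ↥(commutator G)))
    rwa [← Subgroup.orderOf_coe] at e
  · rw [← hg, hk]
    exact Nat.le_of_dvd (pow_pos hp.out.pos k)
      (orderOf_dvd_of_pow_eq_one (Subtype.ext (hle g g.2)))

end CfsgLib.Metacyclic
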