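import Mathlib
import Cfsg.Prelude.Def_OddOrderLocal
import Cfsg.Agent.Lib.OddOmega.Basic
import Cfsg.Agent.Lib.Critical.Basic
import Cfsg.Agent.Lib.PGroup.Metacyclic

/-!
Metacyclic `p`-groups, `p` odd: centre, abelian subgroups, power subgroups.
-/

set_option autoImplicit false
set_option linter.style.haveILetI false
set_option linter.unusedSectionVars false

open scoped commutatorElement

namespace CfsgLib.Metacyclic

theorem isMetacyclic_subgroup {G : Type*} [Group G] (hm : Cfsg.IsMetacyclic G) (H : Subgroup G) :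
    Cfsg.IsMetacyclic H := by
  obtain ⟨N, hN, hNc, hQ⟩ := hm
  refine ⟨N.subgroupOf H, inferInstance, ?_, ?_⟩
  · exact isCyclic_of_injective
      (⟨⟨fun x => (⟨(x : H), Subgroup.mem_subgroupOf.mp x.2⟩ : N), rfl⟩, fun _ _ => rfl⟩ :
        N.subgroupOf H →* N)
      fun a b e => Subtype.ext (Subtype.ext (congrArg (fun z : N => (z : G)) e))
  · refine isCyclic_of_injective (QuotientGroup.map _ N H.subtype le_rfl) ?_
    rw [← MonoidHom.ker_eq_bot_iff, eq_bot_iff]
    intro q hq
    induction q using QuotientGroup.induction_on with | H x =>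
    rw [MonoidHom.mem_ker] at hq
    have hq' : (x : G) ∈ N := (QuotientGroup.eq_one_iff _).mp hq
    exact (QuotientGroup.eq_one_iff x).mpr (Subgroup.mem_subgroupOf.mpr hq')

theorem pow_mod_eq {M : Type*} [Monoid M] {x : M} {m : ℕ} (hx : x ^ m = 1) (i : ℕ) :
    x ^ i = x ^ (i % m) := by
  conv_lhs => rw [← Nat.div_add_mod i m, pow_add, pow_mul, hx, one_pow, one_mul]

variable {G : Type*} [Group G] [Finite G] {p : ℕ} [hp : Fact p.Prime]

/-- Generators of a metacyclic group: `G = ⟨a⟩⟨b⟩` with `⟨a⟩` normal. -/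
theorem exists_gens (hm : Cfsg.IsMetacyclic G) :
    ∃ a b : G, (Subgroup.zpowers a).Normal ∧ (∀ g : G, ∃ i j : ℕ, g = a ^ i * b ^ j) ∧
      commutator G ≤ Subgroup.zpowers a := by
  obtain ⟨N, hN, hNc, hQ⟩ := hm
  obtain ⟨a, ha⟩ := IsCyclic.exists_generator (α := N)
  obtain ⟨bq, hbq⟩ := IsCyclic.exists_generator (α := G ⧸ N)
  obtain ⟨b, rfl⟩ := QuotientGroup.mk'_surjective N bq
  have hNa : N = Subgroup.zpowers (a : G) := by
    refine le_antisymm (fun x hx => ?_) (Subgroup.zpowers_le.mpr a.2)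
    obtain ⟨k, hk⟩ := Subgroup.mem_zpowers_iff.mp (ha ⟨x, hx⟩)
    exact ⟨k, by simpa using congrArg Subtype.val hk⟩
  refine ⟨a, b, hNa ▸ hN, fun g => ?_, hNa ▸ ?_⟩
  · obtain ⟨k, hk⟩ := Subgroup.mem_zpowers_iff.mp (hbq (QuotientGroup.mk' N g))
    obtain ⟨j, hj⟩ := (mem_powers_iff_mem_zpowers (x := b)).mpr ⟨k, rfl⟩
    have hgN : g * (b ^ j)⁻¹ ∈ N := by
      rw [← QuotientGroup.ker_mk' N, MonoidHom.mem_ker, map_mul, map_inv, ← hk]
      dsimp only at hj
      rw [hj, map_zpow, mul_inv_cancel]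
    rw [hNa] at hgN
    obtain ⟨i, hi⟩ := (mem_powers_iff_mem_zpowers (x := (a : G))).mpr hgN
    refine ⟨i, j, ?_⟩
    dsimp only at hi
    rw [hi, inv_mul_cancel_right]
  · rw [commutator_eq_closure, Subgroup.closure_le]
    rintro _ ⟨x, y, rfl⟩
    rw [SetLike.mem_coe, ← QuotientGroup.ker_mk' N, MonoidHom.mem_ker, map_commutatorElement,
      commutatorElement_eq_one_iff_mul_comm]
    haveI := hQ
    letI := IsCyclic.commGroup (α := G ⧸ N)
    exact mul_comm _ _

theorem cyclicDerived (hp2 : p ≠ 2) (hG : IsPGroup p G) (hm : Cfsg.IsMetacyclic G) :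
    CyclicDerived p G := by
  obtain ⟨a, b, -, -, hle⟩ := exists_gens hm
  exact ⟨hG, hp2, isCyclic_of_injective (Subgroup.inclusion hle) (Subgroup.inclusion_injective hle)⟩

/-- The data used below: a metacyclic `p`-group of derived order `p ^ n`. -/
theorem setup (hp2 : p ≠ 2) (hG : IsPGroup p G) (hm : Cfsg.IsMetacyclic G) :
    ∃ (h : CyclicDerived p G) (n : ℕ) (a b : G), Nat.card (commutator G) = p ^ n ∧
      (∀ g : G, ∃ i j : ℕ, g = a ^ i * b ^ j) ∧ orderOf ⁅a, b⁆ = p ^ n := by
  obtain ⟨a, b, -, hgen, -⟩ := exists_gens hm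
  have h := cyclicDerived hp2 hG hm
  obtain ⟨n, hn⟩ := IsPGroup.iff_card.mp (hG.to_subgroup (commutator G))
  refine ⟨h, n, a, b, hn, hgen, ?_⟩
  rw [h.orderOf_comm, hn]
  refine (Subgroup.eq_top_iff' _).mpr fun g => ?_
  obtain ⟨i, j, rfl⟩ := hgen g
  exact mul_mem (pow_mem (Subgroup.subset_closure (by simp)) i)
    (pow_mem (Subgroup.subset_closure (by simp)) j)

/-- `a ^ i * b ^ j ∈ tor (n - s)` iff `p ^ s ∣ i, j`. -/
theorem mem_tor_gens (h : CyclicDerived p G) {n : ℕ} {a b : G}
    (hgen : ∀ g : G, ∃ i j : ℕ, g = a ^ i * b ^ j) (hab : orderOf ⁅a, b⁆ = p ^ n) {s : ℕ}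
    (hs : s ≤ n) (i j : ℕ) :
    a ^ i * b ^ j ∈ h.tor (n - s) ↔ p ^ s ∣ i ∧ p ^ s ∣ j := by
  have hq : p ^ n = p ^ s * p ^ (n - s) := by rw [← pow_add]; congr 1; omega
  have key : ∀ x y : G, orderOf ⁅x, y⁆ = p ^ n → ∀ t : ℕ,
      (⁅x ^ t, y⁆ ^ p ^ (n - s) = 1 ↔ p ^ s ∣ t) := by
    intro x y hxy t
    rw [← h.comm_pow_eq_one, ← pow_mul, h.comm_pow_eq_one, ← orderOf_dvd_iff_pow_eq_one, hxy, hq]
    exact mul_dvd_mul_iff_right (pow_pos hp.out.pos _).ne'
  have hba : orderOf ⁅b, a⁆ = p ^ n := by rw [← commutatorElement_inv, orderOf_inv, hab]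
  have hcen : ∀ y : G, ⁅a, y⁆ = 1 → ⁅b, y⁆ = 1 → y ∈ Subgroup.center G := by
    intro y h1 h2
    rw [Subgroup.mem_center_iff]
    intro g
    obtain ⟨u, v, rfl⟩ := hgen g
    have ha : Commute a y := commutatorElement_eq_one_iff_mul_comm.mp h1
    have hb : Commute b y := commutatorElement_eq_one_iff_mul_comm.mp h2
    exact (ha.pow_left u).mul_left (hb.pow_left v)
  have hai : ∀ t : ℕ, p ^ s ∣ t → a ^ t ∈ h.tor (n - s) := fun t ht => by
    rw [h.mem_tor_iff]
    refine hcen _ ?_ ?_
    · rw [commutatorElement_eq_one_iff_mul_comm]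
      exact (((Commute.refl a).pow_right _).pow_right _).eq
    · rw [h.comm_pow_eq_one_right, ← commutatorElement_inv, inv_pow, (key a b hab t).mpr ht,
        inv_one]
  have hbj : ∀ t : ℕ, p ^ s ∣ t → b ^ t ∈ h.tor (n - s) := fun t ht => by
    rw [h.mem_tor_iff]
    refine hcen _ ?_ ?_
    · rw [h.comm_pow_eq_one_right, ← commutatorElement_inv, inv_pow, (key b a hba t).mpr ht,
        inv_one]
    · rw [commutatorElement_eq_one_iff_mul_comm]
      exact (((Commute.refl b).pow_right _).pow_right _).eq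
  constructor
  · intro hmem
    have hi : p ^ s ∣ i := by
      have h1 := h.mem_tor.mp hmem b
      rw [← commutatorElement_inv, inv_pow, inv_eq_one] at h1
      have e : ⁅a ^ i * b ^ j, b⁆ = ⁅a ^ i, b⁆ := by
        have hc : b ^ j * b * (b ^ j)⁻¹ = b := by group
        simp only [commutatorElement_def, mul_inv_rev]
        calc a ^ i * b ^ j * b * ((b ^ j)⁻¹ * (a ^ i)⁻¹) * b⁻¹
            = a ^ i * (b ^ j * b * (b ^ j)⁻¹) * (a ^ i)⁻¹ * b⁻¹ := by group
          _ = _ := by rw [hc]
      rw [e] at h1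
      exact (key a b hab i).mp h1
    refine ⟨hi, (key b a hba j).mp ?_⟩
    have hbm : b ^ j ∈ h.tor (n - s) := by
      simpa using (h.tor (n - s)).mul_mem (inv_mem (hai i hi)) hmem
    rw [← commutatorElement_inv, inv_pow, h.mem_tor.mp hbm a, inv_one]
  · rintro ⟨hi, hj⟩
    exact mul_mem (hai i hi) (hbj j hj)

theorem mem_center_gens (h : CyclicDerived p G) {n : ℕ} {a b : G}
    (hgen : ∀ g : G, ∃ i j : ℕ, g = a ^ i * b ^ j) (hab : orderOf ⁅a, b⁆ = p ^ n) (i j : ℕ) :
    a ^ i * b ^ j ∈ Subgroup.center G ↔ p ^ n ∣ i ∧ p ^ n ∣ j := by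
  rw [← mem_tor_gens h hgen hab (le_refl n), Nat.sub_self, h.mem_tor_iff, pow_zero, pow_one]

/-- `|G : tor (n - s)| = p ^ (2 s)`. -/
theorem index_tor (h : CyclicDerived p G) {n : ℕ} {a b : G}
    (hgen : ∀ g : G, ∃ i j : ℕ, g = a ^ i * b ^ j) (hab : orderOf ⁅a, b⁆ = p ^ n) {s : ℕ}
    (hs : s ≤ n) : (h.tor (n - s)).index = p ^ (2 * s) := by
  haveI := h.tor_normal (n - s)
  set T := h.tor (n - s) with hT
  have hmem := mem_tor_gens h hgen hab hs
  let f : Fin (p ^ s) × Fin (p ^ s) → G ⧸ T := fun u =>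
    QuotientGroup.mk (a ^ (u.1 : ℕ) * b ^ (u.2 : ℕ))
  have hf : Function.Bijective f := by
    constructor
    · rintro ⟨⟨i, hi⟩, ⟨j, hj⟩⟩ ⟨⟨i', hi'⟩, ⟨j', hj'⟩⟩ e
      simp only [f, QuotientGroup.mk_mul, QuotientGroup.mk_pow] at e
      have hps := pow_pos hp.out.pos s
      -- move everything to one side
      have e1 : (a : G ⧸ T) ^ (i + (p ^ s - i')) * (b : G ⧸ T) ^ (j + (p ^ s - j')) = 1 := by
        have ha1 : (a : G ⧸ T) ^ p ^ s = 1 := by
          rw [← QuotientGroup.mk_pow, QuotientGroup.eq_one_iff]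
          simpa using (hmem (p ^ s) 0).mpr ⟨dvd_rfl, dvd_zero _⟩
        have hb1 : (b : G ⧸ T) ^ p ^ s = 1 := by
          rw [← QuotientGroup.mk_pow, QuotientGroup.eq_one_iff]
          simpa using (hmem 0 (p ^ s)).mpr ⟨dvd_zero _, dvd_rfl⟩
        calc (a : G ⧸ T) ^ (i + (p ^ s - i')) * (b : G ⧸ T) ^ (j + (p ^ s - j'))
            = (a : G ⧸ T) ^ (p ^ s - i') * ((a : G ⧸ T) ^ i * (b : G ⧸ T) ^ j) *
                (b : G ⧸ T) ^ (p ^ s - j') := by
              rw [add_comm i, pow_add, pow_add]; group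
          _ = ((a : G ⧸ T) ^ (p ^ s - i') * (a : G ⧸ T) ^ i') *
                ((b : G ⧸ T) ^ j' * (b : G ⧸ T) ^ (p ^ s - j')) := by rw [e]; group
          _ = 1 := by
              rw [← pow_add, ← pow_add, Nat.sub_add_cancel hi'.le, Nat.add_sub_cancel' hj'.le,
                ha1, hb1, one_mul]
      rw [← QuotientGroup.mk_pow, ← QuotientGroup.mk_pow, ← QuotientGroup.mk_mul,
        QuotientGroup.eq_one_iff] at e1
      obtain ⟨⟨c, hc⟩, ⟨d, hd⟩⟩ := (hmem _ _).mp e1
      have hc1 : c = 1 := by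
        rcases Nat.lt_or_ge c 2 with hc2 | hc2
        · rcases c with _ | _ | c <;> simp_all <;> omega
        · have := Nat.mul_le_mul_left (p ^ s) hc2; omega
      have hd1 : d = 1 := by
        rcases Nat.lt_or_ge d 2 with hd2 | hd2
        · rcases d with _ | _ | d <;> simp_all <;> omega
        · have := Nat.mul_le_mul_left (p ^ s) hd2; omega
      subst hc1 hd1
      simp only [Prod.mk.injEq, Fin.mk.injEq]
      omega
    · intro q
      induction q using QuotientGroup.induction_on with | H g =>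
      obtain ⟨i, j, rfl⟩ := hgen g
      refine ⟨⟨⟨i % p ^ s, Nat.mod_lt _ (pow_pos hp.out.pos s)⟩,
        ⟨j % p ^ s, Nat.mod_lt _ (pow_pos hp.out.pos s)⟩⟩, ?_⟩
      simp only [f, QuotientGroup.mk_mul, QuotientGroup.mk_pow]
      have ha : (a : G ⧸ T) ^ p ^ s = 1 := by
        rw [← QuotientGroup.mk_pow, QuotientGroup.eq_one_iff]
        simpa using (hmem (p ^ s) 0).mpr ⟨dvd_rfl, dvd_zero _⟩
      have hb : (b : G ⧸ T) ^ p ^ s = 1 := by
        rw [← QuotientGroup.mk_pow, QuotientGroup.eq_one_iff]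
        simpa using (hmem 0 (p ^ s)).mpr ⟨dvd_zero _, dvd_rfl⟩
      rw [← pow_mod_eq ha i, ← pow_mod_eq hb j]
  rw [Subgroup.index, ← Nat.card_eq_of_bijective f hf, Nat.card_prod, Nat.card_fin, two_mul,
    pow_add]

/-- `|G : Z(G)| = |G'| ^ 2`. -/
theorem index_center (hp2 : p ≠ 2) (hG : IsPGroup p G) (hm : Cfsg.IsMetacyclic G) :
    (Subgroup.center G).index = Nat.card (commutator G) ^ 2 := by
  obtain ⟨h, n, a, b, hn, hgen, hab⟩ := setup hp2 hG hm
  have := index_tor h hgen hab (le_refl n)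
  rw [show h.tor (n - n) = Subgroup.center G by
    ext y; rw [Nat.sub_self, h.mem_tor_iff, pow_zero, pow_one]] at this
  rw [this, hn, ← pow_mul, mul_comm]

/-- The subgroup generated by the `p ^ s`-th powers is `tor (n - s)`. -/
theorem closure_powers (h : CyclicDerived p G) {n : ℕ} {a b : G}
    (hgen : ∀ g : G, ∃ i j : ℕ, g = a ^ i * b ^ j) (hn : Nat.card (commutator G) = p ^ n)
    (hab : orderOf ⁅a, b⁆ = p ^ n) {s : ℕ} (hs : s ≤ n) :
    Subgroup.closure {x : G | ∃ y : G, y ^ p ^ s = x} = h.tor (n - s) := by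
  refine le_antisymm ((Subgroup.closure_le _).mpr ?_) fun g hg => ?_
  · rintro _ ⟨y, rfl⟩
    rw [SetLike.mem_coe, h.mem_tor_iff, ← pow_mul, ← pow_add,
      show s + (n - s) = n by omega, ← h.mem_tor_iff, h.pow_card_derived hn]
    trivial
  · obtain ⟨i, j, rfl⟩ := hgen g
    obtain ⟨⟨c, rfl⟩, ⟨d, rfl⟩⟩ := (mem_tor_gens h hgen hab hs i j).mp hg
    rw [mul_comm _ c, mul_comm _ d, pow_mul, pow_mul]
    exact mul_mem (Subgroup.subset_closure ⟨_, rfl⟩) (Subgroup.subset_closure ⟨_, rfl⟩)

theorem frattini_eq_tor (h : CyclicDerived p G) {n : ℕ} {a b : G}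
    (hgen : ∀ g : G, ∃ i j : ℕ, g = a ^ i * b ^ j) (hn : Nat.card (commutator G) = p ^ n)
    (hab : orderOf ⁅a, b⁆ = p ^ n) (hn0 : 1 ≤ n) : frattini G = h.tor (n - 1) := by
  haveI := h.tor_normal (n - 1)
  refine le_antisymm (CfsgLib.Critical.frattini_le_of_elementary (p := p) _ ?_ ?_) ?_
  · rw [commutator_eq_closure, Subgroup.closure_le]
    rintro _ ⟨x, y, rfl⟩
    rw [SetLike.mem_coe]
    -- the quotient has order `p ^ 2`, hence is abelian
    have hi := index_tor h hgen hab hn0
    rw [mul_one, Subgroup.index_eq_card] at hi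
    rw [← QuotientGroup.ker_mk' (h.tor (n - 1)), MonoidHom.mem_ker, map_commutatorElement,
      commutatorElement_eq_one_iff_mul_comm]
    haveI := IsPGroup.isMulCommutative_of_card_eq_prime_sq hi
    exact mul_comm' _ _
  · intro x
    rw [h.mem_tor_iff, ← pow_mul, ← pow_succ', Nat.sub_add_cancel hn0, ← h.mem_tor_iff,
      h.pow_card_derived hn]
    trivial
  · rw [← closure_powers h hgen hn hab hn0, Subgroup.closure_le]
    rintro _ ⟨y, rfl⟩
    rw [pow_one]
    exact CfsgLib.OddOmega.pow_mem_frattini h.pgroup y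

theorem card_commutator_maximal (hp2 : p ≠ 2) (hG : IsPGroup p G) (hm : Cfsg.IsMetacyclic G)
    (hna : commutator G ≠ ⊥) (M : Subgroup G) (hM : IsCoatom M) :
    Nat.card (commutator M) * p = Nat.card (commutator G) ∧ M.index = p := by
  obtain ⟨h, n, a, b, hn, hgen, hab⟩ := setup hp2 hG hm
  have hn0 : 1 ≤ n := by
    rcases Nat.eq_zero_or_pos n with rfl | h0
    · exact absurd (Subgroup.eq_bot_of_card_eq _ (by rw [hn, pow_zero])) hna
    · exact h0
  have hΦ := frattini_eq_tor h hgen hn hab hn0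
  have hΦM : frattini G ≤ M := frattini_le_coatom hM
  have hZM : Subgroup.center G ≤ M := (hΦ ▸ h.center_le_tor (n - 1)).trans hΦM
  have hidx : M.index = p := by
    haveI : Group.IsNilpotent G := hG.isNilpotent
    haveI : M.Normal := Subgroup.NormalizerCondition.normal_of_coatom M
      (Group.normalizerCondition_of_isNilpotent (G := G)) hM
    have hdvd := Subgroup.index_dvd_of_le hΦM
    rw [hΦ, index_tor h hgen hab hn0, mul_one] at hdvd
    obtain ⟨i, hi, hi'⟩ := (Nat.dvd_prime_pow hp.out).mp hdvd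
    interval_cases i
    · exact absurd (Subgroup.index_eq_one.mp (by rw [hi', pow_zero])) hM.1
    · rw [hi', pow_one]
    · exfalso
      have e : frattini G = M := by
        refine Subgroup.eq_of_le_of_card_ge hΦM (le_of_eq ?_)
        have h1 := M.card_mul_index
        have h2 := (frattini G).card_mul_index
        have h3 : (frattini G).index = p ^ 2 := by rw [hΦ, index_tor h hgen hab hn0]
        rw [h3] at h2; rw [hi', ← h2] at h1
        exact Nat.eq_of_mul_eq_mul_right (pow_pos hp.out.pos 2) h1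
      -- then `G / Φ` would be simple of order `p ^ 2`
      obtain ⟨L, hL⟩ := Sylow.exists_subgroup_card_pow_prime p (G := G ⧸ M) (n := 1)
        (by rw [← Subgroup.index_eq_card, hi', pow_one]; exact dvd_pow_self p two_ne_zero)
      have hcard : Nat.card (L.comap (QuotientGroup.mk' M)) = p * Nat.card M := by
        rw [QuotientGroup.card_preimage_mk (s := (M : Subgroup G)) (t := (L : Set (G ⧸ M))) |>
          (fun e => (e : Nat.card ↥(L.comap (QuotientGroup.mk' M)) = _)), mul_comm]
        rw [show Nat.card (L : Set (G ⧸ M)) = p by rw [← pow_one p]; exact hL]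
      have hle : M ≤ L.comap (QuotientGroup.mk' M) := fun x hx => by
        rw [Subgroup.mem_comap, QuotientGroup.mk'_apply, (QuotientGroup.eq_one_iff x).mpr hx]
        exact one_mem _
      rcases hle.eq_or_lt with e' | e'
      · rw [← e'] at hcard
        have := hp.out.two_le
        have := Nat.card_pos (α := M)
        nlinarith
      · have := hM.2 _ e'
        rw [this, Subgroup.card_top] at hcard
        have h1 := M.card_mul_index
        rw [hi', hcard, sq] at h1
        have := hp.out.two_le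
        have := Nat.card_pos (α := M)
        nlinarith
  refine ⟨?_, hidx⟩
  obtain ⟨m, hm'⟩ := IsPGroup.iff_card.mp ((hG.to_subgroup M).to_subgroup (commutator M))
  have hMi : (Subgroup.center M).index = p ^ (2 * m) := by
    rw [index_center hp2 (hG.to_subgroup M) (isMetacyclic_subgroup hm M), hm', ← pow_mul, mul_comm]
  have hGi : (Subgroup.center G).index = p ^ (2 * n) := by
    rw [index_center hp2 hG hm, hn, ← pow_mul, mul_comm]
  have hMc := (Subgroup.center M).card_mul_index
  have hGc := (Subgroup.center G).card_mul_index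
  have hMG := M.card_mul_index
  rw [hMi] at hMc; rw [hGi] at hGc; rw [hidx] at hMG
  have hup : Nat.card (Subgroup.center G) ≤ Nat.card (Subgroup.center M) :=
    Nat.card_le_card_of_injective (fun z => (⟨⟨z, hZM z.2⟩, Subgroup.mem_center_iff.mpr fun x =>
      Subtype.ext (Subgroup.mem_center_iff.mp z.2 x)⟩ : Subgroup.center M))
      fun z w e => Subtype.ext (congrArg (fun u : Subgroup.center M => ((u : M) : G)) e)
  have hlow : Nat.card (Subgroup.center M) ≤ p * Nat.card (Subgroup.center G) := by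
    have h1 := (h.card_mul_eq_iff M).mpr hZM
    have h2 : Nat.card (Subgroup.center M) ≤ Nat.card (Subgroup.centralizer (M : Set G)) :=
      Nat.card_le_card_of_injective (fun z => (⟨((z : M) : G), Subgroup.mem_centralizer_iff.mpr
        fun x hx => congrArg Subtype.val (Subgroup.mem_center_iff.mp z.2 ⟨x, hx⟩)⟩ :
          Subgroup.centralizer (M : Set G)))
        fun z w e => Subtype.ext (Subtype.ext
          (congrArg (fun u : Subgroup.centralizer (M : Set G) => (u : G)) e))
    refine h2.trans (le_of_eq (Nat.eq_of_mul_eq_mul_left (Nat.card_pos (α := M)) ?_))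
    rw [h1, ← hMG]; ring
  rw [hn, hm', ← pow_succ]
  have hpp := hp.out.one_lt
  have hZpos := Nat.card_pos (α := Subgroup.center G)
  have e : Nat.card (Subgroup.center M) * p ^ (2 * m + 1) =
      Nat.card (Subgroup.center G) * p ^ (2 * n) := by
    rw [pow_succ, ← mul_assoc, hMc, hMG, hGc]
  have h1 : 2 * m + 1 ≤ 2 * n := by
    refine (Nat.pow_le_pow_iff_right hpp).mp (Nat.le_of_mul_le_mul_left ?_ hZpos)
    exact (Nat.mul_le_mul_right _ hup).trans e.le
  have h2 : 2 * n ≤ 2 * m + 2 := by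
    refine (Nat.pow_le_pow_iff_right hpp).mp (Nat.le_of_mul_le_mul_left ?_ hZpos)
    refine e.ge.trans ((Nat.mul_le_mul_right _ hlow).trans (le_of_eq ?_))
    ring
  congr 1
  omega

/-- `|H'| = max (1, |G'| / |G : H|)` for every subgroup `H`. -/
theorem card_commutator_subgroup {G : Type*} [Group G] [Finite G] (hp2 : p ≠ 2)
    (hG : IsPGroup p G) (hm : Cfsg.IsMetacyclic G) (H : Subgroup G) {n k : ℕ}
    (hn : Nat.card (commutator G) = p ^ n) (hk : H.index = p ^ k) :
    Nat.card (commutator H) = p ^ (n - k) := by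
  have hmap : ∀ (A : Subgroup G), (commutator A).map A.subtype ≤ commutator G := fun A => by
    rw [commutator_def, Subgroup.map_commutator]
    exact Subgroup.commutator_mono le_top le_top
  induction hN : Nat.card G using Nat.strong_induction_on generalizing G n k with
  | _ N ih => ?_
  subst hN
  rcases Nat.eq_zero_or_pos n with rfl | hn0
  · rw [Nat.zero_sub, pow_zero]
    rw [pow_zero] at hn
    have h1 := Subgroup.eq_bot_of_card_eq _ hn
    have h2 := hmap H
    rw [h1, le_bot_iff, Subgroup.map_eq_bot_iff_of_injective _ H.subtype_injective] at h2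
    rw [h2, Subgroup.card_bot]
  rcases eq_or_ne H ⊤ with rfl | hH
  · have hk0 : k = 0 := by
      rw [Subgroup.index_top] at hk
      exact (Nat.pow_eq_one.mp hk.symm).resolve_left hp.out.ne_one
    rw [hk0, Nat.sub_zero, ← hn]
    have e : (commutator (⊤ : Subgroup G)).map (Subgroup.topEquiv (G := G)).toMonoidHom =
        commutator G := by
      rw [commutator_def, Subgroup.map_commutator,
        Subgroup.map_top_of_surjective _ (Subgroup.topEquiv (G := G)).surjective, commutator_def]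
    rw [← e]
    exact Nat.card_congr (Subgroup.equivMapOfInjective _ _
      (Subgroup.topEquiv (G := G)).injective).toEquiv
  obtain ⟨M, hM, hHM⟩ := (eq_top_or_exists_le_coatom H).resolve_left hH
  have hna : commutator G ≠ ⊥ := fun e => by
    rw [e, Subgroup.card_bot] at hn
    exact hn0.ne' ((Nat.pow_eq_one.mp hn.symm).resolve_left hp.out.ne_one)
  obtain ⟨hc, hidx⟩ := card_commutator_maximal hp2 hG hm hna M hM
  obtain ⟨m, rfl⟩ : ∃ m, n = m + 1 := ⟨n - 1, by omega⟩
  rw [hn, pow_succ] at hc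
  have hMn := Nat.eq_of_mul_eq_mul_right hp.out.pos hc
  have hrel := Subgroup.relIndex_mul_index hHM
  rw [hidx, hk] at hrel
  obtain ⟨l, rfl⟩ : ∃ l, k = l + 1 := ⟨k - 1, by
    rcases Nat.eq_zero_or_pos k with rfl | h0
    · exact absurd (Subgroup.index_eq_one.mp (by rw [hk, pow_zero])) hH
    · omega⟩
  rw [pow_succ] at hrel
  have hrel' := Nat.eq_of_mul_eq_mul_right hp.out.pos hrel
  have hlt : Nat.card M < Nat.card G := by
    have h1 := M.card_mul_index
    rw [hidx] at h1
    have := hp.out.two_le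
    have := Nat.card_pos (α := M)
    nlinarith
  have key := ih _ hlt (G := M) (hG.to_subgroup M) (isMetacyclic_subgroup hm M) (H.subgroupOf M)
    hMn hrel' (fun A => by
      rw [commutator_def, Subgroup.map_commutator]
      exact Subgroup.commutator_mono le_top le_top) rfl
  rw [show m + 1 - (l + 1) = m - l by omega, ← key]
  set e := (Subgroup.subgroupOfEquivOfLe hHM).toMonoidHom with he
  have hmapc : (commutator (H.subgroupOf M)).map e = commutator H := by
    rw [commutator_def, Subgroup.map_commutator, Subgroup.map_top_of_surjective _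
      (Subgroup.subgroupOfEquivOfLe hHM).surjective, commutator_def]
  rw [← hmapc]
  exact (Nat.card_congr (Subgroup.equivMapOfInjective _ _
    (Subgroup.subgroupOfEquivOfLe hHM).injective).toEquiv).symm

/-- A subgroup is abelian iff its order is at most `|G : G'|`. -/
theorem isMulCommutative_iff (hp2 : p ≠ 2) (hG : IsPGroup p G) (hm : Cfsg.IsMetacyclic G)
    (H : Subgroup G) : IsMulCommutative H ↔ Nat.card H ≤ (commutator G).index := by
  obtain ⟨n, hn⟩ := IsPGroup.iff_card.mp (hG.to_subgroup (commutator G))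
  obtain ⟨k, hk⟩ : ∃ k, H.index = p ^ k := by
    obtain ⟨c, hc⟩ := IsPGroup.iff_card.mp hG
    obtain ⟨k, -, hk⟩ := (Nat.dvd_prime_pow hp.out).mp ((Subgroup.index_dvd_card H).trans hc.dvd)
    exact ⟨k, hk⟩
  have hc := card_commutator_subgroup hp2 hG hm H hn hk
  have h1 := (commutator G).card_mul_index
  have h2 := H.card_mul_index
  rw [hn] at h1; rw [hk] at h2
  have hA : IsMulCommutative H ↔ n ≤ k := by
    constructor
    · intro hA
      have e : commutator H = ⊥ := by
        rw [eq_bot_iff, commutator_eq_closure, Subgroup.closure_le]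
        rintro _ ⟨x, y, rfl⟩
        exact commutatorElement_eq_one_iff_mul_comm.mpr (hA.is_comm.comm x y)
      rw [e, Subgroup.card_bot] at hc
      have := (Nat.pow_eq_one.mp hc.symm).resolve_left hp.out.ne_one
      omega
    · intro hle
      rw [show n - k = 0 by omega, pow_zero] at hc
      have e := Subgroup.eq_bot_of_card_eq _ hc
      exact ⟨⟨fun x y => commutatorElement_eq_one_iff_mul_comm.mp (Subgroup.mem_bot.mp
        (e ▸ Subgroup.commutator_mem_commutator (Subgroup.mem_top x) (Subgroup.mem_top y)))⟩⟩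
  rw [hA]
  constructor
  · intro hle
    refine Nat.le_of_mul_le_mul_right ?_ (pow_pos hp.out.pos k)
    rw [h2, ← h1, mul_comm]
    exact Nat.mul_le_mul_left _ (Nat.pow_le_pow_right hp.out.pos hle)
  · intro hle
    refine (Nat.pow_le_pow_iff_right hp.out.one_lt).mp (Nat.le_of_mul_le_mul_left ?_
      (Nat.card_pos (α := H)))
    calc Nat.card H * p ^ n ≤ (commutator G).index * p ^ n := Nat.mul_le_mul_right _ hle
      _ = _ := by rw [mul_comm, h1, h2]

end CfsgLib.Metacyclic

namespace CfsgLib.Metacyclic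

variable {G : Type*} [Group G] [Finite G] {p : ℕ} [hp : Fact p.Prime]

/-- If `|G : G'| ≤ |R|` then `|R'| |G : G'| = |R|`. -/
theorem card_commutator_mul_index (hp2 : p ≠ 2) (hG : IsPGroup p G) (hm : Cfsg.IsMetacyclic G)
    (R : Subgroup G) (hR : (commutator G).index ≤ Nat.card R) :
    Nat.card (commutator R) * (commutator G).index = Nat.card R := by
  obtain ⟨n, hn⟩ := IsPGroup.iff_card.mp (hG.to_subgroup (commutator G))
  obtain ⟨k, hk⟩ : ∃ k, R.index = p ^ k := by
    obtain ⟨c, hc⟩ := IsPGroup.iff_card.mp hG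
    obtain ⟨k, -, hk⟩ := (Nat.dvd_prime_pow hp.out).mp ((Subgroup.index_dvd_card R).trans hc.dvd)
    exact ⟨k, hk⟩
  rw [card_commutator_subgroup hp2 hG hm R hn hk]
  have h1 := (commutator G).card_mul_index
  have h2 := R.card_mul_index
  rw [hn] at h1; rw [hk] at h2
  have hkn : k ≤ n := by
    refine (Nat.pow_le_pow_iff_right hp.out.one_lt).mp (Nat.le_of_mul_le_mul_left ?_
      (Nat.pos_of_ne_zero (Subgroup.index_ne_zero_of_finite (H := commutator G))))
    calc (commutator G).index * p ^ k ≤ Nat.card R * p ^ k := Nat.mul_le_mul_right _ hR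
      _ = _ := by rw [h2, ← h1, mul_comm]
  refine Nat.eq_of_mul_eq_mul_right (pow_pos hp.out.pos k) ?_
  rw [h2, ← h1, mul_right_comm, ← pow_add, Nat.sub_add_cancel hkn]

/-- An abelian subgroup of maximal order is exactly a maximal abelian subgroup. -/
theorem maximal_abelian_iff (hp2 : p ≠ 2) (hG : IsPGroup p G) (hm : Cfsg.IsMetacyclic G)
    (L : Subgroup G) :
    Maximal (fun K : Subgroup G => IsMulCommutative ↥K) L ↔
      Nat.card L = (commutator G).index := by
  have h := isMulCommutative_iff hp2 hG hm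
  constructor
  · intro hL
    refine le_antisymm ((h L).mp hL.prop) (not_lt.mp fun hlt => ?_)
    obtain ⟨a, ha⟩ := IsPGroup.iff_card.mp (hG.to_subgroup L)
    have h1 := (commutator G).index_dvd_card
    obtain ⟨c, hc⟩ := IsPGroup.iff_card.mp hG
    obtain ⟨i, -, hi⟩ := (Nat.dvd_prime_pow hp.out).mp (h1.trans hc.dvd)
    rw [ha, hi] at hlt
    have hai := (Nat.pow_lt_pow_iff_right hp.out.one_lt).mp hlt
    obtain ⟨K, hK, hLK⟩ := Sylow.exists_subgroup_card_pow_prime_le p (n := a) (m := a + 1) (G := G)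
      ((pow_dvd_pow p (show a + 1 ≤ i by omega)).trans (hi ▸ h1)) L ha (by omega)
    have hKc : IsMulCommutative K :=
      (h K).mpr (by rw [hK, hi]; exact Nat.pow_le_pow_right hp.out.pos (by omega))
    have := Subgroup.card_le_of_le (hL.2 hKc hLK)
    rw [hK, ha] at this
    exact absurd ((Nat.pow_le_pow_iff_right hp.out.one_lt).mp this) (by omega)
  · intro hL
    exact ⟨(h L).mpr hL.le, fun K hK hLK =>
      (Subgroup.eq_of_le_of_card_ge hLK (hL ▸ (h K).mp hK)).ge⟩

end CfsgLib.Metacyclic
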