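import Cfsg.Agent.Lib.Extraspecial.Basics
import Cfsg.Agent.Lib.Extraspecial.Setting
import Cfsg.Agent.Lib.Critical.Basic

/-!
`p`-groups of symplectic type and class at most two.
-/

set_option autoImplicit false
set_option linter.style.haveILetI false

open scoped commutatorElement

namespace CfsgLib.SympType

variable {p : ℕ} [hp : Fact p.Prime]

/-- In a cyclic subgroup the elements killed by `p` are the powers of any one of order `p`. -/
theorem mem_zpowers_of_cyclic {X : Type*} [Group X] [Finite X] (A : Subgroup X) [IsCyclic A] {z c : X}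
    (hz : z ∈ A) (hzo : orderOf z = p) (hc : c ∈ A) (hcp : c ^ p = 1) : c ∈ Subgroup.zpowers z := by
  letI := IsCyclic.commGroup (α := A)
  have hle : Subgroup.zpowers (⟨z, hz⟩ : A) ≤ (powMonoidHom p : A →* A).ker := by
    refine Subgroup.zpowers_le.mpr (MonoidHom.mem_ker.mpr (Subtype.ext ?_))
    show z ^ p = 1
    rw [← hzo, pow_orderOf_eq_one]
  have heq := Subgroup.eq_of_le_of_card_ge hle (by
    rw [IsCyclic.card_powMonoidHom_ker, Nat.card_zpowers, Subgroup.orderOf_mk, hzo]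
    exact Nat.le_of_dvd hp.out.pos (Nat.gcd_dvd_right _ _))
  obtain ⟨i, hi⟩ := heq.ge (show (⟨c, hc⟩ : A) ∈ (powMonoidHom p : A →* A).ker from
    MonoidHom.mem_ker.mpr (Subtype.ext hcp))
  exact ⟨i, congrArg Subtype.val hi⟩

/-- A group whose order is at most `p ^ 2` times that of a central subgroup has class two and central
`p`th powers. -/
theorem classTwo_of_central {X : Type*} [Group X] [Finite X] (hX : IsPGroup p X) (Y : Subgroup X)
    (hY : Y ≤ Subgroup.center X) (hd : Nat.card X ∣ p ^ 2 * Nat.card Y) :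
    (∀ a b : X, ⁅a, b⁆ ∈ Subgroup.center X) ∧ ∀ a : X, a ^ p ∈ Subgroup.center X := by
  by_cases hab : IsMulCommutative X
  · have htop : ∀ a : X, a ∈ Subgroup.center X := fun a => Subgroup.mem_center_iff.mpr fun b => mul_comm' b a
    exact ⟨fun a b => htop _, fun a => htop _⟩
  have h1 : Nat.card X ∣ p ^ 2 * Nat.card (Subgroup.center X) :=
    hd.trans (mul_dvd_mul_left _ (Subgroup.card_dvd_of_le hY))
  rw [Subgroup.card_eq_card_quotient_mul_card_subgroup (Subgroup.center X)] at h1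
  have h2 := Nat.dvd_of_mul_dvd_mul_right Nat.card_pos h1
  obtain ⟨i, hi, hio⟩ := (Nat.dvd_prime_pow hp.out).mp h2
  have hncyc : ¬ IsCyclic (X ⧸ Subgroup.center X) := fun hc => hab ⟨⟨fun a b =>
    commutative_of_cyclic_center_quotient (QuotientGroup.mk' _) (by rw [QuotientGroup.ker_mk']) a b⟩⟩
  obtain rfl | rfl | rfl : i = 0 ∨ i = 1 ∨ i = 2 := by omega
  · haveI : Subsingleton (X ⧸ Subgroup.center X) := (Nat.card_eq_one_iff_unique.mp (by rw [hio, pow_zero])).1
    exact absurd (inferInstance : IsCyclic (X ⧸ Subgroup.center X)) hncyc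
  · exact absurd (isCyclic_of_prime_card (p := p) (by rw [hio, pow_one])) hncyc
  haveI := IsPGroup.isMulCommutative_of_card_eq_prime_sq (p := p) (G := X ⧸ Subgroup.center X) hio
  refine ⟨fun a b => ?_, fun a => ?_⟩
  · rw [← QuotientGroup.eq_one_iff, ← QuotientGroup.mk'_apply, map_commutatorElement,
      commutatorElement_eq_one_iff_mul_comm]
    exact mul_comm' _ _
  · rw [← QuotientGroup.eq_one_iff, QuotientGroup.mk_pow]
    by_contra hne
    refine hncyc (isCyclic_of_orderOf_eq_card (a : X ⧸ Subgroup.center X) ?_)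
    obtain ⟨j, hj, hjo⟩ := (Nat.dvd_prime_pow hp.out).mp
      (hio ▸ orderOf_dvd_natCard (a : X ⧸ Subgroup.center X))
    rcases Nat.lt_or_ge j 2 with h | h
    · refine absurd (orderOf_dvd_iff_pow_eq_one.mp ?_) hne
      rw [hjo]
      calc p ^ j ∣ p ^ 1 := pow_dvd_pow _ (by omega)
        _ = p := pow_one p
    · rw [hjo, hio, show j = 2 by omega]

/-- Class two, central `p`th powers and cyclic characteristic abelian subgroups: an extraspecial
subgroup times the centre. -/
theorem classTwo_structure {C : Type*} [Group C] [Finite C] (hC : IsPGroup p C)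
    (hs : ∀ A : Subgroup C, A.Characteristic → IsMulCommutative A → IsCyclic A)
    (hcomm : ∀ a b : C, ⁅a, b⁆ ∈ Subgroup.center C) (hpow : ∀ a : C, a ^ p ∈ Subgroup.center C)
    (hna : ∃ a b : C, ⁅a, b⁆ ≠ 1) :
    ∃ E : Subgroup C, Cfsg.IsExtraspecial p E ∧ E ⊔ Subgroup.center C = ⊤ := by
  classical
  haveI hZc : IsCyclic (Subgroup.center C) := hs _ inferInstance inferInstance
  have hmulR : ∀ a b y : C, ⁅a * b, y⁆ = ⁅a, y⁆ * ⁅b, y⁆ := fun a b y => by
    have h := Subgroup.mem_center_iff.mp (hcomm b y)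
    calc ⁅a * b, y⁆ = a * ⁅b, y⁆ * a⁻¹ * ⁅a, y⁆ := by simp only [commutatorElement_def]; group
      _ = ⁅b, y⁆ * ⁅a, y⁆ := by rw [h a]; group
      _ = _ := (h _).symm
  have hcp : ∀ a b : C, ⁅a, b⁆ ^ p = 1 := fun a b => by
    have h := map_pow (MonoidHom.mk' (fun w => ⁅w, b⁆) (fun u v => hmulR u v b)) a p
    simp only [MonoidHom.mk'_apply] at h
    rw [← h, commutatorElement_eq_one_iff_mul_comm]
    exact (Subgroup.mem_center_iff.mp (hpow a) b).symm
  obtain ⟨a₀, b₀, hz1⟩ := hna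
  set z := ⁅a₀, b₀⁆ with hz
  have hzZ : z ∈ Subgroup.center C := hcomm _ _
  have hzo : orderOf z = p := orderOf_eq_prime (hcp _ _) hz1
  have hmemN : ∀ c ∈ Subgroup.center C, c ^ p = 1 → c ∈ Subgroup.zpowers z :=
    fun c hc hc' => mem_zpowers_of_cyclic _ hzZ hzo hc hc'
  have hNmem : ∀ c ∈ Subgroup.zpowers z, c ∈ Subgroup.center C ∧ c ^ p = 1 := by
    rintro _ ⟨i, rfl⟩
    refine ⟨Subgroup.zpow_mem _ hzZ i, ?_⟩
    show (z ^ i) ^ p = 1
    rw [← zpow_natCast, zpow_comm, zpow_natCast, hcp, one_zpow]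
  set N := Subgroup.zpowers z with hN
  haveI hNn : N.Normal := ⟨fun n hn g => by
    rw [Subgroup.mem_center_iff.mp (hNmem n hn).1 g, mul_inv_cancel_right]; exact hn⟩
  -- the `p`th power map modulo `N`
  let F : C →* C ⧸ N := MonoidHom.mk' (fun x => ((x ^ p : C) : C ⧸ N)) (fun x y => by
    have hc : Commute (x : C ⧸ N) (y : C ⧸ N) := by
      rw [commute_iff_eq, ← commutatorElement_eq_one_iff_mul_comm, ← QuotientGroup.mk'_apply,
        ← QuotientGroup.mk'_apply, ← map_commutatorElement, QuotientGroup.mk'_apply, QuotientGroup.eq_one_iff]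
      exact hmemN _ (hcomm x y) (hcp x y)
    rw [QuotientGroup.mk_pow, QuotientGroup.mk_pow, QuotientGroup.mk_pow, QuotientGroup.mk_mul]
    exact hc.mul_pow p)
  set Om := F.ker with hOm
  have hOmmem : ∀ x, x ∈ Om ↔ x ^ p ∈ N := fun x => QuotientGroup.eq_one_iff _
  haveI hOmc : Om.Characteristic := by
    rw [Subgroup.characteristic_iff_map_le]
    rintro φ _ ⟨x, hx, rfl⟩
    obtain ⟨h1, h2⟩ := hNmem _ ((hOmmem x).mp hx)
    refine (hOmmem _).mpr (hmemN _ (hpow _) ?_)
    show ((φ x) ^ p) ^ p = 1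
    rw [← map_pow, ← map_pow, h2, map_one]
  -- its centre is central
  have hA : ∀ y ∈ Om, (∀ w ∈ Om, w * y = y * w) → y ∈ Subgroup.center C := by
    intro y hy hyc
    set A := Om ⊓ Subgroup.centralizer (Om : Set C) with hAdef
    haveI hAcyc : IsCyclic A := hs A inferInstance ⟨⟨fun u v => Subtype.ext
      (Subgroup.mem_centralizer_iff.mp v.2.2 u u.2.1)⟩⟩
    have hyA : y ∈ A := ⟨hy, Subgroup.mem_centralizer_iff.mpr hyc⟩
    obtain ⟨⟨u, hu⟩, hgen⟩ := IsCyclic.exists_generator (α := A)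
    by_cases hlarge : ∃ c ∈ Subgroup.center C, orderOf c = p ^ 2
    · obtain ⟨c, hc, hco⟩ := hlarge
      have hcA : c ∈ A := ⟨(hOmmem c).mpr (hmemN _ (Subgroup.pow_mem _ hc p) (by
        rw [← pow_mul, ← pow_two, ← hco, pow_orderOf_eq_one])), Subgroup.center_le_centralizer _ hc⟩
      have hAle : Nat.card A ≤ p ^ 2 := by
        rw [← orderOf_eq_card_of_forall_mem_zpowers hgen, Subgroup.orderOf_mk]
        refine Nat.le_of_dvd (pow_pos hp.out.pos 2) (orderOf_dvd_of_pow_eq_one ?_)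
        rw [pow_two, pow_mul]
        exact (hNmem _ ((hOmmem u).mp hu.1)).2
      obtain ⟨j, rfl⟩ : y ∈ Subgroup.zpowers c :=
        (Subgroup.eq_of_le_of_card_ge (Subgroup.zpowers_le.mpr hcA)
          (by rw [Nat.card_zpowers, hco]; exact hAle)).ge hyA
      exact Subgroup.zpow_mem _ hc j
    · push Not at hlarge
      have htop : ∀ x, x ∈ Om := fun x => by
        refine (hOmmem x).mpr (hmemN _ (hpow x) ?_)
        by_contra hne
        obtain ⟨k, hk⟩ := hC.exists_orderOf_eq_pow (x ^ p)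
        have hk2 : 2 ≤ k := by
          by_contra hlt
          refine hne (orderOf_dvd_iff_pow_eq_one.mp ?_)
          rw [hk]
          calc p ^ k ∣ p ^ 1 := pow_dvd_pow _ (by omega)
            _ = p := pow_one p
        refine hlarge ((x ^ p) ^ p ^ (k - 2)) (Subgroup.pow_mem _ (hpow x) _) ?_
        rw [orderOf_pow_of_dvd (pow_ne_zero _ hp.out.ne_zero) (hk ▸ pow_dvd_pow _ (by omega)), hk,
          Nat.pow_div (by omega) hp.out.pos, show k - (k - 2) = 2 by omega]
      exact Subgroup.mem_center_iff.mpr fun g => hyc g (htop g)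
  -- a complement
  haveI : Finite (Subgroup C) := Finite.of_injective (fun K => (K : Set C)) SetLike.coe_injective
  obtain ⟨E, ⟨hNE, hEOm, hEZ⟩, hmax⟩ := (Set.toFinite {X : Subgroup C | N ≤ X ∧ X ≤ Om ∧
    ∀ x ∈ X, x ∈ Subgroup.center C → x ∈ N}).exists_maximal ⟨N, le_rfl, fun x hx => (hOmmem x).mpr
      (by rw [(hNmem x hx).2]; exact one_mem _), fun x hx _ => hx⟩
  haveI hEn : E.Normal := ⟨fun e he g => by
    rw [show g * e * g⁻¹ = ⁅g, e⁆ * e by simp [commutatorElement_def]]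
    exact mul_mem (hNE (hmemN _ (hcomm g e) (hcp g e))) he⟩
  have hcover : Om ≤ E ⊔ Subgroup.center C := by
    intro w hw
    by_contra hwn
    refine hwn (Subgroup.mem_sup_left (hmax ⟨hNE.trans le_sup_left, sup_le hEOm (Subgroup.zpowers_le.mpr hw),
      fun x hx hxc => ?_⟩ le_sup_left (Subgroup.mem_sup_right (Subgroup.mem_zpowers w))))
    obtain ⟨e, he, v, ⟨i, rfl⟩, rfl⟩ := Subgroup.mem_sup_of_normal_left.mp hx
    by_cases hi : (p : ℤ) ∣ i
    · obtain ⟨j, rfl⟩ := hi
      have hv : w ^ ((p : ℤ) * j) ∈ N := by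
        rw [zpow_mul, zpow_natCast]
        exact N.zpow_mem ((hOmmem w).mp hw) j
      exact hEZ _ (E.mul_mem he (hNE hv)) hxc
    · obtain ⟨u, v, huv⟩ := (Nat.prime_iff_prime_int.mp hp.out).coprime_iff_not_dvd.mpr hi
      refine absurd ?_ hwn
      rw [show w = (w ^ p) ^ u * (e⁻¹ * (e * w ^ i)) ^ v by
        rw [inv_mul_cancel_left, ← zpow_natCast, ← zpow_mul, ← zpow_mul, ← zpow_add,
          show (p : ℤ) * u + i * v = 1 by rw [← huv]; ring, zpow_one]]
      exact mul_mem (Subgroup.zpow_mem _ (Subgroup.mem_sup_left (hNE ((hOmmem w).mp hw))) u)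
        (Subgroup.zpow_mem _ (mul_mem (Subgroup.mem_sup_left (E.inv_mem he)) (Subgroup.mem_sup_right hxc)) v)
  -- elements commuting with `E` commute with `Om`
  have hEc : ∀ y, (∀ e ∈ E, e * y = y * e) → ∀ w ∈ Om, w * y = y * w := by
    intro y hy w hw
    obtain ⟨e, he, c, hc, rfl⟩ := Subgroup.mem_sup_of_normal_left.mp (hcover hw)
    rw [mul_assoc, ← Subgroup.mem_center_iff.mp hc y, ← mul_assoc, hy e he, mul_assoc]
  obtain ⟨x, hx⟩ : ∃ x : C, ∀ c, ∃ i : ℤ, (x ^ i)⁻¹ * c ∈ Om := by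
    haveI : IsCyclic F.range := by
      have hle : F.range ≤ (Subgroup.center C).map (QuotientGroup.mk' N) := by
        rintro _ ⟨x, rfl⟩
        exact ⟨x ^ p, hpow x, rfl⟩
      haveI : IsCyclic ((Subgroup.center C).map (QuotientGroup.mk' N)) :=
        isCyclic_of_surjective _ ((QuotientGroup.mk' N).subgroupMap_surjective (Subgroup.center C))
      exact isCyclic_of_injective (Subgroup.inclusion hle) (Subgroup.inclusion_injective hle)
    obtain ⟨⟨_, x, rfl⟩, hg⟩ := IsCyclic.exists_generator (α := F.range)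
    refine ⟨x, fun c => ?_⟩
    obtain ⟨i, hi⟩ := hg ⟨F c, c, rfl⟩
    refine ⟨i, ?_⟩
    rw [hOm, MonoidHom.mem_ker, map_mul, map_inv, map_zpow, show F x ^ i = F c from congrArg Subtype.val hi,
      inv_mul_cancel]
  have hxcomm : ∀ y, x * y = y * x → (∀ w ∈ Om, w * y = y * w) → y ∈ Subgroup.center C := by
    intro y h1 h2
    refine Subgroup.mem_center_iff.mpr fun c => ?_
    obtain ⟨i, hi⟩ := hx c
    rw [show c = x ^ i * ((x ^ i)⁻¹ * c) by group, mul_assoc, h2 _ hi, ← mul_assoc,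
      (Commute.zpow_left (h1 : Commute x y) i).eq, mul_assoc]
  have hcenE : ∀ e : E, e ∈ Subgroup.center E ↔ (e : C) ∈ N := fun e => by
    refine ⟨fun h => hEZ e e.2 (hA e (hEOm e.2) (hEc e fun u hu => congrArg Subtype.val
      (Subgroup.mem_center_iff.mp h ⟨u, hu⟩))), fun h => Subgroup.mem_center_iff.mpr fun u => Subtype.ext ?_⟩
    exact Subgroup.mem_center_iff.mp (hNmem _ h).1 u
  have hES : Cfsg.IsExtraspecial p E := by
    refine CfsgLib.Extraspecial.isExtraspecial_of (hC.to_subgroup E) ?_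
      (fun u v => (hcenE _).mpr (hmemN _ (hcomm (u : C) v) (hcp _ _)))
      (fun u => (hcenE _).mpr (by
        show (u : C) ^ p ∈ N
        exact (hOmmem _).mp (hEOm u.2))) ?_
    · rw [show Subgroup.center E = N.subgroupOf E from Subgroup.ext hcenE,
        Nat.card_congr (Subgroup.subgroupOfEquivOfLe hNE).toEquiv, Nat.card_zpowers, hzo]
    · by_contra hall
      push Not at hall
      have hOmc : ∀ w ∈ Om, w ∈ Subgroup.center C := by
        intro w hw
        refine hA w hw (fun u hu => (hEc u (fun e he => ?_) w hw).symm)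
        exact (hEc e (fun e' he' => congrArg Subtype.val
          (commutatorElement_eq_one_iff_mul_comm.mp (hall ⟨e', he'⟩ ⟨e, he⟩))) u hu).symm
      refine hz1 (commutatorElement_eq_one_iff_mul_comm.mpr (Subgroup.mem_center_iff.mp ?_ a₀).symm.symm)
      obtain ⟨i, hi⟩ := hx b₀
      have hxc : x ∈ Subgroup.center C := hxcomm x rfl fun w hw =>
        (Subgroup.mem_center_iff.mp (hOmc w hw) x).symm
      rw [show b₀ = x ^ i * ((x ^ i)⁻¹ * b₀) by group]
      exact mul_mem (Subgroup.zpow_mem _ hxc i) (hOmc _ hi)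
  refine ⟨E, hES, (Subgroup.eq_top_iff' _).mpr fun c => ?_⟩
  have hmulL : ∀ u v : C, ⁅x, u * v⁆ = ⁅x, u⁆ * ⁅x, v⁆ := fun u v => by
    calc ⁅x, u * v⁆ = ⁅x, u⁆ * (u * ⁅x, v⁆ * u⁻¹) := by simp only [commutatorElement_def]; group
      _ = _ := by rw [Subgroup.mem_center_iff.mp (hcomm x v) u, mul_inv_cancel_right]
  let χ : E →* E := MonoidHom.mk' (fun e => (⟨⁅x, (e : C)⁆, hNE (hmemN _ (hcomm _ _) (hcp _ _))⟩ : E))
    (fun u v => Subtype.ext (hmulL u v))
  obtain ⟨g, hg⟩ := CfsgLib.Extraspecial.exists_comm_eq_hom _ E hES rfl χ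
    (fun e => (hcenE _).mpr (hmemN _ (hcomm _ _) (hcp _ _)))
    (fun e he => Subtype.ext (commutatorElement_eq_one_iff_mul_comm.mpr
      (Subgroup.mem_center_iff.mp (hNmem _ ((hcenE e).mp he)).1 x)))
  have hg' : ∀ e : E, ⁅x, (e : C)⁆ = ⁅(g : C), (e : C)⁆ := fun e => congrArg Subtype.val (hg e)
  have hxg : x * g = g * x := commutatorElement_eq_one_iff_mul_comm.mp (by
    rw [hg' g, commutatorElement_self])
  have hy : (g : C)⁻¹ * x ∈ Subgroup.center C := by
    refine hxcomm _ ?_ (hEc _ fun e he => ?_)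
    · rw [mul_assoc, ← mul_assoc, (Commute.inv_right (hxg : Commute x g)).eq, mul_assoc]
    · refine (commutatorElement_eq_one_iff_mul_comm.mp ?_).symm
      rw [hmulR, hg' ⟨e, he⟩, ← hmulR, inv_mul_cancel, commutatorElement_one_left]
  have hxS : x ∈ E ⊔ Subgroup.center C := by
    rw [show x = (g : C) * ((g : C)⁻¹ * x) by group]
    exact mul_mem (Subgroup.mem_sup_left g.2) (Subgroup.mem_sup_right hy)
  obtain ⟨i, hi⟩ := hx c
  rw [show c = x ^ i * ((x ^ i)⁻¹ * c) by group]
  exact mul_mem (Subgroup.zpow_mem _ hxS i) (hcover hi)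

/-- Characteristic subgroups of a characteristic subgroup. -/
theorem characteristic_map_subtype {G : Type*} [Group G] (H : Subgroup G) [H.Characteristic] (A : Subgroup H)
    (hA : A.Characteristic) : (A.map H.subtype).Characteristic := by
  rw [Subgroup.characteristic_iff_map_le]
  rintro φ _ ⟨_, ⟨a, ha, rfl⟩, rfl⟩
  have hHm : ∀ ψ : G ≃* G, ∀ h ∈ H, ψ h ∈ H := fun ψ h hh =>
    Subgroup.characteristic_iff_map_le.mp ‹H.Characteristic› ψ ⟨h, hh, rfl⟩
  let ψ : H ≃* H :=
    { toFun := fun h => ⟨φ h, hHm φ h h.2⟩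
      invFun := fun h => ⟨φ.symm h, hHm φ.symm h h.2⟩
      left_inv := fun h => Subtype.ext (φ.symm_apply_apply h)
      right_inv := fun h => Subtype.ext (φ.apply_symm_apply h)
      map_mul' := fun u v => Subtype.ext (map_mul φ (u : G) v) }
  exact ⟨ψ a, Subgroup.characteristic_iff_map_le.mp hA ψ ⟨a, ha, rfl⟩, rfl⟩

/-- The hypothesis passes to characteristic subgroups. -/
theorem of_characteristic {G : Type*} [Group G]
    (hs : ∀ A : Subgroup G, A.Characteristic → IsMulCommutative A → IsCyclic A)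
    (H : Subgroup G) [H.Characteristic] :
    ∀ A : Subgroup H, A.Characteristic → IsMulCommutative A → IsCyclic A := by
  intro A hA hc
  have h := hs (A.map H.subtype) (characteristic_map_subtype H A hA) ⟨⟨by
    rintro ⟨_, u, hu, rfl⟩ ⟨_, v, hv, rfl⟩
    exact Subtype.ext (congrArg (fun w : A => ((w : H) : G)) (mul_comm' (⟨u, hu⟩ : A) ⟨v, hv⟩))⟩⟩
  exact isCyclic_of_surjective (A.equivMapOfInjective _ H.subtype_injective).symm
    (MulEquiv.surjective _)

end CfsgLib.SympType
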