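import Cfsg.Agent.Lib.PGroup.Blackburn
import Cfsg.Agent.Lib.PGroup.MetacyclicOdd
import Cfsg.Agent.Lib.PGroup.SymplecticType
import Cfsg.Agent.Lib.Coprime.Action
import Cfsg.Agent.S0638

/-!
Coprime automorphisms of metacyclic `p`-groups, `p` odd.
-/

set_option autoImplicit false
set_option linter.style.haveILetI false

open scoped commutatorElement

namespace CfsgLib.MetacyclicCoprime

/-- The norm map attached to a finite group of automorphisms. -/
theorem exists_norm {R V A : Type*} [Group R] [CommGroup V] [Group A] [Finite A] (φ : A →* MulAut R)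
    (π : R →* V) : ∃ N : R →* V, (∀ b x, N (x⁻¹ * φ b x) = 1) ∧
      ∀ v, (∀ a, π (φ a v) = π v) → N v = π v ^ Nat.card A := by
  classical
  haveI := Fintype.ofFinite A
  refine ⟨∏ a : A, π.comp (φ a).toMonoidHom, fun b x => ?_, fun v hv => ?_⟩
  · rw [map_mul, map_inv, inv_mul_eq_one, MonoidHom.finsetProd_apply, MonoidHom.finsetProd_apply]
    refine (Fintype.prod_equiv (Equiv.mulRight b) _ _ fun a => ?_).symm
    show π (φ a (φ b x)) = π (φ (a * b) x)
    rw [map_mul, MulAut.mul_apply]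
  · rw [MonoidHom.finsetProd_apply, Nat.card_eq_fintype_card, ← Finset.card_univ, ← Finset.prod_const]
    exact Finset.prod_congr rfl fun a _ => hv a

variable {p : ℕ} [hp : Fact p.Prime]

/-- A coprime group of automorphisms of a metacyclic group with central derived subgroup of order `p`
does not generate it by commutators. -/
theorem not_generated_aux {R A : Type*} [Group R] [Finite R] [Group A] [Finite A] (hp2 : p ≠ 2)
    (hR : IsPGroup p R) (φ : A →* MulAut R) (hcop : (Nat.card A).Coprime p) {a b c : R}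
    (hgen : ∀ g : R, ∃ i j : ℕ, g = a ^ i * b ^ j) (hcomm : ∀ x y : R, ⁅x, y⁆ ∈ Subgroup.zpowers c)
    (hca : c ∈ Subgroup.zpowers a) (hcc : c ∈ Subgroup.center R) (hc : orderOf c = p)
    (hna : ¬ IsMulCommutative R) :
    ∃ L : Subgroup R, L ≠ ⊤ ∧ ∀ (t : A) (x : R), x⁻¹ * φ t x ∈ L := by
  classical
  have hpp := hp.out
  have hcp : c ^ p = 1 := by rw [← hc, pow_orderOf_eq_one]
  have hcen : ∀ x y : R, ⁅x, y⁆ ∈ Subgroup.center R := fun x y => Subgroup.zpowers_le.mpr hcc (hcomm x y)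
  have hcompow : ∀ x y : R, ⁅x, y⁆ ^ p = 1 := fun x y => by
    obtain ⟨i, hi⟩ := hcomm x y
    rw [← hi]
    show (c ^ i) ^ p = 1
    rw [← zpow_natCast, zpow_comm, zpow_natCast, hcp, one_zpow]
  -- power maps
  have hmul : ∀ (k : ℕ) (x y : R), (x * y) ^ p ^ k = x ^ p ^ k * y ^ p ^ k := by
    intro k x y
    have hz := fun g => Subgroup.mem_center_iff.mp (hcen y x) g
    have h := Blackburn.mul_pow_collect (w := x) (y := y) (c := ⁅y, x⁆) (d := 1) (hz x) (Commute.one_right _)
      (Commute.one_right _) (Commute.one_right _) (by simp [commutatorElement_def])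
      (by rw [one_mul, hz y, mul_inv_cancel_right]) (p ^ k)
    obtain ⟨m, hm⟩ : p ∣ (p ^ k).choose 2 := hpp.dvd_choose_pow two_ne_zero fun h2 => by
      rcases k with _ | k
      · norm_num at h2
      · exact hp2 ((Nat.prime_dvd_prime_iff_eq hpp Nat.prime_two).mp (h2 ▸ dvd_pow_self p k.succ_ne_zero))
    rwa [one_pow, mul_one, hm, pow_mul, hcompow, one_pow, mul_one] at h
  let P : ℕ → (R →* R) := fun k => MonoidHom.mk' (fun x => x ^ p ^ k) (hmul k)
  have hP : ∀ k x, P k x = x ^ p ^ k := fun _ _ => rfl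
  have hpcen : ∀ x : R, x ^ p ∈ Subgroup.center R := fun x => Subgroup.mem_center_iff.mpr fun y => by
    have hlin : ∀ u v : R, ⁅u * v, y⁆ = ⁅u, y⁆ * ⁅v, y⁆ := fun u v => by
      calc ⁅u * v, y⁆ = u * ⁅v, y⁆ * u⁻¹ * ⁅u, y⁆ := by simp only [commutatorElement_def]; group
        _ = ⁅v, y⁆ * ⁅u, y⁆ := by rw [Subgroup.mem_center_iff.mp (hcen v y) u, mul_inv_cancel_right]
        _ = _ := (Subgroup.mem_center_iff.mp (hcen v y) _).symm
    have h := map_pow (MonoidHom.mk' (fun w => ⁅w, y⁆) hlin) x p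
    simp only [MonoidHom.mk'_apply, hcompow] at h
    exact (commutatorElement_eq_one_iff_mul_comm.mp h).symm
  -- `c` is a `p`th power
  have hacen : a ∉ Subgroup.center R := fun ha => hna ⟨⟨fun x y => by
    obtain ⟨i, j, rfl⟩ := hgen x
    obtain ⟨i', j', rfl⟩ := hgen y
    have e : ∀ (n : ℕ) (w : R), Commute (a ^ n) w := fun n w =>
      (Subgroup.mem_center_iff.mp (Subgroup.pow_mem _ ha n) w).symm
    show Commute (a ^ i * b ^ j) (a ^ i' * b ^ j')
    exact (e i _).mul_left ((e i' _).symm.mul_right ((Commute.refl b).pow_pow j j'))⟩⟩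
  have hcpow : ∃ y, y ^ p = c := by
    obtain ⟨i, hi⟩ := hca
    have hi' : a ^ i = c := hi
    obtain ⟨n, hn⟩ := hR.exists_orderOf_eq_pow a
    by_cases hd : (p : ℤ) ∣ i
    · obtain ⟨m, rfl⟩ := hd
      exact ⟨a ^ m, by rw [← hi', zpow_mul, ← zpow_natCast, zpow_comm]⟩
    · exfalso
      obtain ⟨u, v, huv⟩ : IsCoprime i ((p : ℤ) ^ n) :=
        ((Nat.prime_iff_prime_int.mp hpp).coprime_iff_not_dvd.mpr hd).symm.pow_right
      refine hacen ?_
      have ha1 : a ^ ((p : ℤ) ^ n) = 1 := by rw [← orderOf_dvd_iff_zpow_eq_one, hn]; push_cast; rfl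
      rw [show a = c ^ u by
        rw [← hi', ← zpow_mul]
        conv_lhs => rw [← zpow_one a]
        rw [show (1 : ℤ) = i * u + (p : ℤ) ^ n * v by linarith, zpow_add, zpow_mul a ((p : ℤ) ^ n) v, ha1,
          one_zpow, mul_one]]
      exact Subgroup.zpow_mem _ hcc u
  -- the largest root
  obtain ⟨k, ⟨x0, hx0⟩, hmax⟩ : ∃ k, (∃ x, x ^ p ^ k = c) ∧ ¬ ∃ y, y ^ p ^ (k + 1) = c := by
    obtain ⟨n, hn⟩ := IsPGroup.iff_card.mp hR
    have hex : ∃ m, ¬ ∃ y, y ^ p ^ m = c := ⟨n, fun ⟨y, hy⟩ => by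
      rw [← hn, pow_card_eq_one'] at hy
      rw [← hy, orderOf_one] at hc
      exact hpp.ne_one hc.symm⟩
    have h0 : Nat.find hex ≠ 0 := fun h => by
      have := Nat.find_spec hex
      rw [h] at this
      exact this ⟨c, by rw [pow_zero, pow_one]⟩
    refine ⟨Nat.find hex - 1, not_not.mp (Nat.find_min hex (by omega)), ?_⟩
    rw [show Nat.find hex - 1 + 1 = Nat.find hex by omega]
    exact Nat.find_spec hex
  have hk : k ≠ 0 := by
    rintro rfl
    exact hmax (by simpa using hcpow)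
  -- central elements are `p`th powers
  have hquot : ∀ x : R, x ∈ Subgroup.center R → ∃ y, x = y ^ p := by
    intro x hx
    obtain ⟨i, j, rfl⟩ := hgen x
    have key : ∀ (u v : R) (n : ℕ), ⁅u ^ n, v⁆ = 1 → ⁅u, v⁆ ≠ 1 → p ∣ n := by
      intro u v n h1 h2
      by_contra hd
      obtain ⟨s, hs⟩ := exists_pow_eq_self_of_coprime (x := u) (n := n)
        (by
          obtain ⟨m, hm⟩ := hR.exists_orderOf_eq_pow u
          rw [hm]
          exact ((hpp.coprime_iff_not_dvd.mpr hd).pow_left m).symm)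
      apply h2
      rw [← hs, commutatorElement_eq_one_iff_mul_comm]
      exact (Commute.pow_left (commutatorElement_eq_one_iff_mul_comm.mp h1 : Commute (u ^ n) v) s).eq
    have hab : ⁅a, b⁆ ≠ 1 := fun h => hna ⟨⟨fun x y => by
      obtain ⟨i, j, rfl⟩ := hgen x
      obtain ⟨i', j', rfl⟩ := hgen y
      have hc' : Commute a b := commutatorElement_eq_one_iff_mul_comm.mp h
      show Commute (a ^ i * b ^ j) (a ^ i' * b ^ j')
      exact (((Commute.refl a).pow_pow i i').mul_right (hc'.pow_pow i j')).mul_left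
        (((hc'.pow_pow i' j).symm).mul_right ((Commute.refl b).pow_pow j j'))⟩⟩
    have hi : p ∣ i := key a b i (by
      rw [commutatorElement_eq_one_iff_mul_comm]
      refine mul_right_cancel (b := b ^ j) ?_
      have h := Subgroup.mem_center_iff.mp hx b
      calc a ^ i * b * b ^ j = a ^ i * b ^ j * b := by rw [mul_assoc, (Commute.self_pow b j).eq, mul_assoc]
        _ = b * (a ^ i * b ^ j) := h.symm
        _ = b * a ^ i * b ^ j := (mul_assoc _ _ _).symm) hab
    have hj : p ∣ j := key b a j (by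
      rw [commutatorElement_eq_one_iff_mul_comm]
      refine mul_left_cancel (a := a ^ i) ?_
      have h := Subgroup.mem_center_iff.mp hx a
      calc a ^ i * (b ^ j * a) = a * (a ^ i * b ^ j) := by rw [← mul_assoc, h]
        _ = a ^ i * (a * b ^ j) := by rw [← mul_assoc, (Commute.self_pow a i).eq, mul_assoc]) (fun h => hab (by
          rw [← commutatorElement_inv, h, inv_one]))
    obtain ⟨i', rfl⟩ := hi
    obtain ⟨j', rfl⟩ := hj
    refine ⟨a ^ i' * b ^ j', ?_⟩
    have := hmul 1 (a ^ i') (b ^ j')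
    rw [pow_one] at this
    rw [this, ← pow_mul, ← pow_mul, mul_comm i', mul_comm j']
  have hzk : ∀ z ∈ Subgroup.center R, ∀ i : ℤ, (x0 ^ i * z) ^ p ^ k = 1 → (p : ℤ) ∣ i := by
    intro z hz i h
    by_contra hd
    obtain ⟨y, rfl⟩ := hquot z hz
    rw [hmul, ← zpow_natCast (x0 ^ i), zpow_comm, zpow_natCast, hx0, ← pow_mul, ← pow_succ'] at h
    obtain ⟨u, v, huv⟩ : IsCoprime i (p : ℤ) :=
      ((Nat.prime_iff_prime_int.mp hpp).coprime_iff_not_dvd.mpr hd).symm
    refine hmax ⟨y ^ (-u), ?_⟩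
    have hy : y ^ p ^ (k + 1) = c ^ (-i) := by
      rw [zpow_neg]; exact eq_inv_of_mul_eq_one_right h
    rw [← zpow_natCast, zpow_comm, zpow_natCast, hy, ← zpow_mul]
    conv_rhs => rw [← zpow_one c]
    rw [show (1 : ℤ) = -i * -u + (p : ℤ) * v by linarith, zpow_add c _ ((p : ℤ) * v), zpow_mul c (p : ℤ) v,
      zpow_natCast c p, hcp, one_zpow, mul_one]
  have hx0cen : x0 ∉ Subgroup.center R := fun h => by
    obtain ⟨y, rfl⟩ := hquot x0 h
    exact hmax ⟨y, by rw [pow_succ', pow_mul, hx0]⟩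
  have hc1 : c ≠ 1 := fun h => hpp.ne_one (by rw [← hc, h, orderOf_one])
  -- the character on `c`
  have hchar : ∀ t : A, ∃ s : ℤ, φ t c = c ^ s ∧ ¬ (p : ℤ) ∣ s := by
    intro t
    obtain ⟨u, v, huv⟩ : ∃ u v : R, ⁅u, v⁆ ≠ 1 := by
      by_contra h
      push Not at h
      exact hna ⟨⟨fun x y => commutatorElement_eq_one_iff_mul_comm.mp (h x y)⟩⟩
    obtain ⟨i, hi⟩ := hcomm u v
    obtain ⟨j, hj⟩ : φ t c ∈ Subgroup.zpowers c := by
      obtain ⟨m, hm⟩ := hcomm (φ t u) (φ t v)
      have hid : ¬ (p : ℤ) ∣ i := fun hd => huv (by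
        rw [← hi]; show c ^ i = 1
        rw [← orderOf_dvd_iff_zpow_eq_one, hc]; exact hd)
      obtain ⟨r, w, hrw⟩ : IsCoprime i (p : ℤ) :=
        ((Nat.prime_iff_prime_int.mp hpp).coprime_iff_not_dvd.mpr hid).symm
      have hcr : c = ⁅u, v⁆ ^ r := by
        rw [← hi]; show c = (c ^ i) ^ r
        rw [← zpow_mul]
        conv_lhs => rw [← zpow_one c]
        rw [show (1 : ℤ) = i * r + (p : ℤ) * w by linarith, zpow_add, zpow_mul c (p : ℤ) w, zpow_natCast, hcp,
          one_zpow, mul_one]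
      rw [hcr, map_zpow, map_commutatorElement, ← hm]
      exact Subgroup.zpow_mem _ (hcr ▸ Subgroup.zpow_mem _ (Subgroup.mem_zpowers c) m) r
    refine ⟨j, hj.symm, fun hd => ?_⟩
    have h1 : φ t c = 1 := by
      rw [← hj]; show c ^ j = 1
      rw [← orderOf_dvd_iff_zpow_eq_one, hc]; exact hd
    exact hc1 ((φ t).injective (h1.trans (map_one (φ t)).symm))
  have hbil : ∀ (u v : R) (i : ℤ), ⁅u ^ i, v⁆ = ⁅u, v⁆ ^ i := fun u v i =>
    map_zpow (MonoidHom.mk' (fun w => ⁅w, v⁆) fun x y => by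
      show ⁅x * y, v⁆ = ⁅x, v⁆ * ⁅y, v⁆
      calc ⁅x * y, v⁆ = x * ⁅y, v⁆ * x⁻¹ * ⁅x, v⁆ := by simp only [commutatorElement_def]; group
        _ = ⁅y, v⁆ * ⁅x, v⁆ := by rw [Subgroup.mem_center_iff.mp (hcen y v) x, mul_inv_cancel_right]
        _ = _ := (Subgroup.mem_center_iff.mp (hcen y v) _).symm) u i
  have hbil' : ∀ (u v : R) (i : ℤ), ⁅u, v ^ i⁆ = ⁅u, v⁆ ^ i := fun u v i => by
    rw [← commutatorElement_inv, hbil, ← inv_zpow, commutatorElement_inv]
  have hzl : ∀ (u v z : R), z ∈ Subgroup.center R → ⁅u * z, v⁆ = ⁅u, v⁆ ∧ ⁅v, u * z⁆ = ⁅v, u⁆ := by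
    intro u v z hz
    have h1 : ⁅u * z, v⁆ = ⁅u, v⁆ := by
      simp only [commutatorElement_def, mul_inv_rev]
      calc u * z * v * (z⁻¹ * u⁻¹) * v⁻¹ = u * (z * v) * z⁻¹ * u⁻¹ * v⁻¹ := by group
        _ = u * (v * z) * z⁻¹ * u⁻¹ * v⁻¹ := by rw [Subgroup.mem_center_iff.mp hz v]
        _ = _ := by group
    exact ⟨h1, by rw [← commutatorElement_inv, h1, commutatorElement_inv]⟩
  have hcz : ∀ i : ℤ, c ^ i = 1 → (p : ℤ) ∣ i := fun i h => hc ▸ orderOf_dvd_iff_zpow_eq_one.mpr h
  by_cases hK : ∃ v : R, v ^ p ^ k = 1 ∧ v ∉ Subgroup.center R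
  · -- a fixed line modulo the centre
    obtain ⟨v, hv, hvc⟩ := hK
    have hdecomp : ∀ x : R, ∃ i j : ℤ, ∃ z ∈ Subgroup.center R, x = x0 ^ i * v ^ j * z := by
      intro x
      set H := Subgroup.zpowers x0 ⊔ Subgroup.zpowers v ⊔ Subgroup.center R with hH
      have hHtop : H = ⊤ := by
        haveI hn : H.Normal := ⟨fun h hh g => by
          rw [show g * h * g⁻¹ = ⁅g, h⁆ * h by simp [commutatorElement_def]]
          exact mul_mem (Subgroup.mem_sup_right (hcen g h)) hh⟩
        have hcard : Nat.card (R ⧸ Subgroup.center R) ∣ p ^ 2 := by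
          let f : Fin p × Fin p → R ⧸ Subgroup.center R := fun t => ((a ^ (t.1 : ℕ) * b ^ (t.2 : ℕ) : R) : R ⧸ Subgroup.center R)
          have hf : Function.Surjective f := fun q => by
            obtain ⟨x, rfl⟩ := QuotientGroup.mk'_surjective _ q
            obtain ⟨i, j, rfl⟩ := hgen x
            refine ⟨(⟨i % p, Nat.mod_lt _ hpp.pos⟩, ⟨j % p, Nat.mod_lt _ hpp.pos⟩), ?_⟩
            have hr : ∀ (u : R) (n : ℕ), ((u ^ (n % p) : R) : R ⧸ Subgroup.center R) = ((u ^ n : R) : R ⧸ Subgroup.center R) := by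
              intro u n
              conv_rhs => rw [← Nat.mod_add_div n p, pow_add, pow_mul, QuotientGroup.mk_mul,
                (QuotientGroup.eq_one_iff _).mpr (Subgroup.pow_mem _ (hpcen u) _), mul_one]
            show ((a ^ (i % p) * b ^ (j % p) : R) : R ⧸ Subgroup.center R) = _
            rw [QuotientGroup.mk_mul, hr, hr, ← QuotientGroup.mk_mul]
            rfl
          obtain ⟨m, hm⟩ := IsPGroup.iff_card.mp (hR.to_quotient (Subgroup.center R))
          have := Nat.card_le_card_of_surjective f hf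
          rw [hm, Nat.card_prod, Nat.card_fin, ← pow_two] at this
          rw [hm]
          exact pow_dvd_pow p ((Nat.pow_le_pow_iff_right hpp.one_lt).mp this)
        set H0 := H.map (QuotientGroup.mk' (Subgroup.center R)) with hH0
        have hx0H : (x0 : R ⧸ Subgroup.center R) ∈ H0 := ⟨x0, Subgroup.mem_sup_left (Subgroup.mem_sup_left (Subgroup.mem_zpowers x0)), rfl⟩
        have hvH : (v : R ⧸ Subgroup.center R) ∈ H0 := ⟨v, Subgroup.mem_sup_left (Subgroup.mem_sup_right (Subgroup.mem_zpowers v)), rfl⟩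
        have hd := (Subgroup.card_subgroup_dvd_card H0).trans hcard
        obtain ⟨m, hm, hm'⟩ := (Nat.dvd_prime_pow hpp).mp hd
        have hm2 : m = 2 := by
          by_contra hne
          haveI : IsCyclic H0 := by
            rcases Nat.lt_or_ge m 1 with h | h
            · haveI : Subsingleton H0 := (Nat.card_eq_one_iff_unique.mp (by rw [hm', show m = 0 by omega, pow_zero])).1
              infer_instance
            · exact isCyclic_of_prime_card (p := p) (by rw [hm', show m = 1 by omega, pow_one])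
          have hne0 : (⟨_, hx0H⟩ : H0) ≠ 1 := fun e => hx0cen
            ((QuotientGroup.eq_one_iff _).mp (congrArg Subtype.val e :))
          have hm1 : m = 1 := by
            by_contra h1
            haveI : Subsingleton H0 := (Nat.card_eq_one_iff_unique.mp (by rw [hm', show m = 0 by omega, pow_zero])).1
            exact hne0 (Subsingleton.elim _ _)
          haveI : Fact (Nat.card H0).Prime := ⟨by rw [hm', hm1, pow_one]; exact hpp⟩
          obtain ⟨i, hi⟩ := (zpowers_eq_top_of_prime_card (G := H0) rfl hne0).ge (Subgroup.mem_top ⟨_, hvH⟩)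
          have hi' : ((x0 ^ i : R) : R ⧸ Subgroup.center R) = v := congrArg Subtype.val hi
          have hz : (x0 ^ i)⁻¹ * v ∈ Subgroup.center R := QuotientGroup.eq.mp hi'
          have hd := hzk _ hz i (by rw [mul_inv_cancel_left, hv])
          obtain ⟨i', rfl⟩ := hd
          refine hvc ?_
          rw [show v = x0 ^ ((p : ℤ) * i') * ((x0 ^ ((p : ℤ) * i'))⁻¹ * v) by group]
          refine mul_mem ?_ hz
          rw [zpow_mul, zpow_natCast]
          exact Subgroup.zpow_mem _ (hpcen x0) i'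
        have htop : H0 = ⊤ := Subgroup.eq_top_of_le_card H0 (by
          rw [hm', hm2]; exact Nat.le_of_dvd (pow_pos hpp.pos 2) hcard)
        rw [eq_top_iff]
        intro g _
        obtain ⟨h, hh, hhg⟩ := htop.ge (Subgroup.mem_top (g : R ⧸ Subgroup.center R))
        have := QuotientGroup.eq.mp hhg
        rw [show g = h * (h⁻¹ * g) by group]
        exact mul_mem hh (Subgroup.mem_sup_right this)
      haveI : (Subgroup.zpowers x0 ⊔ Subgroup.center R).Normal := ⟨fun h hh g => by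
        rw [show g * h * g⁻¹ = ⁅g, h⁆ * h by simp [commutatorElement_def]]
        exact mul_mem (Subgroup.mem_sup_right (hcen g h)) hh⟩
      have hx : x ∈ (Subgroup.zpowers x0 ⊔ Subgroup.center R) ⊔ Subgroup.zpowers v := by
        rw [sup_right_comm, ← hH, hHtop]; exact Subgroup.mem_top x
      obtain ⟨u, hu, w, ⟨j, rfl⟩, rfl⟩ := Subgroup.mem_sup_of_normal_left.mp hx
      obtain ⟨q, ⟨i, rfl⟩, z, hz, rfl⟩ := Subgroup.mem_sup_of_normal_right.mp hu
      refine ⟨i, j, z, hz, ?_⟩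
      show x0 ^ i * z * v ^ j = x0 ^ i * v ^ j * z
      rw [mul_assoc, ← Subgroup.mem_center_iff.mp hz (v ^ j), mul_assoc]
    have hne : ⁅x0, v⁆ ≠ 1 := fun h => hvc (Subgroup.mem_center_iff.mpr fun x => by
      obtain ⟨i, j, z, hz, rfl⟩ := hdecomp x
      have h0 : Commute x0 v := commutatorElement_eq_one_iff_mul_comm.mp h
      exact (((h0.zpow_left i).mul_left ((Commute.refl v).zpow_left j)).mul_left
        (Subgroup.mem_center_iff.mp hz v).symm).eq)
    have hfix : ∀ t : A, ((φ t v : R) : R ⧸ Subgroup.center R) = v := by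
      intro t
      obtain ⟨s, hs, hsp⟩ := hchar t
      obtain ⟨i, j, z, hz, hvt⟩ := hdecomp (φ t v)
      obtain ⟨i', j', z', hz', hxt⟩ := hdecomp (φ t x0)
      have hvk : ∀ n : ℤ, (v ^ n) ^ p ^ k = 1 := fun n => by
        rw [← zpow_natCast, zpow_comm, zpow_natCast, hv, one_zpow]
      have hi : (p : ℤ) ∣ i := by
        refine hzk z hz i ?_
        have h : (φ t v) ^ p ^ k = 1 := by rw [← map_pow, hv, map_one]
        rw [hvt, hmul, hmul, hvk, mul_one] at h
        rwa [hmul]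
      have hi' : (p : ℤ) ∣ i' - s := by
        refine hzk z' hz' (i' - s) ?_
        have h : (φ t x0) ^ p ^ k = c ^ s := by rw [← map_pow, hx0, hs]
        rw [hxt, hmul, hmul, hvk, mul_one] at h
        rw [show x0 ^ (i' - s) * z' = (x0 ^ s)⁻¹ * (x0 ^ i' * z') by
          rw [sub_eq_add_neg, add_comm, zpow_add, zpow_neg, mul_assoc],
          hmul, inv_pow, hmul, h, ← zpow_natCast, zpow_comm, zpow_natCast, hx0, inv_mul_cancel]
      obtain ⟨m, hm⟩ := hcomm x0 v
      have hm' : c ^ m = ⁅x0, v⁆ := hm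
      have hpows : ∀ q : ℤ, (p : ℤ) ∣ q → ∀ u : R, u ^ q ∈ Subgroup.center R := by
        rintro q ⟨r, rfl⟩ u
        rw [zpow_mul, zpow_natCast]
        exact Subgroup.zpow_mem _ (hpcen u) r
      have h1 : φ t v = v ^ j * (x0 ^ i * z) := by
        rw [hvt, ← Subgroup.mem_center_iff.mp (hpows i hi x0) (v ^ j), mul_assoc]
      have h2 : φ t x0 = x0 ^ s * v ^ j' * (x0 ^ (i' - s) * z') := by
        rw [hxt, ← mul_assoc, mul_assoc (x0 ^ s), Subgroup.mem_center_iff.mp (hpows _ hi' x0) (v ^ j'),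
          ← mul_assoc, ← zpow_add, add_sub_cancel]
      have h3 : φ t ⁅x0, v⁆ = ⁅x0, v⁆ ^ (s * j) := by
        rw [map_commutatorElement, h1, h2, (hzl _ _ _ (mul_mem (hpows i hi x0) hz)).2,
          (hzl _ _ _ (mul_mem (hpows _ hi' x0) hz')).1, hbil',
          show ⁅x0 ^ s * v ^ j', v⁆ = ⁅x0, v⁆ ^ s by
            calc ⁅x0 ^ s * v ^ j', v⁆ = x0 ^ s * ⁅v ^ j', v⁆ * (x0 ^ s)⁻¹ * ⁅x0 ^ s, v⁆ := by
                  simp only [commutatorElement_def]; group
              _ = _ := by rw [commutatorElement_eq_one_iff_mul_comm.mpr ((Commute.refl v).zpow_left j').eq,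
                  mul_one, mul_inv_cancel, one_mul, hbil], ← zpow_mul]
      have hj : (p : ℤ) ∣ m * (s * (j - 1)) := by
        refine hcz _ ?_
        rw [show m * (s * (j - 1)) = m * (s * j) - s * m by ring, zpow_sub, zpow_mul c m, hm', ← h3,
          ← hm', map_zpow, hs, ← zpow_mul, mul_inv_cancel]
      have hmp : ¬ (p : ℤ) ∣ m := fun hd => hne (by
        rw [← hm', ← orderOf_dvd_iff_zpow_eq_one, hc]; exact hd)
      have hp' := Nat.prime_iff_prime_int.mp hpp
      have hj1 : (p : ℤ) ∣ j - 1 :=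
        ((hp'.dvd_or_dvd ((hp'.dvd_or_dvd hj).resolve_left hmp)).resolve_left hsp)
      rw [h1, eq_comm, QuotientGroup.eq, show v⁻¹ * (v ^ j * (x0 ^ i * z)) = v ^ (j - 1) * (x0 ^ i * z) by
        rw [← mul_assoc, ← zpow_neg_one, ← zpow_add]; congr 2; ring]
      exact mul_mem (hpows _ hj1 v) (mul_mem (hpows i hi x0) hz)
    haveI : IsMulCommutative (R ⧸ Subgroup.center R) := ⟨⟨fun u w => by
      obtain ⟨u, rfl⟩ := QuotientGroup.mk'_surjective _ u
      obtain ⟨w, rfl⟩ := QuotientGroup.mk'_surjective _ w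
      rw [← commutatorElement_eq_one_iff_mul_comm, ← map_commutatorElement, QuotientGroup.mk'_apply,
        QuotientGroup.eq_one_iff]
      exact hcen u w⟩⟩
    letI : CommGroup (R ⧸ Subgroup.center R) := { (inferInstance : Group (R ⧸ Subgroup.center R)) with
      mul_comm := mul_comm' }
    obtain ⟨N, hN1, hN2⟩ := exists_norm φ (QuotientGroup.mk' (Subgroup.center R))
    refine ⟨N.ker, fun h => ?_, fun t x => MonoidHom.mem_ker.mpr (hN1 t x)⟩
    have h1 := MonoidHom.mem_ker.mp (h.ge (Subgroup.mem_top v))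
    rw [hN2 v hfix, ← map_pow, QuotientGroup.mk'_apply, QuotientGroup.eq_one_iff] at h1
    obtain ⟨s, hs⟩ := exists_pow_eq_self_of_coprime (x := v) (n := Nat.card A) (by
      obtain ⟨m, hm⟩ := hR.exists_orderOf_eq_pow v
      rw [hm]
      exact hcop.pow_right m)
    exact hvc (hs ▸ Subgroup.pow_mem _ h1 s)
  · -- the root spans an invariant line
    push Not at hK
    refine ⟨Subgroup.centralizer ({x0} : Set R), fun h => hx0cen (Subgroup.mem_center_iff.mpr fun g =>
      Subgroup.mem_centralizer_singleton_iff.mp (h.ge (Subgroup.mem_top g))), fun t y => ?_⟩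
    obtain ⟨s, hs, hsp⟩ := hchar t
    have hw : (x0 ^ s)⁻¹ * φ t x0 ∈ Subgroup.center R := hK _ (by
      rw [hmul, inv_pow, ← map_pow, hx0, hs, ← zpow_natCast, zpow_comm, zpow_natCast, hx0, inv_mul_cancel])
    have h1 : φ t ⁅x0, y⁆ = ⁅x0, φ t y⁆ ^ s := by
      rw [map_commutatorElement, show φ t x0 = x0 ^ s * ((x0 ^ s)⁻¹ * φ t x0) by group,
        (hzl _ _ _ hw).1, hbil]
    obtain ⟨m, hm⟩ := hcomm x0 y
    have hm' : c ^ m = ⁅x0, y⁆ := hm
    obtain ⟨m', hm2⟩ := hcomm x0 (φ t y)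
    have hm2' : c ^ m' = ⁅x0, φ t y⁆ := hm2
    have hd : (p : ℤ) ∣ s * (m' - m) := by
      refine hcz _ ?_
      rw [show s * (m' - m) = m' * s - s * m by ring, zpow_sub, zpow_mul c m', hm2', ← h1, ← hm', map_zpow, hs,
        ← zpow_mul, mul_inv_cancel]
    have heq : ⁅x0, φ t y⁆ = ⁅x0, y⁆ := by
      rw [← hm2', ← hm', ← mul_inv_eq_one, ← zpow_sub, ← orderOf_dvd_iff_zpow_eq_one, hc]
      exact ((Nat.prime_iff_prime_int.mp hpp).dvd_or_dvd hd).resolve_left hsp
    rw [Subgroup.mem_centralizer_singleton_iff, eq_comm, ← commutatorElement_eq_one_iff_mul_comm]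
    calc ⁅x0, y⁻¹ * φ t y⁆ = ⁅x0, y⁻¹⁆ * (y⁻¹ * ⁅x0, φ t y⁆ * y) := by simp only [commutatorElement_def]; group
      _ = ⁅x0, y⁻¹⁆ * ⁅x0, y⁆ := by
        rw [heq, mul_assoc, ← Subgroup.mem_center_iff.mp (hcen x0 y) y, inv_mul_cancel_left]
      _ = 1 := by rw [← zpow_neg_one, hbil', zpow_neg_one, inv_mul_cancel]

/-- A coprime group of automorphisms of a nonabelian metacyclic group with central derived subgroup does
not generate it by commutators. -/
theorem not_generated {R A : Type*} [Group R] [Finite R] [Group A] [Finite A] (hp2 : p ≠ 2)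
    (hR : IsPGroup p R) (hm : Cfsg.IsMetacyclic R) (φ : A →* MulAut R) (hcop : (Nat.card A).Coprime p)
    (hcl : commutator R ≤ Subgroup.center R) (hna : ¬ IsMulCommutative R) :
    ∃ L : Subgroup R, L ≠ ⊤ ∧ ∀ (t : A) (x : R), x⁻¹ * φ t x ∈ L := by
  have hpp := hp.out
  obtain ⟨a, b, -, hgen, hle⟩ := Metacyclic.exists_gens hm
  haveI := (Metacyclic.cyclicDerived hp2 hR hm).cyclic
  obtain ⟨⟨g, hg⟩, hgg⟩ := IsCyclic.exists_generator (α := commutator R)
  have hRg : ∀ x ∈ commutator R, x ∈ Subgroup.zpowers g := fun x hx => by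
    obtain ⟨i, hi⟩ := hgg ⟨x, hx⟩
    exact ⟨i, congrArg Subtype.val hi⟩
  set D := Subgroup.zpowers (g ^ p) with hD
  have hDc : D ≤ Subgroup.center R := Subgroup.zpowers_le.mpr (Subgroup.pow_mem _ (hcl hg) p)
  haveI : D.Normal := ⟨fun x hx y => by
    rw [Subgroup.mem_center_iff.mp (hDc hx) y, mul_inv_cancel_right]; exact hx⟩
  have hgD : g ∉ D := by
    intro h
    refine hna ⟨⟨fun x y => commutatorElement_eq_one_iff_mul_comm.mp ?_⟩⟩
    obtain ⟨i, hi⟩ := h
    have h1 : g ^ ((p : ℤ) * i - 1) = 1 := by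
      rw [zpow_sub, zpow_one, zpow_mul, zpow_natCast, show (g ^ p) ^ i = g from hi, mul_inv_cancel]
    obtain ⟨n, hn⟩ := hR.exists_orderOf_eq_pow g
    have hg1 : g = 1 := by
      rcases n with _ | n
      · exact orderOf_eq_one_iff.mp (by rw [hn, pow_zero])
      · rw [← orderOf_dvd_iff_zpow_eq_one, hn] at h1
        have h2 : (p : ℤ) ∣ (p : ℤ) * i - 1 := (Int.natCast_dvd_natCast.mpr (dvd_pow_self p n.succ_ne_zero)).trans h1
        have h3 : (p : ℤ) ∣ 1 := by simpa using dvd_sub (dvd_mul_right (p : ℤ) i) h2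
        exact absurd (Int.natCast_dvd_natCast.mp (by exact_mod_cast h3)) hpp.not_dvd_one
    obtain ⟨j, hj⟩ := hRg _ (Metacyclic.comm_mem x y)
    rw [← hj]
    show g ^ j = 1
    rw [hg1, one_zpow]
  have hφD : ∀ t : A, D.map (φ t).toMonoidHom = D := by
    intro t
    refine Subgroup.eq_of_le_of_card_ge ?_ (le_of_eq ?_)
    · rw [hD, MonoidHom.map_zpowers, Subgroup.zpowers_le]
      have h : φ t g ∈ commutator R := by
        have := Subgroup.characteristic_iff_map_le.mp (inferInstance : (commutator R).Characteristic) (φ t)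
        exact this ⟨g, hg, rfl⟩
      obtain ⟨i, hi⟩ := hRg _ h
      refine ⟨i, ?_⟩
      show (g ^ p) ^ i = φ t (g ^ p)
      rw [map_pow, ← hi]
      show (g ^ p) ^ i = (g ^ i) ^ p
      rw [← zpow_natCast, ← zpow_natCast (g ^ i), zpow_comm]
    · rw [Subgroup.card_map_of_injective (φ t).injective]
  let ψ : A →* MulAut (R ⧸ D) := MonoidHom.mk' (fun t => QuotientGroup.congr D D (φ t) (hφD t)) fun t u => by
    refine MulEquiv.ext fun q => ?_
    obtain ⟨x, rfl⟩ := QuotientGroup.mk'_surjective D q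
    show ((φ (t * u) x : R) : R ⧸ D) = ((φ t (φ u x) : R) : R ⧸ D)
    rw [map_mul, MulAut.mul_apply]
  have hψ : ∀ (t : A) (x : R), ψ t x = ((φ t x : R) : R ⧸ D) := fun _ _ => rfl
  obtain ⟨L, hL, hLmem⟩ := not_generated_aux hp2 (hR.to_quotient D) ψ hcop (a := (a : R ⧸ D)) (b := b) (c := g)
    (fun q => by
      obtain ⟨x, rfl⟩ := QuotientGroup.mk'_surjective D q
      obtain ⟨i, j, rfl⟩ := hgen x
      exact ⟨i, j, rfl⟩)
    (fun x y => by
      obtain ⟨x, rfl⟩ := QuotientGroup.mk'_surjective D x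
      obtain ⟨y, rfl⟩ := QuotientGroup.mk'_surjective D y
      obtain ⟨i, hi⟩ := hRg _ (Metacyclic.comm_mem x y)
      rw [← map_commutatorElement, ← hi]
      exact ⟨i, rfl⟩)
    (by obtain ⟨i, hi⟩ := hle hg; exact ⟨i, congrArg (QuotientGroup.mk' D) hi⟩)
    (Subgroup.mem_center_iff.mpr fun q => by
      obtain ⟨x, rfl⟩ := QuotientGroup.mk'_surjective D q
      exact congrArg (QuotientGroup.mk' D) (Subgroup.mem_center_iff.mp (hcl hg) x))
    (orderOf_eq_prime ((QuotientGroup.eq_one_iff _).mpr (Subgroup.mem_zpowers (g ^ p)))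
      fun h => hgD ((QuotientGroup.eq_one_iff _).mp h))
    (fun h => hgD (by
      have hle : commutator R ≤ D := by
        rw [commutator_def, Subgroup.commutator_le]
        intro x _ y _
        rw [← QuotientGroup.eq_one_iff, ← QuotientGroup.mk'_apply, map_commutatorElement,
          commutatorElement_eq_one_iff_mul_comm]
        exact h.1.comm _ _
      exact hle hg))
  refine ⟨L.comap (QuotientGroup.mk' D), fun h => hL ?_, fun t x => ?_⟩
  · rw [← Subgroup.map_comap_eq_self_of_surjective (QuotientGroup.mk'_surjective D) L, h,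
      Subgroup.map_top_of_surjective _ (QuotientGroup.mk'_surjective D)]
  · show ((x⁻¹ * φ t x : R) : R ⧸ D) ∈ L
    rw [QuotientGroup.mk_mul, QuotientGroup.mk_inv, ← hψ]
    exact hLmem t x

variable {G : Type*} [Group G] [Finite G]

/-- A noncyclic metacyclic subgroup has exactly `p ^ 2` solutions of `x ^ p = 1`. -/
theorem card_omega {X : Subgroup G} (hp2 : p ≠ 2) (hX : IsPGroup p X) (hm : Cfsg.IsMetacyclic X)
    (hnc : ¬ IsCyclic X) : Nat.card (Cfsg.omegaOne p X) = p ^ 2 := by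
  rw [← (Cfsg.Agent.S0638.result hp2 hX hm hnc).2,
    ← Subgroup.card_map_of_injective (K := Cfsg.omegaOne p (⊤ : Subgroup X)) X.subtype_injective]
  unfold Cfsg.omegaOne
  rw [MonoidHom.map_closure]
  refine congrArg (fun s : Set G => Nat.card (Subgroup.closure s)) (Set.ext fun x => ?_)
  simp only [Set.mem_image, Set.mem_setOf_eq, Subgroup.mem_top, true_and]
  refine ⟨fun h => ⟨⟨x, h.1⟩, Subtype.ext h.2, rfl⟩, ?_⟩
  rintro ⟨y, hy, rfl⟩
  exact ⟨y.2, congrArg Subtype.val hy⟩

/-- Being metacyclic passes to isomorphic groups. -/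
theorem isMetacyclic_congr {X Y : Type*} [Group X] [Group Y] (e : X ≃* Y) (h : Cfsg.IsMetacyclic X) :
    Cfsg.IsMetacyclic Y := by
  obtain ⟨N, hN, hNc, hQ⟩ := h
  haveI := hN
  haveI := hNc
  haveI := hQ
  haveI : (N.map e.toMonoidHom).Normal := hN.map _ e.surjective
  exact ⟨N.map e.toMonoidHom, inferInstance,
    isCyclic_of_surjective (N.equivMapOfInjective e.toMonoidHom e.injective) (MulEquiv.surjective _),
    isCyclic_of_surjective (QuotientGroup.congr N (N.map e.toMonoidHom) e rfl) (MulEquiv.surjective _)⟩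

end CfsgLib.MetacyclicCoprime
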