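import Cfsg.Agent.Lib.PGroup.ThreeInvolutions

/-!
`2`-groups with an involutory automorphism whose fixed points form a central four-group, permuted
fixed-point-freely by a commuting automorphism of order three.
-/

set_option autoImplicit false
set_option linter.style.haveILetI false
set_option linter.unusedSectionVars false

namespace CfsgLib.CentralFour

universe u

/-- The hypothesis. -/
structure Hyp {T : Type u} [Group T] (t ρ : MulAut T) : Prop where
  two : IsPGroup 2 T
  tt : ∀ x, t (t x) = x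
  r3 : ∀ x, ρ (ρ (ρ x)) = x
  comm : ∀ x, t (ρ x) = ρ (t x)
  card : Nat.card {x : T // t x = x} = 4
  sq : ∀ x, t x = x → x * x = 1
  central : ∀ v, t v = v → ∀ g, g * v = v * g
  fpf : ∀ v, t v = v → ρ v = v → v = 1

/-- The commutator used for the bookkeeping. -/
def k {T : Type*} [Group T] (x y : T) : T := y⁻¹ * x⁻¹ * y * x

theorem k_spec {T : Type*} [Group T] (x y : T) : y * x = x * y * k x y := by simp only [k]; group

theorem k_uniq {T : Type*} [Group T] {x y v : T} (e : y * x = x * y * v) : k x y = v :=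
  mul_left_cancel ((k_spec x y).symm.trans e)

theorem map_k {T : Type*} [Group T] {S : Type*} [Group S] {F : Type*} [FunLike F T S]
    [MonoidHomClass F T S] (f : F) (x y : T) : f (k x y) = k (f x) (f y) := by
  simp only [k, map_mul, map_inv]

theorem k_eq_one {T : Type*} [Group T] {x y : T} : k x y = 1 ↔ y * x = x * y :=
  ⟨fun e => by rw [k_spec, e, mul_one], fun e => k_uniq (by rw [e, mul_one])⟩

theorem k_mul_left {T : Type*} [Group T] {x x' y : T} (h : ∀ g, g * k x y = k x y * g) :
    k (x * x') y = k x y * k x' y := k_uniq <| by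
  calc y * (x * x') = (y * x) * x' := by group
    _ = x * (y * (k x y * x')) := by rw [k_spec x y]; group
    _ = x * (y * (x' * k x y)) := by rw [← h x']
    _ = x * ((y * x') * k x y) := by group
    _ = x * x' * y * (k x' y * k x y) := by rw [k_spec x' y]; group
    _ = x * x' * y * (k x y * k x' y) := by rw [h (k x' y)]

theorem k_symm {T : Type*} [Group T] (x y : T) : k y x = (k x y)⁻¹ := by simp only [k]; group

theorem k_mul_right {T : Type*} [Group T] {x y y' : T} (h : ∀ g, g * k x y = k x y * g) :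
    k x (y * y') = k x y * k x y' := k_uniq <| by
  calc y * y' * x = y * (y' * x) := by group
    _ = (y * x) * (y' * k x y') := by rw [k_spec x y']; group
    _ = x * y * (k x y * y') * k x y' := by rw [k_spec x y]; group
    _ = x * y * (y' * k x y) * k x y' := by rw [h y']
    _ = x * (y * y') * (k x y * k x y') := by group

theorem sq_mul {T : Type*} [Group T] {x y : T} (h : ∀ g, g * k x y = k x y * g) :
    x * y * (x * y) = x * x * (y * y) * k x y := by
  calc x * y * (x * y) = x * (y * x) * y := by group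
    _ = x * x * y * (k x y * y) := by rw [k_spec x y]; group
    _ = x * x * (y * y) * k x y := by rw [← h y]; group

/-- A permutation of prime-power order has as many fixed points as points, modulo the prime. -/
theorem fixed_mod {α : Type*} [Finite α] (σ : Equiv.Perm α) {p n : ℕ} [Fact p.Prime]
    (h : σ ^ p ^ n = 1) : Nat.card {x // σ x = x} ≡ Nat.card α [MOD p] := by
  classical
  haveI := Fintype.ofFinite α
  have h1 := Equiv.Perm.card_compl_support_modEq h
  rw [Nat.card_eq_fintype_card, Nat.card_eq_fintype_card]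
  convert h1 using 1
  rw [Fintype.card_subtype]
  congr 1
  ext x
  simp [Equiv.Perm.mem_support]

variable {T : Type u} [Group T] {t ρ : MulAut T}

/-- The fixed subgroup. -/
def V (t : MulAut T) : Subgroup T := t.toMonoidHom.eqLocus (MonoidHom.id T)

theorem mem_V {x : T} : x ∈ V t ↔ t x = x := Iff.rfl

theorem Hyp.card_V (h : Hyp t ρ) : Nat.card (V t) = 4 := h.card

theorem Hyp.cen (h : Hyp t ρ) {v : T} (hv : v ∈ V t) : ∀ g, g * v = v * g := h.central v hv

theorem Hyp.vv (h : Hyp t ρ) {v : T} (hv : v ∈ V t) : v * v = 1 := h.sq v hv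

theorem Hyp.rho_V (h : Hyp t ρ) {v : T} (hv : v ∈ V t) : ρ v ∈ V t := by
  show t (ρ v) = ρ v; rw [h.comm, show t v = v from hv]

theorem Hyp.normal_V (h : Hyp t ρ) : (V t).Normal :=
  ⟨fun v hv g => by rw [h.cen hv g, mul_inv_cancel_right]; exact hv⟩

theorem Hyp.t_pow (h : Hyp t ρ) : t ^ 2 ^ 1 = 1 := MulEquiv.ext fun x => by
  simpa [pow_two, MulAut.mul_apply] using h.tt x

theorem Hyp.rho_pow (h : Hyp t ρ) : ρ ^ 3 ^ 1 = 1 := MulEquiv.ext fun x => by
  simpa [pow_succ, MulAut.mul_apply] using h.r3 x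

variable [Finite T]

/-- An invariant nontrivial subgroup meets the fixed points. -/
theorem Hyp.meet (h : Hyp t ρ) (U : Subgroup T) (hU : ∀ u ∈ U, t u ∈ U) (hne : U ≠ ⊥) :
    ∃ v ∈ U, v ∈ V t ∧ v ≠ 1 := by
  classical
  haveI : Fact (Nat.Prime 2) := ⟨Nat.prime_two⟩
  haveI : Nontrivial U := (Subgroup.nontrivial_iff_ne_bot U).mpr hne
  obtain ⟨k, hk0, hk⟩ := (h.two.to_subgroup U).nontrivial_iff_card.mp inferInstance
  let σ : Equiv.Perm U :=
    { toFun := fun u => ⟨t u, hU u u.2⟩
      invFun := fun u => ⟨t u, hU u u.2⟩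
      left_inv := fun u => Subtype.ext (h.tt u)
      right_inv := fun u => Subtype.ext (h.tt u) }
  have hm := fixed_mod σ (p := 2) (n := 1) (Equiv.ext fun u => by
    simp only [pow_one, pow_two, Equiv.Perm.mul_apply]; exact σ.left_inv u)
  rw [hk] at hm
  by_contra hcon
  push Not at hcon
  haveI : Subsingleton {x : U // σ x = x} := ⟨fun x y => by
    have hx : (x.1 : T) = 1 := hcon x.1 x.1.2 (congrArg Subtype.val x.2)
    have hy : (y.1 : T) = 1 := hcon y.1 y.1.2 (congrArg Subtype.val y.2)
    exact Subtype.ext (Subtype.ext (hx.trans hy.symm))⟩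
  haveI : Nonempty {x : U // σ x = x} := ⟨⟨1, Subtype.ext (map_one t)⟩⟩
  rw [Nat.card_eq_one_iff_unique.mpr ⟨inferInstance, inferInstance⟩] at hm
  obtain ⟨j, rfl⟩ : ∃ j, k = j + 1 := ⟨k - 1, by omega⟩
  unfold Nat.ModEq at hm
  rw [pow_succ] at hm
  omega

/-- The automorphism of order three fixes only the identity. -/
theorem Hyp.rho_fpf (h : Hyp t ρ) {u : T} (hu : ρ u = u) : u = 1 := by
  by_contra hne
  let E : Subgroup T := ρ.toMonoidHom.eqLocus (MonoidHom.id T)
  obtain ⟨v, hvE, hv, hv1⟩ := h.meet E (fun x (hx : ρ x = x) => by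
    show ρ (t x) = t x; rw [← h.comm, hx]) (fun e => hne (Subgroup.mem_bot.mp (e ▸ (hu : u ∈ E))))
  exact hv1 (h.fpf v hv hvE)

/-- An invariant subgroup has order a power of four. -/
theorem Hyp.card_invariant (h : Hyp t ρ) (U : Subgroup T) (hU : ∀ u ∈ U, ρ u ∈ U) :
    ∃ n, Nat.card U = 4 ^ n := by
  classical
  haveI : Fact (Nat.Prime 2) := ⟨Nat.prime_two⟩
  haveI : Fact (Nat.Prime 3) := ⟨Nat.prime_three⟩
  obtain ⟨k, hk⟩ := IsPGroup.iff_card.mp (h.two.to_subgroup U)
  let σ : Equiv.Perm U :=
    { toFun := fun u => ⟨ρ u, hU u u.2⟩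
      invFun := fun u => ⟨ρ (ρ u), hU _ (hU u u.2)⟩
      left_inv := fun u => Subtype.ext (h.r3 u)
      right_inv := fun u => Subtype.ext (h.r3 u) }
  have hm := fixed_mod σ (p := 3) (n := 1) (Equiv.ext fun u => by
    simp only [pow_one, pow_succ, pow_zero, one_mul, Equiv.Perm.mul_apply]
    exact Subtype.ext (h.r3 u))
  haveI : Subsingleton {x : U // σ x = x} := ⟨fun x y => by
    have hx : (x.1 : T) = 1 := h.rho_fpf (congrArg Subtype.val x.2)
    have hy : (y.1 : T) = 1 := h.rho_fpf (congrArg Subtype.val y.2)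
    exact Subtype.ext (Subtype.ext (hx.trans hy.symm))⟩
  haveI : Nonempty {x : U // σ x = x} := ⟨⟨1, Subtype.ext (map_one ρ)⟩⟩
  rw [Nat.card_eq_one_iff_unique.mpr ⟨inferInstance, inferInstance⟩, hk] at hm
  unfold Nat.ModEq at hm
  rcases Nat.even_or_odd' k with ⟨n, rfl | rfl⟩
  · exact ⟨n, by rw [hk, pow_mul]; norm_num⟩
  · exfalso
    rw [pow_succ, pow_mul, Nat.mul_mod, Nat.pow_mod] at hm
    norm_num at hm

/-- An invariant subgroup strictly above another is four times as large. -/
theorem Hyp.four_mul_le (h : Hyp t ρ) {A B : Subgroup T} (hA : ∀ u ∈ A, ρ u ∈ A)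
    (hB : ∀ u ∈ B, ρ u ∈ B) (hAB : A < B) : 4 * Nat.card A ≤ Nat.card B := by
  obtain ⟨n, hn⟩ := h.card_invariant A hA
  obtain ⟨m, hm⟩ := h.card_invariant B hB
  have hlt : Nat.card A < Nat.card B := lt_of_not_ge fun hge =>
    hAB.ne (Subgroup.eq_of_le_of_card_ge hAB.le hge)
  rw [hn, hm] at hlt ⊢
  rw [← pow_succ']
  exact Nat.pow_le_pow_right (by norm_num) ((Nat.pow_lt_pow_iff_right (by norm_num)).mp hlt)

theorem Hyp.orbit (h : Hyp t ρ) {v : T} (hv : v ∈ V t) : v * ρ v * ρ (ρ v) = 1 := by
  refine h.fpf _ (mul_mem (mul_mem hv (h.rho_V hv)) (h.rho_V (h.rho_V hv))) ?_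
  rw [map_mul, map_mul, h.r3, h.cen hv (ρ v * ρ (ρ v)), ← mul_assoc]

theorem Hyp.fpf_mod (h : Hyp t ρ) {u : T} (hu : u⁻¹ * ρ u ∈ V t) : u ∈ V t := by
  obtain ⟨v, hv, hv'⟩ : ∃ v ∈ V t, ρ u = u * v := ⟨_, hu, by group⟩
  have hρv := h.rho_V hv
  have hρρv := h.rho_V hρv
  have h3 : ρ (ρ v) = v * ρ v := by
    rw [← inv_eq_of_mul_eq_one_right (h.orbit hv)]
    exact inv_eq_of_mul_eq_one_right (h.vv (mul_mem hv hρv))
  have h1 : u * ρ v = 1 := h.rho_fpf (by
    rw [map_mul, hv', h3, mul_assoc, ← mul_assoc v, h.vv hv, one_mul])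
  rw [eq_inv_of_mul_eq_one_left h1]
  exact inv_mem hρv

/-- The product of the conjugates, when commutators lie in the fixed subgroup. -/
theorem Hyp.third (h : Hyp t ρ) (hkV : ∀ x y : T, k x y ∈ V t) (x : T) :
    x * ρ x * ρ (ρ x) ∈ V t := by
  refine h.fpf_mod ?_
  rw [map_mul, map_mul, h.r3, k_spec x (ρ x * ρ (ρ x)), ← mul_assoc x, inv_mul_cancel_left]
  exact hkV _ _

/-- The commutators of conjugates, in class two. -/
theorem Hyp.mix (h : Hyp t ρ) (hkV : ∀ x y : T, k x y ∈ V t) (hsqV : ∀ x : T, x * x ∈ V t) :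
    (∀ x : T, k x (ρ x) = 1) ∧ ∀ a c : T, k a (ρ c) = ρ (ρ (k a c)) ∧ k (ρ a) c = ρ (ρ (k a c)) := by
  have hl : ∀ x x' y : T, k (x * x') y = k x y * k x' y := fun x x' y => k_mul_left (h.cen (hkV x y))
  have hr : ∀ x y y' : T, k x (y * y') = k x y * k x y' := fun x y y' => k_mul_right (h.cen (hkV x y))
  have hkv : ∀ v ∈ V t, ∀ x : T, k x v = 1 ∧ k v x = 1 := fun v hv x =>
    ⟨k_eq_one.mpr (h.cen hv x).symm, k_eq_one.mpr (h.cen hv x)⟩
  have hil : ∀ x y : T, k x⁻¹ y = k x y := fun x y => by
    have e := hl x⁻¹ x y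
    rw [inv_mul_cancel, (hkv 1 (one_mem _) y).2] at e
    rw [eq_inv_of_mul_eq_one_left e.symm]
    exact inv_eq_of_mul_eq_one_right (h.vv (hkV x y))
  have hir : ∀ x y : T, k x y⁻¹ = k x y := fun x y => by
    rw [k_symm, hil, ← k_symm]
  constructor
  · intro x
    obtain ⟨p, hp, e⟩ : ∃ p ∈ V t, ρ (ρ x) = (x * ρ x)⁻¹ * p := ⟨_, h.third hkV x, by group⟩
    have hv : x * x * ρ (x * x) ∈ V t := mul_mem (hsqV x) (h.rho_V (hsqV x))
    have h1 : ρ (ρ x) * ρ (ρ x) = x * x * ρ (x * x) := by
      rw [← map_mul, ← map_mul, ← inv_eq_of_mul_eq_one_right (h.orbit (hsqV x))]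
      exact inv_eq_of_mul_eq_one_right (h.vv hv)
    rw [e, sq_mul (h.cen (hkV _ _)), (hkv p hp _).1, mul_one, h.vv hp, mul_one, ← mul_inv_rev,
      sq_mul (h.cen (hkV _ _)), ← map_mul, inv_eq_of_mul_eq_one_right (h.vv (mul_mem hv (hkV _ _)))] at h1
    exact mul_eq_left.mp h1
  · intro a c
    obtain ⟨p, hp, hpa⟩ : ∃ p ∈ V t, ρ (ρ a) = (a * ρ a)⁻¹ * p := ⟨_, h.third hkV a, by group⟩
    obtain ⟨q, hq, hqc⟩ : ∃ q ∈ V t, ρ (ρ c) = (c * ρ c)⁻¹ * q := ⟨_, h.third hkV c, by group⟩
    obtain ⟨e, he⟩ : ∃ e, e = k a (ρ c) := ⟨_, rfl⟩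
    obtain ⟨f, hf⟩ : ∃ f, f = k (ρ a) c := ⟨_, rfl⟩
    obtain ⟨K, hK⟩ : ∃ K, K = ρ (k a c) := ⟨_, rfl⟩
    have hbd : k (ρ a) (ρ c) = K := by rw [hK, map_k]
    have heV : e ∈ V t := he ▸ hkV _ _
    have hfV : f ∈ V t := hf ▸ hkV _ _
    have hKV : K ∈ V t := hK ▸ h.rho_V (hkV _ _)
    have h1 : ρ e = f * K := by rw [he, map_k, hqc, hr, (hkv q hq _).1, mul_one, hir, hr, hbd, ← hf]
    have h2 : ρ f = e * K := by rw [hf, map_k, hpa, hl, (hkv p hp _).2, mul_one, hil, hl, hbd, ← he]
    have h3 : e = f := by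
      have : e * f = 1 := h.fpf _ (mul_mem heV hfV) (by
        rw [map_mul, h1, h2, mul_assoc f, ← mul_assoc K, h.cen heV K, mul_assoc e, h.vv hKV, mul_one,
          h.cen heV f])
      rw [eq_inv_of_mul_eq_one_left this]
      exact inv_eq_of_mul_eq_one_right (h.vv hfV)
    have h4 : ρ (ρ e) = K := by
      rw [← inv_eq_of_mul_eq_one_right (h.orbit heV), h1, ← h3, ← mul_assoc, h.vv heV, one_mul]
      exact inv_eq_of_mul_eq_one_right (h.vv hKV)
    have h5 : e = ρ (ρ (k a c)) := by rw [← hK, ← h4, h.r3]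
    exact ⟨he ▸ h5, hf ▸ h3 ▸ h5⟩

/-- Two generators modulo a central subgroup force commutativity. -/
theorem Hyp.two_gen (h : Hyp t ρ) (N : Subgroup T) (hN : N ≤ Subgroup.center T)
    (hkV : ∀ x y : T, k x y ∈ V t) (x y : T) (hgen : Subgroup.closure ({x, y} : Set T) ⊔ N = ⊤) :
    ∀ g g' : T, g * g' = g' * g := by
  have hl : ∀ a a' b : T, k (a * a') b = k a b * k a' b := fun a a' b => k_mul_left (h.cen (hkV a b))
  have hr : ∀ a b b' : T, k a (b * b') = k a b * k a b' := fun a b b' => k_mul_right (h.cen (hkV a b))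
  let K := Subgroup.zpowers (k x y)
  -- elements whose commutators with everything lie in `K`
  let S : Subgroup T :=
    { carrier := {g | k g x ∈ K ∧ k g y ∈ K}
      one_mem' := by simp [k]
      mul_mem' := fun {a b} ha hb => by
        simp only [Set.mem_ofPred_eq, hl] at ha hb ⊢
        exact ⟨mul_mem ha.1 hb.1, mul_mem ha.2 hb.2⟩
      inv_mem' := fun {a} ha => by
        simp only [Set.mem_ofPred_eq] at ha ⊢
        have hi : ∀ b, k a⁻¹ b = (k a b)⁻¹ := fun b => eq_inv_of_mul_eq_one_left (by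
          rw [← hl, inv_mul_cancel]; simp [k])
        exact ⟨hi x ▸ inv_mem ha.1, hi y ▸ inv_mem ha.2⟩ }
  have hS : ⊤ ≤ S := by
    rw [← hgen, sup_le_iff, Subgroup.closure_le]
    refine ⟨?_, fun n hn => ?_⟩
    · rintro g (rfl | rfl)
      · exact ⟨by simp [k], Subgroup.mem_zpowers _⟩
      · refine ⟨?_, by simp [k]⟩
        rw [k_symm]; exact inv_mem (Subgroup.mem_zpowers _)
    · have e : ∀ b, k n b = 1 := fun b => k_eq_one.mpr (Subgroup.mem_center_iff.mp (hN hn) b)
      exact ⟨by rw [e]; exact one_mem _, by rw [e]; exact one_mem _⟩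
  have hall : ∀ g g' : T, k g g' ∈ K := by
    intro g
    let S' : Subgroup T :=
      { carrier := {g' | k g g' ∈ K}
        one_mem' := by simp [k]
        mul_mem' := fun {a b} ha hb => by
          simp only [Set.mem_ofPred_eq, hr] at ha hb ⊢
          exact mul_mem ha hb
        inv_mem' := fun {a} ha => by
          simp only [Set.mem_ofPred_eq] at ha ⊢
          rw [show k g a⁻¹ = (k g a)⁻¹ from eq_inv_of_mul_eq_one_left (by
            rw [← hr, inv_mul_cancel]; simp [k])]
          exact inv_mem ha }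
    have : ⊤ ≤ S' := by
      rw [← hgen, sup_le_iff, Subgroup.closure_le]
      refine ⟨?_, fun n hn => ?_⟩
      · rintro b (rfl | rfl)
        · exact (hS (Subgroup.mem_top g)).1
        · exact (hS (Subgroup.mem_top g)).2
      · show k g n ∈ K
        rw [k_eq_one.mpr (Subgroup.mem_center_iff.mp (hN hn) g).symm]
        exact one_mem _
    exact fun g' => this (Subgroup.mem_top g')
  have h1 : k x y = 1 := by
    refine h.fpf _ (hkV x y) ?_
    have hm := hall (ρ x) (ρ y)
    rw [← map_k] at hm
    obtain ⟨i, hi⟩ := Subgroup.mem_zpowers_iff.mp hm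
    rcases Int.even_or_odd' i with ⟨j, rfl | rfl⟩
    · rw [zpow_mul, zpow_two, h.vv (hkV x y), one_zpow] at hi
      rw [← hi, ρ.injective (hi.symm.trans (map_one ρ).symm)]
    · rw [zpow_add, zpow_mul, zpow_two, h.vv (hkV x y), one_zpow, one_mul, zpow_one] at hi
      exact hi.symm
  intro g g'
  have := hall g' g
  rw [show K = ⊥ from Subgroup.zpowers_eq_bot.mpr h1, Subgroup.mem_bot, k_eq_one] at this
  exact this

/-- An automorphism of the quotient by an invariant normal subgroup. -/
noncomputable def qAut (a : MulAut T) (N : Subgroup T) [N.Normal] (hN : ∀ x ∈ N, a x ∈ N) :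
    MulAut (T ⧸ N) :=
  MulEquiv.ofBijective (QuotientGroup.map N N a.toMonoidHom hN)
    (Finite.surjective_iff_bijective.mp fun q => by
      obtain ⟨x, rfl⟩ := QuotientGroup.mk'_surjective N q
      exact ⟨QuotientGroup.mk' N (a.symm x), congrArg (QuotientGroup.mk' N) (a.apply_symm_apply x)⟩)

theorem qAut_mk (a : MulAut T) (N : Subgroup T) [N.Normal] (hN : ∀ x ∈ N, a x ∈ N) (x : T) :
    qAut a N hN (QuotientGroup.mk' N x) = QuotientGroup.mk' N (a x) := rfl

theorem Hyp.t_V (_h : Hyp t ρ) : ∀ x ∈ V t, t x ∈ V t := fun x hx => by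
  rw [show t x = x from hx]; exact hx

/-- The hypothesis passes to the quotient by the fixed points. -/
theorem Hyp.quotient (h : Hyp t ρ) [(V t).Normal] (hne : V t ≠ ⊤) :
    Hyp (qAut t (V t) h.t_V) (qAut ρ (V t) fun _ hx => h.rho_V hx) := by
  classical
  haveI : Fact (Nat.Prime 2) := ⟨Nat.prime_two⟩
  haveI : Fact (Nat.Prime 3) := ⟨Nat.prime_three⟩
  set π := QuotientGroup.mk' (V t) with hπ
  set t' := qAut t (V t) h.t_V with ht'
  set r' := qAut ρ (V t) fun _ hx => h.rho_V hx with hr'
  have hs := QuotientGroup.mk'_surjective (V t)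
  have et : ∀ x, t' (π x) = π (t x) := fun x => rfl
  have er : ∀ x, r' (π x) = π (ρ x) := fun x => rfl
  have htt : ∀ q, t' (t' q) = q := fun q => by
    obtain ⟨x, rfl⟩ := hs q; rw [et, et, h.tt]
  have hrr : ∀ q, r' (r' (r' q)) = q := fun q => by
    obtain ⟨x, rfl⟩ := hs q; rw [er, er, er, h.r3]
  have hc : ∀ q, t' (r' q) = r' (t' q) := fun q => by
    obtain ⟨x, rfl⟩ := hs q; rw [er, et, et, er, h.comm]
  have hfix : ∀ q, r' q = q → q = 1 := fun q hq => by
    obtain ⟨x, rfl⟩ := hs q
    rw [er, hπ, QuotientGroup.mk'_apply, QuotientGroup.mk'_apply, eq_comm, QuotientGroup.eq] at hq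
    exact (QuotientGroup.eq_one_iff x).mpr (h.fpf_mod hq)
  have hsq : ∀ q, t' q = q → q * q = 1 := fun q hq => by
    obtain ⟨x, rfl⟩ := hs q
    rw [et, hπ, QuotientGroup.mk'_apply, QuotientGroup.mk'_apply, eq_comm, QuotientGroup.eq] at hq
    obtain ⟨v, hv, e⟩ : ∃ v ∈ V t, t x = x * v := ⟨_, hq, by group⟩
    rw [← map_mul, QuotientGroup.mk'_apply, QuotientGroup.eq_one_iff]
    show t (x * x) = x * x
    rw [map_mul, e, show x * v * (x * v) = x * (v * x) * v by group, ← h.cen hv x,
      show x * (x * v) * v = x * x * (v * v) by group, h.vv hv, mul_one]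
  -- at most four fixed points
  let F := V t'
  have hF4 : Nat.card F ≤ 4 := by
    have hv : ∀ q : F, (Quotient.out (q : T ⧸ V t))⁻¹ * t (Quotient.out (q : T ⧸ V t)) ∈ V t := by
      intro q
      have e : t' (π (Quotient.out (q : T ⧸ V t))) = π (Quotient.out (q : T ⧸ V t)) := by
        rw [show π (Quotient.out (q : T ⧸ V t)) = (q : T ⧸ V t) from QuotientGroup.out_eq' _]
        exact q.2
      rw [et, hπ, QuotientGroup.mk'_apply, QuotientGroup.mk'_apply, eq_comm, QuotientGroup.eq] at e
      exact e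
    rw [← h.card_V]
    refine Nat.card_le_card_of_injective (fun q : F => (⟨_, hv q⟩ : V t)) ?_
    intro p q e
    have e' := congrArg Subtype.val e
    simp only at e'
    set x := Quotient.out (p : T ⧸ V t) with hx
    set y := Quotient.out (q : T ⧸ V t) with hy
    have e3 : t (x * y⁻¹) = x * y⁻¹ := by
      rw [map_mul, map_inv, show t x = x * (x⁻¹ * t x) by group,
        show t y = y * (y⁻¹ * t y) by group, e']
      group
    apply Subtype.ext
    rw [← QuotientGroup.out_eq' (p : T ⧸ V t), ← QuotientGroup.out_eq' (q : T ⧸ V t), ← hx, ← hy,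
      QuotientGroup.eq]
    have h4 : y * (y⁻¹ * x) * y⁻¹ ∈ V t := by
      rw [mul_inv_cancel_left]; exact e3
    have h5 := (inferInstance : (V t).Normal).conj_mem _ (inv_mem h4) y⁻¹
    convert h5 using 1; group
  -- invariant sets of fixed points
  have hmod : ∀ U : Subgroup (T ⧸ V t), (∀ u ∈ U, r' u ∈ U) → Nat.card U % 3 = 1 := by
    intro U hU
    let σ : Equiv.Perm U :=
      { toFun := fun u => ⟨r' u, hU u u.2⟩
        invFun := fun u => ⟨r' (r' u), hU _ (hU u u.2)⟩
        left_inv := fun u => Subtype.ext (hrr u)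
        right_inv := fun u => Subtype.ext (hrr u) }
    have hm := fixed_mod σ (p := 3) (n := 1) (Equiv.ext fun u => by
      simp only [pow_one, pow_succ, pow_zero, one_mul, Equiv.Perm.mul_apply]
      exact Subtype.ext (hrr u))
    haveI : Subsingleton {x : U // σ x = x} := ⟨fun x y => by
      have hx : (x.1 : T ⧸ V t) = 1 := hfix _ (congrArg Subtype.val x.2)
      have hy : (y.1 : T ⧸ V t) = 1 := hfix _ (congrArg Subtype.val y.2)
      exact Subtype.ext (Subtype.ext (hx.trans hy.symm))⟩
    haveI : Nonempty {x : U // σ x = x} := ⟨⟨1, Subtype.ext (map_one r')⟩⟩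
    rw [Nat.card_eq_one_iff_unique.mpr ⟨inferInstance, inferInstance⟩] at hm
    exact hm.symm
  have hnt : ∀ U : Subgroup (T ⧸ V t), (∀ u ∈ U, t' u ∈ U) → U ≠ ⊥ → ∃ v ∈ U, v ∈ F ∧ v ≠ 1 := by
    intro U hU hne'
    haveI : Nontrivial U := (Subgroup.nontrivial_iff_ne_bot U).mpr hne'
    obtain ⟨j, hj0, hj⟩ := ((h.two.to_quotient (V t)).to_subgroup U).nontrivial_iff_card.mp inferInstance
    let σ : Equiv.Perm U :=
      { toFun := fun u => ⟨t' u, hU u u.2⟩
        invFun := fun u => ⟨t' u, hU u u.2⟩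
        left_inv := fun u => Subtype.ext (htt u)
        right_inv := fun u => Subtype.ext (htt u) }
    have hm := fixed_mod σ (p := 2) (n := 1) (Equiv.ext fun u => by
      simp only [pow_one, pow_two, Equiv.Perm.mul_apply]; exact σ.left_inv u)
    rw [hj] at hm
    by_contra hcon
    push Not at hcon
    haveI : Subsingleton {x : U // σ x = x} := ⟨fun x y => by
      have hx : (x.1 : T ⧸ V t) = 1 := hcon x.1 x.1.2 (congrArg Subtype.val x.2)
      have hy : (y.1 : T ⧸ V t) = 1 := hcon y.1 y.1.2 (congrArg Subtype.val y.2)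
      exact Subtype.ext (Subtype.ext (hx.trans hy.symm))⟩
    haveI : Nonempty {x : U // σ x = x} := ⟨⟨1, Subtype.ext (map_one t')⟩⟩
    rw [Nat.card_eq_one_iff_unique.mpr ⟨inferInstance, inferInstance⟩] at hm
    obtain ⟨i, rfl⟩ : ∃ i, j = i + 1 := ⟨j - 1, by omega⟩
    unfold Nat.ModEq at hm
    rw [pow_succ] at hm
    omega
  haveI : Nontrivial (T ⧸ V t) := QuotientGroup.nontrivial_iff.mpr hne
  haveI := (h.two.to_quotient (V t)).center_nontrivial
  obtain ⟨v, hvZ, hvF, hv1⟩ := hnt (Subgroup.center _) (fun u hu => by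
    rw [Subgroup.mem_center_iff]
    intro g
    obtain ⟨g, rfl⟩ := (MulEquiv.surjective t') g
    rw [← map_mul, ← map_mul, Subgroup.mem_center_iff.mp hu])
    ((Subgroup.nontrivial_iff_ne_bot _).mp inferInstance)
  let W := F ⊓ Subgroup.center (T ⧸ V t)
  have hWinv : ∀ u ∈ W, r' u ∈ W := by
    rintro u ⟨hu1, hu2⟩
    refine ⟨show t' (r' u) = r' u by rw [hc, show t' u = u from hu1], Subgroup.mem_center_iff.mpr fun g => ?_⟩
    obtain ⟨g, rfl⟩ := (MulEquiv.surjective r') g
    rw [← map_mul, ← map_mul, Subgroup.mem_center_iff.mp hu2]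
  obtain ⟨j, hj⟩ := IsPGroup.iff_card.mp ((h.two.to_quotient (V t)).to_subgroup W)
  have hWF : Nat.card W ≤ Nat.card F := Subgroup.card_le_of_le inf_le_left
  have hW4 : Nat.card W = 4 := by
    have h1 : 1 < Nat.card W := by
      rw [Subgroup.one_lt_card_iff_ne_bot]
      exact fun e => hv1 (Subgroup.mem_bot.mp (e ▸ (⟨hvF, hvZ⟩ : v ∈ W)))
    have h2 := hmod W hWinv
    rw [hj] at hWF h1 h2 ⊢
    rcases j with _ | _ | _ | j
    · omega
    · omega
    · norm_num
    · rw [pow_succ, pow_succ, pow_succ] at hWF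
      have := Nat.one_le_two_pow (n := j)
      omega
  have hWFeq : W = F := Subgroup.eq_of_le_of_card_ge inf_le_left (by omega)
  refine ⟨h.two.to_quotient _, htt, hrr, hc, ?_, hsq, ?_, fun v _ hv => hfix v hv⟩
  · show Nat.card F = 4
    rw [← hWFeq, hW4]
  · intro v hv g
    have : v ∈ W := hWFeq ▸ (hv : v ∈ F)
    exact Subgroup.mem_center_iff.mp this.2 g

/-- For a nonabelian group of order sixty-four, the centre is the fixed subgroup. -/
theorem Hyp.center_eq (h : Hyp t ρ) (h64 : Nat.card T = 64) (hkV : ∀ x y : T, k x y ∈ V t)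
    (hna : ∃ x y : T, x * y ≠ y * x) : Subgroup.center T = V t := by
  classical
  set Z := Subgroup.center T with hZ
  have hVZ : V t ≤ Z := fun v hv => Subgroup.mem_center_iff.mpr (h.cen hv)
  refine le_antisymm ?_ hVZ
  by_contra hle
  have hZρ : ∀ u ∈ Z, ρ u ∈ Z := fun u hu => by
    rw [hZ, Subgroup.mem_center_iff]
    intro g
    obtain ⟨g, rfl⟩ := (MulEquiv.surjective ρ) g
    rw [← map_mul, ← map_mul, Subgroup.mem_center_iff.mp hu]
  have h16 := h.four_mul_le (fun _ hx => h.rho_V hx) hZρ (lt_of_le_not_ge hVZ hle)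
  rw [h.card_V] at h16
  obtain ⟨x, hx⟩ : ∃ x, x ∉ Z := by
    obtain ⟨a, b, hab⟩ := hna
    exact ⟨b, fun hb => hab (Subgroup.mem_center_iff.mp hb a)⟩
  set Y := Subgroup.closure ({x, ρ x} : Set T) ⊔ Z with hY
  have hxY : x ∈ Y := Subgroup.mem_sup_left (Subgroup.subset_closure (by simp))
  have hyY : ρ x ∈ Y := Subgroup.mem_sup_left (Subgroup.subset_closure (by simp))
  have hZY : Z ≤ Y := le_sup_right
  have hYρ : ∀ u ∈ Y, ρ u ∈ Y := by
    have : Y.map ρ.toMonoidHom ≤ Y := by
      rw [hY, Subgroup.map_sup, sup_le_iff, MonoidHom.map_closure, Subgroup.closure_le]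
      refine ⟨?_, ?_⟩
      · rintro _ ⟨u, rfl | rfl, rfl⟩
        · exact hyY
        · show ρ (ρ x) ∈ Y
          rw [show ρ (ρ x) = (x * ρ x)⁻¹ * (x * ρ x * ρ (ρ x)) by group]
          exact mul_mem (inv_mem (mul_mem hxY hyY)) (hZY (hVZ (h.third hkV x)))
      · rintro _ ⟨u, hu, rfl⟩
        exact hZY (hZρ u hu)
    exact fun u hu => this ⟨u, hu, rfl⟩
  have h2 := h.four_mul_le hZρ hYρ (lt_of_le_not_ge hZY fun e => hx (e hxY))
  have hYtop : Y = ⊤ := Subgroup.eq_top_of_le_card Y (by omega)
  obtain ⟨a, b, hab⟩ := hna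
  exact hab (h.two_gen Z le_rfl hkV x (ρ x) hYtop a b)

/-- The abelian groups. -/
theorem Hyp.abelian (h : Hyp t ρ) (hc : ∀ x y : T, x * y = y * x) :
    ThreeInvolutions.Three T ∨ (Nat.card T = 16 ∧ ∀ x : T, x * x = 1) := by
  classical
  letI : CommGroup T := { (inferInstance : Group T) with mul_comm := hc }
  let E : Subgroup T :=
    { carrier := {x | x * x = 1}
      one_mem' := one_mul 1
      mul_mem' := fun {a b} (ha : a * a = 1) (hb : b * b = 1) => by
        show a * b * (a * b) = 1
        rw [mul_mul_mul_comm, ha, hb, one_mul]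
      inv_mem' := fun {a} (ha : a * a = 1) => by show a⁻¹ * a⁻¹ = 1; rw [← mul_inv_rev, ha, inv_one] }
  have hVE : V t ≤ E := fun v hv => h.vv hv
  by_cases hEV : E ≤ V t
  · left
    refine ⟨h.two, fun v hv => h.cen (hEV hv), ?_⟩
    rw [← h.card_V, le_antisymm hVE hEV]
    rfl
  right
  -- the map `e ↦ e * t e`
  have htE : ∀ e ∈ E, e * t e ∈ V t := fun e he => by
    show t (e * t e) = e * t e
    rw [map_mul, h.tt, mul_comm]
  let μ : E →* V t :=
    { toFun := fun e => ⟨(e : T) * t e, htE e e.2⟩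
      map_one' := Subtype.ext (by simp)
      map_mul' := fun e f => Subtype.ext (by
        show (e : T) * f * t ((e : T) * f) = (e : T) * t e * ((f : T) * t f)
        rw [map_mul, mul_mul_mul_comm]) }
  have hEρ : ∀ e ∈ E, ρ e ∈ E := fun e (he : e * e = 1) => by
    show ρ e * ρ e = 1; rw [← map_mul, he, map_one]
  let R := (μ.range).map (V t).subtype
  have hR : ∀ u ∈ R, ρ u ∈ R := by
    rintro _ ⟨v, ⟨e, rfl⟩, rfl⟩
    exact ⟨_, ⟨⟨ρ e, hEρ e e.2⟩, rfl⟩, by
      show ρ (e : T) * t (ρ e) = ρ ((e : T) * t e); rw [map_mul, h.comm]⟩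
  have hRV : R ≤ V t := Subgroup.map_subtype_le _
  have hsurj : V t ≤ R := by
    by_contra hlt
    obtain ⟨n, hn⟩ := h.card_invariant R hR
    have h4 : Nat.card R < 4 := by
      rw [← h.card_V]
      exact lt_of_not_ge fun hge => hlt (Subgroup.eq_of_le_of_card_ge hRV hge).ge
    rcases n with _ | n
    · apply hEV
      intro e he
      have : (e : T) * t e = 1 := Subgroup.mem_bot.mp ((Subgroup.eq_bot_of_card_eq R (by rw [hn, pow_zero])) ▸
        (⟨_, ⟨⟨e, he⟩, rfl⟩, rfl⟩ : e * t e ∈ R))
      show t e = e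
      rw [← inv_eq_of_mul_eq_one_right this, inv_eq_of_mul_eq_one_right he]
    · rw [hn, pow_succ] at h4
      have := Nat.one_le_pow n 4 (by norm_num)
      omega
  have hE16 : Nat.card E = 16 := by
    have h1 : μ.range = ⊤ := by
      refine eq_top_iff.mpr fun v _ => ?_
      obtain ⟨w, hw, e⟩ := hsurj v.2
      exact (Subtype.ext e : w = v) ▸ hw
    have h2 : Nat.card μ.ker = 4 := by
      rw [← h.card_V]
      refine Nat.card_congr ⟨fun e => ⟨e.1.1, ?_⟩, fun v => ⟨⟨v.1, hVE v.2⟩, ?_⟩, fun e => rfl, fun v => rfl⟩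
      · have : (e.1 : T) * t e.1 = 1 := congrArg Subtype.val e.2
        show t e.1.1 = e.1.1
        rw [← inv_eq_of_mul_eq_one_right this, inv_eq_of_mul_eq_one_right (e.1.2 : (e.1 : T) * e.1 = 1)]
      · exact Subtype.ext (show (v : T) * t v = 1 by rw [show t (v : T) = v from v.2, h.vv v.2])
    rw [Subgroup.card_eq_card_quotient_mul_card_subgroup μ.ker,
      Nat.card_congr (QuotientGroup.quotientKerEquivRange μ).toEquiv, h1, h2, Subgroup.card_top,
      h.card_V]
  have hall : ∀ x : T, x * x = 1 := by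
    by_contra hx
    push Not at hx
    obtain ⟨x, hx⟩ := hx
    -- squares of elements of order four
    let F : Subgroup T :=
      { carrier := {y | ∃ a : T, a * a * (a * a) = 1 ∧ y = a * a}
        one_mem' := ⟨1, by simp, by simp⟩
        mul_mem' := by
          rintro _ _ ⟨a, ha, rfl⟩ ⟨b, hb, rfl⟩
          exact ⟨a * b, by rw [mul_mul_mul_comm a b a b, mul_mul_mul_comm (a * a), ha, hb, one_mul],
            by rw [mul_mul_mul_comm]⟩
        inv_mem' := by
          rintro _ ⟨a, ha, rfl⟩
          exact ⟨a⁻¹, by rw [← mul_inv_rev a a, ← mul_inv_rev, ha, inv_one], mul_inv_rev a a⟩ }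
    have hne : F ≠ ⊥ := by
      intro e
      obtain ⟨n, hn⟩ : ∃ n, x ^ 2 ^ n = 1 := h.two x
      suffices ∀ m, ∀ y : T, y ^ 2 ^ m = 1 → y * y = 1 from hx (this n x hn)
      intro m
      induction m with
      | zero => intro y hy; rw [pow_zero, pow_one] at hy; rw [hy, one_mul]
      | succ m ih =>
        intro y hy
        have h4 := ih (y * y) (by rw [← pow_two, ← pow_mul, ← pow_succ']; exact hy)
        exact Subgroup.mem_bot.mp (e ▸ (⟨y, h4, rfl⟩ : y * y ∈ F))
    obtain ⟨v, ⟨a, ha, rfl⟩, hv, hv1⟩ := h.meet F (by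
      rintro _ ⟨a, ha, rfl⟩
      exact ⟨t a, by rw [← map_mul, ← map_mul, ha, map_one], map_mul t a a⟩) hne
    have he : a⁻¹ * t a ∈ E := by
      show a⁻¹ * t a * (a⁻¹ * t a) = 1
      rw [mul_mul_mul_comm, ← map_mul, show t (a * a) = a * a from hv, ← mul_inv_rev, inv_mul_cancel]
    have heV : a⁻¹ * t a ∈ V t := by
      show t (a⁻¹ * t a) = a⁻¹ * t a
      rw [map_mul, map_inv, h.tt, ← inv_eq_of_mul_eq_one_right (he : a⁻¹ * t a * (a⁻¹ * t a) = 1),
        mul_inv_rev, inv_inv]
    obtain ⟨w, ⟨f, rfl⟩, e⟩ := hsurj heV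
    have hfe : (f : T) * t f = a⁻¹ * t a := e
    have hfix : a * f ∈ V t := by
      show t (a * f) = a * f
      rw [map_mul, show t a = a * ((f : T) * t f) by rw [hfe, mul_inv_cancel_left], mul_assoc,
        mul_assoc (f : T), ← map_mul, show (f : T) * f = 1 from f.2, map_one, mul_one]
    have := h.vv hfix
    rw [mul_mul_mul_comm, show (f : T) * f = 1 from f.2, mul_one] at this
    exact hv1 this
  exact ⟨by rw [← hE16, show E = ⊤ from eq_top_iff.mpr fun x _ => hall x, Subgroup.card_top], hall⟩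

/-- The nonabelian groups have order sixty-four and class two. -/
theorem Hyp.nonabelian : ∀ {T : Type u} [Group T] [Finite T] {t ρ : MulAut T}, Hyp t ρ →
    (∃ x y : T, x * y ≠ y * x) →
    Nat.card T = 64 ∧ (∀ x : T, x * x ∈ V t) ∧ ∀ x y : T, k x y ∈ V t := by
  suffices H : ∀ (n : ℕ) (T : Type u) [Group T] [Finite T] (t ρ : MulAut T), Nat.card T = n →
      Hyp t ρ → (∃ x y : T, x * y ≠ y * x) →
      Nat.card T = 64 ∧ (∀ x : T, x * x ∈ V t) ∧ ∀ x y : T, k x y ∈ V t from
    fun {T} _ _ {t ρ} h hna => H _ T t ρ rfl h hna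
  intro n
  induction n using Nat.strong_induction_on with
  | h n ih =>
    intro T _ _ t ρ hn h hna
    classical
    haveI := h.normal_V
    have hVne : V t ≠ ⊤ := fun e => by
      obtain ⟨x, y, hxy⟩ := hna
      exact hxy (h.cen (e ▸ Subgroup.mem_top y : y ∈ V t) x)
    have hq := h.quotient hVne
    set π := QuotientGroup.mk' (V t) with hπ
    set t' := qAut t (V t) h.t_V with ht'
    set r' := qAut ρ (V t) fun _ hx => h.rho_V hx with hr'
    have hs := QuotientGroup.mk'_surjective (V t)
    have hker : ∀ x : T, π x = 1 ↔ x ∈ V t := fun x => QuotientGroup.eq_one_iff x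
    have et : ∀ x, t' (π x) = π (t x) := fun x => rfl
    have er : ∀ x, r' (π x) = π (ρ x) := fun x => rfl
    have hqcard : Nat.card T = Nat.card (T ⧸ V t) * 4 := by
      rw [Subgroup.card_eq_card_quotient_mul_card_subgroup (V t), h.card_V]
    have hlt : Nat.card (T ⧸ V t) < n := by
      have := Nat.card_pos (α := T ⧸ V t)
      omega
    by_cases hqc : ∀ p q : T ⧸ V t, p * q = q * p
    · have hkV : ∀ x y : T, k x y ∈ V t := fun x y => by
        rw [← hker, map_k]; exact k_eq_one.mpr (hqc _ _)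
      rcases hq.abelian hqc with h3 | ⟨h16, hexp⟩
      · exfalso
        obtain ⟨v, hvc⟩ : ∃ v, v ∈ V t' ∧ v ≠ 1 := by
          by_contra hcon
          push Not at hcon
          have h1 : V t' = ⊥ := (Subgroup.eq_bot_iff_forall _).mpr hcon
          have h4 := hq.card_V
          rw [h1, Subgroup.card_bot] at h4
          omega
        have tri : ThreeInvolutions.Tri r' :=
          ⟨⟨1, hq.rho_pow⟩, ⟨v, hq.vv hvc.1, fun e => hvc.2 (hq.fpf v hvc.1 e)⟩⟩
        obtain ⟨m, -, ⟨e⟩⟩ := ThreeInvolutions.homocyclic h3 tri hqc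
        obtain ⟨x, hx⟩ := hs (e (Multiplicative.ofAdd (1, 0)))
        obtain ⟨y, hy⟩ := hs (e (Multiplicative.ofAdd (0, 1)))
        obtain ⟨a, b, hab⟩ := hna
        refine hab (h.two_gen (V t) (fun v hv => Subgroup.mem_center_iff.mpr (h.cen hv)) hkV x y ?_ a b)
        rw [eq_top_iff]
        intro g _
        obtain ⟨p, hp⟩ := e.surjective (π g)
        have hxm : x ∈ Subgroup.closure ({x, y} : Set T) := Subgroup.subset_closure (by simp)
        have hym : y ∈ Subgroup.closure ({x, y} : Set T) := Subgroup.subset_closure (by simp)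
        set g' := x ^ p.toAdd.1.val * y ^ p.toAdd.2.val with hg'
        have hgg : π g' = π g := by
          rw [← hp, hg', map_mul, map_pow, map_pow, hx, hy, ← map_pow e, ← map_pow e, ← map_mul e]
          congr 1
          refine Multiplicative.toAdd.injective ?_
          rw [toAdd_mul, toAdd_pow, toAdd_pow, toAdd_ofAdd, toAdd_ofAdd]
          refine Prod.ext ?_ ?_ <;> simp
        have hv : g'⁻¹ * g ∈ V t := by rw [← hker, map_mul, map_inv, hgg, inv_mul_cancel]
        rw [show g = g' * (g'⁻¹ * g) by group]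
        exact mul_mem (Subgroup.mem_sup_left (mul_mem (pow_mem hxm _) (pow_mem hym _)))
          (Subgroup.mem_sup_right hv)
      · refine ⟨by rw [hqcard, h16], fun x => ?_, hkV⟩
        rw [← hker, map_mul]; exact hexp _
    -- the quotient is not abelian
    exfalso
    push Not at hqc
    obtain ⟨q64, qsq, qk⟩ := ih _ hlt (T ⧸ V t) t' r' rfl hq hqc
    set X := (V t').comap π with hX
    have hVX : V t ≤ X := fun v hv => by
      show t' (π v) = π v
      rw [(hker v).mpr hv, map_one]
    have hXmem : ∀ u, u ∈ X ↔ u⁻¹ * t u ∈ V t := fun u => by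
      rw [← hker, map_mul, map_inv, inv_mul_eq_one, eq_comm]; rfl
    haveI hXn : X.Normal := by
      haveI := hq.normal_V
      exact Subgroup.Normal.comap inferInstance π
    have hXsq : ∀ x : T, x * x ∈ X := fun x => by
      show π (x * x) ∈ V t'; rw [map_mul]; exact qsq _
    have hXk : ∀ x y : T, k x y ∈ X := fun x y => by
      show π (k x y) ∈ V t'; rw [map_k]; exact qk _ _
    have hXV : ∀ u ∈ X, ∀ g : T, k u g ∈ V t := fun u hu g => by
      rw [← hker, map_k]; exact k_eq_one.mpr (hq.cen hu _)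
    have hXρ : ∀ u ∈ X, ρ u ∈ X := fun u hu => by
      show π (ρ u) ∈ V t'; rw [← er]; exact hq.rho_V hu
    have hcen := hq.center_eq q64 qk hqc
    have hD : ∀ u ∈ X, ∀ g g', k u (g * g') = k u g * k u g' := fun u hu g g' =>
      k_mul_right (h.cen (hXV u hu g))
    have hDv : ∀ v ∈ V t, ∀ g : T, k v g = 1 ∧ k g v = 1 := fun v hv g =>
      ⟨k_eq_one.mpr (h.cen hv g), k_eq_one.mpr (h.cen hv g).symm⟩
    -- commutators with the images of `t - 1` are trivial
    have hA : ∀ u ∈ X, ∀ c : T, k u (c⁻¹ * t c) = 1 := by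
      intro u hu c
      have h1 : t (k u c) = k u c := hXV u hu c
      obtain ⟨v, hv, hv'⟩ : ∃ v ∈ V t, t u = u * v := ⟨_, (hXmem u).mp hu, by group⟩
      rw [map_k, hv', k_mul_left (h.cen (hXV u hu _)), (hDv v hv _).1, mul_one,
        show t c = c * (c⁻¹ * t c) by group, hD u hu, mul_eq_left] at h1
      exact h1
    -- such an element outside `X`
    obtain ⟨c₀, hc₀⟩ : ∃ c, c⁻¹ * t c ∉ X := by
      by_contra hall
      push Not at hall
      haveI := hq.normal_V
      have hne' : V t' ≠ ⊤ := fun e => by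
        have := hq.card_V
        rw [e, Subgroup.card_top, q64] at this
        omega
      have h4 := (hq.quotient hne').card
      have hall' : ∀ q : (T ⧸ V t) ⧸ V t', qAut t' (V t') hq.t_V q = q := by
        intro q
        obtain ⟨p, rfl⟩ := QuotientGroup.mk'_surjective (V t') q
        obtain ⟨c, rfl⟩ := hs p
        show QuotientGroup.mk' (V t') (t' (π c)) = QuotientGroup.mk' (V t') (π c)
        rw [et]
        refine Eq.symm (QuotientGroup.eq.mpr ?_)
        rw [← map_inv, ← map_mul]
        exact hall c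
      rw [Nat.card_congr (Equiv.subtypeUnivEquiv hall')] at h4
      have := Subgroup.card_eq_card_quotient_mul_card_subgroup (V t')
      rw [hq.card_V, q64, h4] at this
      omega
    set a := c₀⁻¹ * t c₀ with ha
    have hkua : ∀ u ∈ X, k u a = 1 := fun u hu => hA u hu c₀
    have hkub : ∀ u ∈ X, k u (ρ a) = 1 := fun u hu => by
      have h1 := hA u hu (ρ c₀)
      rwa [h.comm, ← map_inv, ← map_mul, ← ha] at h1
    obtain ⟨hab, hmix⟩ := hq.mix qk qsq
    have hqa : π a ∉ V t' := hc₀
    -- the fixed points one level down are generated by `a`, `ρ a`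
    set A := Subgroup.closure ({a, ρ a} : Set T) ⊔ X with hA'
    have haA : a ∈ A := Subgroup.mem_sup_left (Subgroup.subset_closure (by simp))
    have hbA : ρ a ∈ A := Subgroup.mem_sup_left (Subgroup.subset_closure (by simp))
    have hXA : X ≤ A := le_sup_right
    have hAρ : ∀ u ∈ A, ρ u ∈ A := by
      have : A.map ρ.toMonoidHom ≤ A := by
        rw [hA', Subgroup.map_sup, sup_le_iff, MonoidHom.map_closure, Subgroup.closure_le]
        refine ⟨?_, ?_⟩
        · rintro _ ⟨u, rfl | rfl, rfl⟩
          · exact hbA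
          · show ρ (ρ a) ∈ A
            rw [show ρ (ρ a) = (a * ρ a)⁻¹ * (a * ρ a * ρ (ρ a)) by group]
            refine mul_mem (inv_mem (mul_mem haA hbA)) (hXA ?_)
            show π _ ∈ V t'
            rw [map_mul, map_mul, ← er, ← er, ← er]
            exact hq.third qk _
        · rintro _ ⟨u, hu, rfl⟩
          exact hXA (hXρ u hu)
      exact fun u hu => this ⟨u, hu, rfl⟩
    -- the key commutator is not fixed
    have hK : ∀ c : T, c ∉ A → k a c ∉ V t := by
      intro c hc hKc
      have hkq : k (π a) (π c) = 1 := by rw [← map_k]; exact (hker _).mpr hKc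
      have hkq' : k (π a) (r' (π c)) = 1 := by rw [(hmix _ _).1, hkq, map_one, map_one]
      apply hqa
      rw [← hcen, Subgroup.mem_center_iff]
      set C := Subgroup.centralizer ({π a} : Set (T ⧸ V t)) with hC
      have hCm : ∀ g, k (π a) g = 1 → g ∈ C := fun g hg =>
        Subgroup.mem_centralizer_singleton_iff.mpr (k_eq_one.mp hg)
      let B := (A ⊔ Subgroup.closure ({c, ρ c} : Set T)).map π
      have hBρ : ∀ u ∈ B, r' u ∈ B := by
        rintro _ ⟨u, hu, rfl⟩
        refine ⟨ρ u, ?_, (er u).symm⟩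
        have : (A ⊔ Subgroup.closure ({c, ρ c} : Set T)).map ρ.toMonoidHom ≤
            A ⊔ Subgroup.closure ({c, ρ c} : Set T) := by
          rw [Subgroup.map_sup, sup_le_iff, MonoidHom.map_closure, Subgroup.closure_le]
          refine ⟨fun _ ⟨w, hw, e⟩ => e ▸ Subgroup.mem_sup_left (hAρ w hw), ?_⟩
          rintro _ ⟨w, rfl | rfl, rfl⟩
          · exact Subgroup.mem_sup_right (Subgroup.subset_closure (by simp))
          · show ρ (ρ c) ∈ _
            rw [show ρ (ρ c) = (c * ρ c)⁻¹ * (c * ρ c * ρ (ρ c)) by group]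
            refine mul_mem (inv_mem (Subgroup.mem_sup_right (mul_mem
              (Subgroup.subset_closure (by simp)) (Subgroup.subset_closure (by simp)))))
              (Subgroup.mem_sup_left (hXA ?_))
            show π _ ∈ V t'
            rw [map_mul, map_mul, ← er, ← er, ← er]
            exact hq.third qk _
        exact this ⟨u, hu, rfl⟩
      have hAmap : ∀ u ∈ A.map π, r' u ∈ A.map π := by
        rintro _ ⟨u, hu, rfl⟩; exact ⟨ρ u, hAρ u hu, (er u).symm⟩
      have hXmap : V t' ≤ A.map π := fun p hp => by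
        obtain ⟨u, rfl⟩ := hs p
        exact ⟨u, hXA hp, rfl⟩
      have l1 := hq.four_mul_le (fun _ hx => hq.rho_V hx) hAmap
        (lt_of_le_not_ge hXmap fun e => hqa (e ⟨a, haA, rfl⟩))
      have l2 := hq.four_mul_le hAmap hBρ (lt_of_le_not_ge (Subgroup.map_mono le_sup_left) fun e => by
        obtain ⟨u, hu, hu'⟩ := e ⟨c, Subgroup.mem_sup_right (Subgroup.subset_closure (by simp)), rfl⟩
        apply hc
        have : u⁻¹ * c ∈ A := hXA (hVX ((hker _).mp (by rw [map_mul, map_inv, hu', inv_mul_cancel])))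
        simpa using mul_mem hu this)
      rw [hq.card_V] at l1
      have hBtop : B = ⊤ := Subgroup.eq_top_of_le_card B (by omega)
      have hBC : B ≤ C := by
        rw [Subgroup.map_le_iff_le_comap, sup_le_iff, hA', sup_le_iff, Subgroup.closure_le,
          Subgroup.closure_le]
        refine ⟨⟨?_, fun u hu => hCm _ (k_eq_one.mpr (hq.cen hu (π a)).symm)⟩, ?_⟩
        · rintro u (rfl | rfl)
          · exact hCm _ (k_eq_one.mpr rfl)
          · exact hCm _ (by rw [← er]; exact hab _)
        · rintro u (rfl | rfl)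
          · exact hCm _ hkq
          · exact hCm _ (by rw [← er]; exact hkq')
      exact fun g => Subgroup.mem_centralizer_singleton_iff.mp (hBC (hBtop ▸ Subgroup.mem_top g))
    -- `X` is central
    have hXc : ∀ u ∈ X, ∀ c : T, k u c = 1 := by
      have hXA' : ∀ u ∈ X, ∀ w ∈ X, k u w = 1 := by
        intro u hu w hw
        -- both lie in the span of the key commutators, which commute with `a`
        have hgen : X ≤ Subgroup.closure ({u₀ | ∃ c, u₀ = k a c} : Set T) ⊔ V t := by
          obtain ⟨c, hc⟩ : ∃ c, c ∉ A := by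
            by_contra hall
            push Not at hall
            obtain ⟨p, q, hpq⟩ := hqc
            obtain ⟨p, rfl⟩ := hs p
            obtain ⟨q, rfl⟩ := hs q
            apply hpq
            have hle : A ≤ (Subgroup.centralizer ((A.map π : Subgroup (T ⧸ V t)) : Set (T ⧸ V t))).comap π := by
              rw [hA', sup_le_iff, Subgroup.closure_le]
              have hcomm : ∀ g ∈ ({a, ρ a} : Set T), ∀ g' ∈ A, π g' * π g = π g * π g' := by
                intro g hg g' hg'
                have : A ≤ (Subgroup.centralizer ({π g} : Set (T ⧸ V t))).comap π := by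
                  rw [hA', sup_le_iff, Subgroup.closure_le]
                  refine ⟨?_, fun w hw => Subgroup.mem_centralizer_singleton_iff.mpr (hq.cen hw (π g)).symm⟩
                  intro g'' hg''
                  show π g'' ∈ Subgroup.centralizer _
                  rw [Subgroup.mem_centralizer_singleton_iff]
                  have hba : π (ρ a) * π a = π a * π (ρ a) := k_eq_one.mp (by rw [← er]; exact hab _)
                  rcases hg with rfl | rfl <;> rcases hg'' with rfl | rfl
                  · rfl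
                  · exact hba
                  · exact hba.symm
                  · rfl
                exact Subgroup.mem_centralizer_singleton_iff.mp (this hg')
              refine ⟨fun g hg => ?_, fun w hw => ?_⟩
              · show π g ∈ Subgroup.centralizer _
                rw [Subgroup.mem_centralizer_iff]
                rintro _ ⟨g', hg', rfl⟩
                exact hcomm g hg g' hg'
              · show π w ∈ Subgroup.centralizer _
                rw [Subgroup.mem_centralizer_iff]
                intro g _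
                exact hq.cen hw g
            exact Subgroup.mem_centralizer_iff.mp (hle (hall q)) _ ⟨p, hall p, rfl⟩
          intro x hx
          have hK1 := hK c hc
          obtain ⟨hm1, -⟩ := hmix (π a) (π c)
          have hx1 : π (k a c) ∈ V t' := hXk a c
          have hx1' : π (k a c) ≠ 1 := fun e => hK1 ((hker _).mp e)
          -- the four elements of the fixed subgroup
          have hfour : π x = 1 ∨ π x = π (k a c) ∨ π x = r' (r' (π (k a c))) ∨
              π x = π (k a c) * r' (r' (π (k a c))) := by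
            have h3 : ThreeInvolutions.Three (V t') := by
              refine ⟨hq.two.to_subgroup _, fun v _ g => Subtype.ext (hq.cen v.2 g), ?_⟩
              rw [← hq.card_V]
              exact Nat.card_congr (Equiv.subtypeUnivEquiv fun v => Subtype.ext (hq.vv v.2))
            have hy := hq.rho_V (hq.rho_V hx1)
            have := h3.four (x := (⟨_, hx1⟩ : V t')) (y := ⟨_, hy⟩) (v := ⟨π x, hx⟩)
              (Subtype.ext (hq.vv hx1)) (Subtype.ext (hq.vv hy))
              (fun e => hx1' (congrArg Subtype.val e))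
              (fun e => hx1' (r'.injective (r'.injective ((congrArg Subtype.val e).trans
                (by rw [Subgroup.coe_one, map_one, map_one])))))
              (fun e => hx1' (hq.fpf _ hx1 (by
                have e' : π (k a c) = r' (r' (π (k a c))) := congrArg Subtype.val e
                conv_lhs => rw [e', hq.r3])))
              (Subtype.ext (hq.vv hx))
            simpa [Subtype.ext_iff] using this
          have hlift : ∀ g : T, π x = π g → g ∈ Subgroup.closure ({u₀ | ∃ c, u₀ = k a c} : Set T) →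
              x ∈ Subgroup.closure ({u₀ | ∃ c, u₀ = k a c} : Set T) ⊔ V t := fun g e hg => by
            rw [show x = g * (g⁻¹ * x) by group]
            exact mul_mem (Subgroup.mem_sup_left hg) (Subgroup.mem_sup_right ((hker _).mp (by
              rw [map_mul, map_inv, e, inv_mul_cancel])))
          have hm1' : π (k a (ρ c)) = r' (r' (π (k a c))) := by
            rw [map_k, map_k, ← er]; exact hm1
          have g1 : k a c ∈ Subgroup.closure ({u₀ | ∃ c, u₀ = k a c} : Set T) :=
            Subgroup.subset_closure ⟨c, rfl⟩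
          have g2 : k a (ρ c) ∈ Subgroup.closure ({u₀ | ∃ c, u₀ = k a c} : Set T) :=
            Subgroup.subset_closure ⟨ρ c, rfl⟩
          rcases hfour with e | e | e | e
          · exact Subgroup.mem_sup_right ((hker x).mp e)
          · exact hlift _ e g1
          · exact hlift _ (e.trans hm1'.symm) g2
          · exact hlift _ (e.trans (by rw [map_mul, hm1'])) (mul_mem g1 g2)
        -- `X` commutes with every `k a c` by the three subgroups lemma, computed directly
        have hgoal : Subgroup.closure ({u₀ | ∃ c, u₀ = k a c} : Set T) ⊔ V t ≤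
            Subgroup.centralizer ({u} : Set T) := by
          rw [sup_le_iff, Subgroup.closure_le]
          refine ⟨?_, fun v hv => Subgroup.mem_centralizer_singleton_iff.mpr (h.cen hv u).symm⟩
          rintro _ ⟨c, rfl⟩
          rw [SetLike.mem_coe, Subgroup.mem_centralizer_singleton_iff]
          apply k_eq_one.mp
          have e1 : k u (k a c) = k u c⁻¹ * k u a⁻¹ * k u c * k u a := by
            rw [show k a c = c⁻¹ * a⁻¹ * c * a from rfl, hD u hu, hD u hu, hD u hu]
          have ei : ∀ g : T, k u g⁻¹ * k u g = 1 := fun g => by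
            rw [← hD u hu, inv_mul_cancel]; simp [k]
          have ea : k u a⁻¹ = 1 := by
            have := ei a; rwa [hkua u hu, mul_one] at this
          rw [e1, hkua u hu, mul_one, ea, mul_one, ei]
        exact k_eq_one.mpr (Subgroup.mem_centralizer_singleton_iff.mp (hgoal (hgen hw)))
      have key : ∀ c : T, c ∉ A → ∀ u ∈ X, k u c = u * u := by
        intro c hc
        have hc1 : ∀ d : T, k a (d * d) = 1 := fun d => by
          rw [k_symm, hkua _ (hXsq d), inv_one]
        have hKd : ∀ d : T, k a d * k a d * k (k a d) d = 1 := fun d => by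
          rw [← hc1 d]
          refine (k_uniq ?_).symm
          obtain ⟨K, hK'⟩ : ∃ K, K = k a d := ⟨_, rfl⟩
          obtain ⟨D, hD'⟩ : ∃ D, D = k K d := ⟨_, rfl⟩
          rw [← hK', ← hD']
          have hDV : D ∈ V t := by rw [hD', hK']; exact hXV _ (hXk a d) d
          have s1 : d * a = a * d * K := hK' ▸ k_spec a d
          have s2 : K * d = d * K * D := by
            rw [hD', k_spec K d, mul_assoc, ← hD', h.vv hDV, mul_one]
          calc d * d * a = d * (d * a) := by group
            _ = d * (a * d * K) := by rw [s1]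
            _ = (d * a) * d * K := by group
            _ = a * d * (K * d) * K := by rw [s1]; group
            _ = a * (d * d) * (K * (D * K)) := by rw [s2]; group
            _ = a * (d * d) * (K * K * D) := by rw [← h.cen hDV K]; group
        -- the squares lie in the fixed subgroup
        have hXX : ∀ u ∈ X, u * u ∈ V t := fun u hu => by
          rw [← hker, map_mul]; exact hq.vv hu
        have hb1 : k a c * k a c = k (k a c) c := by
          rw [eq_inv_of_mul_eq_one_left (hKd c)]
          exact inv_eq_of_mul_eq_one_right (h.vv (hXV _ (hXk a c) c))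
        have hkb : ∀ u ∈ X, ∀ d, k u (ρ d) = ρ (k (ρ (ρ u)) d) := fun u hu d => by
          rw [map_k, h.r3]
        have hb2 : k (ρ a) c * k (ρ a) c = k (k (ρ a) c) c := by
          have hc1' : k (ρ a) (c * c) = 1 := by rw [k_symm, hkub _ (hXsq c), inv_one]
          obtain ⟨d, hd⟩ := (MulEquiv.surjective ρ) c
          subst hd
          rw [← map_k, ← map_mul, ← map_k]
          congr 1
          rw [eq_inv_of_mul_eq_one_left (hKd d)]
          exact inv_eq_of_mul_eq_one_right (h.vv (hXV _ (hXk a d) d))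
        let S : Subgroup T :=
          { carrier := {u | u ∈ X ∧ k u c = u * u}
            one_mem' := ⟨one_mem _, by simp [k]⟩
            mul_mem' := fun {p q} hp hq' => ⟨mul_mem hp.1 hq'.1, by
              rw [k_mul_left (h.cen (hXV p hp.1 c)), hp.2, hq'.2,
                show p * q * (p * q) = p * (q * p) * q by group,
                k_eq_one.mp (hXA' p hp.1 q hq'.1)]
              group⟩
            inv_mem' := fun {p} hp => ⟨inv_mem hp.1, by
              have e1 : k p⁻¹ c * k p c = 1 := by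
                rw [← k_mul_left (h.cen (hXV p⁻¹ (inv_mem hp.1) c)), inv_mul_cancel]; simp [k]
              rw [eq_inv_of_mul_eq_one_left e1, hp.2, mul_inv_rev]⟩ }
        have hVS : V t ≤ S := fun v hv => ⟨hVX hv, by rw [(hDv v hv c).1, h.vv hv]⟩
        intro u hu
        have hX' : X ≤ S := by
          have hS1 : k a c ∈ S := ⟨hXk a c, hb1.symm⟩
          have hS2 : k (ρ a) c ∈ S := ⟨hXk _ c, hb2.symm⟩
          intro x hx
          have hK1 := hK c hc
          obtain ⟨-, hm2⟩ := hmix (π a) (π c)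
          have hx1 : π (k a c) ∈ V t' := hXk a c
          have hm2' : π (k (ρ a) c) = r' (r' (π (k a c))) := by
            rw [map_k, map_k, ← er]; exact hm2
          have hlift : ∀ g ∈ S, π x = π g → x ∈ S := fun g hg e => by
            rw [show x = g * (g⁻¹ * x) by group]
            exact mul_mem hg (hVS ((hker _).mp (by rw [map_mul, map_inv, e, inv_mul_cancel])))
          have hx1' : π (k a c) ≠ 1 := fun e => hK1 ((hker _).mp e)
          have h3 : ThreeInvolutions.Three (V t') := by
            refine ⟨hq.two.to_subgroup _, fun v _ g => Subtype.ext (hq.cen v.2 g), ?_⟩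
            rw [← hq.card_V]
            exact Nat.card_congr (Equiv.subtypeUnivEquiv fun v => Subtype.ext (hq.vv v.2))
          have hy := hq.rho_V (hq.rho_V hx1)
          have := h3.four (x := (⟨_, hx1⟩ : V t')) (y := ⟨_, hy⟩) (v := ⟨π x, hx⟩)
            (Subtype.ext (hq.vv hx1)) (Subtype.ext (hq.vv hy))
            (fun e => hx1' (congrArg Subtype.val e))
            (fun e => hx1' (r'.injective (r'.injective ((congrArg Subtype.val e).trans
              (by rw [Subgroup.coe_one, map_one, map_one])))))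
            (fun e => hx1' (hq.fpf _ hx1 (by
              have e' : π (k a c) = r' (r' (π (k a c))) := congrArg Subtype.val e
              conv_lhs => rw [e', hq.r3])))
            (Subtype.ext (hq.vv hx))
          simp only [Subtype.ext_iff, Subgroup.coe_one, Subgroup.coe_mul] at this
          rcases this with e | e | e | e
          · exact hVS ((hker x).mp e)
          · exact hlift _ hS1 e
          · exact hlift _ hS2 (e.trans hm2'.symm)
          · exact hlift _ (mul_mem hS1 hS2) (e.trans (by rw [map_mul, hm2']))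
        exact (hX' hu).2
      intro u hu c
      by_cases hc : c ∈ A
      · have : A ≤ Subgroup.centralizer ({u} : Set T) := by
          rw [hA', sup_le_iff, Subgroup.closure_le]
          refine ⟨?_, fun w hw => Subgroup.mem_centralizer_singleton_iff.mpr
            (k_eq_one.mp (hXA' u hu w hw))⟩
          rintro g (rfl | rfl)
          · exact Subgroup.mem_centralizer_singleton_iff.mpr (k_eq_one.mp (hkua u hu))
          · exact Subgroup.mem_centralizer_singleton_iff.mpr (k_eq_one.mp (hkub u hu))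
        exact k_eq_one.mpr (Subgroup.mem_centralizer_singleton_iff.mp (this hc))
      · have hnot : ∀ g, g ∉ A → ρ g ∉ A := fun g hg hm => hg (by
          rw [← h.r3 g]; exact hAρ _ (hAρ _ hm))
        have h3 : c * ρ c ∉ A := fun hm => hnot _ (hnot _ hc) (by
          rw [show ρ (ρ c) = (c * ρ c)⁻¹ * (c * ρ c * ρ (ρ c)) by group]
          refine mul_mem (inv_mem hm) (hXA ?_)
          show π _ ∈ V t'
          rw [map_mul, map_mul, ← er, ← er, ← er]
          exact hq.third qk _)
        have e1 := key _ h3 u hu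
        rw [hD u hu, key _ hc u hu, key _ (hnot _ hc) u hu, mul_eq_left] at e1
        rw [key _ hc u hu, e1]
    -- applying `t` to the key commutator
    obtain ⟨c, hc⟩ : ∃ c, k a c ∉ V t := by
      by_contra hall
      push Not at hall
      apply hqa
      rw [← hcen, Subgroup.mem_center_iff]
      intro g
      obtain ⟨g, rfl⟩ := hs g
      exact k_eq_one.mp (by rw [← map_k]; exact (hker _).mpr (hall g))
    apply hc
    show t (k a c) = k a c
    have hXz : ∀ u ∈ X, ∀ g : T, g * u = u * g := fun u hu g => k_eq_one.mp (hXc u hu g)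
    have hkc : ∀ x y : T, ∀ g : T, g * k x y = k x y * g := fun x y => hXz _ (hXk x y)
    -- the fixed elements modulo `X` are `A`
    have hcA : c⁻¹ * t c ∈ A := by
      set u := c⁻¹ * t c with hu
      have hu2 : u⁻¹ * t u ∈ X := by
        rw [hu, map_mul, map_inv, h.tt, mul_inv_rev, inv_inv,
          show (t c)⁻¹ * c * ((t c)⁻¹ * c) = ((t c)⁻¹ * c) * ((t c)⁻¹ * c) from rfl]
        exact hXsq _
      haveI := hq.normal_V
      have hne' : V t' ≠ ⊤ := fun e => by
        have := hq.card_V
        rw [e, Subgroup.card_top, q64] at this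
        omega
      have h2 := hq.quotient hne'
      set π' := QuotientGroup.mk' (V t') with hπ'
      have hAimg : (A.map π).map π' ≤ V (qAut t' (V t') hq.t_V) := by
        rw [Subgroup.map_le_iff_le_comap, Subgroup.map_le_iff_le_comap, hA', sup_le_iff,
          Subgroup.closure_le]
        have hfixq : ∀ g : T, g⁻¹ * t g ∈ X → π' (π g) ∈ V (qAut t' (V t') hq.t_V) := fun g hg => by
          show qAut t' (V t') hq.t_V (π' (π g)) = π' (π g)
          rw [qAut_mk, QuotientGroup.mk'_apply, eq_comm, hπ', QuotientGroup.mk'_apply, QuotientGroup.eq,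
            et, ← map_inv, ← map_mul]
          exact hg
        have hfa : a⁻¹ * t a ∈ X := by
          rw [ha, map_mul, map_inv, h.tt, mul_inv_rev, inv_inv]
          exact hXsq _
        refine ⟨?_, fun w hw => ?_⟩
        · rintro g (rfl | rfl)
          · exact hfixq _ hfa
          · exact hfixq _ (by rw [h.comm, ← map_inv, ← map_mul]; exact hXρ _ hfa)
        · rw [Subgroup.mem_comap, Subgroup.mem_comap]
          rw [show π' (π w) = 1 from (QuotientGroup.eq_one_iff _).mpr hw]
          exact one_mem _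
      have hcardimg : 4 ≤ Nat.card ((A.map π).map π') := by
        have hinv : ∀ p ∈ (A.map π).map π', qAut r' (V t') (fun _ hx => hq.rho_V hx) p ∈ (A.map π).map π' := by
          rintro _ ⟨_, ⟨g, hg, rfl⟩, rfl⟩
          exact ⟨π (ρ g), ⟨ρ g, hAρ g hg, rfl⟩, rfl⟩
        have := h2.four_mul_le (A := ⊥) (fun p hp => by
          rw [Subgroup.mem_bot.mp hp, map_one]; exact one_mem _) hinv (bot_lt_iff_ne_bot.mpr fun e => hqa
            ((QuotientGroup.eq_one_iff _).mp (Subgroup.mem_bot.mp (e ▸ (⟨π a, ⟨a, haA, rfl⟩, rfl⟩ :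
              π' (π a) ∈ (A.map π).map π')))))
        rwa [Subgroup.card_bot, mul_one] at this
      have heq := Subgroup.eq_of_le_of_card_ge hAimg (h2.card_V.le.trans hcardimg)
      have hmem : π' (π u) ∈ (A.map π).map π' := by
        rw [heq]
        show qAut t' (V t') hq.t_V (π' (π u)) = π' (π u)
        rw [qAut_mk, QuotientGroup.mk'_apply, eq_comm, hπ', QuotientGroup.mk'_apply, QuotientGroup.eq,
          et, ← map_inv, ← map_mul]
        exact hu2
      obtain ⟨_, ⟨g, hg, rfl⟩, e⟩ := hmem
      have : g⁻¹ * u ∈ X := by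
        show π (g⁻¹ * u) ∈ V t'
        rw [← QuotientGroup.eq_one_iff, map_mul, map_inv]
        show π' ((π g)⁻¹ * π u) = 1
        rw [map_mul, map_inv, e, inv_mul_cancel]
      simpa using mul_mem hg (hXA this)
    have hta : a⁻¹ * t a ∈ X := by
      rw [ha, map_mul, map_inv, h.tt, mul_inv_rev, inv_inv]
      exact hXsq _
    have haA' : A ≤ Subgroup.centralizer ({a} : Set T) := by
      rw [hA', sup_le_iff, Subgroup.closure_le]
      have hab1 : k a (ρ a) = 1 := by
        have hz : k a (ρ a) ∈ V t := by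
          rw [← hker, map_k, ← er]; exact hab _
        refine h.fpf _ hz ?_
        rw [map_k]
        obtain ⟨p, hp, e⟩ : ∃ p ∈ X, ρ (ρ a) = a⁻¹ * (ρ a)⁻¹ * p := ⟨ρ a * a * ρ (ρ a), by
          show π _ ∈ V t'
          rw [map_mul, map_mul, k_eq_one.mp (show k (π a) (π (ρ a)) = 1 by rw [← er]; exact hab _),
            ← er, ← er, ← er]
          exact hq.third qk _, by group⟩
        rw [e, k_mul_right (hkc _ _), k_mul_right (hkc _ _),
          k_eq_one.mpr (hXz p hp (ρ a)).symm, mul_one]
        have i1 : ∀ g : T, k (ρ a) g⁻¹ * k (ρ a) g = 1 := fun g => by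
          rw [← k_mul_right (hkc _ _), inv_mul_cancel]; simp [k]
        have i2 : k (ρ a) (ρ a)⁻¹ = 1 := by
          have := i1 (ρ a)
          rwa [show k (ρ a) (ρ a) = 1 by simp [k], mul_one] at this
        rw [i2, mul_one, eq_inv_of_mul_eq_one_left (i1 a), k_symm (ρ a) a]
      refine ⟨?_, fun w hw => Subgroup.mem_centralizer_singleton_iff.mpr (hXz w hw a).symm⟩
      rintro g (rfl | rfl)
      · exact Subgroup.mem_centralizer_singleton_iff.mpr rfl
      · exact Subgroup.mem_centralizer_singleton_iff.mpr (k_eq_one.mp hab1)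
    rw [map_k, show t a = a * (a⁻¹ * t a) by group, k_mul_left (hkc _ _), hXc _ hta, mul_one,
      show t c = c * (c⁻¹ * t c) by group, k_mul_right (hkc _ _),
      k_eq_one.mpr (Subgroup.mem_centralizer_singleton_iff.mp (haA' hcA)), mul_one]

/-- Relations of the Sylow subgroup of `L₃(4)`. -/
structure RelL {G : Type*} [Group G] (a b c d z w : G) : Prop where
  zz : z * z = 1
  ww : w * w = 1
  zw : w * z = z * w
  za : a * z = z * a
  zb : b * z = z * b
  zc : c * z = z * c
  zd : d * z = z * d
  wa : a * w = w * a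
  wb : b * w = w * b
  wc : c * w = w * c
  wd : d * w = w * d
  aa : a * a = 1
  bb : b * b = 1
  cc : c * c = 1
  dd : d * d = 1
  ba : b * a = a * b
  dc : d * c = c * d
  ca : c * a = a * c * z
  db : d * b = b * d * w
  cb : c * b = b * c * (z * w)
  da : d * a = a * d * (z * w)

/-- With an involution outside the fixed subgroup the generators of the Sylow subgroup of `L₃(4)`
appear. -/
theorem Hyp.exists_relL (h : Hyp t ρ) (h64 : Nat.card T = 64) (hsqV : ∀ x : T, x * x ∈ V t)
    (hkV : ∀ x y : T, k x y ∈ V t) (hna : ∃ x y : T, x * y ≠ y * x) (a : T) (haa : a * a = 1)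
    (haV : a ∉ V t) :
    ∃ b c d z w : T, RelL a b c d z w ∧ Subgroup.closure {a, b, c, d, z, w} = ⊤ ∧
      ∀ g ∈ Subgroup.center T, g = 1 ∨ g = z ∨ g = w ∨ g = z * w := by
  classical
  obtain ⟨hab, hmix⟩ := h.mix hkV hsqV
  have hcen := h.center_eq h64 hkV hna
  have hr : ∀ x y y' : T, k x (y * y') = k x y * k x y' := fun x y y' => k_mul_right (h.cen (hkV x y))
  have hl : ∀ x x' y : T, k (x * x') y = k x y * k x' y := fun x x' y => k_mul_left (h.cen (hkV x y))
  have hsm : ∀ x y : T, x * y * (x * y) = x * x * (y * y) * k x y := fun x y =>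
    sq_mul (h.cen (hkV x y))
  have hv : ∀ v ∈ V t, ∀ x : T, x * v = v * x := fun v hv x => h.cen hv x
  have hbb : ρ a * ρ a = 1 := by rw [← map_mul, haa, map_one]
  have hba : ρ a * a = a * ρ a := k_eq_one.mp (hab a)
  set A := Subgroup.closure ({a, ρ a} : Set T) ⊔ V t with hA
  have haA : a ∈ A := Subgroup.mem_sup_left (Subgroup.subset_closure (by simp))
  have hbA : ρ a ∈ A := Subgroup.mem_sup_left (Subgroup.subset_closure (by simp))
  have hVA : V t ≤ A := le_sup_right
  have hAρ : ∀ u ∈ A, ρ u ∈ A := by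
    have : A.map ρ.toMonoidHom ≤ A := by
      rw [hA, Subgroup.map_sup, sup_le_iff, MonoidHom.map_closure, Subgroup.closure_le]
      refine ⟨?_, ?_⟩
      · rintro _ ⟨u, rfl | rfl, rfl⟩
        · exact hbA
        · show ρ (ρ a) ∈ A
          rw [show ρ (ρ a) = (a * ρ a)⁻¹ * (a * ρ a * ρ (ρ a)) by group]
          exact mul_mem (inv_mem (mul_mem haA hbA)) (hVA (h.third hkV a))
      · rintro _ ⟨u, hu, rfl⟩
        exact hVA (h.rho_V hu)
    exact fun u hu => this ⟨u, hu, rfl⟩
  have hAcomm : ∀ g ∈ A, ∀ g' ∈ A, k g g' = 1 := by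
    intro g hg g' hg'
    have e1 : ∀ s ∈ ({a, ρ a} : Set T), A ≤ Subgroup.centralizer ({s} : Set T) := by
      intro s hs
      rw [hA, sup_le_iff, Subgroup.closure_le]
      refine ⟨?_, fun v hv' => Subgroup.mem_centralizer_singleton_iff.mpr (hv v hv' s).symm⟩
      intro s' hs'
      rw [SetLike.mem_coe, Subgroup.mem_centralizer_singleton_iff]
      rcases hs with rfl | rfl <;> rcases hs' with rfl | rfl
      · rfl
      · exact hba
      · exact hba.symm
      · rfl
    have e2 : A ≤ Subgroup.centralizer ({g'} : Set T) := by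
      rw [hA, sup_le_iff, Subgroup.closure_le]
      refine ⟨fun s hs => ?_, fun v hv' => Subgroup.mem_centralizer_singleton_iff.mpr (hv v hv' g').symm⟩
      rw [SetLike.mem_coe, Subgroup.mem_centralizer_singleton_iff]
      exact (Subgroup.mem_centralizer_singleton_iff.mp (e1 s hs hg')).symm
    exact k_eq_one.mpr (Subgroup.mem_centralizer_singleton_iff.mp (e2 hg)).symm
  obtain ⟨y, hy⟩ : ∃ y, y ∉ A := by
    by_contra hall
    push Not at hall
    obtain ⟨p, q, hpq⟩ := hna
    exact hpq (k_eq_one.mp (hAcomm q (hall q) p (hall p)))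
  -- commutators with elements outside `A` do not vanish
  have hA16 : 4 * 4 ≤ Nat.card A := by
    have := h.four_mul_le (fun _ hx => h.rho_V hx) hAρ (lt_of_le_not_ge hVA fun e => haV (e haA))
    rwa [h.card_V] at this
  have hne1 : ∀ g, g ∉ A → k a g ≠ 1 := by
    intro g hg hk1
    apply haV
    rw [← hcen, Subgroup.mem_center_iff]
    set B := A ⊔ Subgroup.closure ({g, ρ g} : Set T) with hB
    have hgB : g ∈ B := Subgroup.mem_sup_right (Subgroup.subset_closure (by simp))
    have hrgB : ρ g ∈ B := Subgroup.mem_sup_right (Subgroup.subset_closure (by simp))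
    have hBρ : ∀ u ∈ B, ρ u ∈ B := by
      have : B.map ρ.toMonoidHom ≤ B := by
        rw [hB, Subgroup.map_sup, sup_le_iff, MonoidHom.map_closure, Subgroup.closure_le]
        refine ⟨fun _ ⟨u, hu, e⟩ => e ▸ Subgroup.mem_sup_left (hAρ u hu), ?_⟩
        rintro _ ⟨u, rfl | rfl, rfl⟩
        · exact hrgB
        · show ρ (ρ g) ∈ B
          rw [show ρ (ρ g) = (g * ρ g)⁻¹ * (g * ρ g * ρ (ρ g)) by group]
          exact mul_mem (inv_mem (mul_mem hgB hrgB))
            (Subgroup.mem_sup_left (hVA (h.third hkV g)))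
      exact fun u hu => this ⟨u, hu, rfl⟩
    have h2 := h.four_mul_le hAρ hBρ (lt_of_le_not_ge le_sup_left fun e => hg (e hgB))
    have hBtop : B = ⊤ := Subgroup.eq_top_of_le_card B (by omega)
    have hBC : B ≤ Subgroup.centralizer ({a} : Set T) := by
      rw [hB, sup_le_iff, Subgroup.closure_le]
      refine ⟨fun u hu => Subgroup.mem_centralizer_singleton_iff.mpr
        (k_eq_one.mp (hAcomm a haA u hu)), ?_⟩
      rintro u (rfl | rfl)
      · exact Subgroup.mem_centralizer_singleton_iff.mpr (k_eq_one.mp hk1)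
      · exact Subgroup.mem_centralizer_singleton_iff.mpr (k_eq_one.mp (by
          rw [(hmix a g).1, hk1, map_one, map_one]))
    exact fun x => Subgroup.mem_centralizer_singleton_iff.mp (hBC (hBtop ▸ Subgroup.mem_top x))
  obtain ⟨c, hcA, hcc⟩ : ∃ c, c ∉ A ∧ c * c = 1 := by
    obtain ⟨K, hK⟩ : ∃ K, K = k a y := ⟨_, rfl⟩
    have hKV : K ∈ V t := hK ▸ hkV _ _
    have hK1 : K ≠ 1 := hK ▸ hne1 y hy
    have hKρ : ρ (ρ K) ∈ V t := h.rho_V (h.rho_V hKV)
    have hmul : ∀ e ∈ A, e * y ∉ A := fun e he hm => hy (by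
      rw [show y = e⁻¹ * (e * y) by group]; exact mul_mem (inv_mem he) hm)
    have hfix : ∀ e ∈ A, e * e = 1 → k e y = y * y → ∃ c, c ∉ A ∧ c * c = 1 := fun e he he2 hk2 =>
      ⟨e * y, hmul e he, by rw [hsm, he2, hk2, one_mul, h.vv (hsqV y)]⟩
    have h3 : ThreeInvolutions.Three (V t) := by
      refine ⟨h.two.to_subgroup _, fun v _ g => Subtype.ext (h.cen v.2 g), ?_⟩
      rw [← h.card_V]
      exact Nat.card_congr (Equiv.subtypeUnivEquiv fun v => Subtype.ext (h.vv v.2))
    have := h3.four (x := (⟨K, hKV⟩ : V t)) (y := ⟨_, hKρ⟩) (v := ⟨y * y, hsqV y⟩)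
      (Subtype.ext (h.vv hKV)) (Subtype.ext (h.vv hKρ)) (fun e => hK1 (congrArg Subtype.val e))
      (fun e => hK1 (ρ.injective (ρ.injective ((congrArg Subtype.val e).trans
        (by rw [Subgroup.coe_one, map_one, map_one])))))
      (fun e => hK1 (h.fpf K hKV (by
        have e' : K = ρ (ρ K) := congrArg Subtype.val e
        conv_lhs => rw [e', h.r3])))
      (Subtype.ext (h.vv (hsqV y)))
    simp only [Subtype.ext_iff, Subgroup.coe_one, Subgroup.coe_mul] at this
    rcases this with e | e | e | e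
    · exact ⟨y, hy, e⟩
    · exact hfix a haA haa (by rw [e, hK])
    · exact hfix (ρ a) hbA hbb (by rw [(hmix a y).2, e, hK])
    · exact hfix (a * ρ a) (mul_mem haA hbA) (by rw [hsm, haa, hbb, hab a]; simp)
        (by rw [hl, (hmix a y).2, e, hK])
  set b := ρ a with hb
  set d := ρ c with hd
  obtain ⟨z, hz⟩ : ∃ z, z = k a c := ⟨_, rfl⟩
  have hzV : z ∈ V t := hz ▸ hkV _ _
  have hz1 : z ≠ 1 := hz ▸ hne1 c hcA
  have hwV := h.rho_V hzV
  have hzw : ρ (ρ z) = z * ρ z := by
    rw [← inv_eq_of_mul_eq_one_right (h.orbit hzV)]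
    exact inv_eq_of_mul_eq_one_right (h.vv (mul_mem hzV hwV))
  refine ⟨b, c, d, z, ρ z, ⟨h.vv hzV, h.vv hwV, (hv z hzV _), hv z hzV a, hv z hzV b, hv z hzV c,
    hv z hzV d, hv _ hwV a, hv _ hwV b, hv _ hwV c, hv _ hwV d, haa, hbb, hcc,
    by rw [hd, ← map_mul, hcc, map_one], hba, k_eq_one.mp (hab c), by rw [k_spec a c, hz], ?_, ?_, ?_⟩,
    ?_, ?_⟩
  · rw [k_spec b d, hb, hd, ← map_k, hz]
  · rw [k_spec b c, hb, (hmix a c).2, ← hz, hzw]
  · rw [k_spec a d, hd, (hmix a c).1, ← hz, hzw]
  · set W := Subgroup.closure ({a, b, c, d, z, ρ z} : Set T) with hW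
    have maW : a ∈ W := Subgroup.subset_closure (by simp)
    have mbW : b ∈ W := Subgroup.subset_closure (by simp)
    have mcW : c ∈ W := Subgroup.subset_closure (by simp)
    have mdW : d ∈ W := Subgroup.subset_closure (by simp)
    have mzW : z ∈ W := Subgroup.subset_closure (by simp)
    have mwW : ρ z ∈ W := Subgroup.subset_closure (by simp)
    have hVW : V t ≤ W := by
      intro v hv'
      have h3 : ThreeInvolutions.Three (V t) := by
        refine ⟨h.two.to_subgroup _, fun v _ g => Subtype.ext (h.cen v.2 g), ?_⟩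
        rw [← h.card_V]
        exact Nat.card_congr (Equiv.subtypeUnivEquiv fun v => Subtype.ext (h.vv v.2))
      have := h3.four (x := (⟨z, hzV⟩ : V t)) (y := ⟨_, hwV⟩) (v := ⟨v, hv'⟩)
        (Subtype.ext (h.vv hzV)) (Subtype.ext (h.vv hwV)) (fun e => hz1 (congrArg Subtype.val e))
        (fun e => hz1 (ρ.injective ((congrArg Subtype.val e).trans (by rw [Subgroup.coe_one, map_one]))))
        (fun e => hz1 (h.fpf z hzV (congrArg Subtype.val e).symm)) (Subtype.ext (h.vv hv'))
      simp only [Subtype.ext_iff, Subgroup.coe_one, Subgroup.coe_mul] at this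
      rcases this with e | e | e | e <;> rw [e]
      exacts [one_mem _, mzW, mwW, mul_mem mzW mwW]
    have hAW : A ≤ W := by
      rw [hA, sup_le_iff, Subgroup.closure_le]
      refine ⟨?_, hVW⟩
      rintro u (rfl | rfl)
      · exact maW
      · exact mbW
    have hWρ : ∀ u ∈ W, ρ u ∈ W := by
      have : W.map ρ.toMonoidHom ≤ W := by
        rw [hW, MonoidHom.map_closure, Subgroup.closure_le]
        rintro _ ⟨u, rfl | rfl | rfl | rfl | rfl | rfl, rfl⟩
        · exact mbW
        · show ρ b ∈ W; exact hAW (hAρ _ hbA)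
        · exact mdW
        · show ρ d ∈ W
          rw [show ρ d = (c * ρ c)⁻¹ * (c * ρ c * ρ (ρ c)) by rw [hd]; group]
          exact mul_mem (inv_mem (mul_mem mcW mdW)) (hVW (h.third hkV c))
        · exact mwW
        · show ρ (ρ z) ∈ W
          rw [hzw]; exact mul_mem mzW mwW
      exact fun u hu => this ⟨u, hu, rfl⟩
    have h2 := h.four_mul_le hAρ hWρ (lt_of_le_not_ge hAW fun e => hcA (e mcW))
    exact Subgroup.eq_top_of_le_card W (by omega)
  · intro g hg
    rw [hcen] at hg
    have h3 : ThreeInvolutions.Three (V t) := by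
      refine ⟨h.two.to_subgroup _, fun v _ g => Subtype.ext (h.cen v.2 g), ?_⟩
      rw [← h.card_V]
      exact Nat.card_congr (Equiv.subtypeUnivEquiv fun v => Subtype.ext (h.vv v.2))
    have := h3.four (x := (⟨z, hzV⟩ : V t)) (y := ⟨_, hwV⟩) (v := ⟨g, hg⟩)
      (Subtype.ext (h.vv hzV)) (Subtype.ext (h.vv hwV)) (fun e => hz1 (congrArg Subtype.val e))
      (fun e => hz1 (ρ.injective ((congrArg Subtype.val e).trans (by rw [Subgroup.coe_one, map_one]))))
      (fun e => hz1 (h.fpf z hzV (congrArg Subtype.val e).symm)) (Subtype.ext (h.vv hg))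
    simpa [Subtype.ext_iff] using this

end CfsgLib.CentralFour
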