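import Mathlib

/-!
Few generators for a finite `p`-group.
-/

set_option autoImplicit false

namespace CfsgLib.PGroup

/-- A `p`-group with a subgroup `N ≤ Φ(G)` of index at most `p ^ r` is `r`-generated. -/
theorem exists_generators {G : Type*} [Group G] [Finite G] {p : ℕ} [hp : Fact p.Prime]
    (hG : IsPGroup p G) (N : Subgroup G) (hN : N ≤ frattini G) {r : ℕ} (hidx : N.index ≤ p ^ r) :
    ∃ S : Finset G, S.card ≤ r ∧ Subgroup.closure (S : Set G) = ⊤ := by
  classical
  have key : ∀ k, ∃ S : Finset G, S.card ≤ k ∧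
      (Subgroup.closure (S : Set G) ⊔ N = ⊤ ∨
        (Subgroup.closure (S : Set G) ⊔ N).index * p ^ k ≤ N.index) := by
    intro k
    induction k with
    | zero =>
      refine ⟨∅, le_rfl, Or.inr ?_⟩
      simp
    | succ k ih =>
      obtain ⟨S, hS, h⟩ := ih
      by_cases htop : Subgroup.closure (S : Set G) ⊔ N = ⊤
      · exact ⟨S, hS.trans (Nat.le_succ k), Or.inl htop⟩
      have h' := h.resolve_left htop
      obtain ⟨x, -, hx⟩ := SetLike.exists_of_lt (lt_top_iff_ne_top.mpr htop)
      refine ⟨insert x S, (Finset.card_insert_le x S).trans (Nat.succ_le_succ hS), Or.inr ?_⟩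
      set T := Subgroup.closure (S : Set G) ⊔ N
      set T' := Subgroup.closure ((insert x S : Finset G) : Set G) ⊔ N
      have hle : T ≤ T' := sup_le_sup_right (Subgroup.closure_mono (by simp)) N
      have hxT' : x ∈ T' := Subgroup.mem_sup_left (Subgroup.subset_closure (by simp))
      have hne : T.relIndex T' ≠ 1 := fun e => hx (Subgroup.relIndex_eq_one.mp e hxT')
      have h1 := Subgroup.relIndex_mul_index hle
      obtain ⟨a, ha⟩ := IsPGroup.iff_card.mp hG
      obtain ⟨i, -, hi⟩ := (Nat.dvd_prime_pow hp.out).mp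
        (((Dvd.intro _ h1 : T.relIndex T' ∣ T.index).trans (Subgroup.index_dvd_card T)).trans ha.dvd)
      have hpi : p ≤ T.relIndex T' := by
        rw [hi]
        exact Nat.le_self_pow (by rintro rfl; exact hne (by rw [hi, pow_zero])) p
      calc T'.index * p ^ (k + 1) = (p * T'.index) * p ^ k := by ring
        _ ≤ (T.relIndex T' * T'.index) * p ^ k :=
          Nat.mul_le_mul_right _ (Nat.mul_le_mul_right _ hpi)
        _ ≤ N.index := h1.symm ▸ h'
  obtain ⟨S, hS, h⟩ := key r
  refine ⟨S, hS, frattini_nongenerating ?_⟩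
  have htop : Subgroup.closure (S : Set G) ⊔ N = ⊤ := by
    rcases h with h | h
    · exact h
    · refine Subgroup.index_eq_one.mp ?_
      have h2 : (Subgroup.closure (S : Set G) ⊔ N).index * p ^ r ≤ 1 * p ^ r := by
        rw [one_mul]; exact h.trans hidx
      have h3 := Nat.le_of_mul_le_mul_right h2 (pow_pos hp.out.pos r)
      have h4 : (Subgroup.closure (S : Set G) ⊔ N).index ≠ 0 := Subgroup.index_ne_zero_of_finite
      omega
  exact eq_top_iff.mpr (htop.ge.trans (sup_le_sup_left hN _))

end CfsgLib.PGroup
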