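import Mathlib
import Cfsg.Agent.Lib.PSolvable.Omega
import Cfsg.Agent.Lib.PGroup.Generators
import Cfsg.Agent.Lib.PGroup.CoprimeAut

/-!
# Thompson's bound for `p`-groups with central elements of order `p`

If `p` is odd and all elements of order `p` of the `p`-group `Q` are central, then `Q` can be
generated by as many elements as its subgroup of elements of order dividing `p`.
-/

set_option autoImplicit false
set_option linter.style.haveILetI false

open scoped commutatorElement

namespace CfsgLib.CentralOmega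

universe u

variable {p : ℕ} [hp : Fact p.Prime]

/-- Two elements with the same `p`-th power differ by an element of order dividing `p`. -/
theorem mul_inv_pow_eq_one {Q : Type*} [Group Q] [Finite Q] (hQ : IsPGroup p Q) (hp2 : p ≠ 2)
    (hcen : ∀ z : Q, z ^ p = 1 → z ∈ Subgroup.center Q) :
    ∀ P : Subgroup Q, ∀ x y : Q, x ∈ P → y ∈ P → x ^ p = y ^ p → (y * x⁻¹) ^ p = 1 := by
  intro P
  induction P using WellFoundedLT.induction with
  | ind P ih =>
  intro x y hx hy hxy
  set d := ⁅y, x⁆ with hd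
  have hdp : d ^ p = 1 := by
    by_cases hd1 : d = 1
    · rw [hd1, one_pow]
    set T := Subgroup.closure ({x, d} : Set Q) with hT
    have hTP : T ≤ P := (Subgroup.closure_le _).mpr (by
      rintro w (rfl | rfl)
      · exact hx
      · exact mul_mem (mul_mem (mul_mem hy hx) (inv_mem hy)) (inv_mem hx))
    have hlt : T < P := by
      refine lt_of_le_of_ne hTP fun heq => hd1 ?_
      have hPp : IsPGroup p P := hQ.to_subgroup P
      have htop : Subgroup.zpowers (⟨x, hx⟩ : P) ⊔ frattini P = ⊤ := by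
        refine eq_top_iff.mpr fun w _ => ?_
        have hw : (w : Q) ∈ T := heq ▸ w.2
        have hle : T ≤ (Subgroup.zpowers (⟨x, hx⟩ : P) ⊔ frattini P).map P.subtype := by
          refine (Subgroup.closure_le _).mpr ?_
          rintro z (rfl | rfl)
          · exact ⟨⟨z, hx⟩, Subgroup.mem_sup_left (Subgroup.mem_zpowers _), rfl⟩
          · exact ⟨⁅(⟨y, hy⟩ : P), ⟨x, hx⟩⁆, Subgroup.mem_sup_right
              ((PSolvable.commutator_le_frattini hPp).1 (by
                rw [commutator_def]
                exact Subgroup.commutator_mem_commutator (Subgroup.mem_top _) (Subgroup.mem_top _))),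
              rfl⟩
        obtain ⟨u, hu, huw⟩ := hle hw
        rwa [← Subtype.ext huw]
      have hcyc := frattini_nongenerating htop
      obtain ⟨j, hj⟩ := Subgroup.mem_zpowers_iff.mp (hcyc.ge (Subgroup.mem_top (⟨y, hy⟩ : P)))
      have hyj : x ^ j = y := congrArg Subtype.val hj
      rw [hd, ← hyj, commutatorElement_eq_one_iff_commute]
      exact (Commute.refl x).zpow_left j
    have hyx : y * x * y⁻¹ = d * x := by rw [hd, commutatorElement_def]; group
    have h := ih T hlt x (y * x * y⁻¹) (Subgroup.subset_closure (by simp))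
      (hyx ▸ mul_mem (Subgroup.subset_closure (by simp)) (Subgroup.subset_closure (by simp)))
      (by rw [conj_pow, hxy, ((Commute.refl y).pow_right p).eq, mul_inv_cancel_right])
    rwa [hyx, mul_inv_cancel_right] at h
  have hdc : ∀ g : Q, Commute d g := fun g => (Subgroup.mem_center_iff.mp (hcen d hdp) g).symm
  have he : ⁅x⁻¹, y⁆ = d := by
    rw [show ⁅x⁻¹, y⁆ = x⁻¹ * ⁅y, x⁆ * x by simp only [commutatorElement_def]; group, ← hd,
      mul_assoc, (hdc x).eq, inv_mul_cancel_left]
  have h1 : Commute ⁅x⁻¹, y⁆ y := he ▸ hdc y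
  have h2 : Commute ⁅x⁻¹, y⁆ x⁻¹ := he ▸ hdc x⁻¹
  obtain ⟨r, hr⟩ : p ∣ p.choose 2 :=
    hp.out.dvd_choose_self (by norm_num) (lt_of_le_of_ne hp.out.two_le hp2.symm)
  rw [PSolvable.mul_pow_of_comm h1 h2, he, hr, pow_mul d, hdp, one_pow, mul_one, inv_pow, hxy,
    mul_inv_cancel]

/-- The generator bound. -/
theorem exists_generators (hp2 : p ≠ 2) : ∀ n : ℕ, ∀ (Q : Type u) [Group Q] [Finite Q],
    Nat.card Q = n → IsPGroup p Q → (∀ z : Q, z ^ p = 1 → z ∈ Subgroup.center Q) →
    ∀ r : ℕ, Nat.card {z : Q // z ^ p = 1} ≤ p ^ r →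
    ∃ S : Finset Q, S.card ≤ r ∧ Subgroup.closure (S : Set Q) = ⊤ := by
  intro n
  induction n using Nat.strong_induction_on with
  | h n ih =>
  intro Q _ _ hn hQ hcen r hr
  classical
  rcases subsingleton_or_nontrivial Q with hs | hnt
  · exact ⟨∅, Nat.zero_le _, Subsingleton.elim _ _⟩
  let Ω : Subgroup Q :=
    { carrier := {z | z ^ p = 1}
      one_mem' := one_pow p
      mul_mem' := fun {a b} ha hb => by
        show (a * b) ^ p = 1
        rw [Commute.mul_pow (Subgroup.mem_center_iff.mp (hcen b hb) a) p,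
          show a ^ p = 1 from ha, show b ^ p = 1 from hb, one_mul]
      inv_mem' := fun {a} ha => by
        show a⁻¹ ^ p = 1
        rw [inv_pow, show a ^ p = 1 from ha, inv_one] }
  have hΩc : Ω ≤ Subgroup.center Q := fun z hz => hcen z hz
  haveI : Ω.Normal := ⟨fun z hz g => by
    rw [(Subgroup.mem_center_iff.mp (hΩc hz) g), mul_inv_cancel_right]; exact hz⟩
  have hΩne : Ω ≠ ⊥ := by
    obtain ⟨a, ha⟩ := IsPGroup.iff_card.mp hQ
    have hpd : p ∣ Nat.card Q := by
      rw [ha]
      refine dvd_pow_self p ?_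
      rintro rfl
      rw [pow_zero] at ha
      exact absurd (Finite.one_lt_card (α := Q)) (by omega)
    obtain ⟨z, hz⟩ := exists_prime_orderOf_dvd_card' p hpd
    intro h
    have hzΩ : z ∈ Ω := show z ^ p = 1 from hz ▸ pow_orderOf_eq_one z
    rw [h, Subgroup.mem_bot] at hzΩ
    rw [hzΩ, orderOf_one] at hz
    exact hp.out.ne_one hz.symm
  by_cases hΦ : Ω ≤ frattini Q
  · -- pass to `Q / Ω`
    have hlt : Nat.card (Q ⧸ Ω) < n := by
      have h1 := Subgroup.card_eq_card_quotient_mul_card_subgroup Ω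
      have h2 : 1 < Nat.card Ω := Subgroup.one_lt_card_iff_ne_bot Ω |>.mpr hΩne
      have h3 : 0 < Nat.card (Q ⧸ Ω) := Nat.card_pos
      rw [hn] at h1
      nlinarith
    have hcen' : ∀ w : Q ⧸ Ω, w ^ p = 1 → w ∈ Subgroup.center (Q ⧸ Ω) := by
      intro w hw
      obtain ⟨x, rfl⟩ := QuotientGroup.mk'_surjective Ω w
      rw [← map_pow, QuotientGroup.mk'_apply, QuotientGroup.eq_one_iff] at hw
      refine Subgroup.mem_center_iff.mpr fun v => ?_
      obtain ⟨g, rfl⟩ := QuotientGroup.mk'_surjective Ω v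
      have hc : ∀ q : Q, Commute (x ^ p) q := fun q => (Subgroup.mem_center_iff.mp (hΩc hw) q).symm
      have h := mul_inv_pow_eq_one hQ hp2 hcen ⊤ x (g * x * g⁻¹) (Subgroup.mem_top _)
        (Subgroup.mem_top _) (by rw [conj_pow, ← (hc g).eq, mul_inv_cancel_right])
      rw [← map_mul, ← map_mul, QuotientGroup.mk'_apply, QuotientGroup.mk'_apply,
        QuotientGroup.eq_iff_div_mem, div_eq_mul_inv, mul_inv_rev,
        show g * x * (g⁻¹ * x⁻¹) = g * x * g⁻¹ * x⁻¹ by group]
      exact h
    have hcard : Nat.card {w : Q ⧸ Ω // w ^ p = 1} ≤ p ^ r := by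
      refine le_trans (Nat.card_le_card_of_injective (fun w => (⟨(w.1.out) ^ p, ?_⟩ :
        {z : Q // z ^ p = 1})) ?_) hr
      · have h1 : ((w.1.out ^ p : Q) : Q ⧸ Ω) = 1 := by
          rw [QuotientGroup.mk_pow, QuotientGroup.out_eq']; exact w.2
        exact (QuotientGroup.eq_one_iff _).mp h1
      · intro a b hab
        have h2 : a.1.out ^ p = b.1.out ^ p := congrArg Subtype.val hab
        have h3 : b.1.out * a.1.out⁻¹ ∈ Ω := mul_inv_pow_eq_one hQ hp2 hcen ⊤ _ _
          (Subgroup.mem_top _) (Subgroup.mem_top _) h2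
        refine Subtype.ext ?_
        rw [← QuotientGroup.out_eq' a.1, ← QuotientGroup.out_eq' b.1]
        exact (QuotientGroup.eq_iff_div_mem.mpr (by rwa [div_eq_mul_inv])).symm
    obtain ⟨S, hS, hStop⟩ := ih _ hlt (Q ⧸ Ω) rfl (hQ.to_quotient Ω) hcen' r hcard
    refine ⟨S.image Quotient.out, Finset.card_image_le.trans hS, frattini_nongenerating ?_⟩
    refine eq_top_iff.mpr fun q _ => ?_
    have hle : (⊤ : Subgroup (Q ⧸ Ω)) ≤
        (Subgroup.closure ((S.image Quotient.out : Finset Q) : Set Q) ⊔ frattini Q).map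
          (QuotientGroup.mk' Ω) := by
      rw [← hStop, Subgroup.closure_le]
      intro w hw
      exact ⟨w.out, Subgroup.mem_sup_left (Subgroup.subset_closure
        (Finset.mem_coe.mpr (Finset.mem_image_of_mem _ hw))), QuotientGroup.out_eq' w⟩
    obtain ⟨u, hu, huq⟩ := hle (Subgroup.mem_top (QuotientGroup.mk' Ω q))
    have h4 : u⁻¹ * q ∈ Ω := QuotientGroup.eq.mp huq
    have := mul_mem hu (Subgroup.mem_sup_right (hΦ h4) :
      u⁻¹ * q ∈ Subgroup.closure ((S.image Quotient.out : Finset Q) : Set Q) ⊔ frattini Q)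
    rwa [mul_inv_cancel_left] at this
  · -- a maximal subgroup avoiding an element of `Ω`
    obtain ⟨z, hzΩ, hzΦ⟩ := SetLike.not_le_iff_exists.mp hΦ
    obtain ⟨M, hM, hzM⟩ : ∃ M : Subgroup Q, IsCoatom M ∧ z ∉ M := by
      by_contra h
      push Not at h
      refine hzΦ ?_
      rw [frattini, Order.radical, Subgroup.mem_iInf]
      intro M
      simp only [Subgroup.mem_iInf]
      exact fun hM => h M hM
    have hMn : Nat.card M < n := by
      rw [← hn]
      exact lt_of_le_of_ne (Subgroup.card_le_card_group M)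
        fun e => hM.1 (Subgroup.eq_top_of_card_eq M e)
    have hcenM : ∀ w : M, w ^ p = 1 → w ∈ Subgroup.center M := fun w hw =>
      Subgroup.mem_center_iff.mpr fun v => Subtype.ext (Subgroup.mem_center_iff.mp
        (hcen (w : Q) (by rw [← Subgroup.coe_pow, hw]; rfl)) v)
    have hlt : Ω ⊓ M < Ω := lt_of_le_of_ne inf_le_left fun e => hzM (e.ge hzΩ).2
    have hcard : Nat.card {w : M // w ^ p = 1} * p ≤ p ^ r := by
      have e : {w : M // w ^ p = 1} ≃ ↥(Ω ⊓ M) :=
        { toFun := fun w => ⟨w.1.1, show (w.1.1 : Q) ^ p = 1 by rw [← Subgroup.coe_pow, w.2]; rfl, w.1.2⟩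
          invFun := fun w => ⟨⟨w.1, w.2.2⟩, Subtype.ext (by rw [Subgroup.coe_pow]; exact w.2.1)⟩
          left_inv := fun _ => rfl
          right_inv := fun _ => rfl }
      rw [Nat.card_congr e]
      refine le_trans ?_ (show Nat.card Ω ≤ p ^ r from hr)
      obtain ⟨a, ha⟩ := IsPGroup.iff_card.mp (hQ.to_subgroup (Ω ⊓ M))
      obtain ⟨b, hb⟩ := IsPGroup.iff_card.mp (hQ.to_subgroup Ω)
      have hab : a < b := by
        by_contra hge
        exact hlt.not_ge (Subgroup.eq_of_le_of_card_ge hlt.le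
          (by rw [ha, hb]; exact Nat.pow_le_pow_right hp.out.pos (by omega))).ge
      rw [ha, hb, ← pow_succ]
      exact Nat.pow_le_pow_right hp.out.pos hab
    have hr1 : 1 ≤ r := by
      by_contra h
      rw [show r = 0 by omega, pow_zero] at hcard
      have h1 : 0 < Nat.card {w : M // w ^ p = 1} :=
        Nat.card_pos_iff.mpr ⟨⟨⟨1, one_pow p⟩⟩, inferInstance⟩
      have := hp.out.two_le
      nlinarith
    have hcard' : Nat.card {w : M // w ^ p = 1} ≤ p ^ (r - 1) := by
      refine Nat.le_of_mul_le_mul_right (hcard.trans ?_) hp.out.pos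
      rw [← pow_succ, Nat.sub_add_cancel hr1]
    obtain ⟨S, hS, hStop⟩ := ih _ hMn M rfl (hQ.to_subgroup M) hcenM (r - 1) hcard'
    refine ⟨insert z (S.image Subtype.val), ?_, ?_⟩
    · refine (Finset.card_insert_le _ _).trans ?_
      have := (Finset.card_image_le (s := S) (f := (Subtype.val : M → Q))).trans hS
      omega
    · refine hM.2 _ (lt_of_le_of_ne ?_ ?_)
      · intro m hm
        have h := hStop.ge (Subgroup.mem_top (⟨m, hm⟩ : M))
        have h2 : m ∈ (Subgroup.closure (S : Set M)).map M.subtype := ⟨_, h, rfl⟩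
        rw [MonoidHom.map_closure] at h2
        refine Subgroup.closure_mono ?_ h2
        rintro _ ⟨w, hw, rfl⟩
        exact Finset.mem_coe.mpr (Finset.mem_insert_of_mem (Finset.mem_image_of_mem _ hw))
      · intro e
        exact hzM (e.ge (Subgroup.subset_closure (Finset.mem_coe.mpr (Finset.mem_insert_self _ _))))

end CfsgLib.CentralOmega
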