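/-
The regular module of the unitriangular group of order eight: one five dimensional totally singular
subspace for every invariant quadratic form that has the norm element in its radical.
-/
import Mathlib

set_option autoImplicit false

namespace CfsgLib.Fourteen

/-- triples as unitriangular matrices -/
abbrev D8 : Type := ZMod 2 × ZMod 2 × ZMod 2

/-- the product of unitriangular matrices -/
def dmul (s t : D8) : D8 := (s.1 + t.1, s.2.1 + t.2.1, s.2.2 + t.2.2 + s.1 * t.2.1)

/-- the inverse -/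
def dinv (s : D8) : D8 := (s.1, s.2.1, s.2.2 + s.1 * s.2.1)

theorem dmul_dinv : ∀ s : D8, dmul s (dinv s) = (0, 0, 0) ∧ dmul (dinv s) s = (0, 0, 0) := by decide

theorem dmul_cancel : ∀ s t k : D8, (dmul s k = dmul t k ↔ s = t) ∧ (dmul k s = dmul k t ↔ s = t) := by
  decide +kernel

/-- the value of the bilinear form on two sums of basis vectors -/
def bval (φ : D8 → ZMod 2) (u v : List D8) : ZMod 2 :=
  (u.map fun g => (v.map fun h => φ (dmul g (dinv h))).sum).sum

/-- the value of the quadratic form on a sum of basis vectors -/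
def qval (c : ZMod 2) (φ : D8 → ZMod 2) : List D8 → ZMod 2
  | [] => 0
  | g :: l => c + qval c φ l + bval φ [g] l

/-- all elements -/
def allD : List D8 :=
  [(0, 0, 0), (1, 0, 0), (0, 1, 0), (1, 1, 0), (0, 0, 1), (1, 0, 1), (0, 1, 1), (1, 1, 1)]

/-- the witness -/
def wit : List (List D8) :=
  [[(0, 0, 0), (1, 0, 1), (0, 1, 1), (1, 1, 1)], [(1, 0, 0), (1, 1, 1)],
   [(0, 1, 0), (1, 0, 1), (0, 1, 1), (1, 1, 1)], [(1, 1, 0), (1, 0, 1)], [(0, 0, 1), (0, 1, 1)]]

/-- the pivot of each witness vector -/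
def pivot : List D8 := [(0, 0, 0), (1, 0, 0), (0, 1, 0), (1, 1, 0), (0, 0, 1)]

/-- the form determined by three parameters -/
def phiOf (r u v : ZMod 2) (g : D8) : ZMod 2 :=
  if g = (1, 1, 0) ∨ g = (1, 1, 1) then r else if g = (1, 0, 0) then u
    else if g = (0, 0, 1) then v else if g = (1, 0, 1) then u + v else 0

theorem wit_model : ∀ c r u v : ZMod 2, (∀ w ∈ wit, qval c (phiOf r u v) w = 0) ∧
    ∀ x ∈ wit, ∀ y ∈ wit, bval (phiOf r u v) x y = 0 := by decide +kernel

theorem phi_eq (φ : D8 → ZMod 2) (h1 : φ (0, 0, 0) = 0) (hs : ∀ g, φ (dinv g) = φ g)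
    (h2 : φ (0, 1, 0) = 0) (h3 : φ (0, 1, 1) = 0) (hsum : (allD.map φ).sum = 0) :
    φ = phiOf (φ (1, 1, 0)) (φ (1, 0, 0)) (φ (0, 0, 1)) := by
  have h4 : φ (1, 1, 1) = φ (1, 1, 0) := by
    have h := hs (1, 1, 0)
    rwa [show dinv (1, 1, 0) = (1, 1, 1) by decide] at h
  have key : ∀ r u v w : ZMod 2, 0 + (u + (0 + (r + (v + (w + (0 + (r + 0))))))) = 0 → w = u + v := by
    decide
  have h5 : φ (1, 0, 1) = φ (1, 0, 0) + φ (0, 0, 1) := by
    refine key (φ (1, 1, 0)) _ _ _ ?_
    simpa only [allD, List.map_cons, List.map_nil, List.sum_cons, List.sum_nil, h1, h2, h3, h4] using hsum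
  funext g
  obtain ⟨a, b, c⟩ := g
  have : ∀ z : ZMod 2, z = 0 ∨ z = 1 := by decide
  rcases this a with rfl | rfl <;> rcases this b with rfl | rfl <;> rcases this c with rfl | rfl <;>
    simp [phiOf, h1, h2, h3, h4, h5]

theorem wit_good (c : ZMod 2) (φ : D8 → ZMod 2) (h1 : φ (0, 0, 0) = 0) (hs : ∀ g, φ (dinv g) = φ g)
    (h2 : φ (0, 1, 0) = 0) (h3 : φ (0, 1, 1) = 0) (hsum : (allD.map φ).sum = 0) :
    (∀ w ∈ wit, qval c φ w = 0) ∧ ∀ x ∈ wit, ∀ y ∈ wit, bval φ x y = 0 := by
  rw [phi_eq φ h1 hs h2 h3 hsum]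
  exact wit_model c _ _ _

/-- the indicator of a list -/
def indic (l : List D8) (g : D8) : ZMod 2 := (l.map fun h => if g = h then 1 else 0).sum

theorem indic_allD : ∀ g : D8, indic allD g = 1 := by decide

theorem indic_pivot : ∀ i j : Fin 5, indic (wit.getD i []) (pivot.getD j (0, 0, 0)) =
    if i = j then 1 else 0 := by decide +kernel

/-- a function killed by the three translations generating everything is additive, hence zero -/
theorem additive_zero : ∀ (f : D8 → ZMod 2), (∀ g k, f (dmul g k) = f g + f k) →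
    f (1, 0, 0) = 0 → f (0, 1, 0) = 0 → f = 0 := by
  intro f h ha hb
  have ab : f (1, 1, 1) = 0 := by
    rw [show ((1, 1, 1) : D8) = dmul (1, 0, 0) (0, 1, 0) by decide, h, ha, hb, add_zero]
  have ba : f (1, 1, 0) = 0 := by
    rw [show ((1, 1, 0) : D8) = dmul (0, 1, 0) (1, 0, 0) by decide, h, ha, hb, add_zero]
  have hc : f (0, 0, 1) = 0 := by
    rw [show ((0, 0, 1) : D8) = dmul (1, 1, 1) (1, 1, 1) by decide, h, ab, add_zero]
  have ac : f (1, 0, 1) = 0 := by
    rw [show ((1, 0, 1) : D8) = dmul (1, 0, 0) (0, 0, 1) by decide, h, ha, hc, add_zero]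
  have bc : f (0, 1, 1) = 0 := by
    rw [show ((0, 1, 1) : D8) = dmul (0, 1, 0) (0, 0, 1) by decide, h, hb, hc, add_zero]
  have h0 : f (0, 0, 0) = 0 := by
    have := h (0, 0, 0) (0, 0, 0)
    rw [show dmul ((0, 0, 0) : D8) (0, 0, 0) = (0, 0, 0) by decide] at this
    have hx : ∀ z : ZMod 2, z = z + z → z = 0 := by decide
    exact hx _ this
  funext g
  obtain ⟨a, b, c⟩ := g
  have : ∀ z : ZMod 2, z = 0 ∨ z = 1 := by decide
  rcases this a with rfl | rfl <;> rcases this b with rfl | rfl <;> rcases this c with rfl | rfl <;>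
    simp [ha, hb, ab, ba, hc, ac, bc, h0]

/-- the dihedral group in this model -/
def ofDih : DihedralGroup 4 → D8
  | .r i => ![(0, 0, 0), (1, 1, 0), (0, 0, 1), (1, 1, 1)] i
  | .sr i => dmul (1, 0, 0) (![(0, 0, 0), (1, 1, 0), (0, 0, 1), (1, 1, 1)] i)

theorem ofDih_mul : ∀ g h : DihedralGroup 4, ofDih (g * h) = dmul (ofDih g) (ofDih h) := by
  decide +kernel

theorem ofDih_inj : Function.Injective ofDih := by decide +kernel

end CfsgLib.Fourteen
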