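/-
2-groups `T` of order at least `2^14` with fourth centre of order 16 whose subgroup `W = C(Z₃(T))`
has small Frattini subgroup contained in all subgroups of index at most 16 of `W`.
-/
import Mathlib
import Cfsg.Agent.Lib.PGroup.FourteenModel
import Cfsg.Agent.Lib.RankBound.Basic
import Cfsg.Agent.Lib.Critical.Basic

set_option autoImplicit false
set_option linter.style.haveILetI false
set_option linter.unusedSectionVars false

open scoped commutatorElement

namespace CfsgLib.Fourteen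

variable {T : Type*} [Group T]

/-! ### Central series -/

theorem exists_step {N B : Subgroup T} [N.Normal] [B.Normal] (hnil : Group.IsNilpotent T)
    {x : T} (hx : x ∈ N) (hxB : x ∉ B) : ∃ y ∈ N, y ∉ B ∧ ∀ t, ⁅y, t⁆ ∈ B := by
  obtain ⟨n, hn⟩ := hnil.nilpotent'
  have key : ∀ m, ∀ x ∈ N, x ∈ Subgroup.upperCentralSeries T m → x ∉ B →
      ∃ y ∈ N, y ∉ B ∧ ∀ t, ⁅y, t⁆ ∈ B := by
    intro m
    induction m with
    | zero =>
      intro x _ hx hxB
      rw [Subgroup.upperCentralSeries_zero, Subgroup.mem_bot] at hx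
      exact absurd (hx ▸ B.one_mem) hxB
    | succ m ih =>
      intro x hxN hx hxB
      by_cases h : ∀ t, ⁅x, t⁆ ∈ B
      · exact ⟨x, hxN, hxB, h⟩
      push Not at h
      obtain ⟨t, ht⟩ := h
      refine ih _ ?_ (Subgroup.mem_upperCentralSeries_succ_iff.1 hx t) ht
      rw [show ⁅x, t⁆ = x * (t * x⁻¹ * t⁻¹) by rw [commutatorElement_def]; group]
      exact N.mul_mem hxN ((inferInstance : N.Normal).conj_mem _ (N.inv_mem hxN) t)
  exact key n x hx (hn ▸ Subgroup.mem_top x) hxB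

theorem card_le_upper [Finite T] (hT : IsPGroup 2 T) (N : Subgroup T) [N.Normal] : ∀ k,
    N ≤ Subgroup.upperCentralSeries T k ∨
      2 ^ k ≤ Nat.card ↥(N ⊓ Subgroup.upperCentralSeries T k) := by
  haveI : Fact (Nat.Prime 2) := ⟨Nat.prime_two⟩
  intro k
  induction k with
  | zero => exact Or.inr (by rw [pow_zero]; exact Nat.card_pos)
  | succ k ih =>
    rcases ih with h | h
    · exact Or.inl (h.trans (Subgroup.upperCentralSeries_mono T (Nat.le_succ k)))
    by_cases hle : N ≤ Subgroup.upperCentralSeries T (k + 1)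
    · exact Or.inl hle
    refine Or.inr ?_
    obtain ⟨x, hx, hxk⟩ := SetLike.not_le_iff_exists.1
      (fun hh : N ≤ Subgroup.upperCentralSeries T k => hle (hh.trans (Subgroup.upperCentralSeries_mono T (Nat.le_succ k))))
    obtain ⟨y, hy, hyk, hyc⟩ := exists_step hT.isNilpotent hx hxk
    have hle' : N ⊓ Subgroup.upperCentralSeries T k ≤ N ⊓ Subgroup.upperCentralSeries T (k + 1) :=
      inf_le_inf_left _ (Subgroup.upperCentralSeries_mono T (Nat.le_succ k))
    have hne : N ⊓ Subgroup.upperCentralSeries T k ≠ N ⊓ Subgroup.upperCentralSeries T (k + 1) := fun e =>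
      hyk (e.ge ⟨hy, Subgroup.mem_upperCentralSeries_succ_iff.2 hyc⟩).2
    obtain ⟨q, hq⟩ := Subgroup.card_dvd_of_le hle'
    have hq2 : 2 ≤ q := by
      rcases q with _ | _ | q
      · rw [mul_zero] at hq; exact absurd hq Nat.card_pos.ne'
      · exact absurd (Subgroup.eq_of_le_of_card_ge hle' (by omega)) hne
      · omega
    rw [hq, pow_succ]
    exact Nat.mul_le_mul h hq2

/-! ### Avoiding an element -/

theorem avoid [Finite T] {M0 E : Subgroup T} {c : T} (hM : M0 ≤ E) (hc : c ∉ M0)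
    (hsq : ∀ x ∈ E, x * x ∈ M0) (hcomm : ∀ x ∈ E, ∀ y ∈ E, ⁅x, y⁆ ∈ M0) :
    ∃ U : Subgroup T, M0 ≤ U ∧ U ≤ E ∧ c ∉ U ∧ Nat.card E ≤ 2 * Nat.card U := by
  classical
  obtain ⟨U, -, hU⟩ := Finite.exists_le_maximal
    (p := fun U : Subgroup T => M0 ≤ U ∧ U ≤ E ∧ c ∉ U) (a := M0) ⟨le_rfl, hM, hc⟩
  obtain ⟨hMU, hUE, hcU⟩ := hU.prop
  refine ⟨U, hMU, hUE, hcU, ?_⟩
  by_cases hcE : c ∈ E
  swap
  · rw [← le_antisymm (hU.le_of_ge ⟨hM, le_rfl, hcE⟩ hUE) hUE]
    omega
  have hconj : ∀ x ∈ E, ∀ u ∈ U, x * u * x⁻¹ ∈ U := fun x hx u hu => by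
    rw [show x * u * x⁻¹ = ⁅x, u⁆ * u by simp [commutatorElement_def, mul_assoc]]
    exact U.mul_mem (hMU (hcomm x hx u (hUE hu))) hu
  have hcov : ∀ x ∈ E, x ∈ U ∨ c⁻¹ * x ∈ U := by
    intro x hx
    by_cases hxU : x ∈ U
    · exact Or.inl hxU
    refine Or.inr ?_
    let V : Subgroup T :=
      { carrier := {z | z ∈ U ∨ x⁻¹ * z ∈ U}
        one_mem' := Or.inl U.one_mem
        mul_mem' := by
          rintro a b (ha | ha) (hb | hb)
          · exact Or.inl (U.mul_mem ha hb)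
          · refine Or.inr ?_
            rw [show x⁻¹ * (a * b) = x⁻¹ * a * x * (x⁻¹ * b) by group]
            refine U.mul_mem ?_ hb
            have := hconj x⁻¹ (E.inv_mem hx) a ha
            rwa [inv_inv] at this
          · refine Or.inr ?_
            rw [← mul_assoc]
            exact U.mul_mem ha hb
          · refine Or.inl ?_
            rw [show a * b = x * (x⁻¹ * a) * x⁻¹ * (x * x) * (x⁻¹ * b) by group]
            exact U.mul_mem (U.mul_mem (hconj x hx _ ha) (hMU (hsq x hx))) hb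
        inv_mem' := by
          rintro a (ha | ha)
          · exact Or.inl (U.inv_mem ha)
          · refine Or.inr ?_
            rw [show x⁻¹ * a⁻¹ = x⁻¹ * (x⁻¹ * a)⁻¹ * x * (x * x)⁻¹ by group]
            refine U.mul_mem ?_ (U.inv_mem (hMU (hsq x hx)))
            have := hconj x⁻¹ (E.inv_mem hx) _ (U.inv_mem ha)
            rwa [inv_inv] at this }
    have hUV : U ≤ V := fun u hu => Or.inl hu
    have hcV : c ∈ V := by
      by_contra hcV
      refine hxU (hU.le_of_ge (y := V) ⟨hMU.trans hUV, ?_, hcV⟩ hUV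
        (show x ∈ V from Or.inr (by rw [inv_mul_cancel]; exact U.one_mem)))
      rintro z (hz | hz)
      · exact hUE hz
      · simpa using E.mul_mem hx (hUE hz)
    rcases hcV with h | h
    · exact absurd h hcU
    · simpa using U.inv_mem h
  let f : E → U × Bool := fun x => if h : (x : T) ∈ U then (⟨x, h⟩, true)
    else (⟨c⁻¹ * x, (hcov x x.2).resolve_left h⟩, false)
  have hf : Function.Injective f := by
    intro x y hxy
    simp only [f] at hxy
    split_ifs at hxy with h1 h2 h2 <;> simp only [Prod.mk.injEq, Subtype.mk.injEq] at hxy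
    · exact Subtype.ext hxy.1
    · exact absurd hxy.2 (by simp)
    · exact absurd hxy.2 (by simp)
    · exact Subtype.ext (mul_left_cancel hxy.1)
  refine (Nat.card_le_card_of_injective f hf).trans ?_
  rw [Nat.card_prod, Nat.card_eq_fintype_card (α := Bool), Fintype.card_bool, mul_comm]

/-! ### The hypotheses -/

/-- the standing hypotheses -/
structure Hyp (T : Type*) [Group T] (W : Subgroup T) : Prop where
  two : IsPGroup 2 T
  big : 2 ^ 14 ≤ Nat.card T
  four : Nat.card ↥(Subgroup.upperCentralSeries T 4) = 16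
  eqW : W = Subgroup.centralizer ((Subgroup.upperCentralSeries T 3 : Subgroup T) : Set T)
  small : Nat.card ↥(frattini ↥W) ≤ 8
  inside : ∀ U : Subgroup ↥W, U.index ≤ 16 → frattini ↥W ≤ U

/-- the Frattini subgroup of `W` inside `T` -/
def phi (W : Subgroup T) : Subgroup T := (frattini ↥W).map W.subtype

variable [Finite T] {W : Subgroup T}

/-- the series -/
local notation "Z" => Subgroup.upperCentralSeries T

theorem Hyp.card_Z (h : Hyp T W) {i : ℕ} (hi : i ≤ 4) : Nat.card ↥(Z i) = 2 ^ i := by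
  haveI : Fact (Nat.Prime 2) := ⟨Nat.prime_two⟩
  have hstep : ∀ j, j ≤ 3 → 2 * Nat.card ↥(Z j) ≤ Nat.card ↥(Z (j + 1)) := by
    intro j hj
    have hle := Subgroup.upperCentralSeries_mono T (Nat.le_succ j)
    obtain ⟨q, hq⟩ := Subgroup.card_dvd_of_le hle
    rcases q with _ | _ | q
    · rw [mul_zero] at hq; exact absurd hq Nat.card_pos.ne'
    · exfalso
      have heq : Z j = Z (j + 1) := Subgroup.eq_of_le_of_card_ge hle (by rw [hq]; omega)
      obtain ⟨x, hx⟩ : ∃ x, x ∉ Z j := by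
        by_contra hcon
        push Not at hcon
        have htop : Z 4 = ⊤ := (Subgroup.eq_top_iff' _).2 fun x =>
          Subgroup.upperCentralSeries_mono T (by omega) (hcon x)
        have h4 := h.four
        rw [htop, Subgroup.card_top] at h4
        have := h.big
        omega
      obtain ⟨y, -, hy, hyc⟩ := exists_step (N := ⊤) (B := Z j) h.two.isNilpotent (Subgroup.mem_top x) hx
      exact hy (heq.ge (Subgroup.mem_upperCentralSeries_succ_iff.2 hyc))
    · rw [hq, mul_comm]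
      exact Nat.mul_le_mul_left _ (by omega)
  have h0 : Nat.card ↥(Z 0) = 1 := by rw [Subgroup.upperCentralSeries_zero, Subgroup.card_bot]
  have h4 := h.four
  have h1 := hstep 0 (by omega); have h2 := hstep 1 (by omega)
  have h3 := hstep 2 (by omega); have h4' := hstep 3 (by omega)
  norm_num at h1 h2 h3 h4'
  interval_cases i <;> norm_num <;> omega

theorem Hyp.phi_le (h : Hyp T W) : phi W ≤ W := Subgroup.map_subtype_le _

theorem Hyp.card_phi_le (h : Hyp T W) : Nat.card ↥(phi W) ≤ 8 := by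
  rw [phi, Subgroup.card_map_of_injective W.subtype_injective]; exact h.small

theorem Hyp.inside' (h : Hyp T W) {U : Subgroup T} (hU : U ≤ W) (hidx : U.relIndex W ≤ 16) :
    phi W ≤ U := by
  rintro x ⟨y, hy, rfl⟩
  exact h.inside (U.subgroupOf W) hidx hy

theorem Hyp.normal_W (h : Hyp T W) : W.Normal := by
  rw [h.eqW]; exact Subgroup.normal_centralizer

theorem Hyp.normal_phi (h : Hyp T W) : (phi W).Normal := by
  haveI := h.normal_W
  haveI : (frattini ↥W).Characteristic := inferInstance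
  exact ConjAct.normal_of_characteristic_of_normal

theorem Hyp.sq_mem (h : Hyp T W) {x : T} (hx : x ∈ W) : x * x ∈ phi W := by
  haveI : Fact (Nat.Prime 2) := ⟨Nat.prime_two⟩
  refine ⟨⟨x, hx⟩ * ⟨x, hx⟩, ?_, rfl⟩
  have := (CfsgLib.PSolvable.commutator_le_frattini (h.two.to_subgroup W)).2 (⟨x, hx⟩ : W)
  rwa [pow_two] at this

theorem Hyp.comm_mem (h : Hyp T W) {x y : T} (hx : x ∈ W) (hy : y ∈ W) : ⁅x, y⁆ ∈ phi W := by
  haveI : Fact (Nat.Prime 2) := ⟨Nat.prime_two⟩
  exact ⟨⁅(⟨x, hx⟩ : W), ⟨y, hy⟩⁆, (CfsgLib.PSolvable.commutator_le_frattini (h.two.to_subgroup W)).1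
    (Subgroup.commutator_mem_commutator (Subgroup.mem_top _) (Subgroup.mem_top _)), rfl⟩

theorem Hyp.phi_le_three (h : Hyp T W) : phi W ≤ Z 3 := by
  haveI := h.normal_phi
  rcases card_le_upper h.two (phi W) 3 with h1 | h1
  · exact h1
  have := h.card_phi_le
  exact inf_eq_left.1 (Subgroup.eq_of_le_of_card_ge inf_le_left (by omega))

theorem Hyp.comm_three (h : Hyp T W) {x z : T} (hx : x ∈ W) (hz : z ∈ Z 3) : x * z = z * x := by
  rw [h.eqW] at hx
  exact (Subgroup.mem_centralizer_iff.1 hx z hz).symm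

theorem Hyp.comm_phi (h : Hyp T W) {x z : T} (hx : x ∈ W) (hz : z ∈ phi W) : x * z = z * x :=
  h.comm_three hx (h.phi_le_three hz)

theorem Hyp.comm_mul (h : Hyp T W) {x y z : T} (hx : x ∈ W) (hy : y ∈ W) (hz : z ∈ W) :
    ⁅x * y, z⁆ = ⁅x, z⁆ * ⁅y, z⁆ := by
  have h1 : ⁅x * y, z⁆ = x * ⁅y, z⁆ * x⁻¹ * ⁅x, z⁆ := by simp [commutatorElement_def, mul_assoc]
  rw [h1, h.comm_phi hx (h.comm_mem hy hz), mul_inv_cancel_right,
    h.comm_phi (h.phi_le (h.comm_mem hy hz)) (h.comm_mem hx hz)]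

theorem Hyp.comm_sq (h : Hyp T W) {x y : T} (hx : x ∈ W) (hy : y ∈ W) : ⁅x, y⁆ * ⁅x, y⁆ = 1 := by
  rw [← h.comm_mul hx hx hy, commutatorElement_eq_one_iff_mul_comm]
  exact (h.comm_phi hy (h.sq_mem hx)).symm

theorem Hyp.comm_symm (h : Hyp T W) {x y : T} (hx : x ∈ W) (hy : y ∈ W) : ⁅x, y⁆ = ⁅y, x⁆ := by
  rw [← commutatorElement_inv x y]
  exact (inv_eq_of_mul_eq_one_right (h.comm_sq hx hy)).symm

/-- two fixed cosets at most -/
theorem Hyp.fixed (h : Hyp T W) {x y : T} (hx : ∀ t, ⁅x, t⁆ ∈ phi W)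
    (hy : ∀ t, ⁅y, t⁆ ∈ phi W) (hxP : x ∉ phi W) (hyP : y ∉ phi W) : y⁻¹ * x ∈ phi W := by
  haveI : Fact (Nat.Prime 2) := ⟨Nat.prime_two⟩
  haveI := h.normal_phi
  obtain ⟨k, hk⟩ := IsPGroup.iff_card.1 (h.two.to_subgroup (phi W))
  have hk3 : k ≤ 3 := (Nat.pow_le_pow_iff_right (by norm_num : 1 < 2)).1
    (by rw [← hk]; exact h.card_phi_le)
  have hle : phi W ≤ Z k := by
    rcases card_le_upper h.two (phi W) k with h1 | h1
    · exact h1
    · exact inf_eq_left.1 (Subgroup.eq_of_le_of_card_ge inf_le_left (by omega))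
  have hPk : phi W = Z k := Subgroup.eq_of_le_of_card_ge hle (by rw [hk, h.card_Z (by omega)])
  have hx' : x ∈ Z (k + 1) := Subgroup.mem_upperCentralSeries_succ_iff.2 fun t => hPk ▸ hx t
  have hy' : y ∈ Z (k + 1) := Subgroup.mem_upperCentralSeries_succ_iff.2 fun t => hPk ▸ hy t
  have hidx : ((Z k).subgroupOf (Z (k + 1))).index = 2 := by
    have h2 := ((Z k).subgroupOf (Z (k + 1))).card_mul_index
    rw [Nat.card_congr (Subgroup.subgroupOfEquivOfLe (Subgroup.upperCentralSeries_mono T (Nat.le_succ k))).toEquiv,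
      h.card_Z (by omega), h.card_Z (by omega), pow_succ] at h2
    exact Nat.eq_of_mul_eq_mul_left (by positivity) h2
  have h3 := (Subgroup.mul_mem_iff_of_index_two hidx (a := (⟨y, hy'⟩ : Z (k + 1))⁻¹) (b := ⟨x, hx'⟩))
  simp only [Subgroup.mem_subgroupOf, Subgroup.coe_mul, Subgroup.coe_inv, inv_mem_iff] at h3
  rw [hPk] at hxP hyP ⊢
  exact h3.2 (iff_of_false hyP hxP)

/-- a big subgroup whose commutators avoid an element of the Frattini subgroup does not exist -/
theorem Hyp.not_big (h : Hyp T W) {A M0 : Subgroup T} {c : T} (hA : A ≤ W) (hM : M0 ≤ phi W)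
    (hPA : phi W ≤ A) (hc : c ∈ phi W) (hcM : c ∉ M0) (hM2 : Nat.card ↥(phi W) ≤ 2 * Nat.card M0)
    (hcomm : ∀ x ∈ A, ∀ y ∈ A, ⁅x, y⁆ ∈ M0) (hbig : Nat.card W ≤ 4 * Nat.card A) : False := by
  classical
  have hidx : (M0.subgroupOf (phi W)).index = 2 := by
    have h2 := (M0.subgroupOf (phi W)).card_mul_index
    rw [Nat.card_congr (Subgroup.subgroupOfEquivOfLe hM).toEquiv] at h2
    have hne : (M0.subgroupOf (phi W)).index ≠ 1 := fun e =>
      hcM (Subgroup.subgroupOf_eq_top.1 (Subgroup.index_eq_one.1 e) hc)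
    have hle : (M0.subgroupOf (phi W)).index ≤ 2 :=
      Nat.le_of_mul_le_mul_left (by rw [h2]; linarith) (Nat.card_pos (α := M0))
    have := Subgroup.index_ne_zero_of_finite (H := M0.subgroupOf (phi W))
    omega
  have htwo : ∀ x y, x ∈ phi W → y ∈ phi W → (x * y ∈ M0 ↔ (x ∈ M0 ↔ y ∈ M0)) := fun x y hx hy => by
    have := Subgroup.mul_mem_iff_of_index_two hidx (a := (⟨x, hx⟩ : phi W)) (b := ⟨y, hy⟩)
    simpa only [Subgroup.mem_subgroupOf, Subgroup.coe_mul] using this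
  have hsqm : ∀ x ∈ A, ∀ y ∈ A, (x * y * (x * y) ∈ M0 ↔ (x * x ∈ M0 ↔ y * y ∈ M0)) := by
    intro x hx y hy
    have heq : x * y * (x * y) = x * x * (y * y) * ⁅y, x⁆ := by
      have hcy : y * x = ⁅y, x⁆ * (x * y) := by simp [commutatorElement_def, mul_assoc]
      have hc' := fun z (hz : z ∈ W) => h.comm_phi hz (h.comm_mem (hA hy) (hA hx))
      calc x * y * (x * y) = x * (y * x) * y := by group
        _ = x * (⁅y, x⁆ * (x * y)) * y := by rw [hcy]
        _ = x * ((x * y) * ⁅y, x⁆) * y := by rw [hc' _ (W.mul_mem (hA hx) (hA hy))]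
        _ = x * (x * y) * (⁅y, x⁆ * y) := by group
        _ = x * (x * y) * (y * ⁅y, x⁆) := by rw [hc' y (hA hy)]
        _ = x * x * (y * y) * ⁅y, x⁆ := by group
    rw [heq, Subgroup.mul_mem_cancel_right _ (hcomm y hy x hx)]
    exact htwo _ _ (h.sq_mem (hA hx)) (h.sq_mem (hA hy))
  let E : Subgroup T :=
    { carrier := {x | x ∈ A ∧ x * x ∈ M0}
      one_mem' := ⟨A.one_mem, by simp⟩
      mul_mem' := fun {x y} hx hy => ⟨A.mul_mem hx.1 hy.1, (hsqm x hx.1 y hy.1).2 (iff_of_true hx.2 hy.2)⟩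
      inv_mem' := fun {x} hx => ⟨A.inv_mem hx.1, by
        rw [← mul_inv_rev]; exact M0.inv_mem hx.2⟩ }
  have hEA : E ≤ A := fun x hx => hx.1
  have hE2 : Nat.card A ≤ 2 * Nat.card E := by
    by_cases hall : ∀ x ∈ A, x * x ∈ M0
    · rw [le_antisymm (fun x hx => (⟨hx, hall x hx⟩ : x ∈ E)) hEA]; omega
    push Not at hall
    obtain ⟨a, ha, ha2⟩ := hall
    have : (E.subgroupOf A).index = 2 := by
      rw [Subgroup.index_eq_two_iff]
      refine ⟨⟨a, ha⟩, fun b => ?_⟩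
      have h3 := hsqm b b.2 a ha
      have h4 : (b : T) * a ∈ E ↔ ¬ (b : T) * b ∈ M0 := by
        refine ⟨fun hh hb => ha2 ((h3.1 hh.2).1 hb), fun hb => ⟨A.mul_mem b.2 ha, h3.2 (iff_of_false hb ha2)⟩⟩
      have h5 : (b : T) ∈ E ↔ (b : T) * b ∈ M0 := ⟨fun hh => hh.2, fun hh => ⟨b.2, hh⟩⟩
      simp only [Subgroup.mem_subgroupOf, Subgroup.coe_mul]
      by_cases hb : (b : T) * b ∈ M0
      · exact Or.inr ⟨h5.2 hb, fun hh => h4.1 hh hb⟩
      · exact Or.inl ⟨h4.2 hb, fun hh => hb (h5.1 hh)⟩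
    rw [← (E.subgroupOf A).card_mul_index, this, Nat.card_congr (Subgroup.subgroupOfEquivOfLe hEA).toEquiv, mul_comm]
  have hsqP : ∀ z ∈ M0, z * z ∈ M0 := fun z hz => M0.mul_mem hz hz
  obtain ⟨U, -, hUE, hcU, hU2⟩ := avoid (M0 := M0) (E := E) (c := c)
    (fun z hz => ⟨hPA (hM hz), hsqP z hz⟩) hcM (fun x hx => hx.2)
    (fun x hx y hy => hcomm x hx.1 y hy.1)
  have hUW : U ≤ W := hUE.trans (hEA.trans hA)
  refine hcU (h.inside' hUW ?_ hc)
  have h2 := (U.subgroupOf W).card_mul_index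
  rw [Nat.card_congr (Subgroup.subgroupOfEquivOfLe hUW).toEquiv] at h2
  refine Nat.le_of_mul_le_mul_left ?_ (Nat.card_pos (α := U))
  rw [Subgroup.relIndex, h2]
  omega

/-! ### Coordinates -/

/-- chosen generators of the series, a complementary functional and their properties -/
structure Basis (W : Subgroup T) where
  /-- first -/
  x1 : T
  /-- second -/
  x2 : T
  /-- third -/
  x3 : T
  /-- fixed coset -/
  w0 : T
  /-- functional -/
  lam : T → ZMod 2
  hx1 : x1 ∈ Subgroup.upperCentralSeries T 1 ∧ x1 ≠ 1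
  hx2 : x2 ∈ Subgroup.upperCentralSeries T 2 ∧ x2 ∉ Subgroup.upperCentralSeries T 1
  hx3 : x3 ∈ Subgroup.upperCentralSeries T 3 ∧ x3 ∉ Subgroup.upperCentralSeries T 2
  hw0 : w0 ∈ W
  hfix : ∀ t, ⁅w0, t⁆ ∈ phi W
  hw0P : w0 ∉ phi W
  hlam : ∀ x ∈ W, ∀ y ∈ W, lam (x * y) = lam x + lam y
  hlamP : ∀ x ∈ phi W, lam x = 0
  hlam0 : lam w0 = 1

theorem le_of_half [Finite T] {A B C : Subgroup T} (hAB : A ≤ B) (hc : Nat.card B = 2 * Nat.card A)
    {x : T} (hxB : x ∈ B) (hxA : x ∉ A) (hAC : A ≤ C) (hxC : x ∈ C) : B ≤ C := by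
  have hle : A ⊔ Subgroup.zpowers x ≤ B := sup_le hAB (Subgroup.zpowers_le.2 hxB)
  have heq : A ⊔ Subgroup.zpowers x = B := by
    refine Subgroup.eq_of_le_of_card_ge hle ?_
    obtain ⟨q, hq⟩ := Subgroup.card_dvd_of_le (le_sup_left : A ≤ A ⊔ Subgroup.zpowers x)
    rcases q with _ | _ | q
    · rw [mul_zero] at hq; exact absurd hq Nat.card_pos.ne'
    · refine absurd ?_ hxA
      have := Subgroup.eq_of_le_of_card_ge (le_sup_left : A ≤ A ⊔ Subgroup.zpowers x) (by omega)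
      exact this ▸ Subgroup.mem_sup_right (Subgroup.mem_zpowers x)
    · rw [hc, hq, mul_comm]
      exact Nat.mul_le_mul_left _ (by omega)
  exact heq ▸ sup_le hAC (Subgroup.zpowers_le.2 hxC)

theorem Hyp.exists_gen (h : Hyp T W) : ∃ x1 x2 x3 : T, (x1 ∈ Z 1 ∧ x1 ≠ 1) ∧
    (x2 ∈ Z 2 ∧ x2 ∉ Z 1) ∧ (x3 ∈ Z 3 ∧ x3 ∉ Z 2) := by
  have key : ∀ i, i + 1 ≤ 4 → ∃ x, x ∈ Z (i + 1) ∧ x ∉ Z i := by
    intro i hi
    refine SetLike.not_le_iff_exists.1 fun hle => ?_
    have h1 := Subgroup.card_le_of_le hle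
    rw [h.card_Z hi, h.card_Z (by omega), pow_succ] at h1
    have : 0 < 2 ^ i := by positivity
    omega
  obtain ⟨x1, h1, h1'⟩ := key 0 (by omega)
  obtain ⟨x2, h2⟩ := key 1 (by omega)
  obtain ⟨x3, h3⟩ := key 2 (by omega)
  exact ⟨x1, x2, x3, ⟨h1, fun e => h1' (e ▸ (Z 0).one_mem)⟩, h2, h3⟩

theorem Hyp.three_le (h : Hyp T W) {C : Subgroup T} {x1 x2 x3 : T} (h1 : x1 ∈ Z 1 ∧ x1 ≠ 1)
    (h2 : x2 ∈ Z 2 ∧ x2 ∉ Z 1) (h3 : x3 ∈ Z 3 ∧ x3 ∉ Z 2) (c1 : x1 ∈ C) (c2 : x2 ∈ C) (c3 : x3 ∈ C) :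
    Z 3 ≤ C := by
  have m := fun i => Subgroup.upperCentralSeries_mono T (Nat.le_succ i)
  refine le_of_half (m 2) (by rw [h.card_Z (by omega), h.card_Z (by omega)]; norm_num) h3.1 h3.2 ?_ c3
  refine le_of_half (m 1) (by rw [h.card_Z (by omega), h.card_Z (by omega)]; norm_num) h2.1 h2.2 ?_ c2
  refine le_of_half (m 0) (by rw [h.card_Z (by omega), h.card_Z (by omega)]; norm_num) h1.1 ?_ ?_ c1
  · rw [Subgroup.upperCentralSeries_zero, Subgroup.mem_bot]; exact h1.2
  · rw [Subgroup.upperCentralSeries_zero]; exact bot_le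

theorem Hyp.card_quot (h : Hyp T W) : Nat.card (T ⧸ W) ≤ 8 := by
  obtain ⟨x1, x2, x3, h1, h2, h3⟩ := h.exists_gen
  haveI := h.normal_W
  have hmove : ∀ i, ∀ x ∈ Z (i + 1), ∀ t : T, t * x * t⁻¹ * x⁻¹ ∈ Z i := fun i x hx t => by
    have := (Z i).inv_mem (Subgroup.mem_upperCentralSeries_succ_iff.1 hx t)
    rwa [commutatorElement_inv, commutatorElement_def] at this
  let f : T ⧸ W → Z 1 × Z 2 := fun q =>
    (⟨_, hmove 1 x2 h2.1 q.out⟩, ⟨_, hmove 2 x3 h3.1 q.out⟩)
  have hf : Function.Injective f := by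
    intro q r hqr
    simp only [f, Prod.mk.injEq, Subtype.mk.injEq, mul_left_inj] at hqr
    rw [← QuotientGroup.out_eq' q, ← QuotientGroup.out_eq' r, QuotientGroup.eq]
    have hfix : ∀ x, q.out * x * q.out⁻¹ = r.out * x * r.out⁻¹ →
        x ∈ Subgroup.centralizer ({q.out⁻¹ * r.out} : Set T) := fun x hx => by
      rw [Subgroup.mem_centralizer_singleton_iff]
      symm
      rw [← mul_inv_eq_iff_eq_mul]
      calc q.out⁻¹ * r.out * x * (q.out⁻¹ * r.out)⁻¹ = q.out⁻¹ * (r.out * x * r.out⁻¹) * q.out := by group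
        _ = x := by rw [← hx]; group
    have hc1 : x1 ∈ Subgroup.centralizer ({q.out⁻¹ * r.out} : Set T) := by
      rw [Subgroup.mem_centralizer_singleton_iff]
      have := h1.1
      rw [Subgroup.upperCentralSeries_one] at this
      exact (Subgroup.mem_center_iff.1 this _).symm
    have hsub := h.three_le h1 h2 h3 hc1 (hfix _ hqr.1) (hfix _ hqr.2)
    have key : q.out⁻¹ * r.out ∈ Subgroup.centralizer (Z 3 : Set T) :=
      Subgroup.mem_centralizer_iff.2 fun z hz => Subgroup.mem_centralizer_singleton_iff.1 (hsub hz)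
    rwa [← h.eqW] at key
  refine (Nat.card_le_card_of_injective f hf).trans ?_
  rw [Nat.card_prod, h.card_Z (by omega), h.card_Z (by omega)]
  norm_num

theorem Hyp.card_W_ge (h : Hyp T W) : 2 ^ 11 ≤ Nat.card W := by
  have h1 := Subgroup.card_eq_card_quotient_mul_card_subgroup W
  have h2 := Nat.mul_le_mul_right (Nat.card W) h.card_quot
  have := h.big
  omega

theorem Hyp.exists_basis (h : Hyp T W) : Nonempty (Basis W) := by
  classical
  obtain ⟨x1, x2, x3, h1, h2, h3⟩ := h.exists_gen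
  haveI := h.normal_W
  haveI := h.normal_phi
  obtain ⟨x, hxW, hxP⟩ := SetLike.not_le_iff_exists.1 (fun hle : W ≤ phi W => by
    have := Subgroup.card_le_of_le hle
    have := h.card_phi_le
    have := h.card_W_ge
    omega)
  obtain ⟨w0, hw0, hw0P, hfix⟩ := exists_step h.two.isNilpotent hxW hxP
  obtain ⟨U, hPU, hUW, hwU, hU2⟩ := avoid (E := W) h.phi_le hw0P (fun x hx => h.sq_mem hx)
    (fun x hx y hy => h.comm_mem hx hy)
  have hidx : (U.subgroupOf W).index = 2 := by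
    have hh := (U.subgroupOf W).card_mul_index
    rw [Nat.card_congr (Subgroup.subgroupOfEquivOfLe hUW).toEquiv] at hh
    have hne : (U.subgroupOf W).index ≠ 1 := fun e =>
      hwU (Subgroup.subgroupOf_eq_top.1 (Subgroup.index_eq_one.1 e) hw0)
    have hle : (U.subgroupOf W).index ≤ 2 :=
      Nat.le_of_mul_le_mul_left (by rw [hh]; linarith) (Nat.card_pos (α := U))
    have := Subgroup.index_ne_zero_of_finite (H := U.subgroupOf W)
    omega
  refine ⟨⟨x1, x2, x3, w0, fun z => if z ∈ U then 0 else 1, h1, h2, h3, hw0, hfix, hw0P,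
    fun a ha b hb => ?_, fun a ha => if_pos (hPU ha), if_neg hwU⟩⟩
  have := Subgroup.mul_mem_iff_of_index_two hidx (a := (⟨a, ha⟩ : W)) (b := ⟨b, hb⟩)
  simp only [Subgroup.mem_subgroupOf, Subgroup.coe_mul] at this
  by_cases ha' : a ∈ U <;> by_cases hb' : b ∈ U <;> simp [ha', hb', this]
  decide

/-- the image in functions on the quotient -/
noncomputable def Basis.Lam (B : Basis W) (w : T) (q : T ⧸ W) : ZMod 2 := B.lam (q.out * w * q.out⁻¹)

theorem Basis.lam_comm (h : Hyp T W) (B : Basis W) {u w : T} (hu : u ∈ W) (hw : w ∈ W) :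
    B.lam (u * w * u⁻¹) = B.lam w := by
  rw [show u * w * u⁻¹ = ⁅u, w⁆ * w by simp [commutatorElement_def, mul_assoc],
    B.hlam _ (h.phi_le (h.comm_mem hu hw)) _ hw, B.hlamP _ (h.comm_mem hu hw), zero_add]

theorem Basis.Lam_mk (h : Hyp T W) (B : Basis W) {w : T} (hw : w ∈ W) (t : T) :
    B.Lam w (t : T ⧸ W) = B.lam (t * w * t⁻¹) := by
  haveI := h.normal_W
  obtain ⟨⟨u, hu⟩, hu'⟩ := QuotientGroup.mk_out_eq_mul W t
  rw [Basis.Lam, hu']
  simp only
  rw [show t * u * w * (t * u)⁻¹ = (t * u * t⁻¹) * (t * w * t⁻¹) * (t * u * t⁻¹)⁻¹ by group]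
  exact B.lam_comm h (h.normal_W.conj_mem u hu t) (h.normal_W.conj_mem w hw t)

theorem Basis.Lam_mul (h : Hyp T W) (B : Basis W) {u w : T} (hu : u ∈ W) (hw : w ∈ W) :
    B.Lam (u * w) = B.Lam u + B.Lam w := by
  funext q
  rw [Pi.add_apply, Basis.Lam, Basis.Lam, Basis.Lam,
    ← B.hlam _ (h.normal_W.conj_mem u hu _) _ (h.normal_W.conj_mem w hw _)]
  congr 1
  group

theorem Basis.Lam_phi (h : Hyp T W) (B : Basis W) {w : T} (hw : w ∈ phi W) : B.Lam w = 0 := by
  funext q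
  exact B.hlamP _ (h.normal_phi.conj_mem w hw _)

theorem Basis.Lam_w0 (h : Hyp T W) (B : Basis W) : B.Lam B.w0 = 1 := by
  funext q
  rw [Basis.Lam, Pi.one_apply]
  have h1 : q.out * B.w0 * q.out⁻¹ = ⁅B.w0, q.out⁆⁻¹ * B.w0 := by
    rw [commutatorElement_def]; group
  rw [h1, B.hlam _ (h.phi_le ((phi W).inv_mem (B.hfix _))) _ B.hw0, B.hlamP _ ((phi W).inv_mem (B.hfix _)),
    zero_add, B.hlam0]

theorem Basis.Lam_ker (h : Hyp T W) (B : Basis W) {w : T} (hw : w ∈ W) (h0 : B.Lam w = 0) :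
    w ∈ phi W := by
  haveI := h.normal_W
  haveI := h.normal_phi
  by_contra hwP
  let K : Subgroup T :=
    { carrier := {z | z ∈ W ∧ B.Lam z = 0}
      one_mem' := ⟨W.one_mem, B.Lam_phi h (phi W).one_mem⟩
      mul_mem' := fun {a b} ha hb => ⟨W.mul_mem ha.1 hb.1, by rw [B.Lam_mul h ha.1 hb.1, ha.2, hb.2, add_zero]⟩
      inv_mem' := fun {a} ha => ⟨W.inv_mem ha.1, by
        have := B.Lam_mul h ha.1 (W.inv_mem ha.1)
        rw [mul_inv_cancel, B.Lam_phi h (phi W).one_mem, ha.2, zero_add] at this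
        exact this.symm⟩ }
  haveI : K.Normal := ⟨fun z hz g => by
    refine ⟨h.normal_W.conj_mem z hz.1 g, ?_⟩
    funext q
    have h1 : B.lam (q.out * g * z * (q.out * g)⁻¹) = 0 := by
      rw [← B.Lam_mk h hz.1, hz.2]; rfl
    rw [Basis.Lam, show q.out * (g * z * g⁻¹) * q.out⁻¹ = q.out * g * z * (q.out * g)⁻¹ by group, h1]
    rfl⟩
  obtain ⟨y, hy, hyP, hyc⟩ := exists_step (N := K) (B := phi W) h.two.isNilpotent (show w ∈ K from ⟨hw, h0⟩) hwP
  have h1 := h.fixed hyc B.hfix hyP B.hw0P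
  have h2 := B.Lam_mul h B.hw0 (h.phi_le h1)
  rw [mul_inv_cancel_left, B.Lam_phi h h1, add_zero, hy.2, B.Lam_w0 h] at h2
  exact zero_ne_one (congrFun h2 ((1 : T) : T ⧸ W))

/-- the map as a homomorphism -/
noncomputable def Basis.hom (h : Hyp T W) (B : Basis W) : W →* Multiplicative (T ⧸ W → ZMod 2) where
  toFun w := Multiplicative.ofAdd (B.Lam w)
  map_one' := by rw [Subgroup.coe_one, B.Lam_phi h (phi W).one_mem]; rfl
  map_mul' a b := by rw [Subgroup.coe_mul, B.Lam_mul h a.2 b.2]; rfl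

theorem Hyp.tight (h : Hyp T W) : Nat.card T = 2 ^ 14 ∧ Nat.card (T ⧸ W) = 8 ∧
    Nat.card ↥(phi W) = 8 ∧ Nat.card W = 2 ^ 11 ∧
    ∀ (B : Basis W) (g : T ⧸ W → ZMod 2), ∃ w ∈ W, B.Lam w = g := by
  obtain ⟨B₀⟩ := h.exists_basis
  haveI := h.normal_W
  have hker : ∀ B : Basis W, Nat.card (B.hom h).ker = Nat.card ↥(phi W) := by
    intro B
    have : (B.hom h).ker = (phi W).subgroupOf W := by
      ext ⟨w, hw⟩
      rw [MonoidHom.mem_ker, Subgroup.mem_subgroupOf]
      exact ⟨fun e => B.Lam_ker h hw e, fun e => congrArg Multiplicative.ofAdd (B.Lam_phi h e)⟩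
    rw [this, Nat.card_congr (Subgroup.subgroupOfEquivOfLe h.phi_le).toEquiv]
  have hcard : ∀ B : Basis W, Nat.card W = Nat.card ↥(phi W) * Nat.card (B.hom h).range := by
    intro B
    rw [← hker B, ← Subgroup.index_ker, Subgroup.card_mul_index]
  have hfun : Nat.card (Multiplicative (T ⧸ W → ZMod 2)) = 2 ^ Nat.card (T ⧸ W) := by
    rw [Nat.card_congr Multiplicative.toAdd, Nat.card_fun, Nat.card_zmod]
  have hrle : ∀ B : Basis W, Nat.card (B.hom h).range ≤ 2 ^ Nat.card (T ⧸ W) := fun B =>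
    hfun ▸ Nat.card_le_card_of_injective _ Subtype.val_injective
  have hT := Subgroup.card_eq_card_quotient_mul_card_subgroup W
  have ha := h.card_quot
  have hk := h.card_phi_le
  have hb := h.big
  have hq : Nat.card (T ⧸ W) = 8 := by
    by_contra hne
    have h7 : Nat.card (T ⧸ W) ≤ 7 := by omega
    have h1 : Nat.card W ≤ 8 * 2 ^ 7 := by
      rw [hcard B₀]
      exact Nat.mul_le_mul hk ((hrle B₀).trans (Nat.pow_le_pow_right (by norm_num) h7))
    have := Nat.mul_le_mul h7 h1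
    omega
  have hW : Nat.card W ≤ 8 * 2 ^ 8 := by
    rw [hcard B₀]
    exact Nat.mul_le_mul hk (hq ▸ hrle B₀)
  have hW' : Nat.card W = 2 ^ 11 := by have := h.card_W_ge; omega
  have hr : ∀ B : Basis W, Nat.card ↥(phi W) = 8 ∧ Nat.card (B.hom h).range = 2 ^ 8 := by
    intro B
    have h1 := hcard B
    have h2 := hrle B
    rw [hq] at h2
    rw [hW'] at h1
    constructor
    · by_contra hne
      have := Nat.mul_le_mul (show Nat.card ↥(phi W) ≤ 7 by omega) h2
      omega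
    · have := Nat.mul_le_mul_right (Nat.card (B.hom h).range) hk
      omega
  refine ⟨by rw [hT, hq, hW']; norm_num, hq, (hr B₀).1, hW', fun B g => ?_⟩
  have htop : (B.hom h).range = ⊤ := Subgroup.eq_top_of_le_card _ (by rw [hfun, hq, (hr B).2])
  obtain ⟨⟨w, hw⟩, hwg⟩ : Multiplicative.ofAdd g ∈ (B.hom h).range := htop ▸ Subgroup.mem_top _
  exact ⟨w, hw, hwg⟩

theorem Hyp.phi_eq (h : Hyp T W) : phi W = Z 3 :=
  Subgroup.eq_of_le_of_card_ge h.phi_le_three (by rw [h.card_Z (by omega), h.tight.2.2.1]; norm_num)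

theorem Hyp.commutator_eq (h : Hyp T W) : (commutator ↥W).map W.subtype = phi W := by
  classical
  set K := (commutator ↥W).map W.subtype with hK
  have hcm : ∀ x ∈ W, ∀ y ∈ W, ⁅x, y⁆ ∈ K := fun x hx y hy =>
    ⟨⁅(⟨x, hx⟩ : W), ⟨y, hy⟩⁆, Subgroup.commutator_mem_commutator (Subgroup.mem_top _) (Subgroup.mem_top _), rfl⟩
  have hKP : K ≤ phi W := by
    rw [hK, Subgroup.map_subtype_commutator]
    exact Subgroup.commutator_le.2 fun x hx y hy => h.comm_mem hx hy
  refine le_antisymm hKP fun c hc => ?_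
  by_contra hcK
  have hsq : ∀ z ∈ phi W, ∀ y ∈ phi W, ⁅z, y⁆ ∈ K := fun z hz y hy => hcm z (h.phi_le hz) y (h.phi_le hy)
  -- enlarge to a subgroup of index two
  obtain ⟨M0, hM0, -⟩ := Finite.exists_le_maximal
    (p := fun M : Subgroup T => K ≤ M ∧ M ≤ phi W ∧ M ≠ phi W) (a := K) ⟨le_rfl, hKP, fun e => hcK (e ▸ hc)⟩
  obtain ⟨M, -, hM⟩ := Finite.exists_le_maximal
    (p := fun M : Subgroup T => K ≤ M ∧ M ≤ phi W ∧ M ≠ phi W) (a := K) ⟨le_rfl, hKP, fun e => hcK (e ▸ hc)⟩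
  obtain ⟨hKM, hMP, hMne⟩ := hM.prop
  obtain ⟨d, hd, hdM⟩ := SetLike.not_le_iff_exists.1 (fun hh => hMne (le_antisymm hMP hh))
  have hcomm : ∀ z ∈ phi W, ∀ m ∈ M, z * m * z⁻¹ ∈ M := fun z hz m hm => by
    rw [h.comm_phi (h.phi_le hz) (hMP hm), mul_inv_cancel_right]; exact hm
  have hM2 : Nat.card ↥(phi W) ≤ 2 * Nat.card M := by
    -- squares of the elements of the Frattini subgroup lie in `M`
    have hsqM : ∀ z ∈ phi W, z * z ∈ M := by
      intro z hz
      by_contra hzM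
      haveI hn : (M.subgroupOf (phi W)).Normal := ⟨fun m hm g => hcomm g g.2 m hm⟩
      have hle : M ⊔ Subgroup.zpowers (z * z) = phi W := by
        by_contra hne
        exact hzM (hM.le_of_ge (y := M ⊔ Subgroup.zpowers (z * z))
          ⟨hKM.trans le_sup_left, sup_le hMP (Subgroup.zpowers_le.2 ((phi W).mul_mem hz hz)), hne⟩
          le_sup_left (Subgroup.mem_sup_right (Subgroup.mem_zpowers _)))
      have hnz : Subgroup.zpowers (z * z) ≤ Subgroup.normalizer (M : Set T) := by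
        refine (Subgroup.zpowers_le.2 ((phi W).mul_mem hz hz)).trans
          ((Subgroup.normal_subgroupOf_iff_le_normalizer hMP).1 hn)
      have hzmem : z ∈ M ⊔ Subgroup.zpowers (z * z) := hle.symm ▸ hz
      rw [sup_comm, ← SetLike.mem_coe, Subgroup.coe_mul_of_left_le_normalizer_right _ _ hnz] at hzmem
      obtain ⟨_, ⟨i, rfl⟩, m, hm, hzm⟩ := hzmem
      simp only at hzm
      have hzW := h.phi_le hz
      have hpow : z ^ (1 - 2 * i) ∈ M := by
        have : z ^ (1 - 2 * i) = m := by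
          rw [sub_eq_add_neg, add_comm, zpow_add, zpow_one, zpow_neg]
          nth_rw 2 [← hzm]
          rw [zpow_mul, zpow_two, inv_mul_cancel_left]
        rwa [this]
      obtain ⟨e, he⟩ := h.two z
      have hco : IsCoprime (1 - 2 * i) ((orderOf z : ℤ)) := by
        obtain ⟨j, -, hj⟩ := (Nat.dvd_prime_pow Nat.prime_two).1 (orderOf_dvd_of_pow_eq_one he)
        rw [hj]; push_cast
        exact IsCoprime.pow_right ⟨1, i, by ring⟩
      obtain ⟨u, v, huv⟩ := hco
      refine hzM (M.mul_mem ?_ ?_) <;>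
      · rw [show z = (z ^ (1 - 2 * i)) ^ u * ((z ^ (orderOf z : ℤ)) ^ v) by
          rw [← zpow_mul, ← zpow_mul, ← zpow_add, mul_comm _ u, mul_comm _ v, huv, zpow_one],
          zpow_natCast, pow_orderOf_eq_one, one_zpow, mul_one]
        exact M.zpow_mem hpow u
    obtain ⟨U, hU1, hU2, hdU, hU3⟩ := avoid (E := phi W) hMP hdM hsqM (fun x hx y hy => hKM (hsq x hx y hy))
    have : U ≤ M := hM.le_of_ge ⟨hKM.trans hU1, hU2, fun e => hdU (e ▸ hd)⟩ hU1
    exact hU3.trans (Nat.mul_le_mul_left 2 (Subgroup.card_le_of_le this))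
  exact h.not_big le_rfl hMP h.phi_le hd hdM hM2 (fun x hx y hy => hKM (hcm x hx y hy)) (by omega)

theorem Hyp.phi_elem (h : Hyp T W) {z : T} (hz : z ∈ phi W) : z * z = 1 := by
  rw [← h.commutator_eq, Subgroup.map_subtype_commutator, Subgroup.commutator_def] at hz
  induction hz using Subgroup.closure_induction with
  | mem z hz =>
    obtain ⟨x, hx, y, hy, rfl⟩ := hz
    exact h.comm_sq hx hy
  | one => simp
  | mul a b ha hb iha ihb =>
    have hmem : ∀ {c}, c ∈ Subgroup.closure {g | ∃ g₁ ∈ W, ∃ g₂ ∈ W, ⁅g₁, g₂⁆ = g} → c ∈ phi W := by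
      intro c hc
      rw [← Subgroup.commutator_def, ← Subgroup.map_subtype_commutator, h.commutator_eq] at hc
      exact hc
    have hab := h.comm_phi (h.phi_le (hmem hb)) (hmem ha)
    calc a * b * (a * b) = a * (b * a) * b := by group
      _ = a * (a * b) * b := by rw [hab]
      _ = (a * a) * (b * b) := by group
      _ = 1 := by rw [iha, ihb, one_mul]
  | inv a ha iha => rw [← mul_inv_rev, iha, inv_one]

theorem Hyp.three_elem (h : Hyp T W) {z : T} (hz : z ∈ Z 3) : z * z = 1 :=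
  h.phi_elem (h.phi_eq.ge hz)

theorem Hyp.three_comm (h : Hyp T W) {y z : T} (hy : y ∈ Z 3) (hz : z ∈ Z 3) : y * z = z * y :=
  h.comm_three (h.phi_le (h.phi_eq.ge hy)) hz

end CfsgLib.Fourteen
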