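/-
Coordinates for the quotient by `W`, invariant forms, the centre of `W`.
-/
import Mathlib
import Cfsg.Agent.Lib.PGroup.Fourteen

set_option autoImplicit false
set_option linter.style.haveILetI false
set_option linter.unusedSectionVars false

open scoped commutatorElement

namespace CfsgLib.Fourteen

variable {T : Type*} [Group T] [Finite T] {W : Subgroup T}

local notation "Z" => Subgroup.upperCentralSeries T

/-- the element of the third term with the given coordinates -/
def Basis.el (B : Basis W) (v : D8) : T := B.x1 ^ v.1.val * B.x2 ^ v.2.1.val * B.x3 ^ v.2.2.val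

theorem Basis.m1 (B : Basis W) : B.x1 ∈ Z 3 :=
  Subgroup.upperCentralSeries_mono T (by omega) B.hx1.1

theorem Basis.m2 (B : Basis W) : B.x2 ∈ Z 3 :=
  Subgroup.upperCentralSeries_mono T (by omega) B.hx2.1

theorem Basis.el_mem (B : Basis W) (v : D8) : B.el v ∈ Z 3 :=
  (Z 3).mul_mem ((Z 3).mul_mem ((Z 3).pow_mem B.m1 _) ((Z 3).pow_mem B.m2 _)) ((Z 3).pow_mem B.hx3.1 _)

theorem pow_val_add {x : T} (hx : x * x = 1) (a b : ZMod 2) :
    x ^ (a + b).val = x ^ a.val * x ^ b.val := by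
  have : ∀ z : ZMod 2, z = 0 ∨ z = 1 := by decide
  rcases this a with rfl | rfl <;> rcases this b with rfl | rfl
  · simp
  · simp
  · simp
  · rw [show ((1 : ZMod 2) + 1).val = 0 from rfl, show (1 : ZMod 2).val = 1 from rfl, pow_zero, pow_one, hx]

theorem Basis.el_add (h : Hyp T W) (B : Basis W) (u v : D8) :
    B.el (u.1 + v.1, u.2.1 + v.2.1, u.2.2 + v.2.2) = B.el u * B.el v := by
  simp only [Basis.el, pow_val_add (h.three_elem B.m1), pow_val_add (h.three_elem B.m2),
    pow_val_add (h.three_elem B.hx3.1)]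
  have c21 := (show Commute B.x2 B.x1 from h.three_comm B.m2 B.m1).pow_pow u.2.1.val v.1.val
  have c31 := (show Commute B.x3 B.x1 from h.three_comm B.hx3.1 B.m1).pow_pow u.2.2.val v.1.val
  have c32 := (show Commute B.x3 B.x2 from h.three_comm B.hx3.1 B.m2).pow_pow u.2.2.val v.2.1.val
  calc B.x1 ^ u.1.val * B.x1 ^ v.1.val * (B.x2 ^ u.2.1.val * B.x2 ^ v.2.1.val) *
        (B.x3 ^ u.2.2.val * B.x3 ^ v.2.2.val)
      = B.x1 ^ u.1.val * (B.x1 ^ v.1.val * B.x2 ^ u.2.1.val) *
          (B.x2 ^ v.2.1.val * B.x3 ^ u.2.2.val) * B.x3 ^ v.2.2.val := by group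
    _ = B.x1 ^ u.1.val * B.x2 ^ u.2.1.val * (B.x1 ^ v.1.val * B.x3 ^ u.2.2.val) *
          B.x2 ^ v.2.1.val * B.x3 ^ v.2.2.val := by rw [c21.symm.eq, c32.symm.eq]; group
    _ = B.x1 ^ u.1.val * B.x2 ^ u.2.1.val * B.x3 ^ u.2.2.val *
          (B.x1 ^ v.1.val * B.x2 ^ v.2.1.val * B.x3 ^ v.2.2.val) := by rw [c31.symm.eq]; group

theorem Basis.el_bij (h : Hyp T W) (B : Basis W) :
    Function.Bijective (fun v : D8 => (⟨B.el v, B.el_mem v⟩ : Z 3)) := by
  have hsurj : ∀ z ∈ Z 3, ∃ v, B.el v = z := by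
    intro z hz
    let C : Subgroup T :=
      { carrier := Set.range B.el
        one_mem' := ⟨(0, 0, 0), by simp [Basis.el]⟩
        mul_mem' := by rintro _ _ ⟨u, rfl⟩ ⟨v, rfl⟩; exact ⟨_, B.el_add h u v⟩
        inv_mem' := by
          rintro _ ⟨u, rfl⟩
          exact ⟨u, (inv_eq_of_mul_eq_one_right (h.three_elem (B.el_mem u))).symm⟩ }
    exact h.three_le (C := C) B.hx1 B.hx2 B.hx3
      ⟨(1, 0, 0), by simp [Basis.el, show (1 : ZMod 2).val = 1 from rfl]⟩
      ⟨(0, 1, 0), by simp [Basis.el, show (1 : ZMod 2).val = 1 from rfl]⟩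
      ⟨(0, 0, 1), by simp [Basis.el, show (1 : ZMod 2).val = 1 from rfl]⟩ hz
  refine (Nat.bijective_iff_surjective_and_card _).2 ⟨fun z => ?_, ?_⟩
  · obtain ⟨v, hv⟩ := hsurj z z.2
    exact ⟨v, Subtype.ext hv⟩
  · rw [h.card_Z (by omega), Nat.card_eq_fintype_card]; decide +kernel

theorem Basis.el_inj (h : Hyp T W) (B : Basis W) {u v : D8} (e : B.el u = B.el v) : u = v :=
  (B.el_bij h).1 (Subtype.ext e)

theorem Basis.el_surj (h : Hyp T W) (B : Basis W) {z : T} (hz : z ∈ Z 3) : ∃ v, B.el v = z := by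
  obtain ⟨v, hv⟩ := (B.el_bij h).2 ⟨z, hz⟩
  exact ⟨v, congrArg Subtype.val hv⟩

theorem two_cases {A : Subgroup T} {x z : T} (hA : Nat.card A = 2) (hx : x ∈ A) (hx1 : x ≠ 1)
    (hz : z ∈ A) : ∃ a : ZMod 2, z = x ^ a.val := by
  obtain ⟨y, hy, hu⟩ := (Nat.card_eq_two_iff' (1 : A)).1 hA
  by_cases hz1 : z = 1
  · exact ⟨0, by simp [hz1]⟩
  · refine ⟨1, ?_⟩
    have h1 := hu ⟨z, hz⟩ fun e => hz1 (congrArg Subtype.val e)
    have h2 := hu ⟨x, hx⟩ fun e => hx1 (congrArg Subtype.val e)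
    rw [show (1 : ZMod 2).val = 1 from rfl, pow_one]
    exact congrArg Subtype.val (h1.trans h2.symm)

theorem Basis.exists_code (h : Hyp T W) (B : Basis W) (t : T) : ∃ s : D8,
    t * B.x2 * t⁻¹ = B.el (s.1, 1, 0) ∧ t * B.x3 * t⁻¹ = B.el (s.2.2, s.2.1, 1) := by
  have hmove : ∀ i, ∀ x ∈ Z (i + 1), t * x * t⁻¹ * x⁻¹ ∈ Z i := fun i x hx => by
    have := (Z i).inv_mem (Subgroup.mem_upperCentralSeries_succ_iff.1 hx t)
    rwa [commutatorElement_inv, commutatorElement_def] at this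
  obtain ⟨a, ha⟩ := two_cases (h.card_Z (i := 1) (by omega)) B.hx1.1 B.hx1.2 (hmove 1 B.x2 B.hx2.1)
  obtain ⟨⟨c, b, e⟩, hv⟩ := B.el_surj h (Subgroup.upperCentralSeries_mono T (by omega : 2 ≤ 3)
    (hmove 2 B.x3 B.hx3.1))
  have he : e = 0 := by
    have : ∀ z : ZMod 2, z = 0 ∨ z = 1 := by decide
    rcases this e with rfl | rfl
    · rfl
    exfalso
    refine B.hx3.2 ?_
    have h1 : B.el (c, b, 1) ∈ Z 2 := hv ▸ hmove 2 B.x3 B.hx3.1
    rw [Basis.el] at h1
    simp only [show (1 : ZMod 2).val = 1 from rfl, pow_one] at h1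
    exact (Subgroup.mul_mem_cancel_left _ ((Z 2).mul_mem ((Z 2).pow_mem
      (Subgroup.upperCentralSeries_mono T (by omega) B.hx1.1) _) ((Z 2).pow_mem B.hx2.1 _))).1 h1
  subst he
  refine ⟨(a, b, c), ?_, ?_⟩
  · rw [← inv_mul_cancel_right (t * B.x2 * t⁻¹) B.x2, Basis.el]
    simp only [ha, show (1 : ZMod 2).val = 1 from rfl, ZMod.val_zero, pow_one, pow_zero, mul_one]
  · rw [← inv_mul_cancel_right (t * B.x3 * t⁻¹) B.x3, ← hv, Basis.el, Basis.el]
    simp only [show (1 : ZMod 2).val = 1 from rfl, ZMod.val_zero, pow_one, pow_zero, mul_one]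

/-- the coordinates of `t` modulo `W` -/
noncomputable def Basis.code (h : Hyp T W) (B : Basis W) (t : T) : D8 := (B.exists_code h t).choose

theorem Basis.conj_el (h : Hyp T W) (B : Basis W) (t : T) (v : D8) :
    t * B.el v * t⁻¹ = B.el (v.1 + (B.code h t).1 * v.2.1 + (B.code h t).2.2 * v.2.2,
      v.2.1 + (B.code h t).2.1 * v.2.2, v.2.2) := by
  obtain ⟨hs2, hs3⟩ : t * B.x2 * t⁻¹ = B.el ((B.code h t).1, 1, 0) ∧
      t * B.x3 * t⁻¹ = B.el ((B.code h t).2.2, (B.code h t).2.1, 1) := (B.exists_code h t).choose_spec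
  generalize B.code h t = s at hs2 hs3 ⊢
  obtain ⟨a, b, c⟩ := s
  obtain ⟨i, j, k⟩ := v
  have h1 : t * B.x1 * t⁻¹ = B.x1 := by
    have := B.hx1.1
    rw [Subgroup.upperCentralSeries_one] at this
    rw [Subgroup.mem_center_iff.1 this t, mul_inv_cancel_right]
  have hsplit : B.el (i + a * j + c * k, j + b * k, k) =
      B.el (i, 0, 0) * B.el (a * j, j, 0) * B.el (c * k, b * k, k) := by
    rw [← B.el_add h, ← B.el_add h]
    simp
  have he1 : t * B.x1 ^ i.val * t⁻¹ = B.el (i, 0, 0) := by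
    rw [← conj_pow, h1, Basis.el]; simp
  have hcases : ∀ z : ZMod 2, z = 0 ∨ z = 1 := by decide
  have he2 : t * B.x2 ^ j.val * t⁻¹ = B.el (a * j, j, 0) := by
    rcases hcases j with rfl | rfl
    · simp [Basis.el]
    · simpa [show (1 : ZMod 2).val = 1 from rfl] using hs2
  have he3 : t * B.x3 ^ k.val * t⁻¹ = B.el (c * k, b * k, k) := by
    rcases hcases k with rfl | rfl
    · simp [Basis.el]
    · simpa [show (1 : ZMod 2).val = 1 from rfl] using hs3
  rw [hsplit, ← he1, ← he2, ← he3, Basis.el]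
  group

theorem Basis.code_mul (h : Hyp T W) (B : Basis W) (s t : T) :
    B.code h (s * t) = dmul (B.code h s) (B.code h t) := by
  have key : ∀ v : D8, B.el (v.1 + (B.code h (s * t)).1 * v.2.1 + (B.code h (s * t)).2.2 * v.2.2,
      v.2.1 + (B.code h (s * t)).2.1 * v.2.2, v.2.2) =
      B.el ((v.1 + (B.code h t).1 * v.2.1 + (B.code h t).2.2 * v.2.2) +
        (B.code h s).1 * (v.2.1 + (B.code h t).2.1 * v.2.2) + (B.code h s).2.2 * v.2.2,
        (v.2.1 + (B.code h t).2.1 * v.2.2) + (B.code h s).2.1 * v.2.2, v.2.2) := fun v => by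
    have h2 := B.conj_el h s (v.1 + (B.code h t).1 * v.2.1 + (B.code h t).2.2 * v.2.2,
      v.2.1 + (B.code h t).2.1 * v.2.2, v.2.2)
    simp only at h2
    rw [← B.conj_el h (s * t) v, ← h2, ← B.conj_el h t]
    group
  have k2 := B.el_inj h (key (0, 1, 0))
  have k3 := B.el_inj h (key (0, 0, 1))
  simp only [Prod.mk.injEq, mul_one, mul_zero, zero_add, add_zero, and_true] at k2 k3
  refine Prod.ext ?_ (Prod.ext ?_ ?_)
  · exact k2.trans (add_comm _ _)
  · exact k3.2.trans (add_comm _ _)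
  · rw [k3.1]; simp only [dmul]; ring

theorem Basis.code_one (h : Hyp T W) (B : Basis W) : B.code h 1 = (0, 0, 0) := by
  have h1 := B.code_mul h 1 1
  rw [one_mul] at h1
  have : ∀ s : D8, s = dmul s s → s = (0, 0, 0) := by decide
  exact this _ h1

theorem Basis.code_inv (h : Hyp T W) (B : Basis W) (t : T) : B.code h t⁻¹ = dinv (B.code h t) := by
  have h1 := B.code_mul h t t⁻¹
  rw [mul_inv_cancel, B.code_one h, ← (dmul_dinv (B.code h t)).1] at h1
  exact ((dmul_cancel (B.code h t⁻¹) (dinv (B.code h t)) (B.code h t)).2.1 h1.symm)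

theorem Basis.code_eq_zero (h : Hyp T W) (B : Basis W) {t : T} :
    B.code h t = (0, 0, 0) ↔ t ∈ W := by
  constructor
  · intro h0
    rw [h.eqW, Subgroup.mem_centralizer_iff]
    intro z hz
    obtain ⟨v, rfl⟩ := B.el_surj h hz
    have := B.conj_el h t v
    rw [h0] at this
    simp only [zero_mul, add_zero] at this
    exact (mul_inv_eq_iff_eq_mul.1 this).symm
  · intro ht
    have h2 := B.conj_el h t (0, 1, 0)
    have h3 := B.conj_el h t (0, 0, 1)
    rw [h.comm_three ht (B.el_mem _), mul_inv_cancel_right] at h2 h3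
    have k2 := B.el_inj h h2
    have k3 := B.el_inj h h3
    simp only [Prod.mk.injEq, mul_one, mul_zero, zero_add, add_zero, and_true] at k2 k3
    exact Prod.ext k2.symm (Prod.ext k3.2.symm k3.1.symm)

theorem Basis.code_eq (h : Hyp T W) (B : Basis W) {s t : T} :
    B.code h s = B.code h t ↔ s⁻¹ * t ∈ W := by
  rw [← B.code_eq_zero h, B.code_mul h, B.code_inv h, ← (dmul_dinv (B.code h s)).2,
    (dmul_cancel (B.code h t) (B.code h s) (dinv (B.code h s))).2]
  exact eq_comm

theorem Basis.code_surj (h : Hyp T W) (B : Basis W) (s : D8) : ∃ t, B.code h t = s := by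
  haveI := h.normal_W
  let f : T ⧸ W → D8 := fun q => B.code h q.out
  have hf : Function.Injective f := fun q r e => by
    rw [← QuotientGroup.out_eq' q, ← QuotientGroup.out_eq' r, QuotientGroup.eq]
    exact (B.code_eq h).1 e
  have hb : Function.Bijective f := (Nat.bijective_iff_injective_and_card f).2
    ⟨hf, by rw [h.tight.2.1, Nat.card_eq_fintype_card]; decide +kernel⟩
  obtain ⟨q, hq⟩ := hb.2 s
  exact ⟨q.out, hq⟩

/-- representatives -/
noncomputable def Basis.rep (h : Hyp T W) (B : Basis W) (s : D8) : T := (B.code_surj h s).choose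

theorem Basis.code_rep (h : Hyp T W) (B : Basis W) (s : D8) : B.code h (B.rep h s) = s :=
  (B.code_surj h s).choose_spec

/-- the value of `w` as function on the coordinates -/
noncomputable def Basis.val (h : Hyp T W) (B : Basis W) (w : T) (g : D8) : ZMod 2 :=
  B.Lam w ((B.rep h g : T) : T ⧸ W)

theorem Basis.val_eq (h : Hyp T W) (B : Basis W) {w : T} (hw : w ∈ W) (t : T) :
    B.val h w (B.code h t) = B.lam (t * w * t⁻¹) := by
  have : ((B.rep h (B.code h t) : T) : T ⧸ W) = (t : T ⧸ W) :=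
    QuotientGroup.eq.2 ((B.code_eq h).1 (B.code_rep h _))
  rw [Basis.val, this, B.Lam_mk h hw]

theorem Basis.val_mul (h : Hyp T W) (B : Basis W) {u w : T} (hu : u ∈ W) (hw : w ∈ W) (g : D8) :
    B.val h (u * w) g = B.val h u g + B.val h w g := by
  rw [Basis.val, B.Lam_mul h hu hw]; rfl

theorem Basis.val_conj (h : Hyp T W) (B : Basis W) {w : T} (hw : w ∈ W) (u : T) (g : D8) :
    B.val h (u * w * u⁻¹) g = B.val h w (dmul g (B.code h u)) := by
  rw [← B.code_rep h g, ← B.code_mul h, B.val_eq h (h.normal_W.conj_mem w hw u), B.val_eq h hw]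
  congr 1
  group

theorem Basis.mem_phi_of_val (h : Hyp T W) (B : Basis W) {w : T} (hw : w ∈ W)
    (h0 : ∀ g, B.val h w g = 0) : w ∈ phi W := by
  refine B.Lam_ker h hw (funext fun q => ?_)
  have := h0 (B.code h q.out)
  rw [B.val_eq h hw] at this
  exact this

theorem Basis.val_phi (h : Hyp T W) (B : Basis W) {w : T} (hw : w ∈ phi W) (g : D8) :
    B.val h w g = 0 := by
  rw [Basis.val, B.Lam_phi h hw]; rfl

theorem Basis.val_w0 (h : Hyp T W) (B : Basis W) (g : D8) : B.val h B.w0 g = 1 := by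
  rw [Basis.val, B.Lam_w0 h]; rfl

theorem Basis.val_surj (h : Hyp T W) (B : Basis W) (f : D8 → ZMod 2) :
    ∃ w ∈ W, ∀ g, B.val h w g = f g := by
  obtain ⟨w, hw, hwf⟩ := h.tight.2.2.2.2 B (fun q => f (B.code h q.out))
  refine ⟨w, hw, fun g => ?_⟩
  rw [Basis.val, hwf]
  show f _ = f g
  congr 1
  have h1 : ((((B.rep h g : T) : T ⧸ W).out : T) : T ⧸ W) = ((B.rep h g : T) : T ⧸ W) := QuotientGroup.out_eq' _
  rw [(B.code_eq h).2 (QuotientGroup.eq.1 h1), B.code_rep]

/-! ### The invariant forms -/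

/-- the last coordinate on the third term -/
noncomputable def Basis.mu (h : Hyp T W) (B : Basis W) (z : T) : ZMod 2 := by
  classical
  exact if hz : z ∈ Subgroup.upperCentralSeries T 3 then (B.el_surj h hz).choose.2.2 else 0

theorem Basis.mu_el (h : Hyp T W) (B : Basis W) (v : D8) : B.mu h (B.el v) = v.2.2 := by
  rw [Basis.mu, dif_pos (B.el_mem v), B.el_inj h (B.el_surj h (B.el_mem v)).choose_spec]

theorem Basis.mu_mul (h : Hyp T W) (B : Basis W) {y z : T} (hy : y ∈ phi W) (hz : z ∈ phi W) :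
    B.mu h (y * z) = B.mu h y + B.mu h z := by
  obtain ⟨u, rfl⟩ := B.el_surj h (h.phi_eq.le hy)
  obtain ⟨v, rfl⟩ := B.el_surj h (h.phi_eq.le hz)
  rw [← B.el_add h, B.mu_el, B.mu_el, B.mu_el]

theorem Basis.mu_conj (h : Hyp T W) (B : Basis W) {z : T} (hz : z ∈ phi W) (t : T) :
    B.mu h (t * z * t⁻¹) = B.mu h z := by
  obtain ⟨v, rfl⟩ := B.el_surj h (h.phi_eq.le hz)
  rw [B.conj_el h, B.mu_el, B.mu_el]

theorem Basis.mu_one (h : Hyp T W) (B : Basis W) : B.mu h 1 = 0 := by
  have h1 := B.mu_el h (0, 0, 0)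
  rwa [show B.el (0, 0, 0) = 1 by simp [Basis.el]] at h1

theorem Basis.mu_fixed (h : Hyp T W) (B : Basis W) {z t : T} (hz : z ∈ phi W)
    (hfix : t * z * t⁻¹ = z) (hb : (B.code h t).2.1 = 1) : B.mu h z = 0 := by
  obtain ⟨v, rfl⟩ := B.el_surj h (h.phi_eq.le hz)
  rw [B.conj_el h] at hfix
  have := congrArg (fun x : D8 => x.2.1) (B.el_inj h hfix)
  simp only [hb, one_mul] at this
  rw [B.mu_el]
  linear_combination this

/-- the alternating form -/
noncomputable def Basis.bf (h : Hyp T W) (B : Basis W) (x y : T) : ZMod 2 := B.mu h ⁅x, y⁆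

/-- the quadratic form -/
noncomputable def Basis.qf (h : Hyp T W) (B : Basis W) (x : T) : ZMod 2 := B.mu h (x * x)

theorem Basis.bf_symm (h : Hyp T W) (B : Basis W) {x y : T} (hx : x ∈ W) (hy : y ∈ W) :
    B.bf h x y = B.bf h y x := by rw [Basis.bf, Basis.bf, h.comm_symm hx hy]

theorem Basis.bf_mul (h : Hyp T W) (B : Basis W) {x y z : T} (hx : x ∈ W) (hy : y ∈ W) (hz : z ∈ W) :
    B.bf h (x * y) z = B.bf h x z + B.bf h y z := by
  rw [Basis.bf, h.comm_mul hx hy hz, B.mu_mul h (h.comm_mem hx hz) (h.comm_mem hy hz)]; rfl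

theorem Basis.bf_phi (h : Hyp T W) (B : Basis W) {x z : T} (hx : x ∈ phi W) (hz : z ∈ W) :
    B.bf h x z = 0 := by
  rw [Basis.bf, commutatorElement_eq_one_iff_mul_comm.2 (h.comm_phi hz hx).symm, B.mu_one]

theorem Basis.bf_congr (h : Hyp T W) (B : Basis W) {x x' z : T} (hx : x ∈ W) (hx' : x' ∈ W) (hz : z ∈ W)
    (he : ∀ g, B.val h x g = B.val h x' g) : B.bf h x z = B.bf h x' z := by
  have hsq : ∀ a : ZMod 2, a + a = 0 := by decide
  have hmem : x'⁻¹ * x ∈ phi W := B.mem_phi_of_val h (W.mul_mem (W.inv_mem hx') hx) fun g => by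
    have h1 := B.val_mul h hx' (W.mul_mem (W.inv_mem hx') hx) g
    rw [mul_inv_cancel_left, he] at h1
    linear_combination -h1
  have h2 := B.bf_mul h hx' (h.phi_le hmem) hz
  rw [mul_inv_cancel_left, B.bf_phi h hmem hz, add_zero] at h2
  exact h2

theorem Basis.bf_conj (h : Hyp T W) (B : Basis W) {x y : T} (hx : x ∈ W) (hy : y ∈ W) (t : T) :
    B.bf h (t * x * t⁻¹) (t * y * t⁻¹) = B.bf h x y := by
  rw [Basis.bf, ← conjugate_commutatorElement, B.mu_conj h (h.comm_mem hx hy)]; rfl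

theorem Basis.qf_mul (h : Hyp T W) (B : Basis W) {x y : T} (hx : x ∈ W) (hy : y ∈ W) :
    B.qf h (x * y) = B.qf h x + B.qf h y + B.bf h x y := by
  have hcy : y * x = ⁅y, x⁆ * (x * y) := by simp [commutatorElement_def, mul_assoc]
  have heq : x * y * (x * y) = x * x * (y * y) * ⁅y, x⁆ := by
    calc x * y * (x * y) = x * (y * x) * y := by group
      _ = x * (⁅y, x⁆ * (x * y)) * y := by rw [hcy]
      _ = x * ((x * y) * ⁅y, x⁆) * y := by rw [h.comm_phi (W.mul_mem hx hy) (h.comm_mem hy hx)]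
      _ = x * (x * y) * (⁅y, x⁆ * y) := by group
      _ = x * (x * y) * (y * ⁅y, x⁆) := by rw [h.comm_phi hy (h.comm_mem hy hx)]
      _ = x * x * (y * y) * ⁅y, x⁆ := by group
  rw [Basis.qf, heq, B.mu_mul h ((phi W).mul_mem (h.sq_mem hx) (h.sq_mem hy)) (h.comm_mem hy hx),
    B.mu_mul h (h.sq_mem hx) (h.sq_mem hy), ← h.comm_symm hx hy]
  rfl

theorem Hyp.center_le (h : Hyp T W) {z : T} (hz : z ∈ W) (hzc : ∀ w ∈ W, z * w = w * z) :
    z ∈ phi W := by
  classical
  by_contra hzP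
  obtain ⟨B⟩ := h.exists_basis
  haveI := h.normal_W
  haveI := h.normal_phi
  -- the fixed coset is central
  have hw0 : ∀ w ∈ W, ⁅B.w0, w⁆ = 1 := by
    set C := W ⊓ Subgroup.centralizer (W : Set T) with hC
    haveI : C.Normal := inferInstance
    obtain ⟨y, hy, hyP, hyc⟩ := exists_step (N := C) (B := phi W) h.two.isNilpotent
      (show z ∈ C from ⟨hz, Subgroup.mem_centralizer_iff.2 fun w hw => (hzc w hw).symm⟩) hzP
    have h1 := h.fixed B.hfix hyc B.hw0P hyP
    intro w hw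
    rw [commutatorElement_eq_one_iff_mul_comm]
    have h3 : Commute y w := (Subgroup.mem_centralizer_iff.1 hy.2 w hw).symm
    have h4 : Commute (y⁻¹ * B.w0) w := (h.comm_phi hw h1).symm
    have := h3.mul_left h4
    rw [mul_inv_cancel_left] at this
    exact this
  have hbw0 : ∀ w ∈ W, B.bf h B.w0 w = 0 := fun w hw => by rw [Basis.bf, hw0 w hw, B.mu_one]
  obtain ⟨e1, he1, hv1⟩ := B.val_surj h (fun g => if g = (0, 0, 0) then 1 else 0)
  set e : D8 → T := fun g => (B.rep h g)⁻¹ * e1 * B.rep h g with he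
  have heW : ∀ g, e g ∈ W := fun g => by
    have := h.normal_W.conj_mem e1 he1 (B.rep h g)⁻¹
    rwa [inv_inv] at this
  have hev : ∀ k g, B.val h (e k) g = if g = k then 1 else 0 := by
    intro k g
    have := B.val_conj h he1 (B.rep h k)⁻¹ g
    rw [inv_inv] at this
    rw [show e k = (B.rep h k)⁻¹ * e1 * B.rep h k from rfl, this, hv1, B.code_inv h, B.code_rep h]
    refine if_congr ?_ rfl rfl
    rw [← (dmul_dinv k).1]
    exact (dmul_cancel g k (dinv k)).1
  set φ : D8 → ZMod 2 := fun k => B.bf h (e k) e1 with hφ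
  have hφt : ∀ t : T, B.bf h (t⁻¹ * e1 * t) e1 = φ (B.code h t) := by
    intro t
    have hWt : t⁻¹ * e1 * t ∈ W := by
      have := h.normal_W.conj_mem e1 he1 t⁻¹
      rwa [inv_inv] at this
    refine B.bf_congr h hWt (heW _) he1 fun g => ?_
    have := B.val_conj h he1 t⁻¹ g
    rw [inv_inv] at this
    rw [this, hev, hv1, B.code_inv h]
    refine if_congr ?_ rfl rfl
    rw [← (dmul_dinv (B.code h t)).1]
    exact (dmul_cancel g (B.code h t) (dinv (B.code h t))).1
  have hbee : ∀ g k, B.bf h (e g) (e k) = φ (dmul g (dinv k)) := by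
    intro g k
    rw [← B.bf_conj h (heW g) (heW k) (B.rep h k)]
    have h1 : B.rep h k * e k * (B.rep h k)⁻¹ = e1 := by simp only [he]; group
    have h2 : B.rep h k * e g * (B.rep h k)⁻¹ =
        (B.rep h g * (B.rep h k)⁻¹)⁻¹ * e1 * (B.rep h g * (B.rep h k)⁻¹) := by simp only [he]; group
    rw [h1, h2, hφt, B.code_mul h, B.code_inv h, B.code_rep h, B.code_rep h]
  have hφ1 : φ (0, 0, 0) = 0 := by
    rw [← B.code_one h, ← hφt]
    simp [Basis.bf, B.mu_one]
  have hφs : ∀ g, φ (dinv g) = φ g := by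
    intro g
    have h1 := B.bf_symm h (heW g) (heW (0, 0, 0))
    rw [hbee, hbee] at h1
    rw [show ∀ g : D8, dmul g (dinv (0, 0, 0)) = g by decide,
      show ∀ g : D8, dmul (0, 0, 0) (dinv g) = dinv g by decide] at h1
    exact h1.symm
  have hinv : ∀ g : D8, dinv g = g → g.2.1 = 1 → φ g = 0 := by
    intro g hg hgb
    set t := B.rep h g with ht
    have hWt : t⁻¹ * e1 * t ∈ W := heW g
    have hWt' : t * e1 * t⁻¹ ∈ W := h.normal_W.conj_mem e1 he1 t
    refine B.mu_fixed h (h.comm_mem hWt he1) (t := t) ?_ (by rw [ht, B.code_rep]; exact hgb)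
    rw [conjugate_commutatorElement, show t * (t⁻¹ * e1 * t) * t⁻¹ = e1 by group,
      h.comm_symm he1 hWt']
    -- the two conjugates agree modulo the Frattini subgroup
    have hmem : (t⁻¹ * e1 * t)⁻¹ * (t * e1 * t⁻¹) ∈ phi W := by
      refine B.mem_phi_of_val h (W.mul_mem (W.inv_mem hWt) hWt') fun k => ?_
      have h1 := B.val_mul h hWt (W.mul_mem (W.inv_mem hWt) hWt') k
      rw [mul_inv_cancel_left] at h1
      have h2 := B.val_conj h he1 t k
      have h3 := B.val_conj h he1 t⁻¹ k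
      rw [inv_inv] at h3
      rw [B.code_inv h, ht, B.code_rep, hg] at h3
      rw [ht, B.code_rep] at h2
      rw [h2, h3] at h1
      linear_combination -h1
    have h4 := h.comm_mul hWt (h.phi_le hmem) he1
    rw [mul_inv_cancel_left, commutatorElement_eq_one_iff_mul_comm.2 (h.comm_phi he1 hmem).symm,
      mul_one] at h4
    exact h4
  -- lifts of sums of basis vectors
  let lift : List D8 → T := fun l => (l.map e).prod
  have hliftW : ∀ l, lift l ∈ W := fun l => by
    refine W.list_prod_mem fun x hx => ?_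
    obtain ⟨g, -, rfl⟩ := List.mem_map.1 hx
    exact heW g
  have hliftv : ∀ l g, B.val h (lift l) g = indic l g := by
    intro l g
    induction l with
    | nil => exact B.val_phi h (phi W).one_mem g
    | cons k l ih =>
      show B.val h (e k * lift l) g = _
      rw [B.val_mul h (heW k) (hliftW l), hev, ih]
      simp [indic]
  have hliftb : ∀ l y, y ∈ W → B.bf h (lift l) y = (l.map fun g => B.bf h (e g) y).sum := by
    intro l y hy
    induction l with
    | nil => exact B.bf_phi h (phi W).one_mem hy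
    | cons k l ih =>
      show B.bf h (e k * lift l) y = _
      rw [B.bf_mul h (heW k) (hliftW l) hy, ih]
      simp
  have hliftbb : ∀ u v, B.bf h (lift u) (lift v) = bval φ u v := by
    intro u v
    rw [hliftb u _ (hliftW v), bval]
    refine congrArg List.sum (List.map_congr_left fun g _ => ?_)
    rw [B.bf_symm h (heW g) (hliftW v), hliftb v _ (heW g)]
    refine congrArg List.sum (List.map_congr_left fun k _ => ?_)
    rw [B.bf_symm h (heW k) (heW g), hbee]
  set c := B.qf h e1 with hcdef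
  have hqe : ∀ g, B.qf h (e g) = c := fun g => by
    have h0 := B.mu_conj h (h.sq_mem he1) (B.rep h g)⁻¹
    rw [hcdef, Basis.qf, Basis.qf, ← h0]
    congr 1
    simp only [he]; group
  have hliftq : ∀ l, B.qf h (lift l) = qval c φ l := by
    intro l
    induction l with
    | nil => simp [lift, Basis.qf, qval, B.mu_one]
    | cons k l ih =>
      show B.qf h (e k * lift l) = _
      rw [B.qf_mul h (heW k) (hliftW l), ih, hqe, qval]
      congr 1
      have := hliftbb [k] l
      simpa [lift] using this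
  have hsum : (allD.map φ).sum = 0 := by
    rw [← hliftb allD e1 he1, B.bf_congr h (hliftW _) B.hw0 he1 (fun g => by rw [hliftv, indic_allD, B.val_w0])]
    exact hbw0 _ he1
  obtain ⟨hq, hb⟩ := wit_good c φ hφ1 hφs (hinv (0, 1, 0) (by decide) rfl) (hinv (0, 1, 1) (by decide) rfl) hsum
  -- the singular subgroup
  let M0 : Subgroup T :=
    { carrier := {y | y ∈ phi W ∧ B.mu h y = 0}
      one_mem' := ⟨(phi W).one_mem, B.mu_one h⟩
      mul_mem' := fun {a b} ha hb => ⟨(phi W).mul_mem ha.1 hb.1, by rw [B.mu_mul h ha.1 hb.1, ha.2, hb.2, add_zero]⟩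
      inv_mem' := fun {a} ha => ⟨(phi W).inv_mem ha.1, by
        rw [inv_eq_of_mul_eq_one_right (h.phi_elem ha.1)]; exact ha.2⟩ }
  let wi : Fin 5 → T := fun i => lift (wit.getD i [])
  have hwmem : ∀ i : Fin 5, wit.getD i [] ∈ wit := by decide
  let U : Subgroup T := M0 ⊔ Subgroup.closure (Set.range wi)
  have hUW : U ≤ W := sup_le (fun y hy => h.phi_le hy.1) ((Subgroup.closure_le W).2
    (by rintro _ ⟨i, rfl⟩; exact hliftW _))
  have hwiW : ∀ i, wi i ∈ W := fun i => hliftW _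
  have hgen : ∀ {C : Subgroup T}, (∀ y ∈ M0, y ∈ C) → (∀ i, wi i ∈ C) → U ≤ C := fun hM hi =>
    sup_le hM ((Subgroup.closure_le _).2 (by rintro _ ⟨i, rfl⟩; exact hi i))
  have hbinv : ∀ y z, y ∈ W → z ∈ W → B.bf h y⁻¹ z = B.bf h y z := fun y z hy hz => by
    have h1 := B.bf_mul h hy (W.inv_mem hy) hz
    rw [mul_inv_cancel, B.bf_phi h (phi W).one_mem hz] at h1
    have : ∀ u v : ZMod 2, 0 = u + v → v = u := by decide
    exact this _ _ h1
  let perp : ∀ z : T, z ∈ W → Subgroup T := fun z hz =>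
    { carrier := {y | y ∈ W ∧ B.bf h y z = 0}
      one_mem' := ⟨W.one_mem, B.bf_phi h (phi W).one_mem hz⟩
      mul_mem' := fun {a b} ha hb => ⟨W.mul_mem ha.1 hb.1, by rw [B.bf_mul h ha.1 hb.1 hz, ha.2, hb.2, add_zero]⟩
      inv_mem' := fun {a} ha => ⟨W.inv_mem ha.1, by rw [hbinv a z ha.1 hz]; exact ha.2⟩ }
  have hperp1 : ∀ i, U ≤ perp (wi i) (hwiW i) := fun i => hgen
    (fun y hy => ⟨h.phi_le hy.1, B.bf_phi h hy.1 (hwiW i)⟩)
    (fun j => ⟨hwiW j, by rw [hliftbb]; exact hb _ (hwmem j) _ (hwmem i)⟩)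
  have hperp : ∀ y ∈ U, ∀ z ∈ U, B.bf h y z = 0 := by
    intro y hy z hz
    refine (hgen (C := perp z (hUW hz)) (fun u hu => ⟨h.phi_le hu.1, B.bf_phi h hu.1 (hUW hz)⟩)
      (fun i => ⟨hwiW i, ?_⟩) hy).2
    rw [B.bf_symm h (hwiW i) (hUW hz)]
    exact (hperp1 i hz).2
  let V : Subgroup T :=
    { carrier := {y | y ∈ U ∧ B.qf h y = 0}
      one_mem' := ⟨U.one_mem, by simp [Basis.qf, B.mu_one]⟩
      mul_mem' := fun {a b} ha hb => ⟨U.mul_mem ha.1 hb.1, by
        rw [B.qf_mul h (hUW ha.1) (hUW hb.1), ha.2, hb.2, hperp a ha.1 b hb.1, add_zero, add_zero]⟩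
      inv_mem' := fun {a} ha => ⟨U.inv_mem ha.1, by
        have h1 := B.qf_mul h (hUW ha.1) (W.inv_mem (hUW ha.1))
        rw [mul_inv_cancel, ha.2, hperp a ha.1 a⁻¹ (U.inv_mem ha.1), zero_add, add_zero] at h1
        simpa [Basis.qf, B.mu_one] using h1.symm⟩ }
  have hUV : U ≤ V := hgen (fun y hy => ⟨Subgroup.mem_sup_left hy, by
      rw [Basis.qf, h.phi_elem hy.1, B.mu_one]⟩)
    (fun i => ⟨Subgroup.mem_sup_right (Subgroup.subset_closure ⟨i, rfl⟩), by
      rw [hliftq]; exact hq _ (hwmem i)⟩)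
  have hsqU : ∀ y ∈ U, y * y ∈ M0 := fun y hy => ⟨h.sq_mem (hUW hy), (hUV hy).2⟩
  have hcmU : ∀ y ∈ U, ∀ z ∈ U, ⁅y, z⁆ ∈ M0 := fun y hy z hz =>
    ⟨h.comm_mem (hUW hy) (hUW hz), hperp y hy z hz⟩
  -- size of `U`
  let F : U →* Multiplicative (Fin 5 → ZMod 2) :=
    { toFun := fun y => Multiplicative.ofAdd fun i => B.val h (y : T) (pivot.getD i (0, 0, 0))
      map_one' := by
        apply Multiplicative.toAdd.injective
        funext i
        exact B.val_phi h (phi W).one_mem _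
      map_mul' := fun a b => by
        apply Multiplicative.toAdd.injective
        funext i
        exact B.val_mul h (hUW a.2) (hUW b.2) _ }
  have hbasis : ∀ i j : Fin 5, B.val h (wi i) (pivot.getD j (0, 0, 0)) = if i = j then 1 else 0 := fun i j => by
    rw [hliftv, indic_pivot]
  have hFsurj : Function.Surjective F := by
    intro g
    refine ⟨⟨(List.ofFn fun i : Fin 5 => wi i ^ (Multiplicative.toAdd g i).val).prod,
      U.list_prod_mem fun x hx => ?_⟩, ?_⟩
    · obtain ⟨i, rfl⟩ := List.mem_ofFn.1 hx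
      exact U.pow_mem (Subgroup.mem_sup_right (Subgroup.subset_closure ⟨i, rfl⟩)) _
    · apply Multiplicative.toAdd.injective
      funext j
      show B.val h _ _ = _
      have hpow : ∀ i (a : ZMod 2), B.val h (wi i ^ a.val) (pivot.getD j (0, 0, 0)) = a * if i = j then 1 else 0 := by
        intro i a
        have : ∀ z : ZMod 2, z = 0 ∨ z = 1 := by decide
        rcases this a with rfl | rfl
        · rw [zero_mul, ZMod.val_zero, pow_zero]; exact B.val_phi h (phi W).one_mem _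
        · rw [show (1 : ZMod 2).val = 1 from rfl, pow_one, one_mul, hbasis]
      have hsum' : ∀ l : List T, (∀ x ∈ l, x ∈ W) → B.val h l.prod (pivot.getD j (0, 0, 0)) =
          (l.map fun x => B.val h x (pivot.getD j (0, 0, 0))).sum := by
        intro l hl
        induction l with
        | nil => exact B.val_phi h (phi W).one_mem _
        | cons x l ih =>
          rw [List.prod_cons, B.val_mul h (hl x List.mem_cons_self)
            (W.list_prod_mem fun y hy => hl y (List.mem_cons_of_mem x hy)),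
            ih fun y hy => hl y (List.mem_cons_of_mem x hy), List.map_cons, List.sum_cons]
      rw [hsum' _ fun x hx => by obtain ⟨i, rfl⟩ := List.mem_ofFn.1 hx; exact W.pow_mem (hwiW i) _,
        List.map_ofFn, List.sum_ofFn]
      simp only [Function.comp_apply, hpow]
      simp
  have hcardF : Nat.card U = Nat.card F.ker * 32 := by
    rw [← F.ker.card_mul_index, Subgroup.index_ker, MonoidHom.range_eq_top.2 hFsurj, Subgroup.card_top,
      Nat.card_congr Multiplicative.toAdd, Nat.card_fun, Nat.card_zmod, Nat.card_fin]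
    norm_num
  have hkerge : ∀ P : Subgroup T, P ≤ U → P ≤ phi W → Nat.card P ≤ Nat.card F.ker := by
    intro P hPU hPP
    rw [← Nat.card_congr (Subgroup.subgroupOfEquivOfLe hPU).toEquiv]
    refine Subgroup.card_le_of_le fun y hy => ?_
    apply Multiplicative.toAdd.injective
    funext i
    exact B.val_phi h (hPP hy) _
  have hM4 : 4 ≤ Nat.card M0 := by
    have h2 : Z 2 ≤ M0 := by
      intro y hy
      have hy3 := Subgroup.upperCentralSeries_mono T (by omega : 2 ≤ 3) hy
      refine ⟨h.phi_eq.ge hy3, ?_⟩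
      obtain ⟨v, rfl⟩ := B.el_surj h hy3
      rw [B.mu_el]
      have hc : ∀ z : ZMod 2, z = 0 ∨ z = 1 := by decide
      rcases hc v.2.2 with hv | hv
      · exact hv
      exfalso
      refine B.hx3.2 ?_
      rw [Basis.el, hv, show (1 : ZMod 2).val = 1 from rfl, pow_one] at hy
      exact (Subgroup.mul_mem_cancel_left _ ((Z 2).mul_mem ((Z 2).pow_mem
        (Subgroup.upperCentralSeries_mono T (by omega) B.hx1.1) _) ((Z 2).pow_mem B.hx2.1 _))).1 hy
    exact le_of_eq_of_le (by rw [h.card_Z (by omega)]; norm_num) (Subgroup.card_le_of_le h2)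
  have hx3P : B.x3 ∈ phi W := h.phi_eq.ge B.hx3.1
  have hx3M : B.x3 ∉ M0 := fun hh => by
    have h1 := B.mu_el h (0, 0, 1)
    rw [show B.el (0, 0, 1) = B.x3 by simp [Basis.el, show (1 : ZMod 2).val = 1 from rfl]] at h1
    rw [hh.2] at h1
    exact zero_ne_one h1
  have hWc := h.tight.2.2.2.1
  have hfinal : ∀ U' : Subgroup T, U' ≤ W → 2 ^ 7 ≤ Nat.card U' → B.x3 ∈ U' := by
    intro U' hU' hc'
    refine h.inside' hU' ?_ hx3P
    have h2 := (U'.subgroupOf W).card_mul_index
    rw [Nat.card_congr (Subgroup.subgroupOfEquivOfLe hU').toEquiv, hWc] at h2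
    refine Nat.le_of_mul_le_mul_left ?_ (Nat.card_pos (α := U'))
    rw [Subgroup.relIndex, h2]
    omega
  by_cases hxU : B.x3 ∈ U
  · obtain ⟨U', -, hU'U, hxU', hU2⟩ := avoid (M0 := M0) (E := U) le_sup_left hx3M hsqU hcmU
    refine hxU' (hfinal U' (hU'U.trans hUW) ?_)
    have hPU : phi W ≤ U := by
      intro y hy
      obtain ⟨v, hv⟩ := B.el_surj h (h.phi_eq.le hy)
      rcases (show ∀ z : ZMod 2, z = 0 ∨ z = 1 by decide) v.2.2 with h0 | h0
      · exact Subgroup.mem_sup_left ⟨hy, by rw [← hv, B.mu_el]; exact h0⟩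
      · rw [← mul_inv_cancel_left B.x3 y]
        refine U.mul_mem hxU (Subgroup.mem_sup_left ⟨(phi W).mul_mem ((phi W).inv_mem hx3P) hy, ?_⟩)
        rw [B.mu_mul h ((phi W).inv_mem hx3P) hy, inv_eq_of_mul_eq_one_right (h.phi_elem hx3P), ← hv,
          B.mu_el, h0]
        have h1 := B.mu_el h (0, 0, 1)
        rw [show B.el (0, 0, 1) = B.x3 by simp [Basis.el, show (1 : ZMod 2).val = 1 from rfl]] at h1
        rw [h1]; decide
    have := hkerge _ hPU le_rfl
    rw [h.tight.2.2.1] at this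
    omega
  · refine hxU (hfinal U hUW ?_)
    have := hkerge M0 le_sup_left (fun y hy => hy.1)
    omega

/-- the quotient by `W` is dihedral -/
theorem Hyp.dihedral (h : Hyp T W) : ∃ _ : W.Normal, Nonempty (T ⧸ W ≃* DihedralGroup 4) := by
  haveI := h.normal_W
  obtain ⟨B⟩ := h.exists_basis
  refine ⟨h.normal_W, ⟨MulEquiv.symm ?_⟩⟩
  let f : DihedralGroup 4 →* T ⧸ W := MonoidHom.mk' (fun d => ((B.rep h (ofDih d) : T) : T ⧸ W)) fun a b => by
    rw [← QuotientGroup.mk_mul, QuotientGroup.eq, ← B.code_eq h, B.code_mul h, B.code_rep, B.code_rep,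
      B.code_rep, ofDih_mul]
  refine MulEquiv.ofBijective f ((Nat.bijective_iff_injective_and_card f).2 ⟨fun a b e => ofDih_inj ?_, ?_⟩)
  · have e' : ((B.rep h (ofDih a) : T) : T ⧸ W) = ((B.rep h (ofDih b) : T) : T ⧸ W) := e
    rw [QuotientGroup.eq, ← B.code_eq h, B.code_rep, B.code_rep] at e'
    exact e'
  · rw [h.tight.2.1, Nat.card_eq_fintype_card, DihedralGroup.card]

end CfsgLib.Fourteen
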