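/-
Automorphisms of odd order and weak closure of `W`.
-/
import Mathlib
import Cfsg.Agent.Lib.PGroup.FourteenCoord

set_option autoImplicit false
set_option linter.style.haveILetI false
set_option linter.unusedSectionVars false

open scoped commutatorElement

namespace CfsgLib.Fourteen

variable {T : Type*} [Group T] [Finite T] {W : Subgroup T}

local notation "Z" => Subgroup.upperCentralSeries T

theorem dmul_zero_left : ∀ k : D8, dmul (0, 0, 0) k = k := by decide

theorem zmod2_aux : ∀ u v w : ZMod 2, u + v = v + (u + w) + w := by decide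

theorem Hyp.eq_one_of_odd (h : Hyp T W) {a : T} {n : ℕ} (hn : Odd n) (he : a ^ n = 1) : a = 1 := by
  obtain ⟨k, hk⟩ := h.two a
  exact orderOf_eq_one_iff.1 (Nat.eq_one_of_dvd_coprimes
    ((Nat.coprime_two_left.2 hn).pow_left k) (orderOf_dvd_of_pow_eq_one hk) (orderOf_dvd_of_pow_eq_one he))

/-- an automorphism of odd order moving `x` by a fixed element fixes it -/
theorem Hyp.fix_of_fix (h : Hyp T W) {α : MulAut T} {n : ℕ} (hn : Odd n) (hα : α ^ n = 1) {x : T}
    (ha : α (x⁻¹ * α x) = x⁻¹ * α x) : α x = x := by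
  set a := x⁻¹ * α x with hadef
  have hx : α x = x * a := by rw [hadef, mul_inv_cancel_left]
  have hpow : ∀ m : ℕ, (α ^ m) x = x * a ^ m := by
    intro m
    induction m with
    | zero => simp
    | succ m ih => rw [pow_succ', MulAut.mul_apply, ih, map_mul, map_pow, hx, ha, pow_succ', mul_assoc]
  have h1 := hpow n
  rw [hα, MulAut.one_apply, left_eq_mul] at h1
  rw [hx, h.eq_one_of_odd hn h1, mul_one]

theorem Hyp.aut_odd (h : Hyp T W) {α : MulAut T} {n : ℕ} (hn : Odd n) (hα : α ^ n = 1) :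
    ∀ t, α t = t := by
  classical
  haveI := h.normal_W
  obtain ⟨B⟩ := h.exists_basis
  have hchar : ∀ i x, α x ∈ Z i ↔ x ∈ Z i := fun i x => by
    conv_rhs => rw [← Subgroup.comap_upperCentralSeries (G := T) α i]
    rfl
  -- the series is fixed
  have hZ : ∀ i, i ≤ 3 → ∀ x ∈ Z i, α x = x := by
    intro i
    induction i with
    | zero =>
      intro _ x hx
      rw [Subgroup.upperCentralSeries_zero, Subgroup.mem_bot] at hx
      rw [hx, map_one]
    | succ i ih =>
      intro hi x hx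
      by_cases hxi : x ∈ Z i
      · exact ih (by omega) x hxi
      refine h.fix_of_fix hn hα (ih (by omega) _ ?_)
      have hidx : ((Z i).subgroupOf (Z (i + 1))).index = 2 := by
        have h2 := ((Z i).subgroupOf (Z (i + 1))).card_mul_index
        rw [Nat.card_congr (Subgroup.subgroupOfEquivOfLe (Subgroup.upperCentralSeries_mono T (Nat.le_succ i))).toEquiv,
          h.card_Z (by omega), h.card_Z (by omega), pow_succ] at h2
        exact Nat.eq_of_mul_eq_mul_left (by positivity) h2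
      have h3 := Subgroup.mul_mem_iff_of_index_two hidx (a := (⟨x, hx⟩ : Z (i + 1))⁻¹)
        (b := ⟨α x, (hchar (i + 1) x).2 hx⟩)
      simp only [Subgroup.mem_subgroupOf, Subgroup.coe_mul, Subgroup.coe_inv, inv_mem_iff] at h3
      exact h3.2 (iff_of_false hxi fun hh => hxi ((hchar i x).1 hh))
  have hP : ∀ z ∈ phi W, α z = z := fun z hz => hZ 3 le_rfl z (h.phi_eq.le hz)
  have hW : ∀ w, w ∈ W → α w ∈ W := fun w hw => by
    rw [h.eqW, Subgroup.mem_centralizer_iff]
    intro z hz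
    rw [← hZ 3 le_rfl z hz, ← map_mul, ← map_mul, h.comm_three hw hz]
  -- every element moves by an element of `W`
  have hs : ∀ t, t⁻¹ * α t ∈ W := by
    intro t
    rw [h.eqW, Subgroup.mem_centralizer_iff]
    intro z hz
    have h1 : α (t * z * t⁻¹) = t * z * t⁻¹ :=
      hZ 3 le_rfl _ ((inferInstance : (Z 3).Normal).conj_mem z hz t)
    rw [map_mul, map_mul, map_inv, hZ 3 le_rfl z hz] at h1
    symm
    rw [← mul_inv_eq_iff_eq_mul]
    calc t⁻¹ * α t * z * (t⁻¹ * α t)⁻¹ = t⁻¹ * (α t * z * (α t)⁻¹) * t := by group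
      _ = z := by rw [h1]; group
  haveI := h.normal_phi
  -- the displacements modulo the Frattini subgroup
  have hwfix : ∀ w ∈ W, w⁻¹ * α w ∈ phi W := by
    by_contra hcon
    push Not at hcon
    obtain ⟨w, hw, hwP⟩ := hcon
    let N : Subgroup T :=
      { carrier := {x | x ∈ W ∧ ∃ u ∈ W, (u⁻¹ * α u)⁻¹ * x ∈ phi W}
        one_mem' := ⟨W.one_mem, 1, W.one_mem, by simp⟩
        mul_mem' := by
          rintro a b ⟨ha, u, hu, hua⟩ ⟨hb, v, hv, hvb⟩
          refine ⟨W.mul_mem ha hb, u * v, W.mul_mem hu hv, ?_⟩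
          set d := u⁻¹ * α u with hd
          set e := v⁻¹ * α v with he
          have hdW : d ∈ W := W.mul_mem (W.inv_mem hu) (hW u hu)
          have heW : e ∈ W := W.mul_mem (W.inv_mem hv) (hW v hv)
          have h1 : (u * v)⁻¹ * α (u * v) = ⁅v⁻¹, d⁆ * (d * e) := by
            rw [map_mul, hd, he, commutatorElement_def]; group
          rw [h1]
          have h2 : (⁅v⁻¹, d⁆ * (d * e))⁻¹ * (a * b) =
              ((d * e)⁻¹ * ⁅v⁻¹, d⁆⁻¹ * (d * e)) * ((e⁻¹ * (d⁻¹ * a) * e) * (e⁻¹ * b)) := by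
            group
          rw [h2]
          refine (phi W).mul_mem ?_ ((phi W).mul_mem ?_ hvb)
          · have := h.normal_phi.conj_mem _ ((phi W).inv_mem (h.comm_mem (W.inv_mem hv) hdW)) (d * e)⁻¹
            rwa [inv_inv] at this
          · have := h.normal_phi.conj_mem _ hua e⁻¹
            rwa [inv_inv] at this
        inv_mem' := by
          rintro a ⟨ha, u, hu, hua⟩
          refine ⟨W.inv_mem ha, u⁻¹, W.inv_mem hu, ?_⟩
          set d := u⁻¹ * α u with hd
          have hdW : d ∈ W := W.mul_mem (W.inv_mem hu) (hW u hu)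
          have h1 : (u⁻¹⁻¹ * α u⁻¹)⁻¹ * a⁻¹ = (u * d * u⁻¹) * a⁻¹ := by rw [map_inv, hd]; group
          rw [h1, show u * d * u⁻¹ * a⁻¹ = ⁅u, d⁆ * (d * a⁻¹) by simp [commutatorElement_def, mul_assoc]]
          refine (phi W).mul_mem (h.comm_mem hu hdW) ?_
          rw [show d * a⁻¹ = d * (d⁻¹ * a)⁻¹ * d⁻¹ by group]
          exact h.normal_phi.conj_mem _ ((phi W).inv_mem hua) d }
    haveI : N.Normal := ⟨by
      rintro a ⟨ha, u, hu, hua⟩ g
      refine ⟨h.normal_W.conj_mem a ha g, g * u * g⁻¹, h.normal_W.conj_mem u hu g, ?_⟩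
      set d := u⁻¹ * α u with hd
      set s := g⁻¹ * α g with hsdef
      have hsW : s ∈ W := hs g
      have hdW : d ∈ W := W.mul_mem (W.inv_mem hu) (hW u hu)
      have h1 : (g * u * g⁻¹)⁻¹ * α (g * u * g⁻¹) = g * (u⁻¹ * s * u * d * s⁻¹) * g⁻¹ := by
        rw [map_mul, map_mul, map_inv, hd, hsdef]; group
      have h2 : (u⁻¹ * s * u * d * s⁻¹)⁻¹ * a =
          (s * ⁅d⁻¹, (u⁻¹ * s⁻¹ * u)⁆ * s⁻¹) * (⁅s, u⁻¹⁆) * (d⁻¹ * a) := by
        simp only [commutatorElement_def]; group
      rw [h1, show (g * (u⁻¹ * s * u * d * s⁻¹) * g⁻¹)⁻¹ * (g * a * g⁻¹) =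
        g * ((u⁻¹ * s * u * d * s⁻¹)⁻¹ * a) * g⁻¹ by group, h2]
      refine h.normal_phi.conj_mem _ ((phi W).mul_mem ((phi W).mul_mem ?_ ?_) hua) g
      · refine h.normal_phi.conj_mem _ (h.comm_mem (W.inv_mem hdW) ?_) s
        exact W.mul_mem (W.mul_mem (W.inv_mem hu) (W.inv_mem hsW)) hu
      · exact h.comm_mem hsW (W.inv_mem hu)⟩
    obtain ⟨x, ⟨hxW, u, hu, hux⟩, hxP, hxc⟩ := exists_step (N := N) (B := phi W) h.two.isNilpotent
      (show w⁻¹ * α w ∈ N from ⟨W.mul_mem (W.inv_mem hw) (hW w hw), w, hw, by rw [inv_mul_cancel]; exact (phi W).one_mem⟩) hwP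
    -- `x` is fixed modulo the Frattini subgroup
    have hxfix : x⁻¹ * α x ∈ phi W := by
      refine h.fixed (fun t => ?_) hxc (fun hh => hxP ?_) hxP
      · obtain ⟨t', rfl⟩ := α.surjective t
        rw [← map_commutatorElement, hP _ (hxc t')]
        exact hxc t'
      · have : α (α x) = α x := hP _ hh
        rwa [α.injective this] at hh
    have hpow : ∀ m : ℕ, u⁻¹ * (α ^ m) u * (x ^ m)⁻¹ ∈ phi W := by
      intro m
      induction m with
      | zero => simp
      | succ m ih =>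
        set d := u⁻¹ * α u with hd
        have hαu : α u = u * d := by rw [hd, mul_inv_cancel_left]
        set p := u⁻¹ * (α ^ m) u * (x ^ m)⁻¹ with hp
        have hαm : (α ^ m) u = u * p * x ^ m := by rw [hp]; group
        have h1 : (α ^ (m + 1)) u = u * d * p * α x ^ m := by
          rw [pow_succ', MulAut.mul_apply, hαm, map_mul, map_mul, hP p ih, map_pow, hαu]
        have hxm : α x ^ m * (x ^ m)⁻¹ ∈ phi W := by
          have : ∀ j : ℕ, α x ^ j * (x ^ j)⁻¹ ∈ phi W := by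
            intro j
            induction j with
            | zero => simp
            | succ j ihj =>
              rw [show α x ^ (j + 1) * (x ^ (j + 1))⁻¹ =
                α x ^ j * (x * (x⁻¹ * α x) * x⁻¹) * (α x ^ j)⁻¹ * (α x ^ j * (x ^ j)⁻¹) by
                simp only [pow_succ]; group]
              exact (phi W).mul_mem (h.normal_phi.conj_mem _ (h.normal_phi.conj_mem _ hxfix x) _) ihj
          exact this m
        have heq : u⁻¹ * (α ^ (m + 1)) u * (x ^ (m + 1))⁻¹ =
            (d * p * d⁻¹) * (d * (α x ^ m * (x ^ m)⁻¹) * d⁻¹) * (d * x⁻¹) *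
              ((x * x ^ m) * (x ^ (m + 1))⁻¹) := by
          rw [h1]
          have : d * x ^ m = d * x ^ m := rfl
          simp only [pow_succ']
          group
        rw [heq, ← pow_succ', mul_inv_cancel, mul_one]
        refine (phi W).mul_mem ((phi W).mul_mem (h.normal_phi.conj_mem _ ih d) (h.normal_phi.conj_mem _ hxm d)) ?_
        rw [show d * x⁻¹ = d * (d⁻¹ * x)⁻¹ * d⁻¹ by group]
        exact h.normal_phi.conj_mem _ ((phi W).inv_mem hux) d
    have h1 := hpow n
    rw [hα, MulAut.one_apply, inv_mul_cancel, one_mul, inv_mem_iff] at h1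
    obtain ⟨k, rfl⟩ := hn
    rw [pow_succ, pow_mul, pow_two] at h1
    exact hxP ((Subgroup.mul_mem_cancel_left _ ((phi W).pow_mem (h.sq_mem hxW) k)).1 h1)
  have hWfix : ∀ w ∈ W, α w = w := fun w hw => h.fix_of_fix hn hα (hP _ (hwfix w hw))
  intro t
  exact h.fix_of_fix hn hα (hWfix _ (hs t))

/-- a conjugate of `W` inside `T` equals `W` -/
theorem Hyp.weakly (h : Hyp T W) {W1 P1 : Subgroup T} (hc : Nat.card W1 = 2 ^ 11) (hP1 : P1 ≤ W1)
    (hP8 : Nat.card P1 = 8) (hcen : ∀ x ∈ W1, ∀ z ∈ P1, x * z = z * x)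
    (hcomm : ∀ x ∈ W1, ∀ y ∈ W1, ⁅x, y⁆ ∈ P1)
    (hins : ∀ U : Subgroup T, U ≤ W1 → 2 ^ 11 ≤ 16 * Nat.card U → P1 ≤ U) : W1 = W := by
  classical
  haveI : Fact (Nat.Prime 2) := ⟨Nat.prime_two⟩
  haveI := h.normal_W
  haveI := h.normal_phi
  obtain ⟨-, hq, hp8, hW11, -⟩ := h.tight
  suffices hle : W1 ≤ W from Subgroup.eq_of_le_of_card_ge hle (by rw [hc, hW11])
  by_contra hnle
  set A := W1 ⊓ W with hA
  -- the image in the quotient
  let f : W1 →* T ⧸ W := (QuotientGroup.mk' W).comp W1.subtype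
  have hker : f.ker = A.subgroupOf W1 := by
    ext ⟨x, hx⟩
    rw [MonoidHom.mem_ker, Subgroup.mem_subgroupOf]
    change ((x : T) : T ⧸ W) = 1 ↔ x ∈ A
    rw [QuotientGroup.eq_one_iff]
    exact ⟨fun hw => ⟨hx, hw⟩, fun hw => hw.2⟩
  have hAc : Nat.card A * Nat.card f.range = 2 ^ 11 := by
    rw [← hc, ← Nat.card_congr (Subgroup.subgroupOfEquivOfLe (inf_le_left : A ≤ W1)).toEquiv, ← hker,
      ← Subgroup.index_ker, Subgroup.card_mul_index]
  have hr8 : Nat.card f.range ≤ 8 := hq ▸ Nat.card_le_card_of_injective _ Subtype.val_injective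
  have hA8 : 2 ^ 8 ≤ Nat.card A := by
    have := Nat.mul_le_mul_left (Nat.card A) hr8
    omega
  have hP1A : P1 ≤ A := hins A inf_le_left (by omega)
  by_cases heq : P1 = phi W
  · refine hnle fun x hx => ?_
    rw [h.eqW, Subgroup.mem_centralizer_iff]
    intro z hz
    exact (hcen x hx z (heq ▸ h.phi_eq.ge hz)).symm
  set E := A ⊔ phi W with hE
  have hEW : E ≤ W := sup_le inf_le_right h.phi_le
  -- a commutator avoiding subgroup of index two of the Frattini subgroup
  obtain ⟨c, hc', hcP1⟩ := SetLike.not_le_iff_exists.1 fun hh : phi W ≤ P1 =>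
    heq (Subgroup.eq_of_le_of_card_ge hh (by rw [hP8, hp8])).symm
  set X := phi W ⊓ P1 with hX
  obtain ⟨M0, hXM, hMP, hcM, hM2⟩ := avoid (E := phi W) (c := c) (inf_le_left : X ≤ phi W)
    (fun hh => hcP1 hh.2) (fun z hz => by rw [h.phi_elem hz]; exact X.one_mem)
    (fun z hz y hy => by
      rw [commutatorElement_eq_one_iff_mul_comm.2 (h.comm_phi (h.phi_le hz) hy)]; exact X.one_mem)
  have hcommE : ∀ x ∈ E, ∀ y ∈ E, ⁅x, y⁆ ∈ M0 := by
    have key : ∀ y ∈ W, (∀ a ∈ A, ⁅a, y⁆ ∈ M0) → ∀ x ∈ E, ⁅x, y⁆ ∈ M0 := by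
      intro y hy hA x hx
      let C : Subgroup T :=
        { carrier := {x | x ∈ W ∧ ⁅x, y⁆ ∈ M0}
          one_mem' := ⟨W.one_mem, by simp⟩
          mul_mem' := fun {a b} ha hb => ⟨W.mul_mem ha.1 hb.1, by rw [h.comm_mul ha.1 hb.1 hy]; exact M0.mul_mem ha.2 hb.2⟩
          inv_mem' := fun {a} ha => ⟨W.inv_mem ha.1, by
            have h1 := h.comm_mul ha.1 (W.inv_mem ha.1) hy
            rw [mul_inv_cancel, commutatorElement_one_left] at h1
            rw [eq_inv_of_mul_eq_one_right h1.symm]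
            exact M0.inv_mem ha.2⟩ }
      refine ((sup_le (c := C) (fun a ha => ⟨ha.2, hA a ha⟩) (fun a ha => ⟨h.phi_le ha, ?_⟩)) hx).2
      rw [commutatorElement_eq_one_iff_mul_comm.2 (h.comm_phi hy ha).symm]
      exact M0.one_mem
    intro x hx y hy
    refine key y (hEW hy) (fun a ha => ?_) x hx
    rw [h.comm_symm ha.2 (hEW hy)]
    refine key a ha.2 (fun b hb => ?_) y hy
    exact hXM ⟨h.comm_mem hb.2 ha.2, hcomm b hb.1 a ha.1⟩
  have hnot : ¬ 2 ^ 9 ≤ Nat.card E := fun hge =>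
    h.not_big hEW hMP le_sup_right hc' hcM hM2 hcommE (by rw [hW11]; omega)
  -- so `W1` covers the quotient and contains the Frattini subgroup
  have hEA : E = A := by
    refine (Subgroup.eq_of_le_of_card_ge le_sup_left ?_).symm
    obtain ⟨q, hq'⟩ := Subgroup.card_dvd_of_le (le_sup_left : A ≤ E)
    rcases q with _ | _ | q
    · rw [mul_zero] at hq'; exact absurd hq' Nat.card_pos.ne'
    · rw [hq']; omega
    · have : 2 * Nat.card A ≤ Nat.card E := by
        rw [hq', mul_comm 2]; exact Nat.mul_le_mul_left _ (by omega)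
      omega
  have hAeq : Nat.card A = 2 ^ 8 := by
    obtain ⟨k, hk⟩ := IsPGroup.iff_card.1 (h.two.to_subgroup A)
    have hk1 : 2 ^ k < 2 ^ 9 := by rw [← hk, ← hEA]; omega
    have hk2 : 2 ^ 8 ≤ 2 ^ k := by rw [← hk]; exact hA8
    have := (Nat.pow_lt_pow_iff_right (by norm_num : 1 < 2)).1 hk1
    have := (Nat.pow_le_pow_iff_right (by norm_num : 1 < 2)).1 hk2
    rw [hk, show k = 8 by omega]
  have hcover : ∀ t : T, ∃ x ∈ W1, x⁻¹ * t ∈ W := by
    have htop : f.range = ⊤ := by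
      refine Subgroup.eq_top_of_le_card _ ?_
      rw [hq]
      rw [hAeq] at hAc
      omega
    intro t
    obtain ⟨⟨x, hx⟩, hxt⟩ : (t : T ⧸ W) ∈ f.range := htop ▸ Subgroup.mem_top _
    exact ⟨x, hx, QuotientGroup.eq.1 hxt⟩
  obtain ⟨B⟩ := h.exists_basis
  have hPA : phi W ≤ A := hEA ▸ le_sup_right
  -- values of elements of `A` are affine
  have hfixv : ∀ z ∈ P1, ∀ g, B.val h z g = B.val h z (0, 0, 0) := by
    intro z hz g
    obtain ⟨x, hx, hxt⟩ := hcover (B.rep h g)
    have hzW : z ∈ W := (hP1A hz).2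
    have h1 := B.val_eq h hzW x
    rw [hcen x hx z hz, mul_inv_cancel_right, (B.code_eq h).2 hxt, B.code_rep] at h1
    rw [h1, ← B.code_one h, B.val_eq h hzW]
    simp
  have haff : ∀ a ∈ A, ∀ g k, B.val h a (dmul g k) = B.val h a g + B.val h a k + B.val h a (0, 0, 0) := by
    intro a ha g k
    obtain ⟨x, hx, hxt⟩ := hcover (B.rep h k)
    have hcode : B.code h x = k := by rw [(B.code_eq h).2 hxt, B.code_rep]
    have hz : x * a * x⁻¹ * a⁻¹ ∈ P1 := by rw [← commutatorElement_def]; exact hcomm x hx a ha.1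
    have e := fun g => B.val_mul h (hP1A hz).2 ha.2 g
    have e2 := fun g => B.val_conj h ha.2 x g
    simp only [inv_mul_cancel_right] at e
    have e3 : ∀ g, B.val h a (dmul g k) = B.val h (x * a * x⁻¹ * a⁻¹) (0, 0, 0) + B.val h a g := fun g => by
      rw [← hcode, ← e2, e, hfixv _ hz]
    have e4 := e3 (0, 0, 0)
    rw [dmul_zero_left] at e4
    rw [e3, e4]
    exact zmod2_aux _ _ _
  let G3 : A → ZMod 2 × ZMod 2 × ZMod 2 := fun a =>
    (B.val h (a : T) (0, 0, 0), B.val h (a : T) (1, 0, 0), B.val h (a : T) (0, 1, 0))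
  -- fibres are cosets of the Frattini subgroup
  have hfib : ∀ a b : A, G3 a = G3 b → (a : T)⁻¹ * b ∈ phi W := by
    intro a b hab
    simp only [G3, Prod.mk.injEq] at hab
    have hd : (a : T)⁻¹ * b ∈ A := A.mul_mem (A.inv_mem a.2) b.2
    refine B.mem_phi_of_val h hd.2 fun g => ?_
    have hv : ∀ g, B.val h b g = B.val h a g + B.val h ((a : T)⁻¹ * b) g := fun g => by
      rw [← B.val_mul h a.2.2 hd.2, mul_inv_cancel_left]
    have hz : ∀ g, B.val h a g = B.val h b g → B.val h ((a : T)⁻¹ * b) g = 0 := fun g hg => by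
      have := hv g
      rw [← hg] at this
      linear_combination -this
    have hf0 := hz _ hab.1
    have hadd : ∀ g k, B.val h ((a : T)⁻¹ * b) (dmul g k) =
        B.val h ((a : T)⁻¹ * b) g + B.val h ((a : T)⁻¹ * b) k := fun g k => by
      rw [haff _ hd, hf0, add_zero]
    exact congrFun (additive_zero _ hadd (hz _ hab.2.1) (hz _ hab.2.2)) g
  let G4 : A → (ZMod 2 × ZMod 2 × ZMod 2) × phi W := fun a =>
    (G3 a, ⟨(((Function.invFun G3 (G3 a) : A) : T))⁻¹ * (a : T), hfib _ _ (Function.invFun_eq ⟨a, rfl⟩)⟩)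
  have hG4 : Function.Injective G4 := by
    intro a b hab
    simp only [G4, Prod.mk.injEq, Subtype.mk.injEq] at hab
    obtain ⟨h1, h2⟩ := hab
    rw [h1] at h2
    exact Subtype.ext (mul_left_cancel h2)
  have hle := Nat.card_le_card_of_injective G4 hG4
  rw [Nat.card_prod, Nat.card_prod, Nat.card_prod, Nat.card_zmod, hp8, hAeq] at hle
  norm_num at hle

end CfsgLib.Fourteen
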