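import Cfsg.Agent.Lib.PGroup.CentralFour
import Cfsg.Agent.Lib.PGroup.UFourSylow
import Cfsg.Agent.Lib.Classical.Card

/-!
The group with the relations `RelL` is a Sylow `2`-subgroup of `L₃(4)`.
-/

set_option autoImplicit false
set_option linter.style.haveILetI false

namespace CfsgLib.LFourSylow

open CfsgLib.CentralFour CfsgLib.UFourSylow

theorem RelL.pair {G H : Type*} [Group G] [Group H] {a b c d z w : G} {a' b' c' d' z' w' : H}
    (h : RelL a b c d z w) (k : RelL a' b' c' d' z' w') :
    RelL (a, a') (b, b') (c, c') (d, d') (z, z') (w, w') where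
  zz := Prod.ext h.zz k.zz
  ww := Prod.ext h.ww k.ww
  zw := Prod.ext h.zw k.zw
  za := Prod.ext h.za k.za
  zb := Prod.ext h.zb k.zb
  zc := Prod.ext h.zc k.zc
  zd := Prod.ext h.zd k.zd
  wa := Prod.ext h.wa k.wa
  wb := Prod.ext h.wb k.wb
  wc := Prod.ext h.wc k.wc
  wd := Prod.ext h.wd k.wd
  aa := Prod.ext h.aa k.aa
  bb := Prod.ext h.bb k.bb
  cc := Prod.ext h.cc k.cc
  dd := Prod.ext h.dd k.dd
  ba := Prod.ext h.ba k.ba
  dc := Prod.ext h.dc k.dc
  ca := Prod.ext h.ca k.ca
  db := Prod.ext h.db k.db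
  cb := Prod.ext h.cb k.cb
  da := Prod.ext h.da k.da

theorem RelL.card_le {G : Type*} [Group G] [Finite G] {a b c d z w : G} (h : RelL a b c d z w) :
    Nat.card (Subgroup.closure ({a, b, c, d, z, w} : Set G)) ≤ 64 := by
  have fixc : ∀ {x y : G}, x * y = y * x → x * y * x⁻¹ = y := fun e => by
    rw [e, mul_inv_cancel_right]
  let S1 : Set G := insert z ∅
  let S2 : Set G := insert w S1
  let S3 : Set G := insert a S2
  let S4 : Set G := insert b S3
  let S5 : Set G := insert c S4
  let S6 : Set G := insert d S5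
  have m : ∀ {S : Set G} {x : G}, x ∈ S → x ∈ Subgroup.closure S := fun hx => Subgroup.subset_closure hx
  have n1 : Nat.card (Subgroup.closure S1) ≤ 2 := by
    have h0 := card_insert_le (S := (∅ : Set G)) (x := z) (fun y hy => hy.elim)
      (by rw [h.zz]; exact one_mem _)
    rwa [Subgroup.closure_empty, Subgroup.card_bot] at h0
  have n2 : Nat.card (Subgroup.closure S2) ≤ 4 := by
    refine (card_insert_le (S := S1) (x := w) ?_ (by rw [h.ww]; exact one_mem _)).trans (by omega)
    rintro y (rfl | hy)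
    · rw [fixc h.zw]; exact m (Or.inl rfl)
    · exact hy.elim
  have n3 : Nat.card (Subgroup.closure S3) ≤ 8 := by
    refine (card_insert_le (S := S2) (x := a) ?_
      (by rw [h.aa]; exact one_mem _)).trans (by omega)
    rintro y (rfl | rfl | hy)
    · rw [fixc h.wa]; exact m (Or.inl rfl)
    · rw [fixc h.za]; exact m (Or.inr (Or.inl rfl))
    · exact hy.elim
  have n4 : Nat.card (Subgroup.closure S4) ≤ 16 := by
    refine (card_insert_le (S := S3) (x := b) ?_
      (by rw [h.bb]; exact one_mem _)).trans (by omega)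
    rintro y (rfl | rfl | rfl | hy)
    · rw [fixc h.ba]; exact m (Or.inl rfl)
    · rw [fixc h.wb]; exact m (Or.inr (Or.inl rfl))
    · rw [fixc h.zb]; exact m (Or.inr (Or.inr (Or.inl rfl)))
    · exact hy.elim
  have n5 : Nat.card (Subgroup.closure S5) ≤ 32 := by
    refine (card_insert_le (S := S4) (x := c) ?_
      (by rw [h.cc]; exact one_mem _)).trans (by omega)
    rintro y (rfl | rfl | rfl | rfl | hy)
    · rw [h.cb, show y * c * (z * w) * c⁻¹ = y * ((c * z * c⁻¹) * (c * w * c⁻¹)) by group,
        fixc h.zc, fixc h.wc]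
      exact mul_mem (m (Or.inl rfl)) (mul_mem (m (Or.inr (Or.inr (Or.inr (Or.inl rfl)))))
        (m (Or.inr (Or.inr (Or.inl rfl)))))
    · rw [h.ca, show y * c * z * c⁻¹ = y * (c * z * c⁻¹) by group, fixc h.zc]
      exact mul_mem (m (Or.inr (Or.inl rfl))) (m (Or.inr (Or.inr (Or.inr (Or.inl rfl)))))
    · rw [fixc h.wc]; exact m (Or.inr (Or.inr (Or.inl rfl)))
    · rw [fixc h.zc]; exact m (Or.inr (Or.inr (Or.inr (Or.inl rfl))))
    · exact hy.elim
  have n6 : Nat.card (Subgroup.closure S6) ≤ 64 := by
    refine (card_insert_le (S := S5) (x := d) ?_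
      (by rw [h.dd]; exact one_mem _)).trans (by omega)
    rintro y (rfl | rfl | rfl | rfl | rfl | hy)
    · rw [fixc h.dc]; exact m (Or.inl rfl)
    · rw [h.db, show y * d * w * d⁻¹ = y * (d * w * d⁻¹) by group, fixc h.wd]
      exact mul_mem (m (Or.inr (Or.inl rfl))) (m (Or.inr (Or.inr (Or.inr (Or.inl rfl)))))
    · rw [h.da, show y * d * (z * w) * d⁻¹ = y * ((d * z * d⁻¹) * (d * w * d⁻¹)) by group,
        fixc h.zd, fixc h.wd]
      exact mul_mem (m (Or.inr (Or.inr (Or.inl rfl))))
        (mul_mem (m (Or.inr (Or.inr (Or.inr (Or.inr (Or.inl rfl))))))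
          (m (Or.inr (Or.inr (Or.inr (Or.inl rfl))))))
    · rw [fixc h.wd]; exact m (Or.inr (Or.inr (Or.inr (Or.inl rfl))))
    · rw [fixc h.zd]; exact m (Or.inr (Or.inr (Or.inr (Or.inr (Or.inl rfl)))))
    · exact hy.elim
  refine le_trans (Nat.le_of_dvd Nat.card_pos (Subgroup.card_dvd_of_le (Subgroup.closure_mono ?_))) n6
  intro y hy
  simp only [Set.mem_insert_iff, Set.mem_singleton_iff] at hy
  simp only [S6, S5, S4, S3, S2, S1, Set.mem_insert_iff, Set.mem_empty_iff_false, or_false]
  tauto

variable {F : Type} [Field F]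

/-- Upper unitriangular matrices. -/
def U (x y z : F) : Matrix.SpecialLinearGroup (Fin 3) F :=
  ⟨!![1, x, z; 0, 1, y; 0, 0, 1], by simp [Matrix.det_fin_three]⟩

theorem U_mul (x y z x' y' z' : F) : U x y z * U x' y' z' = U (x + x') (y + y') (z + z' + x * y') := by
  apply Subtype.ext
  show !![1, x, z; 0, 1, y; 0, 0, 1] * !![1, x', z'; 0, 1, y'; 0, 0, 1] = _
  ext i j
  fin_cases i <;> fin_cases j <;> simp [U, Matrix.mul_apply, Fin.sum_univ_three] <;> ring

theorem U_zero : U (0 : F) 0 0 = 1 := by
  apply Subtype.ext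
  ext i j
  fin_cases i <;> fin_cases j <;> simp [U]

theorem U_not_central {x y z : F} (hz : z ≠ 0) :
    U x y z ∉ Subgroup.center (Matrix.SpecialLinearGroup (Fin 3) F) := by
  intro h
  obtain ⟨r, -, hr⟩ := Matrix.SpecialLinearGroup.mem_center_iff.mp h
  have := congrFun (congrFun hr 0) 2
  simp [U] at this
  exact hz this.symm

/-- A group with the relations is isomorphic to every Sylow subgroup. -/
theorem equiv_sylow [Fintype F] (hF : Fintype.card F = 4) {T : Type*} [Group T] [Finite T]
    {a b c d z w : T} (h : RelL a b c d z w)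
    (hgen : Subgroup.closure ({a, b, c, d, z, w} : Set T) = ⊤) (hcard : Nat.card T = 64)
    (hcen : ∀ g ∈ Subgroup.center T, g = 1 ∨ g = z ∨ g = w ∨ g = z * w)
    (P : Sylow 2 (Matrix.ProjectiveSpecialLinearGroup (Fin 3) F)) :
    Nonempty (T ≃* (P : Subgroup (Matrix.ProjectiveSpecialLinearGroup (Fin 3) F))) := by
  classical
  haveI : Fact (Nat.Prime 2) := ⟨Nat.prime_two⟩
  haveI : CharP F 2 := charP_of_card_eq_prime_pow (f := 2) (by rw [hF]; norm_num)
  obtain ⟨μ, hμ0, hμ1⟩ : ∃ μ : F, μ ≠ 0 ∧ μ ≠ 1 := by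
    by_contra hcon
    push Not at hcon
    have hsub : (Finset.univ : Finset F) ⊆ {0, 1} := fun x _ => by
      rcases eq_or_ne x 0 with e | e
      · simp [e]
      · simp [hcon x e]
    have := (Finset.card_le_card hsub).trans Finset.card_le_two
    rw [Finset.card_univ, hF] at this
    omega
  have h3 : μ ^ 3 = 1 := by
    have := FiniteField.pow_card_sub_one_eq_one μ hμ0
    rwa [hF] at this
  have hsq : μ * μ = μ + 1 := by
    have h4 : (μ - 1) * (μ * μ + μ + 1) = 0 := by linear_combination h3
    rcases mul_eq_zero.mp h4 with e | e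
    · exact absurd (sub_eq_zero.mp e) hμ1
    · have h2 : (2 : F) = 0 := CharTwo.two_eq_zero
      linear_combination e - (μ + 1) * h2
  have h2 : (2 : F) = 0 := CharTwo.two_eq_zero
  have hμμ : μ * μ ≠ 0 := mul_ne_zero hμ0 hμ0
  let π : Matrix.SpecialLinearGroup (Fin 3) F →* Matrix.ProjectiveSpecialLinearGroup (Fin 3) F :=
    QuotientGroup.mk' _
  have hπ : ∀ {x y v : F}, v ≠ 0 → π (U x y v) ≠ 1 := fun hv e =>
    U_not_central hv ((QuotientGroup.eq_one_iff _).mp e)
  have hU : ∀ {x y v x' y' v' : F}, x = x' → y = y' → v = v' → U x y v = U x' y' v' := by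
    rintro _ _ _ _ _ _ rfl rfl rfl; rfl
  set g0 := π (U 1 0 0)
  set g1 := π (U μ 0 0)
  set g2 := π (U 0 1 0)
  set g3 := π (U 0 μ 0)
  set g4 := π (U 0 0 1)
  set g5 := π (U 0 0 (μ * μ))
  have hk : RelL g0 g1 g2 g3 g4 g5 := by
    constructor
    all_goals simp only [g0, g1, g2, g3, g4, g5, ← map_mul, U_mul]
    all_goals first
      | (rw [← map_one π, ← U_zero]; apply congrArg π; apply hU <;>
          (first | exact h2 | linear_combination (0 : F) * h2 | linear_combination h2 | linear_combination (μ * μ) * h2 | linear_combination μ * h2 | ring))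
      | (apply congrArg π; apply hU <;>
          (first
            | linear_combination (0 : F) * h2
            | linear_combination h2 | linear_combination μ * h2 | linear_combination (μ * μ) * h2
            | linear_combination -h2 | linear_combination -μ * h2 | linear_combination -(μ * μ) * h2
            | linear_combination hsq | linear_combination -hsq
            | linear_combination -hsq - h2 | linear_combination hsq + h2
            | linear_combination -hsq - (μ + 1) * h2 | linear_combination hsq + (μ + 1) * h2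
            | linear_combination -hsq - μ * h2 | linear_combination hsq + μ * h2))
  set S : Set (T × Matrix.ProjectiveSpecialLinearGroup (Fin 3) F) :=
    {(a, g0), (b, g1), (c, g2), (d, g3), (z, g4), (w, g5)} with hS
  set K := Subgroup.closure S with hK
  have hle : Nat.card K ≤ 64 := RelL.card_le (RelL.pair h hk)
  let p : K →* T := (MonoidHom.fst T _).comp K.subtype
  have hp : Function.Surjective p := by
    rw [← MonoidHom.range_eq_top, MonoidHom.range_comp, Subgroup.range_subtype, hK,
      MonoidHom.map_closure, hS, ← hgen]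
    simp [Set.image_insert_eq]
  have hb : Function.Bijective p :=
    (Nat.bijective_iff_surjective_and_card p).mpr ⟨hp,
      le_antisymm (hcard ▸ hle) (Nat.card_le_card_of_surjective p hp)⟩
  let φ : T →* Matrix.ProjectiveSpecialLinearGroup (Fin 3) F :=
    (MonoidHom.snd T _).comp (K.subtype.comp (MulEquiv.ofBijective p hb).symm.toMonoidHom)
  have hφ : ∀ x y, (x, y) ∈ K → φ x = y := fun x y hxy => by
    have h1 : (MulEquiv.ofBijective p hb).symm x = ⟨(x, y), hxy⟩ := by
      rw [MulEquiv.symm_apply_eq]; rfl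
    show (((MulEquiv.ofBijective p hb).symm x : K) : T × _).2 = y
    rw [h1]
  have hz : φ z = g4 := hφ _ _ (Subgroup.subset_closure (by simp [hS]))
  have hw : φ w = g5 := hφ _ _ (Subgroup.subset_closure (by simp [hS]))
  have hinj : Function.Injective φ := by
    rw [← MonoidHom.ker_eq_bot_iff]
    by_contra hne
    have hT : IsPGroup 2 T := IsPGroup.of_card (n := 6) (by rw [hcard]; norm_num)
    haveI : Group.IsNilpotent T := hT.isNilpotent
    have := CfsgLib.Critical.inf_center_ne_bot φ.ker hne
    haveI := (Subgroup.nontrivial_iff_ne_bot _).mpr this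
    obtain ⟨⟨g, hg, hgc⟩, hg1⟩ := exists_ne (1 : ↥(φ.ker ⊓ Subgroup.center T))
    rcases hcen g hgc with e | e | e | e
    · exact hg1 (Subtype.ext e)
    · exact hπ one_ne_zero (hz.symm.trans (e ▸ hg : φ z = 1))
    · exact hπ hμμ (hw.symm.trans (e ▸ hg : φ w = 1))
    · have hzw : φ (z * w) = 1 := e ▸ hg
      rw [map_mul, hz, hw, ← map_mul, U_mul] at hzw
      refine hπ ?_ hzw
      rw [hsq]
      intro e0
      exact hμ0 (by linear_combination e0 - h2)
  have hPSL : Nat.card (Matrix.ProjectiveSpecialLinearGroup (Fin 3) F) = 20160 := by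
    have h := CfsgLib.Classical.sub_one_mul_card_SL (F := F) (n := 3) (by norm_num)
    rw [CfsgLib.Classical.card_SL_eq_gcd_mul_card_PSL, Nat.card_eq_fintype_card (α := F), hF,
      Fintype.card_fin, Fin.prod_univ_three, show Nat.gcd 3 (4 - 1) = 3 from rfl] at h
    norm_num [-Nat.card_eq_fintype_card] at h
    omega
  have hr : Nat.card φ.range = 64 := by
    rw [← hcard]; exact Nat.card_congr (MonoidHom.ofInjective hinj).toEquiv.symm
  have hP : Nat.card φ.range = 2 ^ (Nat.card (Matrix.ProjectiveSpecialLinearGroup (Fin 3) F)).factorization 2 := by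
    rw [hr, hPSL, show (20160 : ℕ) = 2 ^ 6 * 315 from rfl, Nat.factorization_mul (by norm_num)
      (by norm_num), Finsupp.add_apply, Nat.Prime.factorization_pow Nat.prime_two,
      Finsupp.single_eq_same, Nat.factorization_eq_zero_of_not_dvd (by norm_num)]
    norm_num
  exact ⟨(MonoidHom.ofInjective hinj).trans ((Sylow.ofCard φ.range hP).equiv P)⟩

end CfsgLib.LFourSylow
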