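import Mathlib

/-!
The bottom of the upper central series of a `p`-group of maximal class.
-/

set_option autoImplicit false
set_option linter.style.haveILetI false

namespace CfsgLib.MaxClassUpper

variable {X : Type*} [Group X] [Finite X] {p : ℕ} [hp : Fact p.Prime]

omit [Finite X] in
theorem ucs_step_eq {i : ℕ}
    (h : Subgroup.upperCentralSeries X (i + 1) = Subgroup.upperCentralSeries X i) (j : ℕ) :
    Subgroup.upperCentralSeries X (i + j) = Subgroup.upperCentralSeries X i := by
  induction j with
  | zero => rfl
  | succ j ih =>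
    ext x
    rw [← add_assoc, Subgroup.mem_upperCentralSeries_succ_iff, ih,
      ← Subgroup.mem_upperCentralSeries_succ_iff, h]

/-- In a group of order `p ^ n` of maximal class the `i`-th centre has order `p ^ i` for
`i ≤ n - 2`. -/
theorem card_ucs_eq {n : ℕ} (hX : Nat.card X = p ^ n) (hn : 2 ≤ n)
    (hmax : (⊤ : Subgroup X).lowerCentralSeries (n - 2) ≠ ⊥) {i : ℕ} (hi : i ≤ n - 2) :
    Nat.card (Subgroup.upperCentralSeries X i) = p ^ i := by
  have hP : IsPGroup p X := IsPGroup.of_card hX
  haveI := hP.isNilpotent
  have hne : ∀ j, j ≤ n - 2 → Subgroup.upperCentralSeries X j ≠ ⊤ := fun j hj h => hmax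
    (Subgroup.lowerCentralSeries_eq_bot_iff_upperCentralSeries_eq_top.2
      (top_le_iff.1 (h ▸ Subgroup.upperCentralSeries_mono X hj)))
  have hstep : ∀ j, j < n - 2 →
      p * Nat.card (Subgroup.upperCentralSeries X j) ≤
        Nat.card (Subgroup.upperCentralSeries X (j + 1)) := by
    intro j hj
    have hle := Subgroup.upperCentralSeries_mono X (Nat.le_succ j)
    have hlt : Subgroup.upperCentralSeries X j < Subgroup.upperCentralSeries X (j + 1) := by
      refine lt_of_le_of_ne hle fun h => hne j hj.le ?_
      obtain ⟨c, hc⟩ := Group.IsNilpotent.nilpotent X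
      rw [← ucs_step_eq h.symm c]
      exact top_le_iff.1 (hc ▸ Subgroup.upperCentralSeries_mono X (Nat.le_add_left c j))
    obtain ⟨a, ha⟩ := IsPGroup.iff_card.1 (hP.to_subgroup (Subgroup.upperCentralSeries X j))
    obtain ⟨b, hb⟩ := IsPGroup.iff_card.1 (hP.to_subgroup (Subgroup.upperCentralSeries X (j + 1)))
    have hcard : Nat.card (Subgroup.upperCentralSeries X j) <
        Nat.card (Subgroup.upperCentralSeries X (j + 1)) :=
      lt_of_le_of_ne (Subgroup.card_le_of_le hle) fun h =>
        hlt.ne (Subgroup.eq_of_le_of_card_ge hle h.ge)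
    rw [ha, hb] at hcard ⊢
    rw [← pow_succ']
    exact Nat.pow_le_pow_right hp.out.pos ((Nat.pow_lt_pow_iff_right hp.out.one_lt).1 hcard)
  have hchain : ∀ d j, j + d ≤ n - 2 →
      p ^ d * Nat.card (Subgroup.upperCentralSeries X j) ≤
        Nat.card (Subgroup.upperCentralSeries X (j + d)) := by
    intro d
    induction d with
    | zero => intro j _; simp
    | succ d ih =>
      intro j hj
      refine le_trans ?_ (hstep (j + d) (by omega))
      rw [pow_succ', mul_assoc]
      exact Nat.mul_le_mul_left p (ih j (by omega))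
  -- the last proper term has index at least `p ^ 2`
  have htop : Nat.card (Subgroup.upperCentralSeries X (n - 2)) ≤ p ^ (n - 2) := by
    obtain ⟨a, ha⟩ := IsPGroup.iff_card.1 (hP.to_subgroup (Subgroup.upperCentralSeries X (n - 2)))
    rw [ha]
    refine Nat.pow_le_pow_right hp.out.pos ?_
    by_contra hcon
    have hdvd := Subgroup.card_subgroup_dvd_card (Subgroup.upperCentralSeries X (n - 2))
    rw [ha, hX, Nat.pow_dvd_pow_iff_le_right hp.out.one_lt] at hdvd
    have han : a ≠ n := fun h => hne _ le_rfl (Subgroup.eq_top_of_card_eq _ (by rw [ha, hX, h]))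
    have hidx : (Subgroup.upperCentralSeries X (n - 2)).index = p := by
      have h1 := (Subgroup.upperCentralSeries X (n - 2)).card_mul_index
      rw [ha, hX, show p ^ n = p ^ a * p by rw [← pow_succ]; congr 1; omega] at h1
      exact Nat.eq_of_mul_eq_mul_left (pow_pos hp.out.pos _) h1
    rcases Nat.eq_zero_or_pos (n - 2) with h0 | h0
    · rw [h0, Subgroup.upperCentralSeries_zero, Subgroup.card_bot] at ha
      have : a = 0 := by
        by_contra h
        exact (Nat.one_lt_pow h hp.out.one_lt).ne ha
      omega
    obtain ⟨m, hm⟩ := Nat.exists_eq_add_of_le h0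
    set N := Subgroup.upperCentralSeries X m with hN
    have hcen : (Subgroup.center (X ⧸ N)).comap (QuotientGroup.mk' N) =
        Subgroup.upperCentralSeries X (m + 1) := by
      rw [← Subgroup.upperCentralSeriesStep_eq_comap_center]
      rfl
    haveI : IsCyclic ((X ⧸ N) ⧸ Subgroup.center (X ⧸ N)) := by
      refine isCyclic_of_prime_card (p := p) ?_
      rw [← Subgroup.index_eq_card, ← Subgroup.index_comap_of_surjective _
        (QuotientGroup.mk'_surjective N), hcen, show m + 1 = n - 2 by omega, hidx]
    refine hne (m + 1) (by omega) (top_le_iff.1 ?_)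
    rw [← hcen]
    intro x _
    rw [Subgroup.mem_comap, Subgroup.mem_center_iff]
    intro y
    haveI := MonoidHom.isMulCommutative_of_isCyclic_of_ker_le_center
      (QuotientGroup.mk' (Subgroup.center (X ⧸ N))) (by rw [QuotientGroup.ker_mk'])
    exact mul_comm' y _
  refine le_antisymm ?_ ?_
  · have h := hchain (n - 2 - i) i (by omega)
    rw [show i + (n - 2 - i) = n - 2 by omega] at h
    have h' := h.trans htop
    rw [show p ^ (n - 2) = p ^ (n - 2 - i) * p ^ i by rw [← pow_add]; congr 1; omega] at h'
    exact Nat.le_of_mul_le_mul_left h' (pow_pos hp.out.pos _)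
  · have h := hchain i 0 (by omega)
    rw [Subgroup.upperCentralSeries_zero, Subgroup.card_bot, mul_one, zero_add] at h
    exact h

end CfsgLib.MaxClassUpper
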