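import Mathlib
import Cfsg.Agent.Lib.PGroup.MetacyclicOdd
import Cfsg.Agent.Lib.Fusion.MetacyclicSections
import Cfsg.Agent.Lib.Fusion.SmallControl
import Cfsg.Agent.Lib.Fusion.RankTwoInversion
import Cfsg.Agent.Lib.PSolvable.Omega
import Cfsg.Agent.Lib.Fusion.SupersolubleType

/-!
Automorphism groups of order prime to `p` of nonabelian metacyclic `p`-groups, `p` odd, preserve a
line of the Frattini quotient, hence are abelian of exponent dividing `p - 1`.
-/

set_option autoImplicit false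
set_option linter.style.haveILetI false

namespace CfsgLib.MetacyclicLine

open CfsgLib.Fusion

theorem swap_pow {Q : Type*} [Group Q] {x y c : Q} (hc : ∀ g : Q, Commute c g)
    (h : y * x = c * x * y) : ∀ k : ℕ, y * x ^ k = c ^ k * x ^ k * y := by
  intro k
  induction k with
  | zero => simp
  | succ k ih =>
    calc y * x ^ (k + 1) = (y * x ^ k) * x := by rw [pow_succ, mul_assoc]
      _ = c ^ k * x ^ k * (y * x) := by rw [ih]; simp only [mul_assoc]
      _ = c ^ k * (x ^ k * c) * (x * y) := by rw [h]; simp only [mul_assoc]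
      _ = c ^ (k + 1) * x ^ (k + 1) * y := by
        rw [← (hc (x ^ k)).eq, pow_succ c, pow_succ x]; simp only [mul_assoc]

theorem mul_pow_central {Q : Type*} [Group Q] {x y c : Q} (hc : ∀ g : Q, Commute c g)
    (h : y * x = c * x * y) : ∀ k : ℕ, (x * y) ^ k = c ^ k.choose 2 * x ^ k * y ^ k := by
  intro k
  induction k with
  | zero => simp
  | succ k ih =>
    have h1 : y ^ k * x = c ^ k * x * y ^ k := by
      clear ih
      induction k with
      | zero => simp
      | succ k ihk =>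
        calc y ^ (k + 1) * x = y * (y ^ k * x) := by rw [pow_succ', mul_assoc]
          _ = (y * c ^ k) * x * y ^ k := by rw [ihk]; simp only [mul_assoc]
          _ = c ^ k * (y * x) * y ^ k := by rw [← ((hc y).pow_left k).eq]; simp only [mul_assoc]
          _ = c ^ (k + 1) * x * y ^ (k + 1) := by
            rw [h, pow_succ c, pow_succ' y]; simp only [mul_assoc]
    calc (x * y) ^ (k + 1) = c ^ k.choose 2 * x ^ k * (y ^ k * x) * y := by
          rw [pow_succ, ih]; simp only [mul_assoc]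
      _ = c ^ k.choose 2 * (x ^ k * c ^ k) * x * (y ^ k * y) := by rw [h1]; simp only [mul_assoc]
      _ = c ^ (k + 1).choose 2 * x ^ (k + 1) * y ^ (k + 1) := by
        rw [← ((hc (x ^ k)).pow_left k).eq, Nat.choose_succ_succ' k 1, Nat.choose_one_right,
          add_comm k, pow_add, pow_succ x, pow_succ y]
        simp only [mul_assoc]

theorem isCoatom_of_index_prime {Q : Type*} [Group Q] [Finite Q] {K : Subgroup Q}
    (h : K.index.Prime) : IsCoatom K := by
  refine ⟨fun e => h.ne_one (by rw [e, Subgroup.index_top]), fun b hb => ?_⟩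
  rcases (Nat.dvd_prime h).1 (Subgroup.index_dvd_of_le hb.le) with e | e
  · exact Subgroup.index_eq_one.1 e
  · refine absurd (Subgroup.eq_of_le_of_card_ge hb.le ?_) hb.ne
    have h1 := K.card_mul_index
    have h2 := b.card_mul_index
    rw [e, ← h1] at h2
    exact (Nat.eq_of_mul_eq_mul_right h.pos h2).le

variable {G : Type*} [Group G] [Finite G] {p : ℕ} [hp : Fact p.Prime]

/-- A characteristic line in the Frattini quotient. -/
theorem exists_invariant_line (hp2 : p ≠ 2) (hG : IsPGroup p G) (hm : Cfsg.IsMetacyclic G)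
    (hna : ¬ ∀ x y : G, x * y = y * x) :
    ∃ L : Subgroup G, frattini G < L ∧ L ≠ ⊤ ∧ ∀ α : MulAut G, ∀ x ∈ L, α x ∈ L := by
  classical
  have hpp := hp.out
  obtain ⟨a, b, hA, hgen, hle⟩ := CfsgLib.Metacyclic.exists_gens hm
  have hcyc : ∀ g : G, Subgroup.zpowers g ⊔ frattini G ≠ ⊤ := fun g e => hna (by
    have h1 := frattini_nongenerating e
    intro x y
    obtain ⟨i, hi⟩ := Subgroup.mem_zpowers_iff.1 (h1.ge (Subgroup.mem_top x))
    obtain ⟨j, hj⟩ := Subgroup.mem_zpowers_iff.1 (h1.ge (Subgroup.mem_top y))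
    rw [← hi, ← hj, ← zpow_add, ← zpow_add, add_comm])
  have haΦ : a ∉ frattini G := fun ha => hcyc b ((Subgroup.eq_top_iff' _).2 fun g => by
    obtain ⟨i, j, rfl⟩ := hgen g
    exact Subgroup.mul_mem _ (Subgroup.mem_sup_right (Subgroup.pow_mem _ ha i))
      (Subgroup.mem_sup_left (Subgroup.npow_mem_zpowers b j)))
  let π : G →* Abelianization G := Abelianization.of
  have hπs : Function.Surjective π := fun u => Quotient.inductionOn' u fun g => ⟨g, rfl⟩
  have hπk : ∀ x, π x = 1 ↔ x ∈ commutator G := fun x => by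
    rw [← Abelianization.ker_of, MonoidHom.mem_ker]
  have hπα : ∀ (α : MulAut G) (x : G), π (α x) = α.abelianizationCongr (π x) := fun α x => rfl
  obtain ⟨m, hm0, hexp, hne⟩ : ∃ m : ℕ, m ≠ 0 ∧ (∀ u : Abelianization G, u ^ p ^ m = 1) ∧
      ∃ u : Abelianization G, u ^ p ^ (m - 1) ≠ 1 := by
    have hab : IsPGroup p (Abelianization G) :=
      hG.of_surjective π hπs
    have hex : ∃ m : ℕ, ∀ u : Abelianization G, u ^ p ^ m = 1 := by
      obtain ⟨k, hk⟩ := hab.exists_card_eq
      exact ⟨k, fun u => hk ▸ pow_card_eq_one'⟩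
    refine ⟨Nat.find hex, fun e => ?_, Nat.find_spec hex, ?_⟩
    · apply haΦ
      have h := Nat.find_spec hex (π a)
      rw [e, pow_zero, pow_one, hπk] at h
      exact (CfsgLib.PSolvable.commutator_le_frattini hG).1 h
    · by_contra hall
      push Not at hall
      have hlt : Nat.find hex - 1 < Nat.find hex := by
        have : Nat.find hex ≠ 0 := fun e => by
          apply haΦ
          have h := Nat.find_spec hex (π a)
          rw [e, pow_zero, pow_one, hπk] at h
          exact (CfsgLib.PSolvable.commutator_le_frattini hG).1 h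
        omega
      exact Nat.find_min hex hlt hall
  set K := ((powMonoidHom (p ^ (m - 1)) : Abelianization G →* Abelianization G).comp π).ker with hK
  have hKα : ∀ α : MulAut G, ∀ x ∈ K, α x ∈ K := by
    intro α x hx
    rw [hK, MonoidHom.mem_ker, MonoidHom.comp_apply, powMonoidHom_apply] at hx ⊢
    rw [hπα, ← map_pow, hx, map_one]
  have hΦα : ∀ α : MulAut G, ∀ x ∈ frattini G, α x ∈ frattini G := fun α x hx =>
    (Subgroup.characteristic_iff_comap_eq.1 inferInstance α).ge hx
  by_cases hKΦ : K ≤ frattini G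
  swap
  · refine ⟨K ⊔ frattini G, lt_of_le_of_ne le_sup_right fun e => hKΦ (le_sup_left.trans e.ge), ?_,
      fun α x hx => ?_⟩
    · intro e
      obtain ⟨u, hu⟩ := hne
      obtain ⟨x, rfl⟩ := hπs u
      exact hu ((frattini_nongenerating e).ge (Subgroup.mem_top x))
    · obtain ⟨k, hk, f, hf, rfl⟩ := Subgroup.mem_sup_of_normal_right.1 hx
      rw [map_mul]
      exact Subgroup.mul_mem _ (Subgroup.mem_sup_left (hKα α k hk))
        (Subgroup.mem_sup_right (hΦα α f hf))
  -- now `x ↦ x ^ p ^ m` modulo the `p`-th powers of the derived group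
  have hoa : orderOf (π a) = p ^ m := by
    have h1 : (π a) ^ p ^ (m - 1) ≠ 1 := fun e => haΦ (hKΦ e)
    obtain ⟨k, hk, hko⟩ := (Nat.dvd_prime_pow hpp).1 (orderOf_dvd_of_pow_eq_one (hexp (π a)))
    rw [hko]
    congr 1
    by_contra hkm
    exact h1 (orderOf_dvd_iff_pow_eq_one.1 (hko ▸ pow_dvd_pow p (by omega)))
  set c0 := a ^ p ^ m with hc0
  have hc0C : c0 ∈ commutator G := (hπk _).1 (by rw [hc0, map_pow, hexp])
  have hC : ∀ c ∈ commutator G, c ∈ Subgroup.zpowers c0 := by
    intro c hc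
    obtain ⟨i, rfl⟩ := Subgroup.mem_zpowers_iff.1 (hle hc)
    have h1 : π a ^ i = 1 := by rw [← map_zpow]; exact (hπk _).2 hc
    rw [← orderOf_dvd_iff_zpow_eq_one, hoa] at h1
    obtain ⟨j, rfl⟩ := h1
    rw [zpow_mul, zpow_natCast]
    exact Subgroup.zpow_mem_zpowers _ j
  have hc01 : c0 ≠ 1 := by
    intro e
    refine hna fun x y => mul_inv_eq_iff_eq_mul.1 (mul_inv_eq_one.1 (?_ : x * y * x⁻¹ * y⁻¹ = 1))
    have h1 := hC (x * y * x⁻¹ * y⁻¹)
      (Subgroup.commutator_mem_commutator (Subgroup.mem_top x) (Subgroup.mem_top y))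
    rwa [e, Subgroup.zpowers_one_eq_bot, Subgroup.mem_bot] at h1
  set D := Subgroup.zpowers (c0 ^ p) with hD
  have hDα : ∀ α : MulAut G, ∀ x ∈ D, α x ∈ D := by
    intro α x hx
    obtain ⟨i, rfl⟩ := Subgroup.mem_zpowers_iff.1 hx
    obtain ⟨j, hj⟩ := Subgroup.mem_zpowers_iff.1 (hC (α c0)
      ((Subgroup.characteristic_iff_comap_eq.1 (inferInstance : (commutator G).Characteristic)
        α).ge hc0C))
    rw [map_zpow, map_pow, ← hj, ← zpow_natCast (c0 ^ j), ← zpow_mul c0, mul_comm j, zpow_mul c0,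
      zpow_natCast, ← zpow_mul, hD]
    exact Subgroup.zpow_mem_zpowers _ _
  haveI hDn : D.Normal := ⟨fun n hn g => hDα (MulAut.conj g) n hn⟩
  let q := QuotientGroup.mk' D
  have hDp : ¬ c0 ∈ D := by
    intro hc
    obtain ⟨i, hi⟩ := Subgroup.mem_zpowers_iff.1 hc
    rw [← zpow_natCast, ← zpow_mul, ← mul_inv_eq_one, ← zpow_sub_one,
      ← orderOf_dvd_iff_zpow_eq_one] at hi
    obtain ⟨k, hk⟩ := IsPGroup.iff_orderOf.1 hG c0
    rcases Nat.eq_zero_or_pos k with rfl | hk0
    · exact hc01 (orderOf_eq_one_iff.1 (hk.trans (pow_zero p)))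
    · have h1 : (p : ℤ) ∣ (p : ℤ) * i - 1 :=
        dvd_trans (Int.natCast_dvd_natCast.2 (hk ▸ dvd_pow_self p hk0.ne')) hi
      have h2 : (p : ℤ) ∣ 1 := by simpa using dvd_sub (dvd_mul_right (p : ℤ) i) h1
      exact hpp.one_lt.ne' (Nat.dvd_one.1 (by exact_mod_cast h2))
  have hq0 : q c0 ≠ 1 := fun e => hDp ((QuotientGroup.eq_one_iff _).1 e)
  have hq0p : q c0 ^ p = 1 := by
    rw [← map_pow]; exact (QuotientGroup.eq_one_iff _).2 (Subgroup.mem_zpowers _)
  have hcen : ∀ c ∈ commutator G, ∀ g, Commute (q c) g := by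
    intro c hc g
    have hn : (Subgroup.zpowers (q c0)).Normal := by
      have : (commutator G).map q = Subgroup.zpowers (q c0) := by
        rw [show commutator G = Subgroup.zpowers c0 from
          le_antisymm hC (Subgroup.zpowers_le.2 hc0C), MonoidHom.map_zpowers]
      rw [← this]
      exact Subgroup.Normal.map inferInstance q (QuotientGroup.mk'_surjective D)
    obtain ⟨i, rfl⟩ := Subgroup.mem_zpowers_iff.1 (hC c hc)
    rw [map_zpow]
    obtain ⟨e, he⟩ := Subgroup.mem_zpowers_iff.1 (hn.conj_mem _ (Subgroup.mem_zpowers (q c0)) g)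
    exact (show Commute g (q c0) from
      SupersolubleType.commute_of_normal_zpowers (hG.to_quotient D) hq0p he.symm).symm.zpow_left i
  obtain ⟨d, hd⟩ : p ∣ (p ^ m).choose 2 := by
    rw [Nat.choose_two_right]
    have h2 : Nat.Coprime p 2 := (Nat.coprime_primes hpp Nat.prime_two).2 hp2
    refine (h2.dvd_of_dvd_mul_right ?_)
    rw [Nat.div_mul_cancel (Nat.even_mul_pred_self _).two_dvd]
    exact (dvd_pow_self p hm0).mul_right _
  let φ : G →* G ⧸ D := MonoidHom.mk' (fun x => q x ^ p ^ m) fun x y => by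
    set c := q (y * x * y⁻¹ * x⁻¹) with hc
    have hcc : y * x * y⁻¹ * x⁻¹ ∈ commutator G :=
      Subgroup.commutator_mem_commutator (Subgroup.mem_top y) (Subgroup.mem_top x)
    have hcp : c ^ p = 1 := by
      obtain ⟨i, hi⟩ := Subgroup.mem_zpowers_iff.1 (hC _ hcc)
      rw [hc, ← hi, map_zpow, ← zpow_natCast, ← zpow_mul, mul_comm, zpow_mul, zpow_natCast, hq0p,
        one_zpow]
    rw [map_mul, mul_pow_central (hcen _ hcc)
      (show q y * q x = c * q x * q y by rw [hc, ← map_mul, ← map_mul, ← map_mul]; congr 1; group),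
      hd, pow_mul, hcp, one_pow, one_mul]
  have hφα : ∀ α : MulAut G, ∀ x ∈ φ.ker, α x ∈ φ.ker := by
    intro α x hx
    rw [MonoidHom.mem_ker] at hx ⊢
    change q x ^ p ^ m = 1 at hx
    show q (α x) ^ p ^ m = 1
    rw [← map_pow, QuotientGroup.mk'_apply, QuotientGroup.eq_one_iff] at hx ⊢
    rw [← map_pow]
    exact hDα α _ hx
  have hφa : φ a ≠ 1 := by
    show q a ^ p ^ m ≠ 1
    rw [← map_pow]
    exact hq0
  have hrange : φ.range ≤ Subgroup.zpowers (q c0) := by
    rintro _ ⟨x, rfl⟩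
    obtain ⟨i, hi⟩ := Subgroup.mem_zpowers_iff.1 (hC (x ^ p ^ m) ((hπk _).1 (by rw [map_pow, hexp])))
    show q x ^ p ^ m ∈ _
    rw [← map_pow, ← hi, map_zpow]
    exact Subgroup.zpow_mem_zpowers _ i
  have hidx : φ.ker.index = p := by
    rw [Subgroup.index_ker]
    have h1 : Nat.card φ.range ∣ p := by
      have := Subgroup.card_dvd_of_le hrange
      rwa [Nat.card_zpowers, orderOf_eq_prime hq0p hq0] at this
    rcases (Nat.dvd_prime hpp).1 h1 with h | h
    · exact absurd ((Subgroup.eq_bot_of_card_eq _ h).le ⟨a, rfl⟩) (by rwa [Subgroup.mem_bot])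
    · exact h
  have hΦle : frattini G ≤ φ.ker := by
    haveI := hG.isNilpotent
    exact frattini_le_coatom (isCoatom_of_index_prime (hidx ▸ hpp))
  refine ⟨φ.ker, lt_of_le_of_ne hΦle fun e => ?_, fun e => ?_, hφα⟩
  · have h1 : Subgroup.zpowers a ⊔ frattini G = ⊤ := by
      rw [e]
      by_contra hne'
      have hlt : φ.ker < Subgroup.zpowers a ⊔ φ.ker :=
        lt_of_le_of_ne le_sup_right fun e' => hφa (MonoidHom.mem_ker.1
          (e'.ge (Subgroup.mem_sup_left (Subgroup.mem_zpowers a))))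
      exact hne' ((isCoatom_of_index_prime (hidx ▸ hpp)).2 _ hlt)
    exact hcyc a h1
  · rw [e, Subgroup.index_top] at hidx
    exact hpp.one_lt.ne hidx

/-- `p'`-groups of automorphisms are abelian of exponent dividing `p - 1`. -/
theorem aut_coprime (hp2 : p ≠ 2) (hG : IsPGroup p G) (hm : Cfsg.IsMetacyclic G)
    (hna : ¬ ∀ x y : G, x * y = y * x) (H : Subgroup (MulAut G)) (hH : (Nat.card H).Coprime p) :
    IsMulCommutative H ∧ ∀ h ∈ H, h ^ (p - 1) = 1 := by
  classical
  have hpp := hp.out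
  obtain ⟨L, hΦL, hLtop, hLα⟩ := exists_invariant_line hp2 hG hm hna
  haveI : Finite (MulAut G) :=
    Finite.of_injective (fun e : MulAut G => (e : G → G)) fun a b h => MulEquiv.ext (congrFun h)
  set V := G ⧸ frattini G with hV
  have hVp : IsPGroup p V := hG.to_quotient _
  have hVexp : ∀ x : V, x ^ p = 1 := by
    intro x
    obtain ⟨g, rfl⟩ := QuotientGroup.mk'_surjective (frattini G) x
    rw [← map_pow]
    exact (QuotientGroup.eq_one_iff _).2 (CfsgLib.OddOmega.pow_mem_frattini hG g)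
  have hm' : Cfsg.IsMetacyclic (⊤ : Subgroup G) :=
    CfsgLib.Metacyclic.isMetacyclic_subgroup hm ⊤
  have hVc : Nat.card V ≤ p * p := card_le_sq_of_metacyclic hm' le_rfl
    ((QuotientGroup.mk' (frattini G)).comp (⊤ : Subgroup G).subtype)
    (fun v => by
      obtain ⟨g, rfl⟩ := QuotientGroup.mk'_surjective (frattini G) v
      exact ⟨⟨g, Subgroup.mem_top g⟩, rfl⟩) hpp.ne_zero hVexp
  set D := L.map (QuotientGroup.mk' (frattini G)) with hDdef
  haveI : D.Normal := by
    refine Subgroup.Normal.map ⟨fun n hn g => hLα (MulAut.conj g) n hn⟩ _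
      (QuotientGroup.mk'_surjective _)
  obtain ⟨j, hj⟩ := IsPGroup.iff_card.1 hVp
  have hD1 : Nat.card D = p ∧ Nat.card (V ⧸ D) = p := by
    have h1 := Subgroup.card_eq_card_quotient_mul_card_subgroup D
    have hDne : Nat.card D ≠ 1 := fun e => hΦL.not_ge (fun x hx =>
      (QuotientGroup.eq_one_iff x).1 ((Subgroup.eq_bot_of_card_eq D e).le ⟨x, hx, rfl⟩))
    have hQne : Nat.card (V ⧸ D) ≠ 1 := fun e => hLtop ((Subgroup.eq_top_iff' _).2 fun x => by
      have h2 : D = ⊤ := Subgroup.index_eq_one.1 (by rw [Subgroup.index_eq_card, e])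
      obtain ⟨y, hy, hxy⟩ := h2.ge (Subgroup.mem_top (QuotientGroup.mk' (frattini G) x))
      have h3 := Subgroup.mul_mem L hy (hΦL.le (QuotientGroup.eq.1 hxy))
      rwa [mul_inv_cancel_left] at h3)
    obtain ⟨u, hu⟩ := IsPGroup.iff_card.1 (hVp.to_subgroup D)
    obtain ⟨v, hv⟩ := IsPGroup.iff_card.1 (hVp.to_quotient D)
    rw [hu, hv, ← pow_add] at h1
    rw [h1, ← pow_two] at hVc
    have h4 := (Nat.pow_le_pow_iff_right hpp.one_lt).1 hVc
    have hu0 : u ≠ 0 := fun e => hDne (by rw [hu, e, pow_zero])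
    have hv0 : v ≠ 0 := fun e => hQne (by rw [hv, e, pow_zero])
    rw [hu, hv, show u = 1 by omega, show v = 1 by omega, pow_one]
    exact ⟨rfl, rfl⟩
  have hinv : ∀ h : H, ∀ x ∈ D, frattiniHom G (h : MulAut G) x ∈ D := by
    rintro h _ ⟨y, hy, rfl⟩
    exact ⟨(h : MulAut G) y, hLα _ y hy, rfl⟩
  let ρ1 : H →* MulAut D := MonoidHom.mk'
    (fun h => (((frattiniHom G (h : MulAut G)).subgroupMap D).trans
      (MulEquiv.subgroupCongr (Subgroup.eq_of_le_of_card_ge
        (by rintro _ ⟨x, hx, rfl⟩; exact hinv h x hx)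
        (Subgroup.card_map_of_injective (MulEquiv.injective _)).ge))))
    fun h k => MulEquiv.ext fun x => Subtype.ext (by
      show frattiniHom G ((h * k : H) : MulAut G) x = _
      rw [Subgroup.coe_mul, map_mul]
      rfl)
  let ρ2 : H →* MulAut (V ⧸ D) := MonoidHom.mk'
    (fun h => QuotientGroup.congr D D (frattiniHom G (h : MulAut G))
      (Subgroup.eq_of_le_of_card_ge
        (by rintro _ ⟨x, hx, rfl⟩; exact hinv h x hx)
        (Subgroup.card_map_of_injective (MulEquiv.injective _)).ge))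
    fun h k => MulEquiv.ext fun x => by
      obtain ⟨x, rfl⟩ := QuotientGroup.mk'_surjective D x
      show QuotientGroup.mk' D (frattiniHom G ((h * k : H) : MulAut G) x) = _
      rw [Subgroup.coe_mul, map_mul]
      rfl
  have hinj : ∀ h : H, ρ1 h = 1 → ρ2 h = 1 → h = 1 := by
    intro h h1 h2
    let b : (⊤ : Subgroup (MulAut V)) := ⟨frattiniHom G (h : MulAut G), Subgroup.mem_top _⟩
    have hb : b ∈ SmallControl.stab (⊤ : Subgroup (MulAut V)) D :=
      ⟨fun z hz => by
        have e := Subtype.ext_iff.1 (DFunLike.congr_fun h1 (⟨z, hz⟩ : D))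
        exact e, fun y => by
        have e := (DFunLike.congr_fun h2 (QuotientGroup.mk' D y)).symm
        exact QuotientGroup.eq.1 e⟩
    obtain ⟨k, hk⟩ := SmallControl.stab_pgroup (⊤ : Subgroup (MulAut V)) hVp D ⟨b, hb⟩
    have hk' : (h : MulAut G) ^ p ^ k ∈ (frattiniHom G).ker := by
      rw [MonoidHom.mem_ker, map_pow]
      exact congrArg (fun t : SmallControl.stab (⊤ : Subgroup (MulAut V)) D =>
        ((t : (⊤ : Subgroup (MulAut V))) : MulAut V)) hk
    obtain ⟨l, hl⟩ := isPGroup_ker_frattiniHom hG ⟨_, hk'⟩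
    have hl' : ((h : MulAut G) ^ p ^ k) ^ p ^ l = 1 := congrArg Subtype.val hl
    rw [← pow_mul, ← pow_add] at hl'
    have h3 : orderOf h ∣ p ^ (k + l) := by
      rw [← Subgroup.orderOf_coe]; exact orderOf_dvd_of_pow_eq_one hl'
    exact orderOf_eq_one_iff.1 (Nat.eq_one_of_dvd_coprimes (hH.pow_right (k + l))
      (orderOf_dvd_natCard h) h3)
  have key : ∀ (W : Type _) [Group W], Nat.card W = p →
      (∀ σ τ : MulAut W, σ * τ = τ * σ) ∧ ∀ σ : MulAut W, σ ^ (p - 1) = 1 := by
    intro W _ hW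
    haveI : IsCyclic W := isCyclic_of_prime_card hW
    haveI : Finite W := Nat.finite_of_card_ne_zero (hW ▸ hpp.ne_zero)
    let e := IsCyclic.mulAutMulEquiv W
    refine ⟨fun σ τ => e.injective (by rw [map_mul, map_mul, mul_comm]), fun σ => e.injective ?_⟩
    rw [map_pow, map_one]
    have hc : Nat.card (ZMod (Nat.card W))ˣ = p - 1 := by
      rw [hW, Nat.card_eq_fintype_card, ZMod.card_units p]
    rw [← hc]
    exact pow_card_eq_one'
  obtain ⟨hc1, he1⟩ := key D hD1.1
  obtain ⟨hc2, he2⟩ := key (V ⧸ D) hD1.2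
  refine ⟨⟨⟨fun h k => ?_⟩⟩, fun h hh => ?_⟩
  · refine mul_inv_eq_iff_eq_mul.1 (mul_inv_eq_one.1 (hinj (h * k * h⁻¹ * k⁻¹) ?_ ?_))
    · rw [map_mul, map_mul, map_mul, map_inv, map_inv, hc1 (ρ1 h), mul_inv_cancel_right,
        mul_inv_cancel]
    · rw [map_mul, map_mul, map_mul, map_inv, map_inv, hc2 (ρ2 h), mul_inv_cancel_right,
        mul_inv_cancel]
  · exact congrArg Subtype.val (hinj (⟨h, hh⟩ ^ (p - 1)) (by rw [map_pow, he1])
      (by rw [map_pow, he2]))

end CfsgLib.MetacyclicLine
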