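import Mathlib
import Cfsg.Agent.Lib.Regular.Basic
import Cfsg.Agent.Lib.PGroup.MetacyclicOdd
import Cfsg.Agent.Lib.PGroup.RankTwoNormal
import Cfsg.Agent.Lib.Fusion.MetacyclicSections

/-!
`p`-groups with cyclic derived subgroup are regular for odd `p`; the layers of elements killed by
`p` and `p ^ 2` in metacyclic groups without cyclic subgroups of index `p`.
-/

set_option autoImplicit false
set_option linter.style.haveILetI false
set_option linter.unusedSectionVars false

open scoped commutatorElement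

namespace CfsgLib.Metacyclic

variable {G : Type*} [Group G] [Finite G] {p : ℕ} [hp : Fact p.Prime]

/-- The power condition holds in a `p`-group with cyclic derived subgroup, `p` odd. -/
theorem CyclicDerived.levelReg (h : CyclicDerived p G) : Regular.LevelReg p 1 G := by
  intro a b
  set H := Subgroup.closure ({a, b} : Set G) with hH
  set d := ⁅b, a⁆ with hd
  have hdH : d ∈ ⁅H, H⁆ := Subgroup.commutator_mem_commutator
    (Subgroup.subset_closure (by simp)) (Subgroup.subset_closure (by simp))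
  set N := Subgroup.zpowers (d ^ p) with hN
  have hdc : d ∈ commutator G := comm_mem b a
  haveI hNn : N.Normal := ⟨fun n hn g => by
    obtain ⟨k, rfl⟩ := Subgroup.mem_zpowers_iff.1 hn
    obtain ⟨r, -, hr⟩ := h.conj_exp g hdc
    rw [← conj_zpow, ← conj_pow, hr, ← pow_mul, mul_comm r p, pow_mul]
    exact Subgroup.zpow_mem _ (Subgroup.pow_mem _ (Subgroup.mem_zpowers _) r) k⟩
  set f := QuotientGroup.mk' N with hf
  have hcen : ∀ g : G, Commute (f d) (f g) := fun g => by
    obtain ⟨r, hr1, hr⟩ := h.conj_exp g hdc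
    have h1 : f (g * d * g⁻¹) = f d := by
      rw [hr, map_pow]
      have hpow : (f d) ^ p = 1 := by
        rw [← map_pow]; exact (QuotientGroup.eq_one_iff _).2 (Subgroup.mem_zpowers _)
      conv_rhs => rw [← pow_one (f d)]
      exact pow_eq_pow_iff_modEq.2 (Nat.ModEq.of_dvd (orderOf_dvd_of_pow_eq_one hpow) hr1)
    rw [map_mul, map_mul, map_inv, mul_inv_eq_iff_eq_mul] at h1
    exact h1.symm
  have e : f d = ⁅f b, f a⁆ := map_commutatorElement f b a
  have hmul := PSolvable.mul_pow_of_comm (x := f a) (y := f b) (e ▸ hcen a) (e ▸ hcen b) p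
  obtain ⟨r, hr⟩ : p ∣ p.choose 2 :=
    hp.out.dvd_choose_self two_ne_zero (lt_of_le_of_ne hp.out.two_le h.odd.symm)
  have h1 : ⁅f b, f a⁆ ^ p.choose 2 = 1 := by
    rw [← e, hr, pow_mul, ← map_pow]
    rw [show f (d ^ p) = 1 from (QuotientGroup.eq_one_iff _).2 (Subgroup.mem_zpowers _), one_pow]
  rw [h1, mul_one, ← map_mul, ← map_pow, ← map_pow, ← map_pow, ← map_mul] at hmul
  have h2 : (a ^ p * b ^ p)⁻¹ * (a * b) ^ p ∈ N := QuotientGroup.eq.1 hmul.symm
  have hle : N ≤ Cfsg.powerClosure p 1 ⁅H, H⁆ :=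
    Subgroup.zpowers_le.2 (Subgroup.subset_closure ⟨d, hdH, by rw [pow_one]⟩)
  refine ⟨_, hle h2, ?_⟩
  rw [pow_one, mul_inv_cancel_left]

theorem CyclicDerived.regular (h : CyclicDerived p G) (k : ℕ) : Regular.LevelReg p k G :=
  Regular.levelReg_of_regular (Regular.isRegular_of_level_one h.pgroup h.levelReg) k

/-- The subgroup of elements killed by `p ^ k`. -/
def CyclicDerived.om (h : CyclicDerived p G) (k : ℕ) : Subgroup G where
  carrier := {x | x ^ p ^ k = 1}
  one_mem' := one_pow _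
  mul_mem' := fun ha hb => Regular.omega_mul h.pgroup (h.regular k) _ _ ha hb
  inv_mem' := fun {x} (hx : x ^ p ^ k = 1) => show x⁻¹ ^ p ^ k = 1 by rw [inv_pow, hx, inv_one]

theorem CyclicDerived.mem_om (h : CyclicDerived p G) {k : ℕ} {x : G} :
    x ∈ h.om k ↔ x ^ p ^ k = 1 := Iff.rfl

/-- Equal `p ^ k`-th powers mean a quotient killed by `p ^ k`. -/
theorem CyclicDerived.pow_eq_pow (h : CyclicDerived p G) (k : ℕ) {a b : G} :
    a ^ p ^ k = b ^ p ^ k ↔ (b⁻¹ * a) ^ p ^ k = 1 := by
  rw [Regular.pow_eq_iff h.pgroup (h.regular k)]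
  have e : (b * (b⁻¹ * a) * b⁻¹) ^ p ^ k = b * (b⁻¹ * a) ^ p ^ k * b⁻¹ := conj_pow
  rw [mul_inv_cancel_left] at e
  rw [e]
  exact conj_eq_one_iff

/-- The number of `p`-th powers. -/
theorem CyclicDerived.card_om_mul (h : CyclicDerived p G) :
    Nat.card G = Nat.card (h.om 1) * Nat.card (Cfsg.powerClosure p 1 (⊤ : Subgroup G)) := by
  rw [← (h.om 1).card_mul_index]
  congr 1
  have hset := Regular.powerClosure_eq_set h.pgroup (h.regular 1) (⊤ : Subgroup G)
  have hmem : ∀ x : G, x ^ p ^ 1 ∈ Cfsg.powerClosure p 1 (⊤ : Subgroup G) := fun x =>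
    Subgroup.subset_closure ⟨x, Subgroup.mem_top x, rfl⟩
  let φ : G ⧸ h.om 1 → Cfsg.powerClosure p 1 (⊤ : Subgroup G) := fun q =>
    Quotient.liftOn' q (fun x => ⟨x ^ p ^ 1, hmem x⟩) fun a b hab => Subtype.ext (by
      rw [QuotientGroup.leftRel_apply] at hab
      exact ((h.pow_eq_pow 1).2 hab).symm)
  refine Nat.card_congr (Equiv.ofBijective φ ⟨?_, ?_⟩)
  · intro u v
    refine Quotient.inductionOn₂' u v fun a b e => ?_
    exact Quotient.sound' (QuotientGroup.leftRel_apply.2 ((h.pow_eq_pow 1).1 (congrArg Subtype.val e).symm))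
  · rintro ⟨y, hy⟩
    rw [← SetLike.mem_coe, ← hset] at hy
    obtain ⟨x, -, rfl⟩ := hy
    exact ⟨QuotientGroup.mk x, rfl⟩

/-- In a metacyclic `p`-group, `p` odd, without cyclic subgroups of index `p`: the elements killed by
`p` form a group of order `p ^ 2` of `p`-th powers, central among the elements killed by `p ^ 2`. -/
theorem omega_data (hp2 : p ≠ 2) (hG : IsPGroup p G) (hm : Cfsg.IsMetacyclic G) [Nontrivial G]
    (hnc : ∀ C : Subgroup G, IsCyclic C → C.index ≠ p) :
    ∃ h : CyclicDerived p G, Nat.card (h.om 1) = p ^ 2 ∧ (∀ e ∈ h.om 1, ∃ v ∈ h.om 2, v ^ p = e) ∧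
      ∀ e ∈ h.om 1, ∀ v ∈ h.om 2, Commute e v := by
  have hpp := hp.out
  have h := cyclicDerived hp2 hG hm
  set E := h.om 1 with hE
  set P := Cfsg.powerClosure p 1 (⊤ : Subgroup G) with hP
  obtain ⟨m, hm'⟩ := IsPGroup.iff_card.1 hG
  have hncyc : ¬ IsCyclic G := fun hc => by
    obtain ⟨x, hx⟩ := IsCyclic.exists_generator (α := G)
    have hm0 : m ≠ 0 := fun h0 => by
      rw [h0, pow_zero] at hm'
      exact (Finite.one_lt_card (α := G)).ne hm'.symm
    haveI : IsCyclic (Subgroup.zpowers (x ^ p)) := inferInstance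
    refine hnc (Subgroup.zpowers (x ^ p)) inferInstance ?_
    have h1 := (Subgroup.zpowers (x ^ p)).card_mul_index
    rw [Nat.card_zpowers, orderOf_pow' _ hpp.ne_zero, orderOf_eq_card_of_forall_mem_zpowers hx, hm',
      Nat.gcd_eq_right (dvd_pow_self p hm0)] at h1
    refine Nat.eq_of_mul_eq_mul_left ?_ (h1.trans (Nat.div_mul_cancel (dvd_pow_self p hm0)).symm)
    exact Nat.div_pos (Nat.le_of_dvd (pow_pos hpp.pos _) (dvd_pow_self p hm0)) hpp.pos
  have hEle : Nat.card E ≤ p ^ 2 := by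
    have hmE : Cfsg.IsMetacyclic (⊤ : Subgroup G) := isMetacyclic_subgroup hm ⊤
    have := Fusion.card_le_sq_of_metacyclic hmE (W := E) le_top (MonoidHom.id E)
      Function.surjective_id (p := p) hpp.ne_zero fun x => Subtype.ext (by
        have h2 := h.mem_om.1 x.2
        rw [pow_one] at h2
        simpa using h2)
    rwa [← sq] at this
  have hsmall : ∀ C : Subgroup G, ∀ Z : Subgroup G, Nat.card Z ≤ p → (∀ x ∈ C, x ^ p = 1 → x ∈ Z) →
      IsCyclic C := by
    intro C Z hZ hCZ
    rcases eq_or_ne C ⊥ with rfl | hC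
    · infer_instance
    haveI : Nontrivial C := (Subgroup.nontrivial_iff_ne_bot C).2 hC
    obtain ⟨x, hx⟩ := exists_prime_orderOf_dvd_card' (G := C) p (by
      obtain ⟨k, hk⟩ := IsPGroup.iff_card.1 (hG.to_subgroup C)
      rw [hk]
      exact dvd_pow_self p fun h0 => by
        rw [h0, pow_zero] at hk
        exact (Finite.one_lt_card (α := C)).ne hk.symm)
    refine RankTwoNormal.isCyclic_of_line hG hp2 (Z := Z) (le_antisymm hZ ?_) hCZ
    have hxZ : (x : G) ∈ Z := hCZ _ x.2 (by
      rw [← SubmonoidClass.coe_pow, ← hx, pow_orderOf_eq_one]; rfl)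
    rw [← hx, ← Subgroup.orderOf_coe, ← Nat.card_zpowers]
    exact Subgroup.card_le_of_le (Subgroup.zpowers_le.2 hxZ)
  have hEc : Nat.card E = p ^ 2 := by
    obtain ⟨k, hk⟩ := IsPGroup.iff_card.1 (hG.to_subgroup E)
    rw [hk]
    rw [hk, Nat.pow_le_pow_iff_right hpp.one_lt] at hEle
    congr 1
    by_contra hk2
    refine hncyc ?_
    have := hsmall ⊤ E (by
      rw [hk]
      exact (Nat.pow_le_pow_right hpp.pos (show k ≤ 1 by omega)).trans (pow_one p).le)
      fun x _ hx => h.mem_om.2 (by rwa [pow_one])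
    exact isCyclic_of_surjective Subgroup.topEquiv (MulEquiv.surjective _)
  have hEP : E ≤ P := by
    by_contra hnle
    have hlt : E ⊓ P < E := lt_of_le_of_ne inf_le_left fun e => hnle (e ▸ inf_le_right)
    have hcardlt : Nat.card ↥(E ⊓ P) ≤ p := by
      obtain ⟨k, hk⟩ := IsPGroup.iff_card.1 (hG.to_subgroup (E ⊓ P))
      rw [hk]
      refine (Nat.pow_le_pow_right hpp.pos (show k ≤ 1 from ?_)).trans (pow_one p).le
      by_contra hk1
      exact hlt.ne (Subgroup.eq_of_le_of_card_ge hlt.le (by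
        rw [hk, hEc]; exact Nat.pow_le_pow_right hpp.pos (by omega)))
    haveI := hsmall P (E ⊓ P) hcardlt fun x hx hxp => ⟨h.mem_om.2 (by rwa [pow_one]), hx⟩
    obtain ⟨⟨z, hz⟩, hzgen⟩ := IsCyclic.exists_ofOrder_eq_natCard (α := P)
    rw [Subgroup.orderOf_mk] at hzgen
    have hset := Regular.powerClosure_eq_set h.pgroup (h.regular 1) (⊤ : Subgroup G)
    have hz' := hz
    rw [← SetLike.mem_coe, ← hset] at hz'
    obtain ⟨x, -, rfl⟩ := hz'
    rw [pow_one] at hzgen hz
    have hcard := h.card_om_mul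
    rw [← hE, ← hP, hEc, ← hzgen] at hcard
    have hx1 : p ∣ orderOf x := by
      obtain ⟨k, hk⟩ := IsPGroup.iff_orderOf.1 hG x
      rw [hk]
      refine dvd_pow_self p fun h0 => ?_
      rw [h0, pow_zero, orderOf_eq_one_iff] at hk
      rw [hk, one_pow, orderOf_one, mul_one] at hcard
      refine hnle fun e he => ?_
      have hmm : m = 2 := Nat.pow_right_injective hpp.two_le (hm'.symm.trans hcard)
      obtain ⟨e0, he0⟩ := exists_prime_orderOf_dvd_card' (G := G) p (by
        rw [hm', hmm]; exact dvd_pow_self p two_ne_zero)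
      refine absurd ?_ (hnc (Subgroup.zpowers e0) inferInstance)
      have h1 := (Subgroup.zpowers e0).card_mul_index
      rw [Nat.card_zpowers, he0, hm', hmm, sq] at h1
      exact Nat.eq_of_mul_eq_mul_left hpp.pos h1
    refine hnc (Subgroup.zpowers x) inferInstance ?_
    have h1 := (Subgroup.zpowers x).card_mul_index
    rw [Nat.card_zpowers, hcard, orderOf_pow' _ hpp.ne_zero, Nat.gcd_eq_right hx1] at h1
    obtain ⟨q, hq⟩ := hx1
    have hq0 : 0 < q := Nat.pos_of_ne_zero fun h0 => (orderOf_pos x).ne' (by rw [hq, h0, mul_zero])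
    rw [hq, Nat.mul_div_cancel_left _ hpp.pos] at h1
    refine Nat.eq_of_mul_eq_mul_left (show 0 < p * q from Nat.mul_pos hpp.pos hq0) ?_
    rw [h1]; ring
  have hroot : ∀ e ∈ E, ∃ v ∈ h.om 2, v ^ p = e := by
    intro e he
    have hset := Regular.powerClosure_eq_set h.pgroup (h.regular 1) (⊤ : Subgroup G)
    have he' := hEP he
    rw [← SetLike.mem_coe, hP, ← hset] at he'
    obtain ⟨v, -, rfl⟩ := he'
    refine ⟨v, h.mem_om.2 ?_, by rw [pow_one]⟩
    have h1 := h.mem_om.1 he
    rw [← pow_mul] at h1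
    rwa [show p ^ 2 = p ^ 1 * p ^ 1 by ring]
  refine ⟨h, hEc, hroot, ?_⟩
  set M := h.om 2 with hM
  have hmM : Cfsg.IsMetacyclic M := isMetacyclic_subgroup hm M
  have hMp : IsPGroup p M := hG.to_subgroup M
  have hMD := cyclicDerived hp2 hMp hmM
  have hMc : ∀ x y : M, ⁅x, y⁆ ^ p = 1 := by
    obtain ⟨a, b, hna, hgen, hle⟩ := exists_gens hmM
    intro x y
    have hxy := comm_mem x y
    obtain ⟨k, hk⟩ := IsPGroup.iff_card.1 (hMp.to_subgroup (commutator M))
    have hklt : k ≤ 1 := by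
      by_contra hk1
      have ha2 : orderOf a ≤ p ^ 2 :=
        Nat.le_of_dvd (pow_pos hpp.pos _) (orderOf_dvd_of_pow_eq_one (Subtype.ext a.2))
      have heq : commutator M = Subgroup.zpowers a := Subgroup.eq_of_le_of_card_ge hle (by
        rw [Nat.card_zpowers, hk]; exact ha2.trans (Nat.pow_le_pow_right hpp.pos (by omega)))
      have haF : a ∈ frattini M :=
        (PSolvable.commutator_le_frattini hMp).1 (heq ▸ Subgroup.mem_zpowers a)
      have htop : Subgroup.zpowers b = ⊤ := frattini_nongenerating (eq_top_iff.2 fun g _ => by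
        obtain ⟨i, j, rfl⟩ := hgen g
        exact mul_mem (Subgroup.mem_sup_right (pow_mem haF i))
          (Subgroup.mem_sup_left (pow_mem (Subgroup.mem_zpowers b) j)))
      have hbot : commutator M = ⊥ := by
        rw [commutator_eq_closure, Subgroup.closure_eq_bot_iff]
        rintro _ ⟨u, v, rfl⟩
        obtain ⟨i, rfl⟩ := Subgroup.mem_zpowers_iff.1 (htop.ge (Subgroup.mem_top u))
        obtain ⟨j, rfl⟩ := Subgroup.mem_zpowers_iff.1 (htop.ge (Subgroup.mem_top v))
        exact commutatorElement_eq_one_iff_mul_comm.2 (Commute.zpow_zpow_self b i j).eq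
      rw [hbot, Subgroup.card_bot] at hk
      exact absurd hk.symm (Nat.one_lt_pow (by omega) hpp.one_lt).ne'
    have h1 : (⟨_, hxy⟩ : commutator M) ^ p = 1 :=
      orderOf_dvd_iff_pow_eq_one.1 ((orderOf_dvd_natCard _).trans (hk ▸ (pow_dvd_pow p hklt).trans
        (pow_one p).dvd))
    exact congrArg Subtype.val h1
  intro e he v hv
  obtain ⟨w, hw, rfl⟩ := hroot e he
  have h1 := (hMD.comm_pow_eq_one (⟨w, hw⟩ : M) ⟨v, hv⟩ p).2 (hMc _ _)
  exact congrArg Subtype.val (commutatorElement_eq_one_iff_mul_comm.1 h1)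

end CfsgLib.Metacyclic
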