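import Mathlib
import Cfsg.Prelude.Def_OddOrderLocal
import Cfsg.Agent.Lib.PGroup.Metacyclic
import Cfsg.Agent.Lib.PGroup.MetacyclicOdd

/-!
A metacyclic `p`-group, `p` odd, is a product of two cyclic subgroups with trivial intersection.
-/

set_option autoImplicit false
set_option linter.style.haveILetI false

namespace CfsgLib.Metacyclic

theorem exists_disjoint_cyclic_product {G : Type*} [Group G] [Finite G] {p : ℕ} [hp : Fact p.Prime]
    (hp2 : p ≠ 2) (hG : IsPGroup p G) (hm : Cfsg.IsMetacyclic G) :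
    ∃ A B : Subgroup G, IsCyclic ↥A ∧ IsCyclic ↥B ∧ A ⊓ B = ⊥ ∧
      Nat.card ↥A * Nat.card ↥B = Nat.card G := by
  obtain ⟨a, b, hA, hgen, -⟩ := exists_gens hm
  haveI := hA
  obtain ⟨m, hma⟩ := IsPGroup.iff_orderOf.mp hG a
  obtain ⟨f, hf⟩ := IsPGroup.iff_orderOf.mp (hG.to_quotient (Subgroup.zpowers a))
    (b : G ⧸ Subgroup.zpowers a)
  haveI : NeZero (p ^ m) := ⟨(pow_pos hp.out.pos m).ne'⟩
  have hmemA : ∀ i : ℕ, b ^ i ∈ Subgroup.zpowers a ↔ p ^ f ∣ i := fun i => by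
    rw [← hf, orderOf_dvd_iff_pow_eq_one, ← QuotientGroup.mk_pow, QuotientGroup.eq_one_iff]
  have hcardG : Nat.card G = p ^ m * p ^ f := by
    rw [← (Subgroup.zpowers a).card_mul_index, Nat.card_zpowers, hma]
    congr 1
    have htop : Subgroup.zpowers (b : G ⧸ Subgroup.zpowers a) = ⊤ := by
      refine (Subgroup.eq_top_iff' _).mpr fun q => ?_
      induction q using QuotientGroup.induction_on with | H g =>
      obtain ⟨i, j, rfl⟩ := hgen g
      rw [QuotientGroup.mk_mul, (QuotientGroup.eq_one_iff _).mpr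
        (pow_mem (Subgroup.mem_zpowers a) i), one_mul, QuotientGroup.mk_pow]
      exact pow_mem (Subgroup.mem_zpowers _) j
    rw [Subgroup.index_eq_card, ← Subgroup.card_top, ← htop, Nat.card_zpowers, hf]
  -- the action of `b` on `a`
  obtain ⟨r, hr⟩ := (mem_powers_iff_mem_zpowers (x := a)).mpr
    (hA.conj_mem a (Subgroup.mem_zpowers a) b)
  replace hr : b * a * b⁻¹ = a ^ r := hr.symm
  have hit : ∀ k : ℕ, b ^ k * a * (b ^ k)⁻¹ = a ^ r ^ k := by
    intro k
    induction k with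
    | zero => simp
    | succ k ih =>
      calc b ^ (k + 1) * a * (b ^ (k + 1))⁻¹ = b * (b ^ k * a * (b ^ k)⁻¹) * b⁻¹ := by group
        _ = (b * a * b⁻¹) ^ r ^ k := by rw [ih, conj_pow]
        _ = _ := by rw [hr, ← pow_mul, pow_succ']
  have hr1 : m = 0 ∨ r ≡ 1 [MOD p] := by
    rcases Nat.eq_zero_or_pos m with h0 | h0
    · exact Or.inl h0
    right
    obtain ⟨N, hN⟩ := hG b
    have h1 := hit (p ^ N)
    rw [hN] at h1
    have h2 : a ^ r ^ p ^ N = a ^ 1 := by rw [pow_one, ← h1]; simp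
    have h3 := (pow_eq_pow_iff_modEq.mp h2).of_dvd (hma ▸ dvd_pow_self p h0.ne')
    have h4 := (ZMod.natCast_eq_natCast_iff _ _ p).mpr h3
    push_cast at h4
    rw [ZMod.pow_card_pow] at h4
    exact (ZMod.natCast_eq_natCast_iff _ _ p).mp (by push_cast; exact h4)
  rcases hr1 with hm0 | hr1
  · -- `a = 1`: the group is cyclic
    refine ⟨Subgroup.zpowers b, ⊥, inferInstance, inferInstance, inf_bot_eq _, ?_⟩
    have ha : a = 1 := orderOf_eq_one_iff.mp (by rw [hma, hm0, pow_zero])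
    have htop : Subgroup.zpowers b = ⊤ := (Subgroup.eq_top_iff' _).mpr fun g => by
      obtain ⟨i, j, rfl⟩ := hgen g
      rw [ha, one_pow, one_mul]
      exact pow_mem (Subgroup.mem_zpowers b) j
    rw [htop, Subgroup.card_top, Subgroup.card_bot, mul_one]
  have hgeom : ∀ (r' : ℕ), r' ≡ 1 [MOD p] → ∀ g, ∃ u : ℕ,
      ∑ i ∈ Finset.range (p ^ g), r' ^ i = p ^ g * u ∧ IsUnit (u : ZMod (p ^ m)) := by
    intro r' hr' g
    obtain ⟨u, hu⟩ := (pow_dvd_geom_sum_iff hp.out hp2 hr' _ g).mpr dvd_rfl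
    refine ⟨u, hu, (ZMod.isUnit_iff_coprime _ _).mpr (Nat.Coprime.pow_right _ ?_)⟩
    refine (hp.out.coprime_iff_not_dvd.mpr fun hd => ?_).symm
    have h1 : p ^ (g + 1) ∣ p ^ g := (pow_dvd_geom_sum_iff hp.out hp2 hr' _ (g + 1)).mp
      (hu ▸ pow_succ p g ▸ Nat.mul_dvd_mul_left _ hd)
    have h2 := (Nat.pow_dvd_pow_iff_le_right hp.out.one_lt).mp h1
    omega
  have hsolve : ∀ (u c : ℕ), IsUnit (u : ZMod (p ^ m)) → ∃ t : ℕ, p ^ m ∣ t * u + c := by
    intro u c hu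
    refine ⟨(-(c : ZMod (p ^ m)) * (hu.unit⁻¹ : (ZMod (p ^ m))ˣ)).val, ?_⟩
    rw [← ZMod.natCast_eq_zero_iff]
    push_cast
    rw [ZMod.natCast_zmod_val, mul_assoc, IsUnit.val_inv_mul, mul_one, neg_add_cancel]
  obtain ⟨c₀, hc₀⟩ := (mem_powers_iff_mem_zpowers (x := a)).mpr ((hmemA (p ^ f)).mpr dvd_rfl)
  set c := c₀ % p ^ m with hc
  have hbc : b ^ p ^ f = a ^ c := by
    rw [hc, ← hma, pow_mod_orderOf]; exact hc₀.symm
  by_cases hdiv : p ^ f ∣ c
  · obtain ⟨c', hc'⟩ := hdiv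
    obtain ⟨u, hu, hunit⟩ := hgeom r hr1 f
    obtain ⟨t, ht⟩ := hsolve u c' hunit
    set B := a ^ t * b with hB
    have hconj : b * a ^ t * b⁻¹ = (a ^ t) ^ r := by
      rw [← conj_pow, hr, ← pow_mul, ← pow_mul, mul_comm]
    have hBj : ∀ j, B ^ j = (a ^ t) ^ (∑ i ∈ Finset.range j, r ^ i) * b ^ j :=
      mul_pow_of_conj hconj
    have hBf : B ^ p ^ f = 1 := by
      rw [hBj, hu, hbc, ← pow_mul, ← pow_add, ← orderOf_dvd_iff_pow_eq_one, hma, hc']
      exact ⟨p ^ f * ((t * u + c') / p ^ m), by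
        rw [show t * (p ^ f * u) + p ^ f * c' = p ^ f * (t * u + c') by ring, mul_left_comm,
          Nat.mul_div_cancel' ht]⟩
    have hBA : ∀ j : ℕ, B ^ j ∈ Subgroup.zpowers a → p ^ f ∣ j := by
      intro j hj
      rw [hBj] at hj
      exact (hmemA j).mp ((Subgroup.mul_mem_cancel_left _
        (pow_mem (pow_mem (Subgroup.mem_zpowers a) t) _)).mp hj)
    refine ⟨Subgroup.zpowers a, Subgroup.zpowers B, inferInstance, inferInstance, ?_, ?_⟩
    · rw [eq_bot_iff]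
      rintro x ⟨hxa, hxB⟩
      obtain ⟨j, rfl⟩ := (mem_powers_iff_mem_zpowers (x := B)).mpr hxB
      obtain ⟨k, rfl⟩ := hBA j hxa
      rw [Subgroup.mem_bot]
      show B ^ (p ^ f * k) = 1
      rw [pow_mul, hBf, one_pow]
    · have hoB : orderOf B = p ^ f := Nat.dvd_antisymm (orderOf_dvd_of_pow_eq_one hBf)
        (hBA _ (by rw [pow_orderOf_eq_one]; exact one_mem _))
      rw [Nat.card_zpowers, Nat.card_zpowers, hma, hoB, hcardG]
  · have hc0 : c ≠ 0 := fun e => hdiv (e ▸ dvd_zero _)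
    obtain ⟨g, c', hc'p, hc'⟩ := Nat.exists_eq_pow_mul_and_not_dvd hc0 p hp.out.ne_one
    have hgf : g ≤ f := by
      by_contra hlt
      exact hdiv (hc' ▸ (pow_dvd_pow p (Nat.le_of_lt (Nat.lt_of_not_le hlt))).mul_right _)
    have hgm : g ≤ m := by
      have hlt : c < p ^ m := Nat.mod_lt _ (pow_pos hp.out.pos m)
      refine ((Nat.pow_lt_pow_iff_right hp.out.one_lt).mp (lt_of_le_of_lt ?_ hlt)).le
      exact Nat.le_of_dvd (Nat.pos_of_ne_zero hc0) ⟨c', hc'⟩
    have hunit' : IsUnit (c' : ZMod (p ^ m)) := (ZMod.isUnit_iff_coprime _ _).mpr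
      (Nat.Coprime.pow_right _ ((hp.out.coprime_iff_not_dvd.mpr hc'p).symm))
    obtain ⟨u, hu, hunit⟩ := hgeom (r ^ p ^ (f - g)) (by simpa using hr1.pow (p ^ (f - g))) g
    obtain ⟨t, ht⟩ := hsolve u c' hunit
    have hm0 : 1 ≤ m := by
      rcases Nat.eq_zero_or_pos m with rfl | h0
      · simp [Nat.mod_one, hc] at hc0
      · exact h0
    have htp : ¬ p ∣ t := fun hd => hc'p
      ((Nat.dvd_add_right (hd.mul_right u)).mp ((dvd_pow_self p (by omega)).trans ht))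
    set B := b ^ p ^ (f - g) with hB
    have hconj : B * a ^ t * B⁻¹ = (a ^ t) ^ (r ^ p ^ (f - g)) := by
      rw [← conj_pow, hit, ← pow_mul, ← pow_mul, mul_comm]
    set y := a ^ t * B with hy
    have hyj : ∀ j, y ^ j = (a ^ t) ^ (∑ i ∈ Finset.range j, (r ^ p ^ (f - g)) ^ i) * B ^ j :=
      mul_pow_of_conj hconj
    have hBg : B ^ p ^ g = a ^ c := by
      rw [hB, ← pow_mul, ← pow_add, Nat.sub_add_cancel hgf, hbc]
    have hyg : y ^ p ^ g = 1 := by
      rw [hyj, hu, hBg, ← pow_mul, ← pow_add, ← orderOf_dvd_iff_pow_eq_one, hma, hc']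
      exact ⟨p ^ g * ((t * u + c') / p ^ m), by
        rw [show t * (p ^ g * u) + p ^ g * c' = p ^ g * (t * u + c') by ring, mul_left_comm,
          Nat.mul_div_cancel' ht]⟩
    have hyb : ∀ j : ℕ, y ^ j ∈ Subgroup.zpowers b → p ^ g ∣ j := by
      intro j hj
      rw [hyj] at hj
      have hmem := (Subgroup.mul_mem_cancel_right _
        (pow_mem (pow_mem (Subgroup.mem_zpowers b) _) j : B ^ j ∈ Subgroup.zpowers b)).mp hj
      obtain ⟨i, hi⟩ := (mem_powers_iff_mem_zpowers (x := b)).mpr hmem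
      dsimp only at hi
      obtain ⟨k, rfl⟩ := (hmemA i).mp (by
        rw [hi]; exact pow_mem (pow_mem (Subgroup.mem_zpowers a) _) _)
      rw [pow_mul, hbc, ← pow_mul, ← pow_mul, pow_eq_pow_iff_modEq, hma] at hi
      have h1 : p ^ g ∣ t * ∑ i ∈ Finset.range j, (r ^ p ^ (f - g)) ^ i :=
        (hi.dvd_iff (pow_dvd_pow p hgm)).mp ((Dvd.intro c' hc'.symm).mul_right k)
      have h2 := ((Nat.Coprime.pow_left g (hp.out.coprime_iff_not_dvd.mpr htp)).dvd_mul_left).mp h1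
      exact (pow_dvd_geom_sum_iff hp.out hp2 (by simpa using hr1.pow (p ^ (f - g))) j g).mp h2
    have hoy : orderOf y = p ^ g := Nat.dvd_antisymm (orderOf_dvd_of_pow_eq_one hyg)
      (hyb _ (by rw [pow_orderOf_eq_one]; exact one_mem _))
    have hob : orderOf b = p ^ f * p ^ (m - g) := by
      have hoc : ∀ k, a ^ (c * k) = 1 ↔ p ^ (m - g) ∣ k := fun k => by
        rw [← orderOf_dvd_iff_pow_eq_one, hma, hc', show p ^ m = p ^ g * p ^ (m - g) by
          rw [← pow_add]; congr 1; omega, mul_assoc,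
          Nat.mul_dvd_mul_iff_left (pow_pos hp.out.pos g)]
        exact (Nat.Coprime.pow_left _ (hp.out.coprime_iff_not_dvd.mpr hc'p)).dvd_mul_left
      refine Nat.dvd_antisymm (orderOf_dvd_of_pow_eq_one ?_) ?_
      · rw [pow_mul, hbc, ← pow_mul, hoc]
      · obtain ⟨k, hk⟩ := (hmemA (orderOf b)).mp (by rw [pow_orderOf_eq_one]; exact one_mem _)
        rw [hk]
        refine Nat.mul_dvd_mul_left _ ((hoc k).mp ?_)
        rw [pow_mul, ← hbc, ← pow_mul, ← hk, pow_orderOf_eq_one]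
    refine ⟨Subgroup.zpowers b, Subgroup.zpowers y, inferInstance, inferInstance, ?_, ?_⟩
    · rw [eq_bot_iff]
      rintro x ⟨hxb, hxy⟩
      obtain ⟨j, rfl⟩ := (mem_powers_iff_mem_zpowers (x := y)).mpr hxy
      obtain ⟨k, rfl⟩ := hyb j hxb
      rw [Subgroup.mem_bot]
      show y ^ (p ^ g * k) = 1
      rw [pow_mul, hyg, one_pow]
    · rw [Nat.card_zpowers, Nat.card_zpowers, hob, hoy, hcardG, mul_assoc, ← pow_add,
        Nat.sub_add_cancel hgm, mul_comm]

end CfsgLib.Metacyclic
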