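import Cfsg.Agent.Lib.PGroup.SqExtTwo
import Cfsg.Agent.Lib.PGroup.LFourSylow
import Cfsg.Agent.Lib.ModuleIndex.UnitaryThreeBounds

/-!
Extensions whose squaring map is a binary quadratic form are Sylow `2`-subgroups of `PSL₃(2ⁿ)` or
`PSU₃(2ⁿ)`.
-/

set_option autoImplicit false
set_option linter.style.haveILetI false
set_option linter.unusedSectionVars false

namespace CfsgLib.QuadModels

open CfsgLib.SqExtTwo
open CfsgLib.Classical.Herm
open CfsgLib.ClassicalAut (Unitary.Conj)
open CfsgLib.Classical.URegGen (HB exists_hb)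
open CfsgLib.Classical.URoot (Par pmul pinv pone)

/-- Change of coordinates. -/
def congrExt {P A A' B B' : Type*} [Group P] [AddCommGroup A] [AddCommGroup A'] [AddCommGroup B]
    [AddCommGroup B'] {q : A → B} {q' : A' → B'} (X : SqExt₂ P q) (ea : A ≃+ A') (eb : B ≃+ B')
    (h : ∀ a, q' (ea a) = eb (q a)) : SqExt₂ P q' where
  j := ea.toMultiplicative.toMonoidHom.comp X.j
  ι := X.ι.comp eb.symm.toMultiplicative.toMonoidHom
  surj := ea.toMultiplicative.surjective.comp X.surj
  inj := X.inj.comp eb.symm.toMultiplicative.injective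
  exact := fun p => by
    show ea.toMultiplicative (X.j p) = 1 ↔ _
    rw [map_eq_one_iff _ ea.toMultiplicative.injective, X.exact]
    constructor
    · rintro ⟨u, rfl⟩
      exact ⟨eb.toMultiplicative u, congrArg X.ι (eb.toMultiplicative.symm_apply_apply u)⟩
    · rintro ⟨u, rfl⟩
      exact ⟨_, rfl⟩
  central := fun t p => X.central _ p
  sq := fun p => by
    rw [X.sq p]
    show X.ι _ = X.ι (Multiplicative.ofAdd (eb.symm (q' (ea (X.j p).toAdd))))
    rw [h, eb.symm_apply_apply]

variable {F : Type} [Field F] [Finite F]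

/-- The quadratic form. -/
def Q (a b d : F) (p : F × F) : F := a * p.1 ^ 2 + b * p.2 ^ 2 + d * (p.1 * p.2)

open LFourSylow in
/-- The model in `PSL₃`. -/
theorem linear_model [Fintype F] [CharP F 2] {n : ℕ} (hF : Fintype.card F = 2 ^ n) {a b d : F}
    (L : F × F ≃+ F × F) (hL : ∀ p, Q a b d p = (L p).1 * (L p).2)
    {T : Type*} [Group T] [Finite T] (X : SqExt₂ T (Q a b d)) :
    ∃ S : Sylow 2 (Matrix.ProjectiveSpecialLinearGroup (Fin 3) F),
      Nonempty (T ≃* (S : Subgroup (Matrix.ProjectiveSpecialLinearGroup (Fin 3) F))) := by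
  classical
  haveI : Fact (Nat.Prime 2) := ⟨Nat.prime_two⟩
  let π : Matrix.SpecialLinearGroup (Fin 3) F →* Matrix.ProjectiveSpecialLinearGroup (Fin 3) F :=
    QuotientGroup.mk' _
  let φ : F × F × F → Matrix.ProjectiveSpecialLinearGroup (Fin 3) F := fun x => π (U x.1 x.2.1 x.2.2)
  have hmul : ∀ x y, φ x * φ y = φ (x.1 + y.1, x.2.1 + y.2.1, x.2.2 + y.2.2 + x.1 * y.2.1) := fun x y => by
    rw [← map_mul, U_mul]
  have hone : φ 0 = 1 := by
    show π (U (0 : F) 0 0) = 1
    rw [U_zero, map_one]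
  have hinj : Function.Injective φ := by
    rintro ⟨x, y, z⟩ ⟨x', y', z'⟩ e
    have hu : (U x y z)⁻¹ * U x' y' z' ∈ Subgroup.center _ := QuotientGroup.eq.mp e
    have hinv : (U x y z)⁻¹ = U x y (z + x * y) := inv_eq_of_mul_eq_one_right (by
      rw [U_mul, CharTwo.add_self_eq_zero, CharTwo.add_self_eq_zero,
        show z + (z + x * y) + x * y = (z + z) + (x * y + x * y) by ring, CharTwo.add_self_eq_zero,
        CharTwo.add_self_eq_zero, add_zero, U_zero])
    rw [hinv, U_mul] at hu
    obtain ⟨r, -, hr⟩ := Matrix.SpecialLinearGroup.mem_center_iff.mp hu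
    have h00 := congrFun (congrFun hr 0) 0
    have h01 := congrFun (congrFun hr 0) 1
    have h12 := congrFun (congrFun hr 1) 2
    have h02 := congrFun (congrFun hr 0) 2
    simp [U] at h00 h01 h12 h02
    have ex : x = x' := CharTwo.add_eq_zero.mp h01.symm
    have ey : y = y' := CharTwo.add_eq_zero.mp h12.symm
    subst ex ey
    have ez : z = z' := CharTwo.add_eq_zero.mp (by
      have h2 : (2 : F) = 0 := CharTwo.two_eq_zero
      linear_combination -h02 - (x * y) * h2)
    rw [ez]
  let S : Subgroup (Matrix.ProjectiveSpecialLinearGroup (Fin 3) F) :=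
    { carrier := Set.range φ
      one_mem' := ⟨0, hone⟩
      mul_mem' := by
        rintro _ _ ⟨x, rfl⟩ ⟨y, rfl⟩
        exact ⟨_, (hmul x y).symm⟩
      inv_mem' := by
        rintro _ ⟨x, rfl⟩
        refine ⟨(x.1, x.2.1, x.2.2 + x.1 * x.2.1), (inv_eq_of_mul_eq_one_right ?_).symm⟩
        rw [hmul, ← hone]
        congr 1
        refine Prod.ext (CharTwo.add_self_eq_zero _) (Prod.ext (CharTwo.add_self_eq_zero _) ?_)
        show x.2.2 + (x.2.2 + x.1 * x.2.1) + x.1 * x.2.1 = 0
        have h2 : (2 : F) = 0 := CharTwo.two_eq_zero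
        linear_combination (x.2.2 + x.1 * x.2.1) * h2 }
  let ψ : F × F × F ≃ S := Equiv.ofInjective φ hinj
  have hψ : ∀ x, (ψ x : Matrix.ProjectiveSpecialLinearGroup (Fin 3) F) = φ x := fun x => rfl
  have hψs : ∀ u : S, φ (ψ.symm u) = u := fun u => by rw [← hψ, ψ.apply_symm_apply]
  have hψm : ∀ u v : S, ψ.symm (u * v) = ((ψ.symm u).1 + (ψ.symm v).1, (ψ.symm u).2.1 + (ψ.symm v).2.1,
      (ψ.symm u).2.2 + (ψ.symm v).2.2 + (ψ.symm u).1 * (ψ.symm v).2.1) := fun u v => by
    rw [Equiv.symm_apply_eq]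
    apply Subtype.ext
    rw [hψ, ← hmul, hψs, hψs]
    rfl
  let j : S →* Multiplicative (F × F) := MonoidHom.mk'
    (fun u => Multiplicative.ofAdd (L.symm ((ψ.symm u).1, (ψ.symm u).2.1))) fun u v => by
      rw [← ofAdd_add, ← map_add, hψm]
      rfl
  let ι : Multiplicative F →* S := MonoidHom.mk' (fun z => ψ (0, 0, z.toAdd)) fun z z' => by
    apply Subtype.ext
    show φ _ = φ _ * φ _
    rw [hmul]
    simp
  have Y : SqExt₂ S (Q a b d) := by
    refine ⟨j, ι, ?_, ?_, ?_, ?_, ?_⟩
    · intro z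
      refine ⟨ψ ((L z.toAdd).1, (L z.toAdd).2, 0), ?_⟩
      show Multiplicative.ofAdd _ = z
      rw [ψ.symm_apply_apply]
      exact congrArg Multiplicative.ofAdd (L.symm_apply_apply z.toAdd)
    · intro z z' e
      exact Multiplicative.toAdd.injective (congrArg (fun x => x.2.2) (ψ.injective e))
    · intro u
      constructor
      · intro e
        have e' : L.symm ((ψ.symm u).1, (ψ.symm u).2.1) = 0 := congrArg Multiplicative.toAdd e
        rw [map_eq_zero_iff _ L.symm.injective] at e'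
        refine ⟨Multiplicative.ofAdd (ψ.symm u).2.2, ?_⟩
        show ψ (0, 0, (ψ.symm u).2.2) = u
        have e1 : (ψ.symm u).1 = 0 := congrArg Prod.fst e'
        have e2 : (ψ.symm u).2.1 = 0 := congrArg Prod.snd e'
        rw [show ((0 : F), (0 : F), (ψ.symm u).2.2) = ψ.symm u from Prod.ext e1.symm (Prod.ext e2.symm rfl)]
        exact ψ.apply_symm_apply u
      · rintro ⟨z, rfl⟩
        show Multiplicative.ofAdd (L.symm ((ψ.symm (ψ _)).1, (ψ.symm (ψ _)).2.1)) = 1
        rw [ψ.symm_apply_apply, show L.symm ((0 : F), (0 : F)) = 0 from map_zero L.symm]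
        rfl
    · intro z u
      apply ψ.symm.injective
      rw [hψm, hψm]
      show _ = _
      rw [show ψ.symm (ι z) = (0, 0, z.toAdd) from ψ.symm_apply_apply _]
      simp [add_comm]
    · intro u
      apply ψ.symm.injective
      rw [hψm, show ∀ w, ψ.symm (ι (Multiplicative.ofAdd w)) = ((0 : F), (0 : F), w) from
        fun w => ψ.symm_apply_apply _, hL]
      show _ = ((0 : F), (0 : F), (L (L.symm ((ψ.symm u).1, (ψ.symm u).2.1))).1 *
        (L (L.symm ((ψ.symm u).1, (ψ.symm u).2.1))).2)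
      rw [L.apply_symm_apply]
      simp [CharTwo.add_self_eq_zero]
  obtain ⟨e⟩ := X.nonempty_mulEquiv Y
  have hS : Nat.card S = 2 ^ (n * 3) := by
    rw [← Nat.card_congr ψ, Nat.card_prod, Nat.card_prod, Nat.card_eq_fintype_card, hF, pow_mul]; ring
  have hidx : ¬ 2 ∣ S.index := by
    intro hd
    have h := CfsgLib.Classical.sub_one_mul_card_SL (F := F) (n := 3) (by norm_num)
    rw [CfsgLib.Classical.card_SL_eq_gcd_mul_card_PSL, ← Subgroup.index_mul_card S, hS,
      Nat.card_eq_fintype_card (α := F), hF, Fintype.card_fin, Fin.prod_univ_three] at h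
    obtain ⟨Q', hQ'⟩ : ∃ Q', Q' = 2 ^ n := ⟨_, rfl⟩
    have hQ2 : 2 ≤ Q' := by
      rw [hQ', ← hF]; exact Fintype.one_lt_card
    simp only [Fin.val_zero, Fin.val_one, Fin.val_two, pow_zero, pow_one] at h
    rw [pow_mul, ← hQ', show Q' ^ 3 - Q' = Q' * (Q' ^ 2 - 1) by rw [Nat.mul_sub]; ring_nf,
      show Q' ^ 3 - Q' ^ 2 = Q' ^ 2 * (Q' - 1) by rw [Nat.mul_sub]; ring_nf] at h
    have hev : 2 ∣ Q' := by
      rw [hQ']; refine dvd_pow_self 2 fun e => ?_
      rw [e] at hQ'; omega
    have h' : Q' ^ 3 * ((Q' - 1) * Nat.gcd 3 (Q' - 1) * S.index) =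
        Q' ^ 3 * ((Q' ^ 3 - 1) * (Q' ^ 2 - 1) * (Q' - 1)) := by linear_combination h
    have h'' := Nat.eq_of_mul_eq_mul_left (pow_pos (by omega) 3) h'
    have hdd : 2 ∣ (Q' ^ 3 - 1) * (Q' ^ 2 - 1) * (Q' - 1) := h'' ▸ hd.mul_left _
    have hodd : ∀ k, 0 < k → ¬ 2 ∣ Q' ^ k - 1 := fun k hk hk2 => by
      have h1 : 2 ∣ Q' ^ k := hev.trans (dvd_pow_self _ hk.ne')
      have h2 : 1 ≤ Q' ^ k := Nat.one_le_pow _ _ (by omega)
      omega
    rcases (Nat.prime_two.dvd_mul).mp hdd with r | r
    · rcases (Nat.prime_two.dvd_mul).mp r with r | r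
      · exact hodd 3 (by norm_num) r
      · exact hodd 2 (by norm_num) r
    · exact hodd 1 one_pos (by rwa [pow_one])
  exact ⟨(IsPGroup.of_card hS).toSylow hidx, ⟨e⟩⟩

/-- The model in `PSU₃`. -/
theorem unitary_model {E : Type} [Field E] [Fintype E] [CharP E 2] {n : ℕ} (hn : n ≠ 0)
    (hE : Fintype.card E = (2 ^ n) ^ 2) {a b d : F} [Fintype F] (hF : Fintype.card F = 2 ^ n)
    (alg : F →+* E) (L : F × F ≃+ E) (hL : ∀ p, alg (Q a b d p) = L p * L p ^ (2 ^ n))
    {T : Type*} [Group T] [Finite T] (X : SqExt₂ T (Q a b d)) :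
    ∃ S : Sylow 2 (Cfsg.PSU 3 E (2 ^ n)),
      Nonempty (T ≃* (S : Subgroup (Cfsg.PSU 3 E (2 ^ n)))) := by
  classical
  haveI : Fact (Nat.Prime 2) := ⟨Nat.prime_two⟩
  obtain ⟨K⟩ := CfsgLib.ClassicalAut.Unitary.exists_conj (F := E) (q := 2 ^ n) (p := 2) rfl
    (by rw [Nat.card_eq_fintype_card, hE])
  obtain ⟨B⟩ := exists_hb K 1
  have hB : B.E 0 ≠ 0 := fun h => by
    have := B.fe 0 0 one_pos one_pos
    rw [h, h_zero_right K, if_pos rfl] at this
    exact zero_ne_one this
  choose φ hφ using fun x : Par K => CfsgLib.Classical.URegGen.exists_sgE K B le_rfl x.2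
  have hone : φ (pone K) = 1 := by
    refine CfsgLib.Classical.Elation.sg_unique K (hφ _) ?_
    simpa [pone] using CfsgLib.Classical.Elation.sg_one K (B.ee 0 0)
  have hmul : ∀ x y, φ x * φ y = φ (pmul K x y) := by
    intro x y
    refine CfsgLib.Classical.Elation.sg_unique K ?_ (hφ _)
    have := CfsgLib.Classical.Elation.sg_mul K (hφ x) (hφ y)
    rw [h_smul_left K, h_smul_right K, B.zz, ← add_smul] at this
    convert this using 2
    · simp [pmul]; ring
    · simp [pmul, K.bar_bar]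
  have hinv : ∀ x, (φ x)⁻¹ = φ (pinv K x) := by
    intro x
    refine CfsgLib.Classical.Elation.sg_unique K ?_ (hφ _)
    convert CfsgLib.Classical.Elation.sg_inv K (hφ x) using 2
    · simp [pinv]
    · rfl
  have hφi : Function.Injective φ := by
    intro x y he
    obtain ⟨-, hf, hz'⟩ := CfsgLib.Classical.URegGen.appE K B (hφ x)
    obtain ⟨-, hf', hz''⟩ := CfsgLib.Classical.URegGen.appE K B (hφ y)
    rw [he, hf'] at hf
    rw [he, hz''] at hz'
    have ha : y.1.1 = x.1.1 := smul_left_injective E hB (add_left_cancel hz')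
    rw [ha] at hf
    exact Subtype.ext (Prod.ext ha (smul_left_injective E hB (add_left_cancel hf))).symm
  let mk : Cfsg.SU 3 E (2 ^ n) →* Cfsg.PSU 3 E (2 ^ n) := CfsgLib.ModuleIndex.UThree.mk
  have hinj : Function.Injective fun x => mk (φ x) := by
    intro x y hxy
    have hu : φ (pmul K (pinv K y) x) ∈ Subgroup.center (Cfsg.SU 3 E (2 ^ n)) := by
      rw [← hmul, ← hinv]
      exact QuotientGroup.eq.mp hxy.symm
    obtain ⟨c, hc'⟩ := (center_iff K (by norm_num) _).mp hu
    have h2 : c = 1 := by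
      have := (CfsgLib.Classical.URegGen.appE K B (hφ (pmul K (pinv K y) x))).1
      rw [app, hc', Matrix.smul_mulVec, Matrix.one_mulVec] at this
      exact smul_left_injective E hB (this.trans (one_smul E _).symm)
    rw [h2, one_smul] at hc'
    have h1' : φ (pmul K (pinv K y) x) = 1 := Subtype.ext (Subtype.ext hc')
    refine hφi ?_
    rwa [← hmul, ← hinv, inv_mul_eq_one, eq_comm] at h1'
  let S : Subgroup (Cfsg.PSU 3 E (2 ^ n)) :=
    { carrier := Set.range fun x => mk (φ x)
      one_mem' := ⟨pone K, by simp [hone]⟩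
      mul_mem' := by
        rintro _ _ ⟨x, rfl⟩ ⟨y, rfl⟩
        exact ⟨pmul K x y, by simp [← hmul]⟩
      inv_mem' := by
        rintro _ ⟨x, rfl⟩
        exact ⟨pinv K x, by simp [← hinv]⟩ }
  let ψ : Par K ≃ S := Equiv.ofInjective _ hinj
  have hψm : ∀ u v : S, ψ.symm (u * v) = pmul K (ψ.symm u) (ψ.symm v) := fun u v => by
    rw [Equiv.symm_apply_eq]
    apply Subtype.ext
    show (u : Cfsg.PSU 3 E (2 ^ n)) * v = mk (φ _)
    rw [← hmul, map_mul]
    show _ = (ψ (ψ.symm u) : Cfsg.PSU 3 E (2 ^ n)) * (ψ (ψ.symm v) : Cfsg.PSU 3 E (2 ^ n))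
    rw [ψ.apply_symm_apply, ψ.apply_symm_apply]
  -- the fixed field
  have hfix : ∀ u : F, K.bar (alg u) = alg u := fun u => by
    rw [K.bar_apply, ← map_pow, ← hF, FiniteField.pow_card]
  have hrange : ∀ z : E, K.bar z = z → ∃ u, alg u = z := fun z hz => by
    let f : F → {c : E // K.bar c = c} := fun u => ⟨alg u, hfix u⟩
    have hf : Function.Injective f := fun u v e => alg.injective (congrArg Subtype.val e)
    obtain ⟨u, hu⟩ := ((Nat.bijective_iff_injective_and_card f).mpr ⟨hf, by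
      rw [CfsgLib.Classical.URoot.card_fix K, Nat.card_eq_fintype_card, hF]⟩).2 ⟨z, hz⟩
    exact ⟨u, congrArg Subtype.val hu⟩
  let j : S →* Multiplicative (F × F) := MonoidHom.mk'
    (fun u => Multiplicative.ofAdd (L.symm (ψ.symm u).1.1)) fun u v => by
      rw [← ofAdd_add, ← map_add, hψm]
      rfl
  let cpar : F → Par K := fun u => ⟨(0, alg u), by
    show (0 : E) * K.bar 0 + alg u + K.bar (alg u) = 0
    rw [hfix, zero_mul, zero_add, CharTwo.add_self_eq_zero]⟩
  let ι : Multiplicative F →* S := MonoidHom.mk' (fun z => ψ (cpar z.toAdd)) fun z z' => by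
    apply ψ.symm.injective
    rw [hψm, ψ.symm_apply_apply, ψ.symm_apply_apply, ψ.symm_apply_apply]
    apply Subtype.ext
    simp [cpar, pmul]
  have hιs : ∀ z, ψ.symm (ι z) = cpar z.toAdd := fun z => ψ.symm_apply_apply _
  have Y : SqExt₂ S (Q a b d) := by
    refine ⟨j, ι, ?_, ?_, ?_, ?_, ?_⟩
    · intro z
      obtain ⟨y, hy⟩ := K.exists_trace
      obtain ⟨e, he⟩ : ∃ e, e = L z.toAdd := ⟨_, rfl⟩
      obtain ⟨v, hv⟩ : ∃ v, v = -(e * K.bar e) * y / (y + K.bar y) := ⟨_, rfl⟩
      have hv' : e * K.bar e + v + K.bar v = 0 := by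
        rw [hv]
        simp only [map_div₀, map_mul, map_neg, map_add, K.bar_bar, add_comm (K.bar y) y]
        field_simp
        ring
      refine ⟨ψ ⟨(e, v), hv'⟩, ?_⟩
      show Multiplicative.ofAdd _ = z
      rw [ψ.symm_apply_apply]
      show Multiplicative.ofAdd (L.symm e) = z
      rw [he]
      exact congrArg Multiplicative.ofAdd (L.symm_apply_apply z.toAdd)
    · intro z z' e
      exact Multiplicative.toAdd.injective (alg.injective (congrArg (fun x : Par K => x.1.2) (ψ.injective e)))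
    · intro u
      constructor
      · intro e
        have e' : L.symm (ψ.symm u).1.1 = 0 := congrArg Multiplicative.toAdd e
        rw [map_eq_zero_iff _ L.symm.injective] at e'
        obtain ⟨w, hw⟩ := hrange (ψ.symm u).1.2 (by
          have := (ψ.symm u).2
          rw [e', zero_mul, zero_add, CharTwo.add_eq_zero] at this
          exact this.symm)
        refine ⟨Multiplicative.ofAdd w, ?_⟩
        apply ψ.symm.injective
        rw [hιs]
        exact Subtype.ext (Prod.ext e'.symm hw)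
      · rintro ⟨z, rfl⟩
        show Multiplicative.ofAdd _ = 1
        rw [hιs, show L.symm ((cpar z.toAdd).1.1) = 0 from map_zero L.symm]
        rfl
    · intro z u
      apply ψ.symm.injective
      rw [hψm, hψm, hιs]
      apply Subtype.ext
      simp [cpar, pmul, add_comm]
    · intro u
      apply ψ.symm.injective
      rw [hψm, hιs]
      apply Subtype.ext
      show ((ψ.symm u).1.1 + (ψ.symm u).1.1, (ψ.symm u).1.2 + (ψ.symm u).1.2 -
        K.bar (ψ.symm u).1.1 * (ψ.symm u).1.1) = (0, alg (Q a b d (L.symm (ψ.symm u).1.1)))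
      rw [hL, L.apply_symm_apply, CharTwo.add_self_eq_zero, CharTwo.add_self_eq_zero, zero_sub,
        CharTwo.neg_eq, K.bar_apply, mul_comm]
  obtain ⟨e⟩ := X.nonempty_mulEquiv Y
  have hUc : Nat.card S = 2 ^ (n * 3) := by
    rw [pow_mul, ← CfsgLib.ModuleIndex.UThree.card_par K]
    exact (Nat.card_congr ψ).symm
  have hidx : ¬ 2 ∣ S.index := by
    intro hd
    have h := Subgroup.card_eq_card_quotient_mul_card_subgroup (Subgroup.center (Cfsg.SU 3 E (2 ^ n)))
    obtain ⟨q, hq⟩ : ∃ q, q = 2 ^ n := ⟨_, rfl⟩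
    rw [CfsgLib.ModuleIndex.UThree.card_SU_three K, ← Subgroup.index_mul_card S, hUc, pow_mul] at h
    generalize S.index = ix at h hd
    generalize Nat.card (Subgroup.center (Cfsg.SU 3 E (2 ^ n))) = cz at h
    rw [← hq, mul_comm ix, mul_assoc] at h
    have hq0 : 0 < q := hq ▸ pow_pos two_pos _
    have h2 := Nat.eq_of_mul_eq_mul_left (pow_pos hq0 3) h
    have h3 : 2 ∣ (q ^ 2 - 1) * (q ^ 3 + 1) := h2 ▸ hd.mul_right _
    have hpn : 2 ∣ q := hq ▸ dvd_pow_self 2 hn
    rcases Nat.prime_two.dvd_mul.mp h3 with h4 | h4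
    · have := hpn.trans (dvd_pow_self _ two_ne_zero)
      have := Nat.one_le_pow 2 q hq0
      omega
    · have := hpn.trans (dvd_pow_self _ (three_ne_zero))
      omega
  exact ⟨(IsPGroup.of_card hUc).toSylow hidx, ⟨e⟩⟩

/-- An extension with a quadratic form as squaring map is a Sylow subgroup. -/
theorem sylow_iso {K : Type*} [Field K] [Finite K] {n : ℕ} (hn : n ≠ 0) (hK : Nat.card K = 2 ^ n)
    {a₀ b₀ d₀ : K} (hd : d₀ ≠ 0) {T : Type*} [Group T] [Finite T]
    (X₀ : SqExt₂ T (fun p : K × K => a₀ * p.1 ^ 2 + b₀ * p.2 ^ 2 + d₀ * (p.1 * p.2))) :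
    (∃ (F : Type) (_ : Field F) (_ : Fintype F), Fintype.card F = 4 ^ n ∧
        ∃ S : Sylow 2 (Cfsg.PSU 3 F (2 ^ n)), Nonempty (T ≃* ↥(S : Subgroup (Cfsg.PSU 3 F (2 ^ n))))) ∨
      (∃ (F : Type) (_ : Field F) (_ : Fintype F), Fintype.card F = 2 ^ n ∧
        ∃ S : Sylow 2 (Matrix.ProjectiveSpecialLinearGroup (Fin 3) F),
          Nonempty (T ≃* ↥(S : Subgroup (Matrix.ProjectiveSpecialLinearGroup (Fin 3) F)))) := by
  classical
  haveI : Fact (Nat.Prime 2) := ⟨Nat.prime_two⟩
  haveI := Fintype.ofFinite K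
  haveI : Fintype (GaloisField 2 n) := Fintype.ofFinite _
  have hF : Fintype.card (GaloisField 2 n) = 2 ^ n := by
    rw [← Nat.card_eq_fintype_card, GaloisField.card 2 n hn]
  let e : K ≃+* GaloisField 2 n := FiniteField.ringEquivOfCardEq (by
    rw [hF, ← Nat.card_eq_fintype_card, hK])
  obtain ⟨a, ha⟩ : ∃ a, a = e a₀ := ⟨_, rfl⟩
  obtain ⟨b, hb⟩ : ∃ b, b = e b₀ := ⟨_, rfl⟩
  obtain ⟨d, hd'⟩ : ∃ d, d = e d₀ := ⟨_, rfl⟩
  have hd0 : d ≠ 0 := by rw [hd']; exact (map_ne_zero e).mpr hd
  have X : SqExt₂ T (Q a b d) := congrExt X₀ (AddEquiv.prodCongr e.toAddEquiv e.toAddEquiv) e.toAddEquiv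
    (fun p => by
      show Q a b d (e p.1, e p.2) = e _
      simp only [Q, map_add, map_mul, map_pow, ha, hb, hd'])
  have h2 : (2 : GaloisField 2 n) = 0 := CharTwo.two_eq_zero
  have mkEquiv : ∀ f : GaloisField 2 n × GaloisField 2 n →+ GaloisField 2 n × GaloisField 2 n,
      (∀ p, f p = 0 → p = 0) → ∃ L : GaloisField 2 n × GaloisField 2 n ≃+ GaloisField 2 n × GaloisField 2 n,
        ∀ p, L p = f p := fun f hf =>
    ⟨AddEquiv.ofBijective f (Finite.injective_iff_bijective.mp ((injective_iff_map_eq_zero f).mpr hf)),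
      fun p => rfl⟩
  by_cases ha0 : a = 0
  · right
    obtain ⟨L, hL⟩ := mkEquiv (AddMonoidHom.mk' (fun p => (p.2, b * p.2 + d * p.1))
      (fun p q => by ext <;> simp <;> ring)) (fun p hp => by
        have e1 : p.2 = 0 := congrArg Prod.fst hp
        have e2 : b * p.2 + d * p.1 = 0 := congrArg Prod.snd hp
        rw [e1, mul_zero, zero_add, mul_eq_zero] at e2
        exact Prod.ext (e2.resolve_left hd0) e1)
    exact ⟨GaloisField 2 n, inferInstance, inferInstance, hF, linear_model hF L (fun p => by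
      rw [hL]; show Q a b d p = p.2 * (b * p.2 + d * p.1); rw [ha0, Q]; ring) X⟩
  by_cases hroot : ∃ r, a * r ^ 2 + d * r + b = 0
  · right
    obtain ⟨r, hr⟩ := hroot
    obtain ⟨L, hL⟩ := mkEquiv (AddMonoidHom.mk' (fun p => (p.1 + r * p.2, a * p.1 + (a * r + d) * p.2))
      (fun p q => by ext <;> simp <;> ring)) (fun p hp => by
        have e1 : p.1 + r * p.2 = 0 := congrArg Prod.fst hp
        have e2 : a * p.1 + (a * r + d) * p.2 = 0 := congrArg Prod.snd hp
        have e3 : d * p.2 = 0 := by linear_combination e2 - a * e1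
        have e4 : p.2 = 0 := (mul_eq_zero.mp e3).resolve_left hd0
        rw [e4, mul_zero, add_zero] at e1
        exact Prod.ext e1 e4)
    exact ⟨GaloisField 2 n, inferInstance, inferInstance, hF, linear_model hF L (fun p => by
      rw [hL]
      show Q a b d p = (p.1 + r * p.2) * (a * p.1 + (a * r + d) * p.2)
      simp only [Q]
      linear_combination -(p.2 ^ 2) * hr + (p.2 ^ 2 * b - r * a * p.1 * p.2) * h2) X⟩
  left
  -- the quadratic extension
  set f : Polynomial (GaloisField 2 n) := Polynomial.X ^ 2 + (Polynomial.C (d / a) * Polynomial.X + Polynomial.C (b / a))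
    with hf
  have hdeg : f.natDegree = 2 := by rw [hf]; compute_degree!
  have hirr : Irreducible f := by
    refine Polynomial.irreducible_of_degree_le_three_of_not_isRoot (by rw [hdeg]; norm_num) fun r hr => hroot ⟨r, ?_⟩
    rw [Polynomial.IsRoot, hf] at hr
    simp only [Polynomial.eval_add, Polynomial.eval_pow, Polynomial.eval_X, Polynomial.eval_mul,
      Polynomial.eval_C] at hr
    field_simp at hr
    linear_combination hr
  haveI : Fact (Irreducible f) := ⟨hirr⟩
  obtain ⟨θ, hθ⟩ : ∃ θ, θ = AdjoinRoot.root f := ⟨_, rfl⟩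
  haveI : Module.Finite (GaloisField 2 n) (AdjoinRoot f) :=
    (AdjoinRoot.powerBasis hirr.ne_zero).finite
  haveI : Finite (AdjoinRoot f) := Module.finite_of_finite (GaloisField 2 n)
  haveI : Fintype (AdjoinRoot f) := Fintype.ofFinite _
  have hfin : Module.finrank (GaloisField 2 n) (AdjoinRoot f) = 2 := by
    rw [(AdjoinRoot.powerBasis hirr.ne_zero).finrank, AdjoinRoot.powerBasis_dim, hdeg]
  have hEcard : Fintype.card (AdjoinRoot f) = (2 ^ n) ^ 2 := by
    have h := Module.natCard_eq_pow_finrank (K := GaloisField 2 n) (V := AdjoinRoot f)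
    rw [hfin, Nat.card_eq_fintype_card, Nat.card_eq_fintype_card, hF] at h
    exact h
  haveI : CharP (AdjoinRoot f) 2 := charP_of_injective_ringHom (AdjoinRoot.of f).injective 2
  obtain ⟨al, hal⟩ : ∃ al, al = AdjoinRoot.of f := ⟨_, rfl⟩
  have hnotin : ∀ u, al u ≠ θ := fun u hu => by
    apply hroot
    refine ⟨u, ?_⟩
    have h0 := AdjoinRoot.eval₂_root f
    rw [← hθ, ← hal, ← hu, Polynomial.eval₂_hom, map_eq_zero] at h0
    rw [hf] at h0
    simp only [Polynomial.eval_add, Polynomial.eval_pow, Polynomial.eval_X, Polynomial.eval_mul,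
      Polynomial.eval_C] at h0
    field_simp at h0
    linear_combination h0
  have hθeq : θ ^ 2 + (al (d / a) * θ + al (b / a)) = 0 := by
    have h0 := AdjoinRoot.eval₂_root f
    rw [← hθ, ← hal] at h0
    simpa [hf] using h0
  obtain ⟨θ', hθ'⟩ : ∃ θ', θ' = θ ^ 2 ^ n := ⟨_, rfl⟩
  have hfrob : ∀ x y : AdjoinRoot f, (x + y) ^ 2 ^ n = x ^ 2 ^ n + y ^ 2 ^ n := fun x y =>
    add_pow_char_pow x y 2 n
  have halfix : ∀ u, al u ^ 2 ^ n = al u := fun u => by rw [← map_pow, ← hF, FiniteField.pow_card]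
  have hθ'eq : θ' ^ 2 + (al (d / a) * θ' + al (b / a)) = 0 := by
    have h0 := congrArg (fun x => x ^ 2 ^ n) hθeq
    rw [hfrob, hfrob, mul_pow, halfix, halfix, ← pow_mul, mul_comm 2, pow_mul,
      zero_pow (by positivity)] at h0
    rw [hθ']; exact h0
  have hE2 : (2 : AdjoinRoot f) = 0 := CharTwo.two_eq_zero
  have hne : θ' ≠ θ := by
    intro he
    -- the elements fixed by the Frobenius map form the small field
    have hsub : ∀ x : AdjoinRoot f, x ^ 2 ^ n = x → ∃ u, al u = x := by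
      intro x hx
      by_contra hno
      push Not at hno
      let P : Polynomial (AdjoinRoot f) := Polynomial.X ^ 2 ^ n - Polynomial.X
      have h1 : 1 < 2 ^ n := Nat.one_lt_two_pow hn
      have hP : P.natDegree = 2 ^ n := FiniteField.X_pow_card_sub_X_natDegree_eq (AdjoinRoot f) h1
      have hP0 : P ≠ 0 := FiniteField.X_pow_card_sub_X_ne_zero (AdjoinRoot f) h1
      have hle : (insert x (Finset.univ.image al)).card ≤ P.natDegree := by
        refine Polynomial.card_le_degree_of_subset_roots fun y hy => ?_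
        rw [Finset.mem_val, Finset.mem_insert, Finset.mem_image] at hy
        rw [Polynomial.mem_roots hP0, Polynomial.IsRoot]
        rcases hy with rfl | ⟨u, -, rfl⟩
        · simp [P, hx]
        · simp [P, halfix]
      rw [Finset.card_insert_of_notMem (by simpa using hno), Finset.card_image_of_injective _ al.injective,
        Finset.card_univ, hF, hP] at hle
      omega
    obtain ⟨u, hu⟩ := hsub θ (hθ' ▸ he)
    exact hnotin u hu
  have hsum : θ + θ' = al (d / a) := by
    have h0 : (θ' - θ) * (θ' + θ + al (d / a)) = 0 := by linear_combination hθ'eq - hθeq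
    have h1 := (mul_eq_zero.mp h0).resolve_left (sub_ne_zero.mpr hne)
    linear_combination h1 - al (d / a) * hE2
  have hprod : θ * θ' = al (b / a) := by
    linear_combination θ * hsum - hθeq + (θ * al (d / a)) * hE2
  obtain ⟨sa, hsa⟩ : ∃ sa : GaloisField 2 n, sa ^ 2 = a := by
    have hsurj : Function.Surjective fun z : GaloisField 2 n => z ^ 2 :=
      Finite.injective_iff_surjective.mp (frobenius_inj (GaloisField 2 n) 2)
    exact hsurj a
  have hsa0 : sa ≠ 0 := fun h0 => ha0 (by rw [← hsa, h0]; simp)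
  let lf : GaloisField 2 n × GaloisField 2 n →+ AdjoinRoot f :=
    AddMonoidHom.mk' (fun p => al sa * (al p.1 + θ * al p.2)) fun p q => by simp; ring
  have hlf : Function.Injective lf := by
    rw [injective_iff_map_eq_zero]
    intro p hp
    have hp' : al sa * (al p.1 + θ * al p.2) = 0 := hp
    have h0 := (mul_eq_zero.mp hp').resolve_left ((map_ne_zero al).mpr hsa0)
    have h1 : p.2 = 0 := by
      by_contra h1
      apply hnotin (-p.1 / p.2)
      rw [map_div₀, map_neg, div_eq_iff ((map_ne_zero al).mpr h1)]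
      linear_combination -h0
    rw [h1, map_zero, mul_zero, add_zero, map_eq_zero] at h0
    exact Prod.ext h0 h1
  let L : GaloisField 2 n × GaloisField 2 n ≃+ AdjoinRoot f := AddEquiv.ofBijective lf
    ((Nat.bijective_iff_injective_and_card lf).mpr ⟨hlf, by
      rw [Nat.card_prod, Nat.card_eq_fintype_card, Nat.card_eq_fintype_card, hF, hEcard, pow_two]⟩)
  refine ⟨AdjoinRoot f, inferInstance, inferInstance, ?_, unitary_model hn hEcard hF al L (fun p => ?_) X⟩
  · rw [hEcard, ← pow_mul, mul_comm n 2, pow_mul]; norm_num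
  · show al (Q a b d p) = al sa * (al p.1 + θ * al p.2) * (al sa * (al p.1 + θ * al p.2)) ^ 2 ^ n
    rw [mul_pow, halfix, hfrob, mul_pow, halfix, halfix, ← hθ']
    have hs : al sa * al sa = al a := by rw [← map_mul, ← pow_two, hsa]
    have hda : al a * al (d / a) = al d := by rw [← map_mul, mul_div_cancel₀ _ ha0]
    have hba : al a * al (b / a) = al b := by rw [← map_mul, mul_div_cancel₀ _ ha0]
    simp only [Q, map_add, map_mul, map_pow]
    linear_combination -(al p.1 + θ * al p.2) * (al p.1 + θ' * al p.2) * hs - al p.1 * al p.2 * al a * hsum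
      - al p.2 ^ 2 * al a * hprod - al p.1 * al p.2 * hda - al p.2 ^ 2 * hba

end CfsgLib.QuadModels
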