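import Cfsg.Prelude.Def_Solvable
import Cfsg.Prelude.Def_Transfer
import Cfsg.Agent.Lib.PGroup.QuadModels
import Cfsg.Agent.Lib.TwistAut.Semilinear
import Cfsg.Agent.Lib.Fitting.Basic

/-!
Automorphisms of an extension of a field by its quadratic subfield with the norm as squaring map.
-/

set_option autoImplicit false
set_option linter.style.haveILetI false
set_option linter.unusedSectionVars false

namespace CfsgLib.NormAut

open CfsgLib.SqExtTwo

variable {E : Type*} [Field E] [Finite E] [CharP E 2]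

/-- The fixed additive subgroup. -/
def W (β : E ≃+* E) : AddSubgroup E :=
  (β.toAddEquiv.toAddMonoidHom).eqLocus (AddMonoidHom.id E)

theorem mem_W {β : E ≃+* E} {x : E} : x ∈ W β ↔ β x = x := Iff.rfl

/-- The norm. -/
def nm {β : E ≃+* E} (hβ : ∀ x, β (β x) = x) (x : E) : W β :=
  ⟨x * β x, show β (x * β x) = x * β x by rw [map_mul, hβ, mul_comm]⟩

theorem nm_surjective {β : E ≃+* E} (hβ : ∀ x, β (β x) = x) : Function.Surjective (nm hβ) := by
  rintro ⟨w, hw⟩
  obtain ⟨s, rfl⟩ : ∃ s, s * s = w := by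
    obtain ⟨s, hs⟩ := (Finite.injective_iff_surjective.mp (frobenius_inj E 2)) w
    exact ⟨s, by rw [← hs, frobenius_def, pow_two]⟩
  refine ⟨s, Subtype.ext ?_⟩
  have e : β s ^ 2 = s ^ 2 := by rw [pow_two, pow_two, ← map_mul]; exact hw
  show s * β s = s * s
  rw [show β s = s from frobenius_inj E 2 (by simpa [frobenius_def] using e)]

/-- An additive map scaling the norm is semilinear. -/
theorem semilinear {β : E ≃+* E} (hβ : ∀ x, β (β x) = x) (hβ1 : ∃ θ, β θ ≠ θ) (g h : E → E)
    (gadd : ∀ x y, g (x + y) = g x + g y) (ginj : Function.Injective g)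
    (hadd : ∀ u v, β u = u → β v = v → h (u + v) = h u + h v)
    (hN : ∀ x, g x * β (g x) = h (x * β x)) :
    ∃ c : E, c ≠ 0 ∧ ∃ σ : E ≃+* E, ∀ x, g x = c * σ x := by
  have h2 : (2 : E) = 0 := CharTwo.two_eq_zero
  have g0 : g 0 = 0 := by
    have := gadd 0 0
    rw [add_zero] at this
    exact left_eq_add.mp this
  have h0 : h 0 = 0 := by
    have := hadd 0 0 (map_zero β) (map_zero β)
    rw [add_zero] at this
    exact left_eq_add.mp this
  obtain ⟨c, hc⟩ : ∃ c, c = g 1 := ⟨_, rfl⟩
  have hc0 : c ≠ 0 := fun e => one_ne_zero (ginj (by rw [← hc, e, g0] : g 1 = g 0))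
  have hcN : c * β c ≠ 0 := mul_ne_zero hc0 ((map_ne_zero β).mpr hc0)
  -- the normalised maps
  obtain ⟨G, hG⟩ : ∃ G : E → E, ∀ x, G x = g x / c := ⟨_, fun x => rfl⟩
  obtain ⟨H, hH⟩ : ∃ H : E → E, ∀ x, H x = h x / (c * β c) := ⟨_, fun x => rfl⟩
  have Gadd : ∀ x y, G (x + y) = G x + G y := fun x y => by rw [hG, hG, hG, gadd, add_div]
  have Hadd : ∀ u v, β u = u → β v = v → H (u + v) = H u + H v := fun u v hu hv => by
    rw [hH, hH, hH, hadd u v hu hv, add_div]
  have GN : ∀ x, G x * β (G x) = H (x * β x) := fun x => by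
    rw [hG, hH, map_div₀, div_mul_div_comm, hN]
  have G0 : G 0 = 0 := by rw [hG, g0, zero_div]
  have G1 : G 1 = 1 := by rw [hG, ← hc, div_self hc0]
  have Ginj : Function.Injective G := fun x y e => ginj (by
    rw [hG, hG] at e; exact (div_left_inj' hc0).mp e)
  have H0 : H 0 = 0 := by rw [hH, h0, zero_div]
  have H1 : H 1 = 1 := by
    have := GN 1
    rw [G1, map_one, one_mul] at this
    exact this.symm
  have hT : ∀ x y : E, β (x * β y + β x * y) = x * β y + β x * y := fun x y => by
    simp only [map_add, map_mul, hβ]; ring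
  have hNf : ∀ x : E, β (x * β x) = x * β x := fun x => by rw [map_mul, hβ, mul_comm]
  have hB : ∀ x y, G x * β (G y) + β (G x) * G y = H (x * β y + β x * y) := fun x y => by
    have e := GN (x + y)
    rw [Gadd, map_add, map_add, show (x + y) * (β x + β y) = x * β x + y * β y + (x * β y + β x * y) by ring,
      Hadd _ _ (by rw [map_add, hNf, hNf]) (hT x y), Hadd _ _ (hNf x) (hNf y)] at e
    linear_combination e - GN x - GN y
  have hTr : ∀ x, G x + β (G x) = H (x + β x) := fun x => by
    have := hB x 1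
    rw [G1, map_one, mul_one, mul_one, mul_one, mul_one] at this
    exact this
  have Gfix : ∀ l, β l = l → β (G l) = G l := fun l hl => by
    have := hTr l
    rw [hl, CharTwo.add_self_eq_zero, H0, CharTwo.add_eq_zero] at this
    exact this.symm
  have trsurj : ∀ w, β w = w → ∃ x, x + β x = w := fun w hw => by
    obtain ⟨θ, hθ⟩ := hβ1
    have hT0 : θ + β θ ≠ 0 := fun e => hθ (CharTwo.add_eq_zero.mp e).symm
    refine ⟨w / (θ + β θ) * θ, ?_⟩
    rw [map_mul, map_div₀, hw, map_add, hβ, add_comm (β θ) θ, ← mul_add, div_mul_cancel₀ _ hT0]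
  have hHmul : ∀ l m, β l = l → β m = m → H (l * m) = G l * H m := by
    intro l m hl hm
    obtain ⟨x, hx⟩ := trsurj m hm
    have e := hB l x
    rw [Gfix l hl, hl, show l * β x + l * x = l * m by rw [← hx]; ring] at e
    rw [← e, ← hx, ← hTr]; ring
  have hHG : ∀ l, β l = l → H l = G l := fun l hl => by
    have := hHmul l 1 hl (map_one β)
    rwa [mul_one, H1, mul_one] at this
  have Gsemi : ∀ l x, β l = l → G (l * x) = G l * G x := by
    intro l x hl
    rcases eq_or_ne (G x) 0 with e | e
    · have hx : x = 0 := Ginj (e.trans G0.symm)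
      rw [hx, mul_zero, G0, mul_zero]
    obtain ⟨m, hm⟩ : ∃ m, m = G (l * x) / G x := ⟨_, rfl⟩
    have hmx : G (l * x) = m * G x := by rw [hm, div_mul_cancel₀ _ e]
    have hNx : G x * β (G x) ≠ 0 := mul_ne_zero e ((map_ne_zero β).mpr e)
    have hmf : β m = m := by
      have e1 := hB (l * x) x
      rw [hmx, map_mul, map_mul, hl, show l * x * β x + l * β x * x = 0 by linear_combination l * x * β x * h2,
        H0] at e1
      have e2 : (G x * β (G x)) * (m + β m) = 0 := by linear_combination e1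
      exact (CharTwo.add_eq_zero.mp ((mul_eq_zero.mp e2).resolve_left hNx)).symm
    have e1 := GN (l * x)
    rw [hmx, map_mul, hmf, map_mul, hl, show l * x * (l * β x) = l * (l * (x * β x)) by ring,
      hHmul _ _ hl (by rw [map_mul, hl, hNf]), hHmul _ _ hl (hNf x), ← GN] at e1
    have e3 : (G x * β (G x)) * (m ^ 2 - G l ^ 2) = 0 := by linear_combination e1
    have e4 := (mul_eq_zero.mp e3).resolve_left hNx
    have : m = G l := frobenius_inj E 2 (by
      rw [frobenius_def, frobenius_def]; exact sub_eq_zero.mp e4)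
    rw [hmx, this]
  obtain ⟨θ, hθ⟩ := hβ1
  have hT0 : θ + β θ ≠ 0 := fun e => hθ (CharTwo.add_eq_zero.mp e).symm
  have hdec : ∀ x : E, ∃ a b, β a = a ∧ β b = b ∧ x = a + b * θ := fun x => by
    obtain ⟨b, hb⟩ : ∃ b, b = (x + β x) / (θ + β θ) := ⟨_, rfl⟩
    have hbf : β b = b := by
      rw [hb, map_div₀, map_add, map_add, hβ, hβ, add_comm (β x), add_comm (β θ)]
    have hbT : b * (θ + β θ) = x + β x := by rw [hb, div_mul_cancel₀ _ hT0]
    refine ⟨x + b * θ, b, ?_, hbf, by linear_combination -(b * θ) * h2⟩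
    rw [map_add, map_mul, hbf]
    linear_combination hbT + (β x - b * θ) * h2
  have Gmul : ∀ x y, G (x * y) = G x * G y := by
    intro x y
    obtain ⟨a, b, ha, hb, rfl⟩ := hdec x
    obtain ⟨a', b', ha', hb', rfl⟩ := hdec y
    obtain ⟨T', hT'⟩ : ∃ T', T' = θ + β θ := ⟨_, rfl⟩
    obtain ⟨N', hN'⟩ : ∃ N', N' = θ * β θ := ⟨_, rfl⟩
    have hTf : β T' = T' := by rw [hT', map_add, hβ, add_comm]
    have hN'f : β N' = N' := hN' ▸ hNf θ
    have hq : θ * θ = T' * θ + N' := by rw [hT', hN']; linear_combination -θ * β θ * h2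
    have hm : ∀ u v, β u = u → β v = v → β (u * v) = u * v := fun u v hu hv => by rw [map_mul, hu, hv]
    have hGq : G θ * G θ = G T' * G θ + G N' := by
      have e1 : G T' = G θ + β (G θ) := by rw [← hHG _ hTf, hT', hTr]
      have e2 : G N' = G θ * β (G θ) := by rw [← hHG _ hN'f, hN', GN]
      rw [e1, e2]; linear_combination -G θ * β (G θ) * h2
    rw [show (a + b * θ) * (a' + b' * θ) = (a * a' + b * b' * N') + (a * b' + b * a' + b * b' * T') * θ by
      linear_combination b * b' * hq]
    simp only [Gadd, Gsemi _ _ ha, Gsemi _ _ hb, Gsemi _ _ (hm _ _ hb hb'),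
      Gsemi _ _ (show β (a * b' + b * a' + b * b' * T') = a * b' + b * a' + b * b' * T' by
        simp only [map_add, map_mul, ha, hb, ha', hb', hTf])]
    rw [Gsemi b' θ hb']
    linear_combination -G b * G b' * hGq
  let σ₀ : E →+* E :=
    { toFun := G, map_one' := G1, map_mul' := Gmul, map_zero' := G0, map_add' := Gadd }
  refine ⟨c, hc0, RingEquiv.ofBijective σ₀ (Finite.injective_iff_bijective.mp Ginj), fun x => ?_⟩
  show g x = c * G x
  rw [hG, mul_div_cancel₀ _ hc0]

/-- The automorphism group. -/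
theorem aut_structure {n : ℕ} (hn : n ≠ 0) (hcard : Nat.card E = (2 ^ n) ^ 2) {β : E ≃+* E}
    (hβq : ∀ x, β x = x ^ 2 ^ n) (hβ : ∀ x, β (β x) = x) (hW : Nat.card (W β) = 2 ^ n)
    {S : Type*} [Group S] [Finite S] (X : SqExt₂ S (nm hβ)) :
    Cfsg.IsElementaryAbelian 2 (Cfsg.pCore 2 (MulAut S)) ∧
      Nat.card ↥(Cfsg.pCore 2 (MulAut S)) = 2 ^ (2 * n ^ 2) ∧
      Nat.card (MulAut S) = 2 ^ (2 * n ^ 2) * (2 * n * ((2 ^ n) ^ 2 - 1)) := by
  classical
  haveI : Fact (Nat.Prime 2) := ⟨Nat.prime_two⟩
  have hθ : ∃ θ, β θ ≠ θ := by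
    by_contra hall
    push Not at hall
    have : W β = ⊤ := eq_top_iff.mpr fun x _ => hall x
    rw [this, Nat.card_congr (AddSubgroup.topEquiv.toEquiv), hcard] at hW
    have : 2 ^ n * 1 < 2 ^ n * 2 ^ n := (Nat.mul_lt_mul_left (by positivity)).mpr (Nat.one_lt_two_pow hn)
    rw [← pow_two, hW, mul_one] at this
    omega
  -- squares fill the kernel
  have hsq : ∀ z, ∃ p, p * p = X.ι z := fun z => by
    obtain ⟨a, ha⟩ := nm_surjective hβ z.toAdd
    obtain ⟨p, hp⟩ := X.surj (Multiplicative.ofAdd a)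
    exact ⟨p, by rw [X.sq, hp]; simp [ha]⟩
  have hker : ∀ (e : MulAut S) (p : S), X.j p = 1 → X.j (e p) = 1 := fun e p hp => by
    obtain ⟨z, rfl⟩ := (X.exact p).mp hp
    obtain ⟨u, hu⟩ := hsq z
    rw [← hu, map_mul, X.exact, X.sq]
    exact ⟨_, rfl⟩
  have hker' : ∀ (e : MulAut S) {p p' : S}, X.j p = X.j p' → X.j (e p) = X.j (e p') := fun e p p' hp => by
    have := hker e (p * p'⁻¹) (by rw [map_mul, map_inv, hp, mul_inv_cancel])
    rwa [map_mul, map_inv, map_mul, map_inv, mul_inv_eq_one] at this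
  let sec : E → S := fun a => Function.surjInv X.surj (Multiplicative.ofAdd a)
  have hsec : ∀ a, X.j (sec a) = Multiplicative.ofAdd a := fun a => Function.surjInv_eq X.surj _
  let act : MulAut S → E → E := fun e a => (X.j (e (sec a))).toAdd
  have hact : ∀ e p, act e (X.j p).toAdd = (X.j (e p)).toAdd := fun e p =>
    congrArg Multiplicative.toAdd (hker' e (by rw [hsec, ofAdd_toAdd]))
  have hactmul : ∀ e e' a, act (e * e') a = act e (act e' a) := fun e e' a => by
    rw [show act e' a = (X.j (e' (sec a))).toAdd from rfl, hact]; rfl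
  have hactone : ∀ a, act 1 a = a := fun a => congrArg Multiplicative.toAdd (hsec a)
  have hactadd : ∀ e a b, act e (a + b) = act e a + act e b := fun e a b => by
    have e1 := hact e (sec a * sec b)
    rw [map_mul, hsec, hsec, toAdd_mul, toAdd_ofAdd, toAdd_ofAdd, map_mul, map_mul, toAdd_mul] at e1
    exact e1
  let Φ : MulAut S →* Equiv.Perm E := MonoidHom.mk'
    (fun e => ⟨act e, act e⁻¹, fun a => by rw [← hactmul, inv_mul_cancel, hactone],
      fun a => by rw [← hactmul, mul_inv_cancel, hactone]⟩)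
    (fun e e' => Equiv.ext fun a => hactmul e e' a)
  have hΦ : ∀ e a, Φ e a = act e a := fun e a => rfl
  -- every automorphism is semilinear on the quotient
  have himg : ∀ e : MulAut S, ∃ c : E, c ≠ 0 ∧ ∃ σ : E ≃+* E, ∀ x, act e x = c * σ x := by
    intro e
    have hι : ∀ z, ∃ z', e (X.ι z) = X.ι z' := fun z => by
      obtain ⟨z', hz'⟩ := (X.exact _).mp (hker e (X.ι z) ((X.exact _).mpr ⟨z, rfl⟩))
      exact ⟨z', hz'.symm⟩
    choose hh hhh using hι
    let h : E → E := fun u => if hu : u ∈ W β then ((hh (Multiplicative.ofAdd ⟨u, hu⟩)).toAdd : W β) else 0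
    refine semilinear hβ hθ (act e) h (hactadd e) (Φ e).injective (fun u v hu hv => ?_) (fun x => ?_)
    · have huv : u + v ∈ W β := add_mem (mem_W.mpr hu) (mem_W.mpr hv)
      simp only [h, dif_pos huv, dif_pos (mem_W.mpr hu), dif_pos (mem_W.mpr hv)]
      rw [← AddSubgroup.coe_add, ← toAdd_mul]
      congr 2
      apply X.inj
      rw [map_mul, ← hhh, ← hhh, ← hhh, ← map_mul, ← map_mul, ← ofAdd_add]
      rfl
    · have e1 := congrArg e (X.sq (sec x))
      rw [map_mul, hhh, X.sq] at e1
      have e2 := congrArg Multiplicative.toAdd (X.inj e1)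
      rw [toAdd_ofAdd] at e2
      simp only [hsec, toAdd_ofAdd] at e2
      show act e x * β (act e x) = h (x * β x)
      simp only [h]
      rw [dif_pos (show x * β x ∈ W β from (nm hβ x).2)]
      exact congrArg Subtype.val e2
  -- and every semilinear map occurs
  have hsig : ∀ (σ : E ≃+* E) (x : E), σ (β x) = β (σ x) := fun σ x => by rw [hβq, hβq, map_pow]
  have hlift : ∀ (c : Eˣ) (σ : E ≃+* E), ∃ e : MulAut S, ∀ x, act e x = c * σ x := by
    intro c σ
    let ga : E →+ E := AddMonoidHom.mk' (fun x => (c : E) * σ x) fun x y => by rw [map_add, mul_add]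
    have ga_inj : Function.Injective ga := fun x y e => σ.injective (mul_left_cancel₀ c.ne_zero e)
    let ea : E ≃+ E := AddEquiv.ofBijective ga (Finite.injective_iff_bijective.mp ga_inj)
    let hb : W β →+ W β := AddMonoidHom.mk'
      (fun u => ⟨(c : E) * β c * σ u, by
        show β ((c : E) * β c * σ u) = (c : E) * β c * σ u
        rw [map_mul, map_mul, hβ, ← hsig, show β (u : E) = u from u.2, mul_comm (β (c : E))]⟩)
      fun u v => Subtype.ext (by simp [mul_add])
    have hb_inj : Function.Injective hb := fun u v e => Subtype.ext (σ.injective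
      (mul_left_cancel₀ (mul_ne_zero c.ne_zero ((map_ne_zero β).mpr c.ne_zero)) (congrArg Subtype.val e)))
    let eb : W β ≃+ W β := AddEquiv.ofBijective hb (Finite.injective_iff_bijective.mp hb_inj)
    let X' : SqExt₂ S (nm hβ) := QuadModels.congrExt X ea eb fun x => Subtype.ext (by
      show (c : E) * σ x * β ((c : E) * σ x) = (c : E) * β c * σ (x * β x)
      rw [map_mul β, map_mul σ, hsig]; ring)
    obtain ⟨e, he⟩ := SqExt₂.exists_mulEquiv X' X
    refine ⟨e, fun x => ?_⟩
    show (X.j (e (sec x))).toAdd = _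
    rw [he]
    show ea (X.j (sec x)).toAdd = _
    rw [hsec]
    rfl
  -- the kernel
  let K := Φ.ker
  have hKmem : ∀ e, e ∈ K ↔ ∀ p, X.j (e p) = X.j p := fun e => by
    constructor
    · intro he p
      have := congrArg (fun P : Equiv.Perm E => P (X.j p).toAdd) (MonoidHom.mem_ker.mp he)
      simp only [hΦ, hact, Equiv.Perm.one_apply] at this
      exact Multiplicative.toAdd.injective this
    · intro he
      refine MonoidHom.mem_ker.mpr (Equiv.ext fun a => ?_)
      show (X.j (e (sec a))).toAdd = a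
      rw [he, hsec]; rfl
  have hKfix : ∀ e ∈ K, ∀ z, e (X.ι z) = X.ι z := fun e he z => by
    obtain ⟨p, hp⟩ := hsq z
    rw [← hp, map_mul, X.sq, X.sq, (hKmem e).mp he]
  let mkK : (E →+ W β) → MulAut S := fun f =>
    { toFun := fun p => p * X.ι (Multiplicative.ofAdd (f (X.j p).toAdd))
      invFun := fun p => p * X.ι (Multiplicative.ofAdd (f (X.j p).toAdd))
      left_inv := fun p => by
        have h1 : X.j (X.ι (Multiplicative.ofAdd (f (X.j p).toAdd))) = 1 := (X.exact _).mpr ⟨_, rfl⟩
        simp only [map_mul X.j, h1, mul_one]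
        rw [mul_assoc, ← map_mul, ← ofAdd_add]
        have : f (X.j p).toAdd + f (X.j p).toAdd = 0 := Subtype.ext (CharTwo.add_self_eq_zero _)
        rw [this, ofAdd_zero, map_one, mul_one]
      right_inv := fun p => by
        have h1 : X.j (X.ι (Multiplicative.ofAdd (f (X.j p).toAdd))) = 1 := (X.exact _).mpr ⟨_, rfl⟩
        simp only [map_mul X.j, h1, mul_one]
        rw [mul_assoc, ← map_mul, ← ofAdd_add]
        have : f (X.j p).toAdd + f (X.j p).toAdd = 0 := Subtype.ext (CharTwo.add_self_eq_zero _)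
        rw [this, ofAdd_zero, map_one, mul_one]
      map_mul' := fun p p' => by
        rw [map_mul, toAdd_mul, map_add, ofAdd_add, map_mul,
          show p * p' * (X.ι (Multiplicative.ofAdd (f (X.j p).toAdd)) * X.ι (Multiplicative.ofAdd (f (X.j p').toAdd))) =
            p * (p' * X.ι (Multiplicative.ofAdd (f (X.j p).toAdd))) * X.ι (Multiplicative.ofAdd (f (X.j p').toAdd)) by group,
          X.central (Multiplicative.ofAdd (f (X.j p).toAdd)) p']
        group }
  have hmkK : ∀ f p, mkK f p = p * X.ι (Multiplicative.ofAdd (f (X.j p).toAdd)) := fun f p => rfl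
  have hmkmem : ∀ f, mkK f ∈ K := fun f => (hKmem _).mpr fun p => by
    rw [hmkK, map_mul, (X.exact _).mpr ⟨_, rfl⟩, mul_one]
  have hmkinj : Function.Injective mkK := fun f f' e => AddMonoidHom.ext fun a => by
    have := MulEquiv.congr_fun e (sec a)
    rw [hmkK, hmkK, hsec] at this
    exact Multiplicative.ofAdd.injective (X.inj (mul_left_cancel this))
  have hmksurj : ∀ e ∈ K, ∃ f, mkK f = e := by
    intro e he
    have h1 : ∀ p, ∃ z, e p = p * X.ι z := fun p => by
      obtain ⟨z, hz⟩ := (X.exact (p⁻¹ * e p)).mp (by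
        rw [map_mul, map_inv, (hKmem e).mp he, inv_mul_cancel])
      exact ⟨z, by rw [hz, mul_inv_cancel_left]⟩
    choose d hd using h1
    have hdd : ∀ p p', X.j p = X.j p' → d p = d p' := fun p p' hp => by
      obtain ⟨z, hz⟩ := (X.exact (p⁻¹ * p')).mp (by rw [map_mul, map_inv, hp, inv_mul_cancel])
      have e1 : p' = p * X.ι z := by rw [hz, mul_inv_cancel_left]
      apply X.inj
      have e2 := hd p'
      rw [e1, map_mul, hKfix e he, hd p, mul_assoc, mul_assoc, ← map_mul, ← map_mul, mul_comm (d p)] at e2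
      have e3 := X.inj (mul_left_cancel e2)
      rw [← e1] at e3
      rw [mul_left_cancel e3]
    have dmul : ∀ p p', d (p * p') = d p * d p' := fun p p' => by
      apply X.inj
      have e2 := hd (p * p')
      rw [map_mul, hd, hd, show p * X.ι (d p) * (p' * X.ι (d p')) = p * (X.ι (d p) * p') * X.ι (d p') by group,
        ← X.central, show p * (p' * X.ι (d p)) * X.ι (d p') = p * p' * (X.ι (d p) * X.ι (d p')) by group,
        ← map_mul] at e2
      exact (mul_left_cancel e2).symm
    refine ⟨AddMonoidHom.mk' (fun a => (d (sec a)).toAdd) (fun a b => ?_), MulEquiv.ext fun p => ?_⟩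
    · rw [← toAdd_mul, ← dmul]
      exact congrArg Multiplicative.toAdd (hdd _ _ (by rw [map_mul, hsec, hsec, hsec, ofAdd_add]))
    · rw [hmkK, hd]
      show p * X.ι (d (sec (X.j p).toAdd)) = _
      rw [hdd _ _ (show X.j (sec (X.j p).toAdd) = X.j p by rw [hsec]; rfl)]
  have hKcard : Nat.card K = 2 ^ (2 * n ^ 2) := by
    let eK : (E →+ W β) ≃ K := Equiv.ofBijective (fun f => ⟨mkK f, hmkmem f⟩)
      ⟨fun f f' e => hmkinj (congrArg Subtype.val e), fun e => by
        obtain ⟨f, hf⟩ := hmksurj e.1 e.2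
        exact ⟨f, Subtype.ext hf⟩⟩
    letI : Module (ZMod 2) E := AddCommGroup.zmodModule fun x => by
      rw [two_nsmul]; exact CharTwo.add_self_eq_zero x
    letI : Module (ZMod 2) (W β) := AddCommGroup.zmodModule fun x => by
      rw [two_nsmul]; exact Subtype.ext (CharTwo.add_self_eq_zero (x : E))
    let eL : (E →+ W β) ≃ (E →ₗ[ZMod 2] W β) :=
      { toFun := fun f => f.toZModLinearMap 2
        invFun := fun f => f.toAddMonoidHom
        left_inv := fun f => rfl
        right_inv := fun f => rfl }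
    have hz : Nat.card (ZMod 2) = 2 := by rw [Nat.card_zmod]
    have f1 : Module.finrank (ZMod 2) E = n * 2 := by
      have h := Module.natCard_eq_pow_finrank (K := ZMod 2) (V := E)
      rw [hcard, hz, ← pow_mul] at h
      exact (Nat.pow_right_injective le_rfl h).symm
    have f2 : Module.finrank (ZMod 2) (W β) = n := by
      have h := Module.natCard_eq_pow_finrank (K := ZMod 2) (V := W β)
      rw [hW, hz] at h
      exact (Nat.pow_right_injective le_rfl h).symm
    rw [← Nat.card_congr eK, Nat.card_congr eL, Module.natCard_eq_pow_finrank (K := ZMod 2), hz,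
      Module.finrank_linearMap, f1, f2]
    ring_nf
  have hrange : Nat.card Φ.range = (2 * n) * ((2 ^ n) ^ 2 - 1) := by
    let ev : Eˣ × (E ≃+* E) → Φ.range := fun cs =>
      ⟨Φ (hlift cs.1 cs.2).choose, ⟨_, rfl⟩⟩
    have hev : ∀ cs x, ((ev cs : Φ.range) : Equiv.Perm E) x = cs.1 * cs.2 x := fun cs x =>
      (hlift cs.1 cs.2).choose_spec x
    have hevb : Function.Bijective ev := by
      constructor
      · intro a b e
        have e' : ∀ x, (a.1 : E) * a.2 x = b.1 * b.2 x := fun x => by rw [← hev, ← hev, e]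
        have e1 := e' 1
        rw [map_one, map_one, mul_one, mul_one] at e1
        refine Prod.ext (Units.ext e1) (RingEquiv.ext fun x => ?_)
        have := e' x
        rw [e1] at this
        exact mul_left_cancel₀ b.1.ne_zero this
      · rintro ⟨_, e, rfl⟩
        obtain ⟨c, hc, σ, hσ⟩ := himg e
        exact ⟨(Units.mk0 c hc, σ), Subtype.ext (Equiv.ext fun x => by rw [hev]; exact (hσ x).symm)⟩
    haveI := Fintype.ofFinite E
    rw [← Nat.card_congr (Equiv.ofBijective ev hevb), Nat.card_prod, Nat.card_units,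
      CfsgLib.TwistAut.card_ringAut (F := E) 2 (2 * n) (by
        rw [← Nat.card_eq_fintype_card, hcard, ← pow_mul, mul_comm]), hcard, mul_comm]
  have hKel : Cfsg.IsElementaryAbelian 2 K := by
    have hcomp : ∀ f f', mkK f * mkK f' = mkK (f + f') := fun f f' => MulEquiv.ext fun p => by
      rw [MulAut.mul_apply, hmkK f', hmkK f, hmkK (f + f'), map_mul X.j, (X.exact _).mpr ⟨_, rfl⟩, mul_one,
        mul_assoc, ← map_mul, AddMonoidHom.add_apply, ofAdd_add,
        mul_comm (Multiplicative.ofAdd (f' (X.j p).toAdd))]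
    refine ⟨⟨⟨fun e e' => Subtype.ext ?_⟩⟩, fun e he => ?_⟩
    · obtain ⟨f, hf⟩ := hmksurj e.1 e.2
      obtain ⟨f', hf'⟩ := hmksurj e'.1 e'.2
      show (e : MulAut S) * e' = e' * e
      rw [← hf, ← hf', hcomp, hcomp, add_comm]
    · obtain ⟨f, rfl⟩ := hmksurj e he
      rw [pow_two, hcomp, show f + f = 0 from AddMonoidHom.ext fun a => Subtype.ext (CharTwo.add_self_eq_zero _)]
      exact MulEquiv.ext fun p => by rw [hmkK]; simp
  have hcore : Cfsg.pCore 2 (MulAut S) = K := by
    refine le_antisymm ?_ (le_sSup ⟨inferInstance, IsPGroup.of_card hKcard⟩)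
    intro e he
    obtain ⟨c, hc, σ, hσ⟩ := himg e
    haveI : (Cfsg.pCore 2 (MulAut S)).Normal := by
      refine ⟨fun x hx g => ?_⟩
      have : (Cfsg.pCore 2 (MulAut S)).map (MulAut.conj g).toMonoidHom ≤ Cfsg.pCore 2 (MulAut S) := by
        rw [Cfsg.pCore, Subgroup.map_le_iff_le_comap]
        refine sSup_le fun N hN => ?_
        intro y hy
        exact le_sSup (α := Subgroup (MulAut S)) hN (hN.1.conj_mem y hy g)
      exact this ⟨x, hx, rfl⟩
    -- a scalar of two-power order is trivial
    have hscal : ∀ f ∈ Cfsg.pCore 2 (MulAut S), ∀ u : E, (∀ x, act f x = u * x) → u = 1 := by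
      intro f hf u hu
      obtain ⟨k, hk⟩ := CfsgLib.Fitting.pCore_isPGroup (G := MulAut S) 2 ⟨f, hf⟩
      have hk' : f ^ 2 ^ k = 1 := congrArg Subtype.val hk
      have hpow : ∀ m : ℕ, act (f ^ m) 1 = u ^ m := by
        intro m
        induction m with
        | zero => rw [pow_zero, pow_zero, hactone]
        | succ m ih => rw [pow_succ', hactmul, ih, hu, pow_succ']
      have h1 := hpow (2 ^ k)
      rw [hk', hactone] at h1
      have h2 : iterateFrobenius E 2 k u = iterateFrobenius E 2 k 1 := by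
        rw [iterateFrobenius_def, iterateFrobenius_def, one_pow]; exact h1.symm
      exact (iterateFrobenius E 2 k).injective h2
    have hσ1 : ∀ u : E, u ≠ 0 → σ u = u := by
      intro u hu
      obtain ⟨eu, heu⟩ := hlift (Units.mk0 u hu) (RingEquiv.refl E)
      have hm : eu * e⁻¹ * eu⁻¹ * e ∈ Cfsg.pCore 2 (MulAut S) :=
        mul_mem (Subgroup.Normal.conj_mem inferInstance _ (inv_mem he) eu) he
      have hinvu : ∀ x, act eu⁻¹ x = u⁻¹ * x := fun x => by
        apply (Φ eu).injective
        rw [hΦ, hΦ, ← hactmul, mul_inv_cancel, hactone, heu]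
        show x = u * (u⁻¹ * x)
        rw [← mul_assoc, mul_inv_cancel₀ hu, one_mul]
      obtain ⟨v, hv⟩ : ∃ v, σ v = u⁻¹ := σ.surjective _
      have := hscal _ hm (u * v) (fun x => by
        have hinv : act e⁻¹ (u⁻¹ * (c * σ x)) = v * x := by
          apply (Φ e).injective
          rw [hΦ, hΦ, ← hactmul, mul_inv_cancel, hactone, hσ, map_mul, hv]
          ring
        rw [hactmul, hactmul, hactmul, hσ, hinvu, hinv, heu]
        show u * (v * x) = u * v * x
        rw [mul_assoc])
      have hv' : v = u⁻¹ := by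
        rw [← mul_one u⁻¹, ← this, ← mul_assoc, inv_mul_cancel₀ hu, one_mul]
      rw [hv', map_inv₀] at hv
      exact inv_injective hv
    have hσid : ∀ x, σ x = x := fun x => by
      rcases eq_or_ne x 0 with rfl | hx
      · exact map_zero σ
      · exact hσ1 x hx
    refine MonoidHom.mem_ker.mpr (Equiv.ext fun x => ?_)
    have hc1 := hscal e he c fun x => by rw [hσ, hσid]
    show act e x = x
    rw [hσ, hσid, hc1, one_mul]
  refine ⟨hcore ▸ hKel, by rw [hcore, hKcard], ?_⟩
  rw [Subgroup.card_eq_card_quotient_mul_card_subgroup K,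
    Nat.card_congr (QuotientGroup.quotientKerEquivRange Φ).toEquiv, hrange, hKcard]
  ring

end CfsgLib.NormAut
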