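import Cfsg.Agent.Lib.PGroup.AlperinElementary
import Cfsg.Agent.Lib.PGroup.NormalSub

/-!
# Normal elementary abelian subgroups of order `p ^ 4`

For odd `p`, a `p`-group with an elementary abelian subgroup of order `p ^ 4` has a normal one.
Otherwise let `A` be normal in a maximal subgroup `M`, and `V` maximal normal elementary abelian
inside `M`: then `A` meets `V` in a subgroup `W` of order `p ^ 2`, `A / W` is the group of all
transvections with axis `W`, and `A` is the only subgroup with these properties.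
-/

set_option autoImplicit false
set_option linter.style.haveILetI false

open scoped commutatorElement

namespace CfsgLib.RankFour

variable {R : Type*} [Group R] [Finite R] {p : ℕ} [hp : Fact p.Prime]

open CfsgLib.AlperinElem CfsgLib

/-- **Alperin.** A maximal normal elementary abelian subgroup of a normal subgroup `M` contains
every element of order `p` of its centralizer in `M`, `p` odd. -/
theorem mem_of_maximal_le (hR : IsPGroup p R) (hp2 : p ≠ 2) {M B : Subgroup R} [M.Normal] [B.Normal]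
    (hBM : B ≤ M)
    (hB : Cfsg.IsElementaryAbelian p B)
    (hmax : ∀ B' : Subgroup R, B'.Normal → B' ≤ M → Cfsg.IsElementaryAbelian p B' → B ≤ B' → B' = B)
    {x : R} (hxB : x ∈ Subgroup.centralizer (B : Set R)) (hxM : x ∈ M) (hxp : x ^ p = 1) : x ∈ B := by
  by_contra hxn
  classical
  haveI := Fintype.ofFinite (Subgroup R)
  obtain ⟨D, hD1, hD2⟩ := Finset.exists_min_image
    (Finset.univ.filter fun D : Subgroup R =>
      D.Normal ∧ D ≤ Subgroup.centralizer (B : Set R) ⊓ M ∧ ∃ y ∈ D, y ^ p = 1 ∧ y ∉ B)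
    (fun D => Nat.card D)
    ⟨Subgroup.centralizer (B : Set R) ⊓ M,
      Finset.mem_filter.mpr ⟨Finset.mem_univ _, inferInstance, le_rfl, x, ⟨hxB, hxM⟩, hxp, hxn⟩⟩
  simp only [Finset.mem_filter, Finset.mem_univ, true_and] at hD1 hD2
  obtain ⟨hDn, hDC, y, hyD, hyp, hyB⟩ := hD1
  haveI := hDn
  set N := ⁅D, (⊤ : Subgroup R)⁆ with hN
  have hDne : D ≠ ⊥ := fun h => hyB (by rw [h, Subgroup.mem_bot] at hyD; rw [hyD]; exact one_mem B)
  have hlt : N < D := Uniserial.commutator_lt (G := (⊤ : Subgroup R)) (hR.to_subgroup _)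
    (hR.to_subgroup D) (by rw [Subgroup.normalizer_eq_top]) hDne
  have hΩ : ∀ z ∈ N, z ^ p = 1 → z ∈ B := fun z hz hzp => by
    by_contra hzB
    exact hlt.not_ge (Subgroup.eq_of_le_of_card_ge hlt.le
      (hD2 N ⟨inferInstance, hlt.le.trans hDC, z, hz, hzp, hzB⟩)).ge
  have hc : ∀ r : R, ⁅r, y⁆ ∈ B := fun r => by
    have hrN : ⁅r, y⁆ ∈ N := by
      rw [← commutatorElement_inv]
      exact inv_mem (Subgroup.commutator_mem_commutator hyD (Subgroup.mem_top r))
    refine hΩ _ hrN (pow_eq_one_of_mul_pow hp2 (hR.to_subgroup (Subgroup.centralizer (B : Set R)))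
      Subgroup.le_normalizer_of_normal
      (fun z hz hzp u hu => hu z (hΩ z hz hzp)) _ le_rfl _ y hrN (hDC (hlt.le hrN)).1 (hDC hyD).1 hyp ?_)
    rw [show ⁅r, y⁆ * y = r * y * r⁻¹ by rw [commutatorElement_def]; group, conj_pow, hyp, mul_one,
      mul_inv_cancel]
  set B' := Subgroup.closure ((B : Set R) ∪ {y}) with hB'
  have hB'c : IsMulCommutative B' := Subgroup.isMulCommutative_closure (by
    haveI := hB.1
    rintro u (hu | rfl) v (hv | rfl)
    · exact congrArg Subtype.val (mul_comm' (⟨u, hu⟩ : B) ⟨v, hv⟩)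
    · exact (hDC hyD).1 u hu
    · exact ((hDC hyD).1 v hv).symm
    · rfl)
  have hB'n : B'.Normal := by
    refine ⟨fun z hz r => ?_⟩
    have h1 : B' ≤ B'.comap (MulAut.conj r).toMonoidHom := by
      refine (Subgroup.closure_le _).mpr ?_
      rintro u (hu | rfl)
      · exact Subgroup.subset_closure (Or.inl ((inferInstance : B.Normal).conj_mem u hu r))
      · show r * u * r⁻¹ ∈ B'
        rw [show r * u * r⁻¹ = ⁅r, u⁆ * u by rw [commutatorElement_def]; group]
        exact mul_mem (Subgroup.subset_closure (Or.inl (hc r))) (Subgroup.subset_closure (Or.inr rfl))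
    exact h1 hz
  have hB'e : Cfsg.IsElementaryAbelian p B' := ⟨hB'c, fun u hu => by
    induction hu using Subgroup.closure_induction with
    | mem v hv =>
      rcases hv with hv | rfl
      · exact hB.2 v hv
      · exact hyp
    | one => exact one_pow p
    | mul v w hv hw iv iw =>
      haveI := hB'c
      have hvw : Commute v w := congrArg Subtype.val (mul_comm' (⟨v, hv⟩ : B') ⟨w, hw⟩)
      rw [hvw.mul_pow, iv, iw, one_mul]
    | inv v _ iv => rw [inv_pow, iv, inv_one]⟩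
  exact hyB ((hmax B' hB'n ((Subgroup.closure_le _).mpr (by
    rintro u (hu | rfl)
    · exact hBM hu
    · exact (hDC hyD).2)) hB'e fun u hu => Subgroup.subset_closure (Or.inl hu)).le
    (Subgroup.subset_closure (Or.inr rfl)))

/-- A subgroup of order `p ^ 4` of the kind occurring in the induction. -/
structure Piece (p : ℕ) (M A : Subgroup R) : Prop where
  le : A ≤ M
  inv : M ≤ Subgroup.normalizer (A : Set R)
  elem : Cfsg.IsElementaryAbelian p A
  card : Nat.card A = p ^ 4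

variable {M A A' V : Subgroup R}

theorem comm_of_elem (hA : Cfsg.IsElementaryAbelian p A) {a b : R} (ha : a ∈ A) (hb : b ∈ A) :
    a * b = b * a := by
  haveI := hA.1
  exact congrArg Subtype.val (mul_comm' (⟨a, ha⟩ : A) ⟨b, hb⟩)

theorem comm_mem (hA : Piece p M A) [V.Normal] (hVM : V ≤ M) {a v : R} (ha : a ∈ A) (hv : v ∈ V) :
    ⁅a, v⁆ ∈ A ⊓ V := by
  rw [commutatorElement_def]
  refine ⟨?_, V.mul_mem ((inferInstance : V.Normal).conj_mem v hv a) (V.inv_mem hv)⟩
  rw [mul_assoc, mul_assoc, ← mul_assoc v]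
  exact A.mul_mem ha ((Subgroup.mem_normalizer_iff.mp (hA.inv (hVM hv)) _).mp (A.inv_mem ha))

/-- The map `a ↦ [a, v]`. -/
noncomputable def commHom (hA : Piece p M A) [V.Normal] (hVM : V ≤ M) {v : R} (hv : v ∈ V) :
    A →* ↥(A ⊓ V : Subgroup R) :=
  MonoidHom.mk' (fun a => ⟨⁅(a : R), v⁆, comm_mem hA hVM a.2 hv⟩) fun a b => Subtype.ext (by
    show ⁅(a : R) * b, v⁆ = ⁅(a : R), v⁆ * ⁅(b : R), v⁆
    rw [show ⁅(a : R) * b, v⁆ = ((a : R) * ⁅(b : R), v⁆) * (a : R)⁻¹ * ⁅(a : R), v⁆ by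
      simp only [commutatorElement_def]; group,
      comm_of_elem hA.elem a.2 (comm_mem hA hVM b.2 hv).1, mul_inv_cancel_right,
      comm_of_elem hA.elem (comm_mem hA hVM b.2 hv).1 (comm_mem hA hVM a.2 hv).1])

theorem commute_iff_commHom (hA : Piece p M A) [V.Normal] (hVM : V ≤ M) {v : R} (hv : v ∈ V)
    (a : A) : commHom hA hVM hv a = 1 ↔ (a : R) * v = v * a := by
  rw [← commutatorElement_eq_one_iff_mul_comm, Subtype.ext_iff]
  rfl

variable (hR : IsPGroup p R) [V.Normal] (hVM : V ≤ M) (hV : Cfsg.IsElementaryAbelian p V)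
  (hV3 : Nat.card V ≤ p ^ 3)
  (hΩ : ∀ x ∈ Subgroup.centralizer (V : Set R), x ∈ M → x ^ p = 1 → x ∈ V)

include hR hVM hV hV3 hΩ

/-- `A` meets `V` in a subgroup of order `p ^ 2`, and commutation with `v₀` maps `A` onto it. -/
theorem exists_axis (hA : Piece p M A) :
    Nat.card ↥(A ⊓ V : Subgroup R) = p ^ 2 ∧ Nat.card V = p ^ 3 ∧
      ∀ {v : R} (hv : v ∈ V), v ∉ A → Function.Surjective (commHom hA hVM hv) := by
  classical
  set W := A ⊓ V with hW
  obtain ⟨c, hc⟩ := IsPGroup.iff_card.mp (hR.to_subgroup W)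
  obtain ⟨d, hd⟩ := IsPGroup.iff_card.mp (hR.to_subgroup V)
  have hd3 : d ≤ 3 := (Nat.pow_le_pow_iff_right hp.out.one_lt).mp (hd ▸ hV3)
  have hkey : ∀ a ∈ A, (∀ v ∈ V, a * v = v * a) → a ∈ W := fun a ha h =>
    ⟨ha, hΩ a (fun v hv => (h v hv).symm) (hA.le ha) (hA.elem.2 a ha)⟩
  have hcd : c < d := by
    rw [← Nat.pow_lt_pow_iff_right hp.out.one_lt, ← hc, ← hd]
    refine lt_of_le_of_ne (Subgroup.card_le_of_le inf_le_right) fun h => ?_
    have hWV : W = V := Subgroup.eq_of_le_of_card_ge inf_le_right h.ge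
    have hVA : V ≤ A := hWV ▸ inf_le_left
    have hAV : A ≤ V := fun a ha =>
      (hkey a ha fun v hv => comm_of_elem hA.elem ha (hVA hv)).2
    have := (Subgroup.card_le_of_le hAV).trans hV3
    rw [hA.card, Nat.pow_le_pow_iff_right hp.out.one_lt] at this
    omega
  -- a chain of subgroups from `W` to `V`
  have hgrow : ∀ (S : Subgroup R), W ≤ S → S ≤ V → ∀ v ∈ V, v ∉ S → ∀ s : ℕ, Nat.card S = p ^ s →
      p ^ (s + 1) ≤ Nat.card ↥(S ⊔ Subgroup.zpowers v) := by
    intro S _ _ v _ hvS s hs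
    obtain ⟨t, ht⟩ := IsPGroup.iff_card.mp (hR.to_subgroup (S ⊔ Subgroup.zpowers v))
    have hlt : S < S ⊔ Subgroup.zpowers v :=
      lt_of_le_of_ne le_sup_left fun h => hvS (h ▸ Subgroup.mem_sup_right (Subgroup.mem_zpowers v))
    have h1 : Nat.card S < Nat.card ↥(S ⊔ Subgroup.zpowers v) := by
      refine lt_of_le_of_ne (Subgroup.card_le_of_le le_sup_left) fun h => ?_
      exact hlt.ne (Subgroup.eq_of_le_of_card_ge le_sup_left h.ge)
    rw [hs, ht, Nat.pow_lt_pow_iff_right hp.out.one_lt] at h1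
    rw [ht]
    exact Nat.pow_le_pow_right hp.out.pos h1
  have hinj : ∀ {v w : R} (hv : v ∈ V) (hw : w ∈ V),
      (W ⊔ Subgroup.zpowers v) ⊔ Subgroup.zpowers w = V →
      ∀ a : A, commHom hA hVM hv a = 1 → commHom hA hVM hw a = 1 → (a : R) ∈ W := by
    intro v w hv hw hsup a h1 h2
    refine hkey _ a.2 fun x hx => ?_
    have hle : V ≤ Subgroup.centralizer ({(a : R)} : Set R) := by
      rw [← hsup, sup_le_iff, sup_le_iff, Subgroup.zpowers_le, Subgroup.zpowers_le,
        Subgroup.mem_centralizer_singleton_iff, Subgroup.mem_centralizer_singleton_iff]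
      exact ⟨⟨fun y hy => Subgroup.mem_centralizer_singleton_iff.mpr
        (comm_of_elem hA.elem hy.1 a.2), ((commute_iff_commHom hA hVM hv a).mp h1).symm⟩,
        ((commute_iff_commHom hA hVM hw a).mp h2).symm⟩
    exact (Subgroup.mem_centralizer_singleton_iff.mp (hle hx)).symm
  have hc1 : 1 ≤ c := by
    by_contra h0
    have hWb : W = ⊥ := Subgroup.card_eq_one.mp (by rw [hc, show c = 0 by omega, pow_zero])
    have hall : ∀ a ∈ A, a = 1 := fun a ha => by
      have := hkey a ha fun v hv => commutatorElement_eq_one_iff_mul_comm.mp (by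
        have h1 := comm_mem hA hVM ha hv
        rwa [← hW, hWb, Subgroup.mem_bot] at h1)
      rwa [hWb, Subgroup.mem_bot] at this
    have h1 := hA.card
    rw [show A = ⊥ from (Subgroup.eq_bot_iff_forall A).mpr hall, Subgroup.card_bot] at h1
    exact (Nat.one_lt_pow (by norm_num) hp.out.one_lt).ne h1
  obtain ⟨v, hv, hvW⟩ := SetLike.exists_of_lt
    (lt_of_le_of_ne (inf_le_right : W ≤ V) fun h => hcd.ne (by
      have := hc.symm.trans ((congrArg (fun S : Subgroup R => Nat.card S) h).trans hd)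
      exact Nat.pow_right_injective hp.out.two_le this))
  have h1 := hgrow W le_rfl inf_le_right v hv hvW c hc
  by_cases hone : W ⊔ Subgroup.zpowers v = V
  · -- one generator
    have hker : (commHom hA hVM hv).ker ≤ W.subgroupOf A := fun a ha => by
      rw [Subgroup.mem_subgroupOf]
      exact hinj hv hv (by rw [sup_assoc, sup_idem, hone]) a ha ha
    have hcard : Nat.card A ≤ p ^ c * p ^ c := by
      rw [← (commHom hA hVM hv).ker.card_mul_index, Subgroup.index_ker]
      refine Nat.mul_le_mul ((Subgroup.card_le_of_le hker).trans ?_)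
        ((Subgroup.card_le_card_group _).trans hc.le)
      rw [Nat.card_congr (Subgroup.subgroupOfEquivOfLe (inf_le_left : W ≤ A)).toEquiv, hc]
    rw [hA.card, ← pow_add, Nat.pow_le_pow_iff_right hp.out.one_lt] at hcard
    have hc2 : c = 2 := by omega
    have hd' : d = 3 := by omega
    subst hc2 hd'
    refine ⟨hc, hd, fun {v'} hv' hv'A => ?_⟩
    have hv'W : v' ∉ W := fun h => hv'A h.1
    have hone' : W ⊔ Subgroup.zpowers v' = V := Subgroup.eq_of_le_of_card_ge
      (sup_le inf_le_right (Subgroup.zpowers_le.mpr hv'))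
      (hd ▸ hgrow W le_rfl inf_le_right v' hv' hv'W 2 hc)
    have hker' : (commHom hA hVM hv').ker ≤ W.subgroupOf A := fun a ha => by
      rw [Subgroup.mem_subgroupOf]
      exact hinj hv' hv' (by rw [sup_assoc, sup_idem, hone']) a ha ha
    rw [← MonoidHom.range_eq_top]
    refine Subgroup.eq_top_of_le_card _ ?_
    have h2 := (commHom hA hVM hv').ker.card_mul_index
    rw [Subgroup.index_ker, hA.card] at h2
    have h3 : Nat.card (commHom hA hVM hv').ker ≤ p ^ 2 := by
      refine (Subgroup.card_le_of_le hker').trans ?_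
      rw [Nat.card_congr (Subgroup.subgroupOfEquivOfLe (inf_le_left : W ≤ A)).toEquiv, hc]
    rw [hc]
    by_contra hlt
    rw [not_le] at hlt
    have := Nat.mul_lt_mul_of_le_of_lt h3 hlt (pow_pos hp.out.pos 2)
    rw [h2, ← pow_add] at this
    exact lt_irrefl _ this
  · exfalso
    obtain ⟨w, hw, hwS⟩ := SetLike.exists_of_lt
      (lt_of_le_of_ne (sup_le inf_le_right (Subgroup.zpowers_le.mpr hv)) hone)
    obtain ⟨s, hs⟩ := IsPGroup.iff_card.mp (hR.to_subgroup (W ⊔ Subgroup.zpowers v))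
    have hs1 : c + 1 ≤ s := (Nat.pow_le_pow_iff_right hp.out.one_lt).mp (hs ▸ h1)
    have h2 := hgrow _ le_sup_left (sup_le inf_le_right (Subgroup.zpowers_le.mpr hv)) w hw hwS s hs
    have hle2 : (W ⊔ Subgroup.zpowers v) ⊔ Subgroup.zpowers w ≤ V :=
      sup_le (sup_le inf_le_right (Subgroup.zpowers_le.mpr hv)) (Subgroup.zpowers_le.mpr hw)
    have hs3 := h2.trans (Subgroup.card_le_of_le hle2)
    rw [hd, Nat.pow_le_pow_iff_right hp.out.one_lt] at hs3
    have hsup : (W ⊔ Subgroup.zpowers v) ⊔ Subgroup.zpowers w = V :=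
      Subgroup.eq_of_le_of_card_ge hle2 (by
        rw [hd]
        exact (Nat.pow_le_pow_right hp.out.pos (by omega)).trans h2)
    let f := (commHom hA hVM hv).prod (commHom hA hVM hw)
    have hker : f.ker ≤ W.subgroupOf A := fun a ha => by
      rw [Subgroup.mem_subgroupOf]
      rw [MonoidHom.mem_ker] at ha
      exact hinj hv hw hsup a (congrArg Prod.fst ha) (congrArg Prod.snd ha)
    have hcard : Nat.card A ≤ p ^ c * (p ^ c * p ^ c) := by
      rw [← f.ker.card_mul_index, Subgroup.index_ker]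
      refine Nat.mul_le_mul ((Subgroup.card_le_of_le hker).trans ?_)
        ((Subgroup.card_le_card_group _).trans ?_)
      · rw [Nat.card_congr (Subgroup.subgroupOfEquivOfLe (inf_le_left : W ≤ A)).toEquiv, hc]
      · rw [Nat.card_prod, hc]
    rw [hA.card, ← pow_add, ← pow_add, Nat.pow_le_pow_iff_right hp.out.one_lt] at hcard
    omega

/-- There is only one such subgroup. -/
theorem piece_le (hp2 : p ≠ 2) (hA : Piece p M A) (hA' : Piece p M A') : A' ≤ A := by
  obtain ⟨hW, hVc, hs⟩ := exists_axis hR hVM hV hV3 hΩ hA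
  obtain ⟨hW', -, hs'⟩ := exists_axis hR hVM hV hV3 hΩ hA'
  have hWW : A ⊓ V = A' ⊓ V := by
    refine Subgroup.eq_of_le_of_card_ge ?_ (hW'.trans hW.symm).le
    by_contra hnot
    -- otherwise some element of `A' ⊓ V` is outside `A`
    have hnot' : ¬ A' ⊓ V ≤ A := fun h =>
      hnot (Subgroup.eq_of_le_of_card_ge (le_inf h inf_le_right) (hW.trans hW'.symm).le).ge
    obtain ⟨v, ⟨hvA', hvV⟩, hvA⟩ := SetLike.not_le_iff_exists.mp hnot'
    refine hnot fun x hx => ⟨?_, hx.2⟩
    obtain ⟨a, ha⟩ := hs hvV hvA ⟨x, hx⟩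
    rw [← show ⁅(a : R), v⁆ = x from congrArg Subtype.val ha, commutatorElement_def]
    exact A'.mul_mem ((Subgroup.mem_normalizer_iff.mp (hA'.inv (hA.le a.2)) _).mp hvA') (A'.inv_mem hvA')
  obtain ⟨v, hv, hvA⟩ : ∃ v ∈ V, v ∉ A := by
    by_contra h
    push Not at h
    have := Subgroup.card_le_of_le (le_inf h le_rfl : V ≤ A ⊓ V)
    rw [hVc, hW, Nat.pow_le_pow_iff_right hp.out.one_lt] at this
    omega
  have hvA' : v ∉ A' := fun h => hvA ((hWW.ge ⟨h, hv⟩).1)
  have hsup : (A ⊓ V) ⊔ Subgroup.zpowers v = V := by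
    refine Subgroup.eq_of_le_of_card_ge (sup_le inf_le_right (Subgroup.zpowers_le.mpr hv)) ?_
    obtain ⟨t, ht⟩ := IsPGroup.iff_card.mp (hR.to_subgroup ((A ⊓ V) ⊔ Subgroup.zpowers v))
    rw [hVc, ht]
    refine Nat.pow_le_pow_right hp.out.pos ?_
    by_contra h
    have hm : v ∈ A ⊓ V := (Subgroup.eq_of_le_of_card_ge le_sup_left (by
      rw [ht, hW]; exact Nat.pow_le_pow_right hp.out.pos (by omega))).ge
        (Subgroup.mem_sup_right (Subgroup.mem_zpowers v))
    exact hvA hm.1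
  -- corresponding elements differ by an element of `V`
  have hdiff : ∀ a ∈ A, ∀ a' ∈ A', ⁅a, v⁆ = ⁅a', v⁆ → a⁻¹ * a' ∈ V := by
    intro a ha a' ha' he
    refine hΩ _ ?_ (M.mul_mem (M.inv_mem (hA.le ha)) (hA'.le ha')) ?_
    · intro x hx
      have hle : V ≤ Subgroup.centralizer ({a⁻¹ * a'} : Set R) := by
        rw [← hsup, sup_le_iff, Subgroup.zpowers_le]
        refine ⟨fun y hy => Subgroup.mem_centralizer_singleton_iff.mpr ?_,
          Subgroup.mem_centralizer_singleton_iff.mpr ?_⟩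
        · exact ((Commute.inv_left (comm_of_elem hA.elem ha hy.1)).mul_left
            (comm_of_elem hA'.elem ha' (hWW.le hy).1 : Commute a' y)).symm.eq
        · have h1 : a * v * a⁻¹ = a' * v * a'⁻¹ := by
            rw [commutatorElement_def, commutatorElement_def] at he
            exact mul_right_cancel he
          calc v * (a⁻¹ * a') = a⁻¹ * (a * v * a⁻¹) * a' := by group
            _ = a⁻¹ * (a' * v * a'⁻¹) * a' := by rw [h1]
            _ = a⁻¹ * a' * v := by group
      exact (Subgroup.mem_centralizer_singleton_iff.mp (hle hx))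
    · have hd : ⁅a', a⁻¹⁆ ∈ A ⊓ A' := by
        rw [commutatorElement_def]
        refine ⟨A.mul_mem ((Subgroup.mem_normalizer_iff.mp (hA.inv (hA'.le ha')) _).mp
          (A.inv_mem ha)) (A.inv_mem (A.inv_mem ha)), ?_⟩
        rw [mul_assoc, mul_assoc, inv_inv, ← mul_assoc a⁻¹]
        have := (Subgroup.mem_normalizer_iff.mp (hA'.inv (M.inv_mem (hA.le ha))) _).mp (A'.inv_mem ha')
        rw [inv_inv] at this
        exact A'.mul_mem ha' this
      obtain ⟨r, hr⟩ : p ∣ p.choose 2 :=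
        hp.out.dvd_choose_self (by norm_num) (lt_of_le_of_ne hp.out.two_le hp2.symm)
      rw [PSolvable.mul_pow_of_comm (comm_of_elem hA.elem hd.1 (A.inv_mem ha))
        (comm_of_elem hA'.elem hd.2 ha'), inv_pow, hA.elem.2 a ha, hA'.elem.2 a' ha', inv_one,
        one_mul, one_mul, hr, pow_mul, hA.elem.2 _ hd.1, one_pow]
  intro a' ha'
  obtain ⟨⟨a, ha⟩, hae⟩ := hs hv hvA ⟨⁅a', v⁆, hWW.ge (comm_mem hA' hVM ha' hv)⟩
  replace hae : ⁅a, v⁆ = ⁅a', v⁆ := congrArg Subtype.val hae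
  set u := a⁻¹ * a' with hu
  have huV : u ∈ V := hdiff a ha a' ha' hae
  have ha'u : a' = a * u := by rw [hu, mul_inv_cancel_left]
  by_contra hout
  have huA : u ∉ A := fun h => hout (ha'u ▸ A.mul_mem ha h)
  -- an element of `A` with an independent commutator
  obtain ⟨x, hxW, hxlin⟩ : ∃ x ∈ A ⊓ V, x ∉ Subgroup.zpowers ⁅a, v⁆ := by
    by_contra h
    push Not at h
    have h1 := Subgroup.card_le_of_le (show A ⊓ V ≤ Subgroup.zpowers ⁅a, v⁆ from h)
    rw [hW, Nat.card_zpowers] at h1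
    have h2 : orderOf ⁅a, v⁆ ≤ p := Nat.le_of_dvd hp.out.pos
      (orderOf_dvd_of_pow_eq_one (hV.2 _ (comm_mem hA hVM ha hv).2))
    have := hp.out.one_lt
    nlinarith
  obtain ⟨⟨b, hb⟩, hbe⟩ := hs hv hvA ⟨x, hxW⟩
  obtain ⟨⟨b', hb'⟩, hb'e⟩ := hs' hv hvA' ⟨x, hWW.le hxW⟩
  replace hbe : ⁅b, v⁆ = x := congrArg Subtype.val hbe
  replace hb'e : ⁅b', v⁆ = x := congrArg Subtype.val hb'e
  set w := b⁻¹ * b' with hw
  have hwV : w ∈ V := hdiff b hb b' hb' (hbe.trans hb'e.symm)
  have hcomm := comm_of_elem hA'.elem ha' hb'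
  rw [ha'u, show b' = b * w by rw [hw, mul_inv_cancel_left]] at hcomm
  -- commutators with `u` and `w`
  have hlin : ∀ c ∈ A, ∀ y ∈ V, ∀ i : ℤ, y * (v ^ i)⁻¹ ∈ A ⊓ V → ⁅c, y⁆ = ⁅c, v⁆ ^ i := by
    intro c hc y hy i hyi
    have hvi : ⁅c, v ^ i⁆ = ⁅c, v⁆ ^ i := by
      have hcl : ⁅c, v⁆ ∈ V := (comm_mem hA hVM hc hv).2
      rw [show ⁅c, v ^ i⁆ = (c * v * c⁻¹) ^ i * (v ^ i)⁻¹ by rw [commutatorElement_def, conj_zpow],
        show c * v * c⁻¹ = ⁅c, v⁆ * v by rw [commutatorElement_def, inv_mul_cancel_right],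
        Commute.mul_zpow (comm_of_elem hV hcl hv), mul_inv_cancel_right]
    rw [← hvi, show y = (y * (v ^ i)⁻¹) * v ^ i by rw [inv_mul_cancel_right]]
    set k := y * (v ^ i)⁻¹
    rw [show ⁅c, k * v ^ i⁆ = ⁅c, k⁆ * (k * ⁅c, v ^ i⁆ * k⁻¹) by
        simp only [commutatorElement_def]; group,
      commutatorElement_eq_one_iff_mul_comm.mpr (comm_of_elem hA.elem hc hyi.1), one_mul,
      comm_of_elem hA.elem hyi.1 (comm_mem hA hVM hc (V.zpow_mem hv i)).1, mul_inv_cancel_right]
  have hdec : ∀ y ∈ V, ∃ i : ℤ, y * (v ^ i)⁻¹ ∈ A ⊓ V := by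
    intro y hy
    rw [← hsup] at hy
    obtain ⟨k, hk, z, hz, rfl⟩ := Uniserial.exists_mul_of_mem
      (N := A ⊓ V) (H := Subgroup.zpowers v) (by
        rw [Subgroup.zpowers_le, Subgroup.mem_normalizer_iff]
        intro k
        constructor
        · intro hk
          rw [comm_of_elem hV hv hk.2, mul_inv_cancel_right]
          exact hk
        · intro hk
          have hkV : k ∈ V := by
            have := V.mul_mem (V.mul_mem (V.inv_mem hv) hk.2) hv
            rwa [show v⁻¹ * (v * k * v⁻¹) * v = k by group] at this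
          rwa [comm_of_elem hV hv hkV, mul_inv_cancel_right] at hk) hy
    obtain ⟨i, rfl⟩ := Subgroup.mem_zpowers_iff.mp hz
    exact ⟨i, by rwa [mul_inv_cancel_right]⟩
  obtain ⟨i, hi⟩ := hdec u huV
  obtain ⟨j, hj⟩ := hdec w hwV
  have h1 : a * u * (b * w) = a * b * (⁅b, u⁆⁻¹) * (u * w) := by
    have hb2 : ⁅b, u⁆⁻¹ * b = b * ⁅b, u⁆⁻¹ :=
      comm_of_elem hA.elem (A.inv_mem (comm_mem hA hVM hb huV).1) hb
    calc a * u * (b * w) = a * (⁅b, u⁆⁻¹ * b) * u * w := by
          rw [commutatorElement_def]; group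
      _ = _ := by rw [hb2]; group
  have h2 : b * w * (a * u) = b * a * (⁅a, w⁆⁻¹) * (w * u) := by
    have hb2 : ⁅a, w⁆⁻¹ * a = a * ⁅a, w⁆⁻¹ :=
      comm_of_elem hA.elem (A.inv_mem (comm_mem hA hVM ha hwV).1) ha
    calc b * w * (a * u) = b * (⁅a, w⁆⁻¹ * a) * w * u := by
          rw [commutatorElement_def]; group
      _ = _ := by rw [hb2]; group
  rw [h1, h2, comm_of_elem hA.elem hb ha, comm_of_elem hV hwV huV, mul_left_inj, mul_right_inj,
    inv_inj, hlin b hb u huV i hi, hbe, hlin a ha w hwV j hj] at hcomm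
  -- the exponent is prime to `p`
  refine hxlin ?_
  have hndvd : IsCoprime i (p : ℤ) := by
    rw [isCoprime_comm, (Nat.prime_iff_prime_int.mp hp.out).coprime_iff_not_dvd]
    rintro ⟨m, rfl⟩
    refine huA ?_
    rw [zpow_mul, zpow_natCast, hV.2 v hv, one_zpow, inv_one, mul_one] at hi
    exact hi.1
  obtain ⟨s, t, hst⟩ := hndvd
  rw [show x = (x ^ i) ^ s * (x ^ (p : ℤ)) ^ t by
      rw [← zpow_mul, ← zpow_mul, ← zpow_add,
        show i * s + (p : ℤ) * t = 1 by linarith, zpow_one],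
    zpow_natCast, hV.2 x hxW.2, one_zpow, mul_one, hcomm, ← zpow_mul]
  exact Subgroup.zpow_mem_zpowers _ _

end CfsgLib.RankFour

namespace CfsgLib.RankFour

universe u

/-- For odd `p`, a `p`-group with an elementary abelian subgroup of order `p ^ 4` has a normal
one. -/
theorem exists_normal {p : ℕ} [hp : Fact p.Prime] (hp2 : p ≠ 2) : ∀ (n : ℕ) (R : Type u) [Group R]
    [Finite R], Nat.card R = n → IsPGroup p R → ∀ E : Subgroup R, Cfsg.IsElementaryAbelian p E →
      Nat.card E = p ^ 4 → ∃ A : Subgroup R, A.Normal ∧ Cfsg.IsElementaryAbelian p A ∧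
        Nat.card A = p ^ 4 := by
  intro n
  induction n using Nat.strong_induction_on with
  | _ n ih =>
  intro R _ _ hn hR E hE hE4
  classical
  by_contra hno
  rcases eq_or_ne E ⊤ with rfl | hEtop
  · exact hno ⟨⊤, inferInstance, hE, hE4⟩
  obtain ⟨M, hMc, hEM⟩ := (eq_top_or_exists_le_coatom E).resolve_left hEtop
  haveI := hR.isNilpotent
  haveI hMn : M.Normal := Subgroup.NormalizerCondition.normal_of_coatom M
    Group.normalizerCondition_of_isNilpotent hMc
  have hlt : Nat.card M < n := by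
    rw [← hn, ← Subgroup.card_top (G := R)]
    exact lt_of_le_of_ne (Subgroup.card_le_of_le le_top) fun h =>
      hMc.1 (Subgroup.eq_of_le_of_card_ge le_top h.ge)
  have hE' : Cfsg.IsElementaryAbelian p (E.subgroupOf M) := by
    refine ⟨⟨⟨fun a b => Subtype.ext (Subtype.ext (comm_of_elem hE a.2 b.2))⟩⟩, fun a ha =>
      Subtype.ext (hE.2 _ ha)⟩
  obtain ⟨A₀, hA₀n, hA₀e, hA₀c⟩ := ih _ hlt M rfl (hR.to_subgroup M) (E.subgroupOf M) hE' (by
    rw [Nat.card_congr (Subgroup.subgroupOfEquivOfLe hEM).toEquiv, hE4])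
  set A := A₀.map M.subtype with hAdef
  have hA : Piece p M A := by
    refine ⟨Subgroup.map_subtype_le _, fun m hm => ?_, ⟨⟨⟨?_⟩⟩, ?_⟩, ?_⟩
    · have := Subgroup.le_normalizer_map M.subtype (H := A₀)
        ⟨⟨m, hm⟩, by rw [Subgroup.normalizer_eq_top]; trivial, rfl⟩
      exact this
    · rintro ⟨_, x, hx, rfl⟩ ⟨_, y, hy, rfl⟩
      exact Subtype.ext (congrArg Subtype.val (comm_of_elem hA₀e hx hy) :)
    · rintro _ ⟨x, hx, rfl⟩
      rw [← map_pow, hA₀e.2 x hx, map_one]
    · rw [hAdef, Subgroup.card_map_of_injective M.subtype_injective, hA₀c]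
  -- a maximal normal elementary abelian subgroup inside `M`
  obtain ⟨V, -, ⟨hVn, hVM, hVe⟩, hmax⟩ := Finite.exists_le_maximal
    (p := fun V : Subgroup R => V.Normal ∧ V ≤ M ∧ Cfsg.IsElementaryAbelian p V) (a := ⊥)
    ⟨inferInstance, bot_le, ⟨⟨⟨fun a b => Subtype.ext (by
      rw [Subgroup.mem_bot.mp (a * b).2, Subgroup.mem_bot.mp (b * a).2])⟩⟩, fun a ha => by
        rw [Subgroup.mem_bot.mp ha, one_pow]⟩⟩
  haveI := hVn
  have hV3 : Nat.card V ≤ p ^ 3 := by
    obtain ⟨d, hd⟩ := IsPGroup.iff_card.mp (hR.to_subgroup V)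
    by_contra hlt4
    rw [hd, not_le, Nat.pow_lt_pow_iff_right hp.out.one_lt] at hlt4
    obtain ⟨d', rfl⟩ : ∃ d', d = 4 + d' := ⟨d - 4, by omega⟩
    obtain ⟨N, hNn, hNV, hNc⟩ := CyclicMax.exists_normal_le_card_pow hR d' V hVn hd
    exact hno ⟨N, hNn, ⟨⟨⟨fun a b => Subtype.ext (comm_of_elem hVe (hNV a.2) (hNV b.2))⟩⟩,
      fun a ha => hVe.2 a (hNV ha)⟩, hNc⟩
  have hΩ : ∀ x ∈ Subgroup.centralizer (V : Set R), x ∈ M → x ^ p = 1 → x ∈ V := fun x h1 h2 h3 =>
    mem_of_maximal_le hR hp2 hVM hVe (fun B' hn' hM' he' hle => le_antisymm (hmax ⟨hn', hM', he'⟩ hle) hle)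
      h1 h2 h3
  refine hno ⟨A, ⟨fun a ha g => ?_⟩, hA.elem, hA.card⟩
  set A' := A.map (MulAut.conj g).toMonoidHom with hA'def
  have hA' : Piece p M A' := by
    refine ⟨?_, ?_, ⟨⟨⟨?_⟩⟩, ?_⟩, ?_⟩
    · rintro _ ⟨x, hx, rfl⟩
      exact hMn.conj_mem x (hA.le hx) g
    · have h1 := Subgroup.map_mono (f := (MulAut.conj g).toMonoidHom) hA.inv
      rw [show M.map (MulAut.conj g).toMonoidHom = M from Subgroup.Normal.map_conj_eq M g] at h1
      exact h1.trans (Subgroup.le_normalizer_map _)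
    · rintro ⟨_, x, hx, rfl⟩ ⟨_, y, hy, rfl⟩
      refine Subtype.ext ?_
      show (MulAut.conj g).toMonoidHom x * (MulAut.conj g).toMonoidHom y =
        (MulAut.conj g).toMonoidHom y * (MulAut.conj g).toMonoidHom x
      rw [← map_mul, comm_of_elem hA.elem hx hy, map_mul]
    · rintro _ ⟨x, hx, rfl⟩
      rw [← map_pow, hA.elem.2 x hx, map_one]
    · rw [hA'def, Subgroup.card_map_of_injective (MulAut.conj g).injective, hA.card]
  exact piece_le hR hVM hVe hV3 hΩ hp2 hA hA' ⟨a, ha, rfl⟩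

end CfsgLib.RankFour
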