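import Cfsg.Agent.Lib.PGroup.RankTwoBlackburn
import Cfsg.Agent.Lib.PGroup.RankTwoThree
import Cfsg.Agent.Lib.PGroup.RankTwoNormal
import Cfsg.Agent.Lib.PGroup.RankTwoOmega
import Cfsg.Agent.Lib.PGroup.CoprimeAut
import Cfsg.Agent.Lib.PGroup.MetacyclicOdd

/-!
# Chief factors of rank two `p`-subgroups, `p` odd

A subgroup of a `p`-group of rank at most two containing all proper characteristic subgroups has
index at most `p ^ 2`, by Blackburn's classification.
-/

set_option autoImplicit false
set_option linter.unusedSectionVars false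

open scoped commutatorElement

namespace CfsgLib.RankTwoSections

universe u

variable {p : ℕ} [hp : Fact p.Prime]

/-- A group of maximal class has a derived subgroup of index at most `p ^ 2`. -/
theorem commutator_index_le {H : Type u} [Group H] [Finite H] {n : ℕ} (hn : Nat.card H = p ^ n)
    (hcl : (⊤ : Subgroup H).lowerCentralSeries (n - 2) ≠ ⊥) : (commutator H).index ≤ p ^ 2 := by
  have hH : IsPGroup p H := IsPGroup.of_card hn
  obtain ⟨a, ha⟩ := IsPGroup.iff_card.mp (hH.to_subgroup (commutator H))
  have hidx : p ^ a * (commutator H).index = p ^ n := by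
    rw [← ha, ← hn, (commutator H).card_mul_index]
  obtain ⟨d, hd⟩ := hH.index (commutator H)
  rw [hd] at hidx ⊢
  rw [← pow_add] at hidx
  have had := Nat.pow_right_injective hp.out.two_le hidx
  refine Nat.pow_le_pow_right hp.out.pos ?_
  by_contra hd3
  have key : ∀ i, Nat.card ↥((⊤ : Subgroup H).lowerCentralSeries (i + 1)) ≤ p ^ (a - i) := by
    intro i
    induction i with
    | zero => rw [zero_add, Subgroup.top_lowerCentralSeries_one, Nat.sub_zero, ha]
    | succ i ih =>
      by_cases hb : (⊤ : Subgroup H).lowerCentralSeries (i + 1) = ⊥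
      · have : (⊤ : Subgroup H).lowerCentralSeries (i + 1 + 1) = ⊥ :=
          le_bot_iff.mp (hb ▸ (⊤ : Subgroup H).lowerCentralSeries_antitone (Nat.le_succ _))
        rw [this, Subgroup.card_bot]
        exact Nat.one_le_pow _ _ hp.out.pos
      · haveI : ((⊤ : Subgroup H).lowerCentralSeries (i + 1)).Normal := inferInstance
        have hlt := RankTwoOmega.commutator_top_lt hH _ hb
        have hlt' : (⊤ : Subgroup H).lowerCentralSeries (i + 1 + 1) <
            (⊤ : Subgroup H).lowerCentralSeries (i + 1) := hlt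
        obtain ⟨b, hb'⟩ := IsPGroup.iff_card.mp (hH.to_subgroup ((⊤ : Subgroup H).lowerCentralSeries (i + 1)))
        obtain ⟨c, hc⟩ := IsPGroup.iff_card.mp
          (hH.to_subgroup ((⊤ : Subgroup H).lowerCentralSeries (i + 1 + 1)))
        have h1 : Nat.card ↥((⊤ : Subgroup H).lowerCentralSeries (i + 1 + 1)) <
            Nat.card ↥((⊤ : Subgroup H).lowerCentralSeries (i + 1)) :=
          lt_of_le_of_ne (Subgroup.card_le_of_le hlt'.le) fun h =>
            hlt'.ne (Subgroup.eq_of_le_of_card_ge hlt'.le h.ge)
        rw [hb', hc, Nat.pow_lt_pow_iff_right hp.out.one_lt] at h1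
        rw [hb', Nat.pow_le_pow_iff_right hp.out.one_lt] at ih
        rw [hc]
        exact Nat.pow_le_pow_right hp.out.pos (by omega)
  refine hcl ?_
  have h := key (n - 3)
  rw [show a - (n - 3) = 0 by omega, pow_zero, show n - 3 + 1 = n - 2 by omega] at h
  exact Subgroup.eq_bot_of_card_le _ h

/-- The index of a normal subgroup containing the proper characteristic subgroups. -/
theorem index_le {H : Type u} [Group H] [Finite H] (hH : IsPGroup p H) (hp2 : p ≠ 2)
    (hrk : Cfsg.PRankLE p 2 H) {L : Subgroup H} [L.Normal] (hΦ : frattini H ≤ L)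
    (hchar : ∀ C : Subgroup H, C.Characteristic → C ≠ ⊤ → C ≤ L) : L.index ≤ p ^ 2 := by
  classical
  obtain ⟨n, hn⟩ := IsPGroup.iff_card.mp hH
  have hmono : (frattini H).index ≤ p ^ 2 → L.index ≤ p ^ 2 := fun h =>
    (Nat.le_of_dvd (Nat.pos_of_ne_zero Subgroup.index_ne_zero_of_finite)
      (Subgroup.index_dvd_of_le hΦ)).trans h
  rcases RankTwoBlackburn.classify_aux hp2 n H hn hrk with ⟨hn2, hcl⟩ | hm | ⟨R, hRc, hexp, c, hc, hco⟩
  · refine hmono ?_
    exact (Nat.le_of_dvd (Nat.pos_of_ne_zero Subgroup.index_ne_zero_of_finite)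
      (Subgroup.index_dvd_of_le (PSolvable.commutator_le_frattini hH).1)).trans
        (commutator_index_le hn hcl)
  · refine hmono ?_
    obtain ⟨a, b, -, hgen, -⟩ := Metacyclic.exists_gens hm
    refine (CfsgLib.PGroup.frattini_index_le hH {a, b} ?_).trans
      (Nat.pow_le_pow_right hp.out.pos ((Finset.card_insert_le _ _).trans (by simp)))
    refine eq_top_iff.mpr fun g _ => ?_
    obtain ⟨i, j, rfl⟩ := hgen g
    exact Subgroup.mul_mem _ (Subgroup.pow_mem _ (Subgroup.subset_closure (by simp)) i)
      (Subgroup.pow_mem _ (Subgroup.subset_closure (by simp)) j)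
  · haveI := RankTwoThree.normal_of_big hH hp2 hrk R hRc hexp hc hco
    have hmem : ∀ x : H, x ^ p = 1 → x ∈ R := fun x hx =>
      RankTwoThree.mem_of_pow_eq_one hH hp2 hrk R hRc hexp hc hco hx
    by_cases hRtop : R = ⊤
    · -- a group of exponent `p` and order `p ^ 3` is not abelian
      obtain ⟨d, hd⟩ := hH.index L
      rw [hd]
      refine Nat.pow_le_pow_right hp.out.pos ?_
      by_contra hd3
      have hle : p ^ d ≤ p ^ 3 := by
        rw [← hd, ← hRc, hRtop, Subgroup.card_top]
        exact Nat.le_of_dvd Nat.card_pos (Subgroup.index_dvd_card L)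
      rw [Nat.pow_le_pow_iff_right hp.out.one_lt] at hle
      have hLb : L = ⊥ := by
        rw [← Subgroup.card_eq_one]
        have h := L.card_mul_index
        rw [hd, show d = 3 by omega, ← hRc, hRtop, Subgroup.card_top] at h
        exact (Nat.mul_eq_right Nat.card_pos.ne').mp h
      have hcomm : IsMulCommutative (⊤ : Subgroup H) := ⟨⟨fun x y => Subtype.ext
        (commutatorElement_eq_one_iff_mul_comm.mp (Subgroup.mem_bot.mp (hLb ▸ hΦ
          ((PSolvable.commutator_le_frattini hH).1 (Subgroup.commutator_mem_commutator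
            (Subgroup.mem_top (x : H)) (Subgroup.mem_top (y : H))))) :
              ⁅(x : H), (y : H)⁆ = 1))⟩⟩
      have h2 := hrk ⊤ hcomm fun x _ => hexp x (hRtop ▸ Subgroup.mem_top x)
      rw [← hRtop, hRc, Nat.pow_le_pow_iff_right hp.out.one_lt] at h2
      omega
    · have hRchar : R.Characteristic := by
        refine Subgroup.characteristic_iff_le_comap.mpr fun φ x hx => ?_
        exact hmem _ (by
          show (φ x) ^ p = 1
          rw [← map_pow, hexp x hx, map_one])
      have hRL := hchar R hRchar hRtop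
      obtain ⟨z, hz⟩ : ∃ z : H, L ⊔ Subgroup.zpowers z = ⊤ := by
        rcases RankTwoNormal.families hp2 hn hrk R hRc hexp with
          ⟨-, x, y, z, hgen, hx, hy, -⟩ | ⟨-, s, x, y, z, -, hgen, hx, hy, -⟩ <;>
        · refine ⟨z, top_unique (hgen ▸ (Subgroup.closure_le _).mpr ?_)⟩
          rintro w (rfl | rfl | rfl)
          · exact Subgroup.mem_sup_left (hRL (hmem _ hx))
          · exact Subgroup.mem_sup_left (hRL (hmem _ hy))
          · exact Subgroup.mem_sup_right (Subgroup.mem_zpowers _)
      have hzp : (z : H ⧸ L) ^ p = 1 := by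
        rw [← QuotientGroup.mk_pow, QuotientGroup.eq_one_iff]
        exact hΦ (CfsgLib.OddOmega.pow_mem_frattini hH z)
      have htop : Subgroup.zpowers (z : H ⧸ L) = ⊤ := by
        refine eq_top_iff.mpr fun q _ => ?_
        induction q using QuotientGroup.induction_on with
        | H g =>
          obtain ⟨l, hl, w, hw, rfl⟩ := Subgroup.mem_sup_of_normal_left.mp (hz.ge (Subgroup.mem_top g))
          obtain ⟨j, rfl⟩ := Subgroup.mem_zpowers_iff.mp hw
          exact ⟨j, by
            show (z : H ⧸ L) ^ j = _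
            rw [QuotientGroup.mk_mul, (QuotientGroup.eq_one_iff l).mpr hl, one_mul]; rfl⟩
      rw [Subgroup.index_eq_card, ← Subgroup.card_top (G := H ⧸ L), ← htop, Nat.card_zpowers]
      exact (Nat.le_of_dvd hp.out.pos (orderOf_dvd_of_pow_eq_one hzp)).trans
        (by rw [sq]; exact Nat.le_mul_self p)

end CfsgLib.RankTwoSections
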