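import Cfsg.Agent.Lib.PGroup.TwoMaximalClass
import Cfsg.Agent.Lib.SmallTwo.DihedralRec
import Cfsg.Agent.Lib.Classical.QuaternionRec
import Cfsg.Agent.Lib.PSolvable.Omega

/-!
A `2`-group with a self-centralizing nonabelian subgroup of order eight has maximal class, and is
then dihedral, semidihedral or quaternion.
-/

set_option autoImplicit false
set_option linter.style.haveILetI false

open scoped commutatorElement

namespace CfsgLib.MaxClass

variable {S : Type*} [Group S] [Finite S]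

/-- A nonabelian group of order eight. -/
theorem eight_facts {H : Type*} [Group H] [Finite H] (h8 : Nat.card H = 8)
    (hna : ¬ IsMulCommutative H) :
    Nat.card (Subgroup.center H) = 2 ∧ (∀ a : H, a ^ 2 ∈ Subgroup.center H) ∧
      ∀ a b : H, ⁅a, b⁆ ∈ Subgroup.center H := by
  haveI := Fact.mk Nat.prime_two
  have hH : IsPGroup 2 H := IsPGroup.of_card (n := 3) (by rw [h8]; norm_num)
  haveI : Nontrivial H := Finite.one_lt_card_iff_nontrivial.mp (by omega)
  haveI := hH.center_nontrivial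
  have h1 : 1 < Nat.card (Subgroup.center H) := Finite.one_lt_card
  have hmul := Subgroup.card_eq_card_quotient_mul_card_subgroup (Subgroup.center H)
  have hncyc : ¬ IsCyclic (H ⧸ Subgroup.center H) := fun hc => hna ⟨⟨fun a b =>
    commutative_of_cyclic_center_quotient (QuotientGroup.mk' _) (by rw [QuotientGroup.ker_mk']) a b⟩⟩
  have hq : 4 ≤ Nat.card (H ⧸ Subgroup.center H) := by
    by_contra hlt
    obtain ⟨k, hk⟩ := IsPGroup.iff_card.mp (hH.to_quotient (Subgroup.center H))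
    rcases k with _ | _ | k
    · haveI : Subsingleton (H ⧸ Subgroup.center H) := (Nat.card_eq_one_iff_unique.mp hk).1
      exact hncyc inferInstance
    · exact hncyc (isCyclic_of_prime_card (p := 2) hk)
    · rw [hk, pow_succ, pow_succ] at hlt
      have := Nat.two_pow_pos k
      omega
  rw [h8] at hmul
  have h2 : Nat.card (Subgroup.center H) = 2 := by nlinarith
  have h4 : Nat.card (H ⧸ Subgroup.center H) = 4 := by rw [h2] at hmul; omega
  refine ⟨h2, fun a => ?_, fun a b => ?_⟩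
  · rw [← QuotientGroup.eq_one_iff]
    by_contra hne
    refine hncyc (isCyclic_of_orderOf_eq_card (a : H ⧸ Subgroup.center H) ?_)
    have hd := orderOf_dvd_natCard (a : H ⧸ Subgroup.center H)
    rw [h4] at hd ⊢
    obtain ⟨i, hi, hio⟩ := (Nat.dvd_prime_pow Nat.prime_two).mp (show orderOf _ ∣ 2 ^ 2 from hd)
    rcases Nat.lt_or_ge i 2 with h | h
    · refine absurd ?_ hne
      rw [QuotientGroup.mk_pow]
      exact orderOf_dvd_iff_pow_eq_one.mp (hio ▸ pow_dvd_pow 2 (show i ≤ 1 by omega))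
    · rw [hio, show i = 2 by omega]; norm_num
  · rw [← QuotientGroup.eq_one_iff, ← QuotientGroup.mk'_apply, map_commutatorElement,
      commutatorElement_eq_one_iff_mul_comm]
    haveI := IsPGroup.isMulCommutative_of_card_eq_prime_sq (p := 2) (G := H ⧸ Subgroup.center H) h4
    exact mul_comm' _ _

/-- Suzuki: the derived subgroup has index four. -/
theorem four_mul_card_commutator (hS : IsPGroup 2 S) (H : Subgroup S) (h8 : Nat.card H = 8)
    (hna : ¬ IsMulCommutative H) (hC : Subgroup.centralizer (H : Set S) ≤ H) :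
    4 * Nat.card (commutator S) = Nat.card S := by
  classical
  haveI := Fact.mk Nat.prime_two
  obtain ⟨hZ2, hsq, hcm⟩ := eight_facts h8 hna
  haveI : Nontrivial S := by
    refine Finite.one_lt_card_iff_nontrivial.mp (lt_of_lt_of_le (b := 8) (by norm_num) ?_)
    rw [← h8]; exact Subgroup.card_le_card_group H
  -- the centre of `S` is the centre of `H`
  have hZle : Subgroup.center S ≤ (Subgroup.center H).map H.subtype := by
    intro z hz
    have hzH : z ∈ H := hC (Subgroup.mem_centralizer_iff.mpr fun h _ => Subgroup.mem_center_iff.mp hz h)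
    exact ⟨⟨z, hzH⟩, Subgroup.mem_center_iff.mpr fun y => Subtype.ext (Subgroup.mem_center_iff.mp hz y), rfl⟩
  have hc2 : Nat.card ((Subgroup.center H).map H.subtype) = 2 :=
    (Subgroup.card_map_of_injective H.subtype_injective).trans hZ2
  haveI := hS.center_nontrivial
  have hZeq : Subgroup.center S = (Subgroup.center H).map H.subtype :=
    Subgroup.eq_of_le_of_card_ge hZle (by rw [hc2]; exact Finite.one_lt_card)
  set Z := Subgroup.center S
  have hcardZ : Nat.card Z = 2 := by rw [hZeq]; exact hc2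
  set π := QuotientGroup.mk' Z
  set Hb := H.map π
  have hZH : Z ≤ H := hZeq.le.trans (Subgroup.map_subtype_le _)
  -- the image of `H` is a four-group
  have hHb4 : Nat.card Hb = 4 := by
    have h1 := Subgroup.card_eq_card_quotient_mul_card_subgroup (Z.subgroupOf H)
    have h2 : Nat.card (H ⧸ Z.subgroupOf H) = Nat.card Hb :=
      (Nat.card_congr ((QuotientGroup.quotientMulEquivOfEq (by
        rw [← MonoidHom.comap_ker, QuotientGroup.ker_mk']; rfl)).trans
        (QuotientGroup.quotientKerEquivRange (π.comp H.subtype))).toEquiv).trans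
        (Nat.card_congr (MulEquiv.subgroupCongr (by rw [MonoidHom.range_comp, Subgroup.range_subtype])).toEquiv)
    rw [h8, h2, Nat.card_congr (Subgroup.subgroupOfEquivOfLe hZH).toEquiv, hcardZ] at h1
    omega
  -- a nonabelian `H` has a commutator
  obtain ⟨z₀, hz₀, hz₀'⟩ : ∃ z₀ : S, z₀ ∈ commutator S ∧ z₀ ≠ 1 ∧ z₀ ∈ Z := by
    obtain ⟨a, b, hab⟩ : ∃ a b : H, ⁅a, b⁆ ≠ 1 := by
      by_contra h
      push Not at h
      exact hna ⟨⟨fun a b => commutatorElement_eq_one_iff_mul_comm.mp (h a b)⟩⟩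
    refine ⟨((⁅a, b⁆ : H) : S), ?_, fun h => hab (Subtype.ext h), hZeq.ge ⟨_, hcm a b, rfl⟩⟩
    show ⁅(a : S), (b : S)⁆ ∈ commutator S
    exact Subgroup.commutator_mem_commutator (Subgroup.mem_top _) (Subgroup.mem_top _)
  have hZc : Z ≤ commutator S := by
    intro x hx
    have : Subgroup.zpowers z₀ = Z := Subgroup.eq_of_le_of_card_ge (Subgroup.zpowers_le.mpr hz₀'.2) (by
      rw [hcardZ, Nat.card_zpowers]
      have h1 : orderOf z₀ ≠ 1 := fun h => hz₀'.1 (orderOf_eq_one_iff.mp h)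
      have := orderOf_pos z₀
      omega)
    exact (Subgroup.zpowers_le.mpr hz₀) (this.ge hx)
  -- choose `h` outside a central line
  have hcomm : ∀ u ∈ Hb, ∀ v ∈ Hb, u * v = v * u := by
    rintro _ ⟨a, ha, rfl⟩ _ ⟨b, hb, rfl⟩
    rw [← commutatorElement_eq_one_iff_mul_comm, ← map_commutatorElement, ← MonoidHom.mem_ker,
      QuotientGroup.ker_mk']
    exact hZeq.ge ⟨_, hcm ⟨a, ha⟩ ⟨b, hb⟩, rfl⟩
  have hself : ∀ x : S, (∀ v ∈ Hb, π x * v = v * π x) → x ∈ H := by
    intro x hx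
    obtain ⟨a, b, hab⟩ : ∃ a b : H, ⁅a, b⁆ ≠ 1 := by
      by_contra h
      push Not at h
      exact hna ⟨⟨fun a b => commutatorElement_eq_one_iff_mul_comm.mp (h a b)⟩⟩
    have hz : ∀ y ∈ H, x * y * x⁻¹ * y⁻¹ ∈ Z := fun y hy => by
      rw [← QuotientGroup.ker_mk' Z, MonoidHom.mem_ker]
      show π _ = 1
      rw [map_mul, map_mul, map_mul, map_inv, map_inv, hx _ ⟨y, hy, rfl⟩, mul_inv_cancel_right, mul_inv_cancel]
    have hzz : ∀ y ∈ Z, y = 1 ∨ y = ((⁅a, b⁆ : H) : S) := by
      intro y hy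
      have hc : ((⁅a, b⁆ : H) : S) ∈ Z := hZeq.ge ⟨_, hcm a b, rfl⟩
      rcases eq_or_ne y 1 with e | e
      · exact Or.inl e
      · refine Or.inr ?_
        have h := (Nat.card_eq_two_iff' (1 : Z)).mp hcardZ
        exact congrArg Subtype.val (h.unique (y₁ := ⟨y, hy⟩) (y₂ := ⟨_, hc⟩)
          (fun h' => e (congrArg Subtype.val h')) (fun h' => hab (Subtype.ext (congrArg Subtype.val h' :))))
    have hcomH : ∀ u ∈ H, ∀ y ∈ H, u * y * u⁻¹ * y⁻¹ ∈ Z := fun u hu y hy =>
      hZeq.ge ⟨_, hcm ⟨u, hu⟩ ⟨y, hy⟩, rfl⟩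
    have hhom : ∀ w, (∀ y ∈ H, w * y * w⁻¹ * y⁻¹ ∈ Z) → ∀ u ∈ H, w * u * w⁻¹ * u⁻¹ = 1 →
        ∀ v ∈ H, w * v * w⁻¹ * v⁻¹ = 1 → ∀ y ∈ Subgroup.closure ({u, v} : Set S), w * y = y * w := by
      intro w _ u _ h1 v _ h2 y hy
      have : Subgroup.closure ({u, v} : Set S) ≤ Subgroup.centralizer ({w} : Set S) := by
        rw [Subgroup.closure_le]
        rintro t (rfl | rfl) <;> refine Subgroup.mem_centralizer_singleton_iff.mpr ?_
        · exact (commutatorElement_eq_one_iff_mul_comm.mp h1).symm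
        · exact (commutatorElement_eq_one_iff_mul_comm.mp h2).symm
      exact (Subgroup.mem_centralizer_singleton_iff.mp (this hy)).symm
    -- `a`, `b` generate `H`
    have hgen : ∀ y ∈ H, y ∈ Subgroup.closure ({(a : S), (b : S)} : Set S) := by
      have hle : Subgroup.closure ({(a : S), (b : S)} : Set S) ≤ H := by
        rw [Subgroup.closure_le]; rintro t (rfl | rfl); exacts [a.2, b.2]
      have hnab : ¬ IsMulCommutative (Subgroup.closure ({(a : S), (b : S)} : Set S)) := fun hc => hab (by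
        rw [commutatorElement_eq_one_iff_mul_comm]
        exact Subtype.ext (congrArg Subtype.val (hc.is_comm.comm
          (⟨a, Subgroup.subset_closure (by simp)⟩ : Subgroup.closure ({(a : S), (b : S)} : Set S))
          ⟨b, Subgroup.subset_closure (by simp)⟩) :))
      intro y hy
      suffices Subgroup.closure ({(a : S), (b : S)} : Set S) = H by rw [this]; exact hy
      refine Subgroup.eq_of_le_of_card_ge hle ?_
      by_contra hlt
      have hd := Subgroup.card_dvd_of_le hle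
      rw [h8] at hd hlt
      obtain ⟨i, hi, hio⟩ := (Nat.dvd_prime_pow Nat.prime_two).mp (show _ ∣ 2 ^ 3 from hd)
      interval_cases i
      · haveI : Subsingleton (Subgroup.closure ({(a : S), (b : S)} : Set S)) := (Nat.card_eq_one_iff_unique.mp hio).1
        exact hnab ⟨⟨fun _ _ => Subsingleton.elim _ _⟩⟩
      · haveI := isCyclic_of_prime_card (p := 2) hio
        exact hnab ⟨⟨(IsCyclic.commGroup (α := Subgroup.closure ({(a : S), (b : S)} : Set S))).mul_comm⟩⟩
      · exact hnab (IsPGroup.isMulCommutative_of_card_eq_prime_sq (p := 2) hio)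
      · omega
    -- adjust `x` by an element of `H`
    have hab' : (a : S) * b * (a : S)⁻¹ * (b : S)⁻¹ = ((⁅a, b⁆ : H) : S) := rfl
    have hba' : (b : S) * a * (b : S)⁻¹ * (a : S)⁻¹ = ((⁅a, b⁆ : H) : S) := by
      refine ((hzz _ (hcomH _ b.2 _ a.2)).resolve_left fun h => hab ?_)
      rw [commutatorElement_eq_one_iff_mul_comm]
      exact (Subtype.ext (commutatorElement_eq_one_iff_mul_comm.mp h)).symm
    have hz1 : ((⁅a, b⁆ : H) : S) * ((⁅a, b⁆ : H) : S) = 1 := by
      have hc : ((⁅a, b⁆ : H) : S) ∈ Z := hZeq.ge ⟨_, hcm a b, rfl⟩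
      rcases hzz _ (Z.mul_mem hc hc) with e | e
      · exact e
      · exact absurd (Subtype.ext (mul_eq_right.mp e)) hab
    -- `[u w, y] = [u, y] [w, y]` modulo the centre
    have hmul : ∀ u w y : S, w * y * w⁻¹ * y⁻¹ ∈ Z →
        u * w * y * (u * w)⁻¹ * y⁻¹ = (u * y * u⁻¹ * y⁻¹) * (w * y * w⁻¹ * y⁻¹) := by
      intro u w y hw
      have e := Subgroup.mem_center_iff.mp hw
      calc u * w * y * (u * w)⁻¹ * y⁻¹ = u * ((w * y * w⁻¹ * y⁻¹) * y) * u⁻¹ * y⁻¹ := by group
        _ = (u * y * u⁻¹ * y⁻¹) * (w * y * w⁻¹ * y⁻¹) := by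
            rw [← e y, ← mul_assoc, mul_assoc (u * y), ← e u⁻¹, ← mul_assoc, mul_assoc (u * y * u⁻¹), ← e y⁻¹,
              ← mul_assoc]
    obtain ⟨u, hu, hu1, hu2⟩ : ∃ u ∈ H, u * x * (a : S) * (u * x)⁻¹ * (a : S)⁻¹ = 1 ∧
        u * x * (b : S) * (u * x)⁻¹ * (b : S)⁻¹ = 1 := by
      have hax : ∀ y : S, (1 : S) * y * 1⁻¹ * y⁻¹ = 1 := fun y => by group
      rcases hzz _ (hz a a.2) with ea | ea <;> rcases hzz _ (hz b b.2) with eb | eb
      · exact ⟨1, H.one_mem, by rw [hmul _ _ _ (hz a a.2), ea, hax, one_mul], by rw [hmul _ _ _ (hz b b.2), eb, hax, one_mul]⟩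
      · exact ⟨a, a.2, by rw [hmul _ _ _ (hz a a.2), ea, mul_one]; group, by rw [hmul _ _ _ (hz b b.2), eb, hab', hz1]⟩
      · exact ⟨b, b.2, by rw [hmul _ _ _ (hz a a.2), ea, hba', hz1], by rw [hmul _ _ _ (hz b b.2), eb, mul_one]; group⟩
      · refine ⟨(a : S) * b, H.mul_mem a.2 b.2, ?_, ?_⟩
        · rw [hmul _ _ _ (hz a a.2), ea, hmul _ _ _ (hcomH _ b.2 _ a.2), hba', show (a : S) * a * (a : S)⁻¹ * (a : S)⁻¹ = 1 by group, one_mul, hz1]
        · rw [hmul _ _ _ (hz b b.2), eb, hmul _ _ _ (hcomH _ b.2 _ b.2), hab', show (b : S) * b * (b : S)⁻¹ * (b : S)⁻¹ = 1 by group, mul_one, hz1]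
    have : u * x ∈ H := hC (Subgroup.mem_centralizer_iff.mpr fun y hy => by
      exact (hhom (u * x) (fun y hy => by rw [hmul _ _ _ (hz y hy)]; exact mul_mem (hcomH _ hu _ hy) (hz y hy))
        a a.2 hu1 b b.2 hu2 y (hgen y hy)).symm)
    simpa using H.mul_mem (H.inv_mem hu) this
  -- a central element of the image of `H`
  haveI : Nontrivial (S ⧸ Z) := by
    refine Finite.one_lt_card_iff_nontrivial.mp (lt_of_lt_of_le (b := 4) (by norm_num) ?_)
    rw [← hHb4]; exact Subgroup.card_le_card_group Hb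
  haveI := (hS.to_quotient Z).center_nontrivial
  obtain ⟨⟨g, hgc⟩, hg1⟩ := exists_ne (1 : Subgroup.center (S ⧸ Z))
  have hgH : g ∈ Hb := by
    obtain ⟨x, rfl⟩ := QuotientGroup.mk'_surjective Z g
    exact ⟨x, hself x fun v _ => (Subgroup.mem_center_iff.mp hgc v).symm, rfl⟩
  obtain ⟨h, hh, hh'⟩ : ∃ h ∈ Hb, h ∉ Subgroup.zpowers g := by
    by_contra hall
    push Not at hall
    have h1 := Subgroup.card_le_of_le (hall : Hb ≤ Subgroup.zpowers g)
    have h2 : g ^ 2 = 1 := by
      obtain ⟨x, hx, rfl⟩ := hgH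
      rw [← map_pow, ← MonoidHom.mem_ker, QuotientGroup.ker_mk']
      exact hZeq.ge ⟨_, hsq ⟨x, hx⟩, rfl⟩
    rw [Nat.card_zpowers, hHb4] at h1
    have := Nat.le_of_dvd two_pos (orderOf_dvd_of_pow_eq_one h2)
    omega
  have hgen : Subgroup.closure ({g, h} : Set (S ⧸ Z)) = Hb := by
    refine Subgroup.eq_of_le_of_card_ge ((Subgroup.closure_le _).mpr (by rintro t (rfl | rfl); exacts [hgH, hh])) ?_
    have hlt : Subgroup.zpowers g < Subgroup.closure ({g, h} : Set (S ⧸ Z)) :=
      lt_of_le_of_ne (Subgroup.zpowers_le.mpr (Subgroup.subset_closure (by simp)))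
        fun e => hh' (e.ge (Subgroup.subset_closure (by simp)))
    have h3 := Subgroup.card_dvd_of_le hlt.le
    have h4 : Nat.card (Subgroup.zpowers g) < Nat.card (Subgroup.closure ({g, h} : Set (S ⧸ Z))) := by
      by_contra hle
      exact hlt.ne (Subgroup.eq_of_le_of_card_ge hlt.le (not_lt.mp hle))
    have h5 : 2 ≤ Nat.card (Subgroup.zpowers g) := by
      rw [Nat.card_zpowers]
      have h1 : orderOf g ≠ 1 := fun e => hg1 (Subtype.ext (orderOf_eq_one_iff.mp e))
      have := orderOf_pos g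
      omega
    rw [hHb4]
    obtain ⟨c, hc⟩ := h3
    rw [hc] at h4 ⊢
    rcases c with _ | _ | c
    · omega
    · omega
    · nlinarith
  -- the centralizer of `h` is the image of `H`
  set C := Subgroup.centralizer ({h} : Set (S ⧸ Z))
  have hCle : C ≤ Hb := by
    intro y hy
    obtain ⟨x, rfl⟩ := QuotientGroup.mk'_surjective Z y
    refine ⟨x, hself x fun v hv => ?_, rfl⟩
    have : Hb ≤ Subgroup.centralizer ({π x} : Set (S ⧸ Z)) := hgen ▸ (Subgroup.closure_le _).mpr (by
      rintro t (rfl | rfl) <;> refine Subgroup.mem_centralizer_singleton_iff.mpr ?_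
      · exact (Subgroup.mem_center_iff.mp hgc _).symm
      · exact (Subgroup.mem_centralizer_singleton_iff.mp hy).symm)
    exact (Subgroup.mem_centralizer_singleton_iff.mp (this hv)).symm
  have hidx : C.index ≤ Nat.card (commutator (S ⧸ Z)) := by
    rw [Subgroup.index_eq_card]
    refine Nat.card_le_card_of_injective (fun q => (⟨⁅q.out, h⁆,
      Subgroup.commutator_mem_commutator (Subgroup.mem_top _) (Subgroup.mem_top _)⟩ : commutator (S ⧸ Z))) ?_
    intro q q' e
    have e' : q.out * h * q.out⁻¹ = q'.out * h * q'.out⁻¹ := mul_right_cancel (congrArg Subtype.val e :)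
    rw [← QuotientGroup.out_eq' q, ← QuotientGroup.out_eq' q', QuotientGroup.eq, Subgroup.mem_centralizer_singleton_iff]
    calc q.out⁻¹ * q'.out * h = q.out⁻¹ * (q'.out * h * q'.out⁻¹) * q'.out := by group
      _ = q.out⁻¹ * (q.out * h * q.out⁻¹) * q'.out := by rw [e']
      _ = _ := by group
  have hcomb : Nat.card (commutator S) = 2 * Nat.card (commutator (S ⧸ Z)) := by
    have e : (commutator S).map π = commutator (S ⧸ Z) := by
      rw [commutator_def, commutator_def, Subgroup.map_commutator, Subgroup.map_top_of_surjective _ (QuotientGroup.mk'_surjective Z)]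
    have h1 := Subgroup.card_eq_card_quotient_mul_card_subgroup (Z.subgroupOf (commutator S))
    have h2 : Nat.card (commutator S ⧸ Z.subgroupOf (commutator S)) = Nat.card ((commutator S).map π) :=
      (Nat.card_congr ((QuotientGroup.quotientMulEquivOfEq (by
        rw [← MonoidHom.comap_ker, QuotientGroup.ker_mk']; rfl)).trans
        (QuotientGroup.quotientKerEquivRange (π.comp (commutator S).subtype))).toEquiv).trans
        (Nat.card_congr (MulEquiv.subgroupCongr (by rw [MonoidHom.range_comp, Subgroup.range_subtype])).toEquiv)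
    rw [h2, e, Nat.card_congr (Subgroup.subgroupOfEquivOfLe hZc).toEquiv, hcardZ] at h1
    omega
  have hle : Nat.card S ≤ 4 * Nat.card (commutator S) := by
    have h1 := Subgroup.card_eq_card_quotient_mul_card_subgroup Z
    rw [hcardZ] at h1
    have h2 := C.card_mul_index
    have h3 := Subgroup.card_le_of_le hCle
    rw [hHb4] at h3
    have h4 : Nat.card (S ⧸ Z) ≤ 4 * Nat.card (commutator (S ⧸ Z)) := h2 ▸ Nat.mul_le_mul h3 hidx
    omega
  -- the abelianization is not cyclic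
  have hge : 4 ≤ Nat.card (S ⧸ commutator S) := by
    by_contra hlt
    obtain ⟨k, hk⟩ := IsPGroup.iff_card.mp (hS.to_quotient (commutator S))
    have hk1 : k ≤ 1 := by
      by_contra hk2
      have := Nat.pow_le_pow_right two_pos (show 2 ≤ k by omega)
      rw [hk] at hlt
      omega
    haveI : IsCyclic (S ⧸ commutator S) := by
      interval_cases k
      · haveI : Subsingleton (S ⧸ commutator S) := (Nat.card_eq_one_iff_unique.mp hk).1
        infer_instance
      · exact isCyclic_of_prime_card (p := 2) hk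
    obtain ⟨y, hy⟩ := IsCyclic.exists_generator (α := S ⧸ commutator S)
    obtain ⟨x, rfl⟩ := QuotientGroup.mk'_surjective _ y
    have htop : Subgroup.zpowers x ⊔ commutator S = ⊤ := by
      rw [← QuotientGroup.ker_mk' (commutator S), ← Subgroup.comap_map_eq, MonoidHom.map_zpowers,
        (Subgroup.eq_top_iff' _).mpr hy, Subgroup.comap_top]
    haveI : Group.IsNilpotent S := hS.isNilpotent
    have hcyc : Subgroup.zpowers x = ⊤ := by
      refine frattini_nongenerating (le_antisymm le_top (htop.ge.trans ?_))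
      exact sup_le_sup_left (PSolvable.commutator_le_frattini hS).1 _
    refine hna ⟨⟨fun a b => Subtype.ext ?_⟩⟩
    exact Subgroup.mem_centralizer_iff.mp (Subgroup.le_centralizer (Subgroup.zpowers x)
      (hcyc.ge (Subgroup.mem_top (b : S)))) _ (hcyc.ge (Subgroup.mem_top (a : S)))
  have h5 := Subgroup.card_eq_card_quotient_mul_card_subgroup (commutator S)
  have h6 := Nat.mul_le_mul_right (Nat.card (commutator S)) hge
  omega

/-- A `2`-group whose derived subgroup has index four is dihedral, semidihedral or quaternion. -/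
theorem classify {n : ℕ} (hn : 3 ≤ n) (hX : Nat.card S = 2 ^ n)
    (hX' : Nat.card (commutator S) = 2 ^ (n - 2)) :
    Nonempty (S ≃* DihedralGroup (2 ^ (n - 1))) ∨ Nonempty (S ≃* QuaternionGroup (2 ^ (n - 2))) ∨
      (4 ≤ n ∧ ∃ a b : S, orderOf a = 2 ^ (n - 1) ∧ orderOf b = 2 ∧ b * a * b⁻¹ = a ^ (2 ^ (n - 2) - 1)) := by
  classical
  haveI := Fact.mk Nat.prime_two
  obtain ⟨-, C, hCc, hCi⟩ := taussky n S hn hX hX'
  haveI hCn : C.Normal := Subgroup.normal_of_index_eq_two hCi
  haveI : IsMulCommutative C := ⟨⟨(IsCyclic.commGroup (α := C)).mul_comm⟩⟩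
  obtain ⟨t, ht⟩ : ∃ t, t ∉ C := by
    by_contra hall
    push Not at hall
    rw [(Subgroup.eq_top_iff' C).mpr hall, Subgroup.index_top] at hCi
    omega
  have hne := commutator_ne_bot_of_card hn hX'
  obtain ⟨-, hder⟩ := index_two_facts C hCi ht hne
  obtain ⟨⟨a, haC⟩, hgen⟩ := IsCyclic.exists_generator (α := C)
  have hCa : C = Subgroup.zpowers a := by
    refine le_antisymm (fun x hx => ?_) (Subgroup.zpowers_le.mpr haC)
    obtain ⟨j, hj⟩ := hgen ⟨x, hx⟩
    exact ⟨j, congrArg Subtype.val hj⟩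
  obtain ⟨q, rfl⟩ : ∃ q, n = q + 3 := ⟨n - 3, by omega⟩
  have ha : orderOf a = 2 ^ (q + 2) := by
    have h := C.card_mul_index
    rw [hCi, hX, hCa, Nat.card_zpowers, pow_succ] at h
    omega
  simp only [show q + 3 - 2 = q + 1 from rfl, show q + 3 - 1 = q + 2 from rfl] at hX' ⊢
  obtain ⟨j, hj⟩ : ∃ j : ℤ, a ^ j = t * a * t⁻¹ := hCa.le (hCn.conj_mem a haC t)
  have hzm : ∀ i : ℤ, a ^ i = 1 ↔ (2 : ℤ) ^ (q + 2) ∣ i := fun i => by
    rw [← orderOf_dvd_iff_zpow_eq_one, ha]; push_cast; rfl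
  have hc : ∀ c ∈ C, ∃ i : ℤ, a ^ i = c := fun c hc => hCa.le hc
  have hcomm_le : commutator S ≤ Subgroup.zpowers (a ^ (j - 1)) := by
    intro x hx
    obtain ⟨c, hcC, rfl⟩ := hder x hx
    obtain ⟨i, rfl⟩ := hc c hcC
    refine ⟨i, ?_⟩
    show (a ^ (j - 1)) ^ i = _
    rw [← conj_zpow, ← hj, ← zpow_mul, ← zpow_mul, ← zpow_neg, ← zpow_add]
    congr 1; ring
  have hj1 : ¬ (4 : ℤ) ∣ j - 1 := by
    rintro ⟨u, hu⟩
    have h1 := Subgroup.card_le_of_le hcomm_le
    rw [hX', Nat.card_zpowers] at h1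
    have h2 : (a ^ (j - 1)) ^ (2 ^ q) = 1 := by
      rw [← zpow_natCast, ← zpow_mul, hzm, hu]
      exact ⟨u, by push_cast; ring⟩
    have h3 := Nat.le_of_dvd (pow_pos two_pos q) (orderOf_dvd_of_pow_eq_one h2)
    rw [pow_succ] at h1
    have := Nat.two_pow_pos q
    omega
  have hjodd : ¬ (2 : ℤ) ∣ j := by
    rintro ⟨u, hu⟩
    have h1 : (a ^ j) ^ (2 ^ (q + 1)) = 1 := by
      rw [← zpow_natCast, ← zpow_mul, hzm, hu]
      exact ⟨u, by push_cast; ring⟩
    rw [hj, conj_pow, conj_eq_one_iff] at h1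
    have h2 := Nat.le_of_dvd (pow_pos two_pos _) (orderOf_dvd_of_pow_eq_one h1)
    rw [ha, pow_succ _ (q + 1)] at h2
    have := Nat.two_pow_pos (q + 1)
    omega
  have ht2 : t * t ∈ C := by rw [Subgroup.mul_mem_iff_of_index_two hCi]
  obtain ⟨i₂, hi₂⟩ := hc _ ht2
  have hjj : (2 : ℤ) ^ (q + 2) ∣ j * j - 1 := by
    rw [← hzm, zpow_sub, zpow_one, mul_inv_eq_one, zpow_mul, hj, conj_zpow, hj]
    calc t * (t * a * t⁻¹) * t⁻¹ = (t * t) * a * (t * t)⁻¹ := by group
      _ = a := by rw [← hi₂]; group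
  have hj2 : (2 : ℤ) ^ (q + 1) ∣ j + 1 := by
    obtain ⟨u, hu⟩ : (2 : ℤ) ∣ j - 1 := by omega
    have hu' : IsCoprime ((2 : ℤ) ^ (q + 1)) u := by
      refine IsCoprime.pow_left ((Int.prime_two.coprime_iff_not_dvd).mpr ?_)
      rintro ⟨v, rfl⟩
      exact hj1 ⟨v, by rw [hu]; ring⟩
    refine hu'.dvd_of_dvd_mul_left ?_
    refine Int.dvd_of_mul_dvd_mul_left (a := 2) (by norm_num) ?_
    rw [← pow_succ' (2 : ℤ) (q + 1), show 2 * (u * (j + 1)) = j * j - 1 by
      rw [show 2 * (u * (j + 1)) = (2 * u) * (j + 1) by ring, ← hu]; ring]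
    exact hjj
  -- `t²` is fixed by conjugation with `t`
  have hfix : (2 : ℤ) ^ (q + 2) ∣ (j - 1) * i₂ := by
    rw [← hzm, sub_mul, one_mul, zpow_sub, mul_inv_eq_one, zpow_mul, hj, conj_zpow, hi₂]
    group
  have hi₂' : (2 : ℤ) ^ (q + 1) ∣ i₂ := by
    obtain ⟨u, hu⟩ : (2 : ℤ) ∣ j - 1 := by omega
    have hu' : IsCoprime ((2 : ℤ) ^ (q + 1)) u := by
      refine IsCoprime.pow_left ((Int.prime_two.coprime_iff_not_dvd).mpr ?_)
      rintro ⟨v, rfl⟩
      exact hj1 ⟨v, by rw [hu]; ring⟩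
    refine hu'.dvd_of_dvd_mul_left ?_
    refine Int.dvd_of_mul_dvd_mul_left (a := 2) (by norm_num) ?_
    rw [← pow_succ' (2 : ℤ) (q + 1), show 2 * (u * i₂) = (2 * u) * i₂ by ring, ← hu]
    exact hfix
  set w := a ^ (2 ^ (q + 1) : ℕ) with hw
  have hww : w * w = 1 := by
    rw [hw, ← pow_add, ← two_mul, ← pow_succ', ← ha, pow_orderOf_eq_one]
  have hpar : ∀ i : ℤ, (2 : ℤ) ^ (q + 1) ∣ i → a ^ i = 1 ∨ a ^ i = w := by
    rintro i ⟨u, rfl⟩
    rcases Int.even_or_odd' u with ⟨m, rfl | rfl⟩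
    · exact Or.inl ((hzm _).mpr ⟨m, by ring⟩)
    · refine Or.inr ?_
      rw [show (2 : ℤ) ^ (q + 1) * (2 * m + 1) = (2 : ℤ) ^ (q + 2) * m + ((2 ^ (q + 1) : ℕ) : ℤ) by push_cast; ring,
        zpow_add, (hzm _).mpr ⟨m, rfl⟩, one_mul, zpow_natCast]
  have htC : t ∉ Subgroup.zpowers a := fun h => ht (hCa.ge h)
  have hcard : 2 * 2 ^ (q + 2) = Nat.card S := by rw [hX]; ring
  rcases hpar _ hj2 with e1 | e1
  · -- inversion
    have hinv : t * a * t⁻¹ = a⁻¹ := by
      rw [zpow_add, zpow_one, mul_eq_one_iff_eq_inv] at e1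
      rw [← hj, e1]
    rcases hpar _ hi₂' with e2 | e2 <;> rw [hi₂] at e2
    · left
      haveI : NeZero (2 ^ (q + 2)) := ⟨by positivity⟩
      obtain ⟨f, hf, -⟩ := SmallTwo.exists_dihedral_hom_injective ha e2 hinv htC
      exact ⟨(MulEquiv.ofBijective f ((Nat.bijective_iff_injective_and_card f).mpr
        ⟨hf, by rw [DihedralGroup.nat_card, hcard]⟩)).symm⟩
    · right; left
      haveI : NeZero (2 ^ (q + 1)) := ⟨by positivity⟩
      obtain ⟨f, hf, -⟩ := Classical.exists_quaternion_hom (n := 2 ^ (q + 1)) (by rw [ha]; ring) e2 hinv htC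
      exact ⟨(MulEquiv.ofBijective f ((Nat.bijective_iff_injective_and_card f).mpr
        ⟨hf, by rw [Nat.card_eq_fintype_card, QuaternionGroup.card, ← hcard]; ring⟩)).symm⟩
  · right; right
    have hq : 1 ≤ q := by
      by_contra h0
      obtain rfl : q = 0 := by omega
      have h4 : a ^ (j - 1) = 1 := by
        rw [zpow_sub, zpow_one, mul_inv_eq_one]
        rw [zpow_add, zpow_one] at e1
        calc a ^ j = w * a⁻¹ := eq_mul_inv_of_mul_eq e1
          _ = a := by rw [hw]; group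
      exact hj1 (by simpa using (hzm _).mp h4)
    have hconj : t * a * t⁻¹ = a ^ (2 ^ (q + 1) - 1) := by
      rw [← hj, show a ^ j = a ^ (j + 1) * a⁻¹ by group, e1, pow_sub a (Nat.one_le_two_pow), pow_one, hw]
    obtain ⟨b, hb2, hbC, hb⟩ : ∃ b, b * b = 1 ∧ b ∉ C ∧ b * a * b⁻¹ = a ^ (2 ^ (q + 1) - 1) := by
      rcases hpar _ hi₂' with e2 | e2 <;> rw [hi₂] at e2
      · exact ⟨t, e2, ht, hconj⟩
      · refine ⟨t * a, ?_, fun h => ht ?_, ?_⟩
        · have h1 : a ^ j * a = w := by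
            rw [show a ^ j * a = a ^ (j + 1) by group, e1]
          calc t * a * (t * a) = (t * a * t⁻¹) * (t * t) * a := by group
            _ = a ^ j * (w * a) := by rw [e2, hj, mul_assoc]
            _ = a ^ j * (a * w) := by rw [hw, pow_mul_comm']
            _ = 1 := by rw [← mul_assoc, h1, hww]
        · have := C.mul_mem h (C.inv_mem haC)
          rwa [mul_inv_cancel_right] at this
        · rw [← hconj]; group
    refine ⟨by omega, a, b, ha, orderOf_eq_prime (by rw [pow_two, hb2]) fun e => hbC (e ▸ C.one_mem), hb⟩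

end CfsgLib.MaxClass
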