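import Mathlib
import Cfsg.Agent.Lib.PSolvable.Omega

/-!
# Generators of unitriangular `p`-groups

A finite group of upper unitriangular `k × k` matrices over `ZMod p` has Frattini index at most
`p ^ (k ^ 2 / 4)`: the leading positions of the group that are not composed of two others form a
triangle-free graph on `k` points.
-/

set_option autoImplicit false

namespace CfsgLib.UnitriRank

variable {k : ℕ}

/-- The order of the positions: by the distance from the diagonal, then by the row. -/
def key (i j : Fin k) : ℕ := ((j : ℕ) - i) * k + i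

theorem key_lt_of_gap {i j a c : Fin k} (h : (j : ℕ) - i < (c : ℕ) - a) : key i j < key a c := by
  have h1 : ((j : ℕ) - i + 1) * k ≤ ((c : ℕ) - a) * k := Nat.mul_le_mul_right k h
  have := i.isLt
  unfold key
  rw [add_mul, one_mul] at h1
  omega

theorem key_lt_row {i j a c : Fin k} (hd : (j : ℕ) - i = (c : ℕ) - a) (h : i < a) :
    key i j < key a c := by
  unfold key
  rw [hd]
  exact Nat.add_lt_add_left h _

theorem key_cases {i j a c : Fin k} (h : key a c ≤ key i j) :
    (c : ℕ) - a < (j : ℕ) - i ∨ ((c : ℕ) - a = (j : ℕ) - i ∧ a ≤ i) := by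
  rcases lt_trichotomy ((j : ℕ) - i) ((c : ℕ) - a) with hlt | heq | hgt
  · exact absurd h (key_lt_of_gap hlt).not_ge
  · refine Or.inr ⟨heq.symm, le_of_not_gt fun hia => ?_⟩
    exact absurd h (key_lt_row heq hia).not_ge
  · exact Or.inl hgt

theorem key_inj {i j a c : Fin k} (hij : i < j) (hac : a < c) (h : key i j = key a c) :
    i = a ∧ j = c := by
  rcases key_cases h.ge with h1 | ⟨h1, h2⟩
  · rcases key_cases h.le with h3 | ⟨h3, _⟩ <;> omega
  · rcases key_cases h.le with h3 | ⟨_, h4⟩
    · omega
    · have : i = a := le_antisymm h4 h2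
      subst this
      refine ⟨rfl, Fin.ext ?_⟩
      have h5 : (i : ℕ) < j := hij
      have h6 : (i : ℕ) < c := hac
      omega

theorem key_lt_sq (i j : Fin k) : key i j < k * k := by
  have h1 : ((j : ℕ) - i + 1) * k ≤ k * k := Nat.mul_le_mul_right k (by omega)
  have := i.isLt
  unfold key
  rw [add_mul, one_mul] at h1
  omega

variable {p : ℕ} [hp : Fact p.Prime] {Q : Type*} [Group Q]

/-- A faithful representation by upper unitriangular matrices. -/
structure Rep (p k : ℕ) (Q : Type*) [Group Q] where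
  f : Q →* Matrix (Fin k) (Fin k) (ZMod p)
  inj : Function.Injective f
  upper : ∀ (q : Q) (i j : Fin k), j ≤ i → f q i j = if i = j then 1 else 0

namespace Rep

variable (R : Rep p k Q)

/-- The strictly upper part. -/
def e (q : Q) : Matrix (Fin k) (Fin k) (ZMod p) := R.f q - 1

theorem f_eq (q : Q) : R.f q = 1 + R.e q := (add_sub_cancel _ _).symm

theorem e_low (q : Q) {i j : Fin k} (h : j ≤ i) : R.e q i j = 0 := by
  rw [e, Matrix.sub_apply, R.upper q i j h, Matrix.one_apply, sub_self]

theorem e_mul (q r : Q) : R.e (q * r) = R.e q + R.e r + R.e q * R.e r := by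
  rw [e, map_mul, R.f_eq q, R.f_eq r, add_mul, mul_add, mul_add, one_mul, one_mul, mul_one]
  abel

theorem e_one : R.e 1 = 0 := by rw [e, map_one, sub_self]

/-- Below the level of `n` the product vanishes. -/
theorem mul_e_apply (q r : Q) (n : ℕ) (hq : ∀ i j, key i j < n → R.e q i j = 0) {i j : Fin k}
    (h : key i j ≤ n) : R.e (q * r) i j = R.e q i j + R.e r i j := by
  have hs : (R.e q * R.e r) i j = 0 := by
    rw [Matrix.mul_apply]
    refine Finset.sum_eq_zero fun m _ => ?_
    rcases le_or_gt m i with hm | hm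
    · rw [R.e_low q hm, zero_mul]
    rcases le_or_gt j m with hj | hj
    · rw [R.e_low r hj, mul_zero]
    rw [hq i m ((key_lt_of_gap (by omega)).trans_le h), zero_mul]
  rw [R.e_mul, Matrix.add_apply, Matrix.add_apply, hs, add_zero]

/-- The filtration by the positions. -/
def level (n : ℕ) : Subgroup Q where
  carrier := {q | ∀ i j, key i j < n → R.e q i j = 0}
  one_mem' i j _ := by rw [R.e_one]; rfl
  mul_mem' {q r} hq hr i j h := by rw [R.mul_e_apply q r n hq h.le, hq i j h, hr i j h, add_zero]
  inv_mem' {q} hq i j h := by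
    have := R.mul_e_apply q q⁻¹ n hq h.le
    rw [mul_inv_cancel, R.e_one, hq i j h, zero_add] at this
    exact this.symm

theorem mem_level {n : ℕ} {q : Q} : q ∈ R.level n ↔ ∀ i j, key i j < n → R.e q i j = 0 := Iff.rfl

theorem level_succ_le (n : ℕ) : R.level (n + 1) ≤ R.level n :=
  fun _ hq i j h => hq i j (h.trans (Nat.lt_succ_self n))

theorem level_zero : R.level 0 = ⊤ := eq_top_iff.2 fun q _ i j h => absurd h (Nat.not_lt_zero _)

theorem level_sq : R.level (k * k) = ⊥ := by
  refine eq_bot_iff.2 fun q hq => Subgroup.mem_bot.2 (R.inj ?_)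
  rw [map_one]
  have h : R.e q = 0 := Matrix.ext fun i j => hq i j (key_lt_sq i j)
  exact sub_eq_zero.1 h

open scoped Classical in
/-- The leading positions of a subgroup. -/
noncomputable def lead (S : Subgroup Q) : Finset (Fin k × Fin k) :=
  Finset.univ.filter fun t => ∃ q ∈ S, q ∈ R.level (key t.1 t.2) ∧ R.e q t.1 t.2 ≠ 0

theorem mem_lead {S : Subgroup Q} {t : Fin k × Fin k} :
    t ∈ R.lead S ↔ ∃ q ∈ S, q ∈ R.level (key t.1 t.2) ∧ R.e q t.1 t.2 ≠ 0 := by
  simp [lead]

theorem lt_of_mem_lead {S : Subgroup Q} {t : Fin k × Fin k} (h : t ∈ R.lead S) : t.1 < t.2 := by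
  obtain ⟨q, -, -, hne⟩ := R.mem_lead.1 h
  exact lt_of_not_ge fun hle => hne (R.e_low q hle)

theorem lead_mono {S T : Subgroup Q} (h : S ≤ T) : R.lead S ⊆ R.lead T := fun t ht => by
  obtain ⟨q, hq, h1, h2⟩ := R.mem_lead.1 ht
  exact R.mem_lead.2 ⟨q, h hq, h1, h2⟩

/-- One step of the filtration. -/
theorem card_step (S : Subgroup Q) (n : ℕ) :
    Nat.card ↥(S ⊓ R.level n) =
      p ^ ((R.lead S).filter fun t => key t.1 t.2 = n).card * Nat.card ↥(S ⊓ R.level (n + 1)) := by
  classical
  by_cases hex : ∃ t ∈ R.lead S, key t.1 t.2 = n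
  · obtain ⟨t, ht, rfl⟩ := hex
    have hlt := R.lt_of_mem_lead ht
    have hone : ((R.lead S).filter fun u => key u.1 u.2 = key t.1 t.2) = {t} := by
      ext u
      rw [Finset.mem_filter, Finset.mem_singleton]
      refine ⟨fun hu => ?_, fun hu => by rw [hu]; exact ⟨ht, rfl⟩⟩
      obtain ⟨h1, h2⟩ := key_inj (R.lt_of_mem_lead hu.1) hlt hu.2
      exact Prod.ext h1 h2
    rw [hone, Finset.card_singleton, pow_one]
    set A := S ⊓ R.level (key t.1 t.2) with hA
    let f : A →* Multiplicative (ZMod p) :=
      MonoidHom.mk' (fun q => Multiplicative.ofAdd (R.e (q : Q) t.1 t.2)) fun q r => by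
        rw [← ofAdd_add, Subgroup.coe_mul,
          R.mul_e_apply (q : Q) (r : Q) _ q.2.2 le_rfl]
    have hrange : Nat.card f.range = p := by
      have hc : Nat.card (Multiplicative (ZMod p)) = p :=
        (Nat.card_congr Multiplicative.toAdd).trans (Nat.card_zmod p)
      rcases (hp.out.eq_one_or_self_of_dvd _ ((Subgroup.card_subgroup_dvd_card f.range).trans hc.dvd)) with h | h
      · exfalso
        obtain ⟨q, hqS, hql, hne⟩ := R.mem_lead.1 ht
        have hbot : f ⟨q, hqS, hql⟩ ∈ f.range := ⟨_, rfl⟩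
        rw [Subgroup.card_eq_one.1 h, Subgroup.mem_bot] at hbot
        exact hne hbot
      · exact h
    have hker : f.ker = (S ⊓ R.level (key t.1 t.2 + 1)).subgroupOf A := by
      ext q
      rw [MonoidHom.mem_ker, Subgroup.mem_subgroupOf, Subgroup.mem_inf]
      constructor
      · intro hq
        refine ⟨q.2.1, fun i j hij => ?_⟩
        rcases (Nat.lt_succ_iff.1 hij).lt_or_eq with h | h
        · exact q.2.2 i j h
        · rcases le_or_gt j i with hji | hij'
          · exact R.e_low _ hji
          obtain ⟨h1, h2⟩ := key_inj hij' hlt h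
          rw [h1, h2]
          exact hq
      · intro hq
        exact hq.2 t.1 t.2 (Nat.lt_succ_self _)
    rw [← Subgroup.card_eq_card_quotient_mul_card_subgroup f.ker |>.symm,
      Nat.card_congr (QuotientGroup.quotientKerEquivRange f).toEquiv, hrange, hker,
      Nat.card_congr (Subgroup.subgroupOfEquivOfLe
        (inf_le_inf_left S (R.level_succ_le _))).toEquiv]
  · push Not at hex
    rw [Finset.filter_eq_empty_iff.2 hex, Finset.card_empty, pow_zero, one_mul]
    have : S ⊓ R.level n = S ⊓ R.level (n + 1) := by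
      refine le_antisymm (fun q hq => ⟨hq.1, fun i j hij => ?_⟩)
        (inf_le_inf_left S (R.level_succ_le _))
      rcases (Nat.lt_succ_iff.1 hij).lt_or_eq with h | h
      · exact hq.2 i j h
      · by_contra hne
        exact hex (i, j) (R.mem_lead.2 ⟨q, hq.1, fun a c hac => hq.2 a c (hac.trans_eq h), hne⟩) h
    rw [this]

theorem card_eq (S : Subgroup Q) : Nat.card S = p ^ (R.lead S).card := by
  classical
  have h : ∀ n, Nat.card S =
      p ^ ((R.lead S).filter fun t => key t.1 t.2 < n).card * Nat.card ↥(S ⊓ R.level n) := by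
    intro n
    induction n with
    | zero =>
      rw [R.level_zero, inf_top_eq, Finset.filter_eq_empty_iff.2 (fun _ _ => Nat.not_lt_zero _),
        Finset.card_empty, pow_zero, one_mul]
    | succ n ih =>
      rw [ih, R.card_step S n, ← mul_assoc, ← pow_add, ← Finset.card_union_of_disjoint]
      · congr 3
        ext t
        simp only [Finset.mem_union, Finset.mem_filter, Nat.lt_succ_iff_lt_or_eq]
        tauto
      · exact Finset.disjoint_filter.2 fun t _ h1 h2 => h1.ne h2
  rw [h (k * k), R.level_sq, inf_bot_eq, Subgroup.card_bot, mul_one,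
    Finset.filter_true_of_mem fun t _ => key_lt_sq t.1 t.2]

/-- Composed positions are leading positions of the Frattini subgroup. -/
theorem composite_mem [Finite Q] (hQ : IsPGroup p Q) {a b c : Fin k} (hab : (a, b) ∈ R.lead ⊤)
    (hbc : (b, c) ∈ R.lead ⊤) : (a, c) ∈ R.lead (frattini Q) := by
  have hlt1 : (a : ℕ) < b := R.lt_of_mem_lead hab
  have hlt2 : (b : ℕ) < c := R.lt_of_mem_lead hbc
  obtain ⟨g, -, hg, hgne⟩ := R.mem_lead.1 hab
  obtain ⟨h, -, hh, hhne⟩ := R.mem_lead.1 hbc
  dsimp only at hg hgne hh hhne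
  have hX : ∀ {i j : Fin k}, R.e g i j ≠ 0 →
      (b : ℕ) - a < (j : ℕ) - i ∨ ((b : ℕ) - a = (j : ℕ) - i ∧ a ≤ i) :=
    fun {i j} hne => key_cases (le_of_not_gt fun hlt => hne (hg i j hlt))
  have hY : ∀ {i j : Fin k}, R.e h i j ≠ 0 →
      (c : ℕ) - b < (j : ℕ) - i ∨ ((c : ℕ) - b = (j : ℕ) - i ∧ b ≤ i) :=
    fun {i j} hne => key_cases (le_of_not_gt fun hlt => hne (hh i j hlt))
  set D := R.e g * R.e h - R.e h * R.e g with hD
  have hDlow : ∀ i j, key i j < key a c → D i j = 0 := by
    intro i j hij
    have hk : ¬ ((c : ℕ) - a < (j : ℕ) - i ∨ ((c : ℕ) - a = (j : ℕ) - i ∧ a ≤ i)) := by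
      rintro (h1 | ⟨h1, h2⟩)
      · exact absurd (key_lt_of_gap h1) hij.not_gt
      · rcases h2.lt_or_eq with h3 | h3
        · exact absurd (key_lt_row h1 h3) hij.not_gt
        · subst h3
          have : key a c = key a j := by unfold key; rw [h1]
          omega
    rw [hD, Matrix.sub_apply, Matrix.mul_apply, Matrix.mul_apply,
      Finset.sum_eq_zero, Finset.sum_eq_zero, sub_zero]
    · intro m _
      by_contra hne
      have h1 := hY (left_ne_zero_of_mul hne)
      have h2 := hX (right_ne_zero_of_mul hne)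
      have h3 : i < m := lt_of_not_ge fun hle => left_ne_zero_of_mul hne (R.e_low h hle)
      have h4 : m < j := lt_of_not_ge fun hle => right_ne_zero_of_mul hne (R.e_low g hle)
      simp only [Fin.lt_def, Fin.le_def] at h1 h2 h3 h4 hk
      omega
    · intro m _
      by_contra hne
      have h1 := hX (left_ne_zero_of_mul hne)
      have h2 := hY (right_ne_zero_of_mul hne)
      have h3 : i < m := lt_of_not_ge fun hle => left_ne_zero_of_mul hne (R.e_low g hle)
      have h4 : m < j := lt_of_not_ge fun hle => right_ne_zero_of_mul hne (R.e_low h hle)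
      simp only [Fin.lt_def, Fin.le_def] at h1 h2 h3 h4 hk
      omega
  have hDac : D a c = R.e g a b * R.e h b c := by
    have hz : (R.e h * R.e g) a c = 0 := by
      rw [Matrix.mul_apply]
      refine Finset.sum_eq_zero fun m _ => ?_
      by_contra hne
      have h1 := hY (left_ne_zero_of_mul hne)
      have h2 := hX (right_ne_zero_of_mul hne)
      have h3 : a < m := lt_of_not_ge fun hle => left_ne_zero_of_mul hne (R.e_low h hle)
      have h4 : m < c := lt_of_not_ge fun hle => right_ne_zero_of_mul hne (R.e_low g hle)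
      simp only [Fin.lt_def, Fin.le_def] at h1 h2 h3 h4
      omega
    rw [hD, Matrix.sub_apply, hz, sub_zero, Matrix.mul_apply]
    refine Finset.sum_eq_single b (fun m _ hm => ?_) (fun hb => absurd (Finset.mem_univ b) hb)
    by_contra hne
    have h1 := hX (left_ne_zero_of_mul hne)
    have h2 := hY (right_ne_zero_of_mul hne)
    have h3 : a < m := lt_of_not_ge fun hle => left_ne_zero_of_mul hne (R.e_low g hle)
    have h4 : m < c := lt_of_not_ge fun hle => right_ne_zero_of_mul hne (R.e_low h hle)
    simp only [Fin.lt_def, Fin.le_def] at h1 h2 h3 h4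
    exact hm (Fin.ext (by omega))
  -- the commutator
  set z := g * h * g⁻¹ * h⁻¹ with hz
  have hfz : R.e z = D + D * R.e (g⁻¹ * h⁻¹) := by
    have h1 : R.f z - 1 = (R.f (g * h) - R.f (h * g)) * R.f (g⁻¹ * h⁻¹) := by
      rw [sub_mul, ← map_mul, ← map_mul, show h * g * (g⁻¹ * h⁻¹) = 1 by group, map_one,
        show g * h * (g⁻¹ * h⁻¹) = z by rw [hz]; group]
    have h2 : R.f (g * h) - R.f (h * g) = D := by
      rw [R.f_eq (g * h), R.f_eq (h * g), R.e_mul, R.e_mul, hD]
      abel
    rw [e, h1, h2, R.f_eq, mul_add, mul_one]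
  have hval : ∀ i j, key i j ≤ key a c → R.e z i j = D i j := by
    intro i j hij
    rw [hfz, Matrix.add_apply, Matrix.mul_apply, Finset.sum_eq_zero, add_zero]
    intro m _
    rcases le_or_gt j m with hj | hj
    · rw [R.e_low _ hj, mul_zero]
    rcases le_or_gt m i with hm | hm
    · rw [hD, Matrix.sub_apply, Matrix.mul_apply, Matrix.mul_apply, Finset.sum_eq_zero,
        Finset.sum_eq_zero, sub_zero, zero_mul]
      · intro l _
        rcases le_or_gt l i with hl | hl
        · rw [R.e_low h hl, zero_mul]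
        · rw [R.e_low g (hm.trans hl.le), mul_zero]
      · intro l _
        rcases le_or_gt l i with hl | hl
        · rw [R.e_low g hl, zero_mul]
        · rw [R.e_low h (hm.trans hl.le), mul_zero]
    rw [hDlow i m ((key_lt_of_gap (by omega)).trans_le hij), zero_mul]
  refine R.mem_lead.2 ⟨z, (PSolvable.commutator_le_frattini hQ).1 ?_, fun i j hij => ?_, ?_⟩
  · rw [hz, ← commutatorElement_def]
    exact Subgroup.commutator_mem_commutator (Subgroup.mem_top g) (Subgroup.mem_top h)
  · rw [hval i j (Nat.le_of_lt hij), hDlow i j hij]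
  · rw [hval a c le_rfl, hDac]
    exact mul_ne_zero hgne hhne

/-- The bound. -/
theorem frattini_index_le [Finite Q] (hQ : IsPGroup p Q) (R : Rep p k Q) :
    (frattini Q).index ≤ p ^ (k ^ 2 / 4) := by
  classical
  set C := R.lead ⊤ \ R.lead (frattini Q) with hC
  have hidx : (frattini Q).index = p ^ C.card := by
    have h1 := (frattini Q).index_mul_card
    rw [← Subgroup.card_top (G := Q), R.card_eq (frattini Q), R.card_eq ⊤,
      ← Finset.card_sdiff_add_card_eq_card (R.lead_mono (le_top : frattini Q ≤ ⊤)), pow_add] at h1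
    exact Nat.eq_of_mul_eq_mul_right (pow_pos hp.out.pos _) h1
  rw [hidx]
  refine Nat.pow_le_pow_right hp.out.pos ?_
  have hClt : ∀ t ∈ C, t.1 < t.2 := fun t ht => R.lt_of_mem_lead (Finset.mem_sdiff.1 ht).1
  let G : SimpleGraph (Fin k) := SimpleGraph.fromRel fun a b => (a, b) ∈ C
  have hadj : ∀ {a b : Fin k}, G.Adj a b → a < b → (a, b) ∈ C := by
    intro a b hG hab
    rcases hG with ⟨-, h | h⟩
    · exact h
    · exact absurd (hClt _ h) hab.not_gt
  have hfree : G.CliqueFree 3 := by
    intro s hs
    rw [SimpleGraph.is3Clique_iff] at hs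
    obtain ⟨x, y, w, hxy, hxw, hyw, -⟩ := hs
    have key3 : ∀ a b c : Fin k, a < b → b < c → G.Adj a b → G.Adj b c → G.Adj a c → False := by
      intro a b c h1 h2 e1 e2 e3
      exact (Finset.mem_sdiff.1 (hadj e3 (h1.trans h2))).2
        (R.composite_mem hQ (Finset.mem_sdiff.1 (hadj e1 h1)).1 (Finset.mem_sdiff.1 (hadj e2 h2)).1)
    rcases lt_trichotomy x y with h1 | h1 | h1
    · rcases lt_trichotomy y w with h2 | h2 | h2
      · exact key3 x y w h1 h2 hxy hyw hxw
      · exact hyw.ne h2
      · rcases lt_trichotomy x w with h3 | h3 | h3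
        · exact key3 x w y h3 h2 hxw hyw.symm hxy
        · exact hxw.ne h3
        · exact key3 w x y h3 h1 hxw.symm hxy hyw.symm
    · exact hxy.ne h1
    · rcases lt_trichotomy x w with h2 | h2 | h2
      · exact key3 y x w h1 h2 hxy.symm hxw hyw
      · exact hxw.ne h2
      · rcases lt_trichotomy y w with h3 | h3 | h3
        · exact key3 y w x h3 h2 hyw hxw.symm hxy.symm
        · exact hyw.ne h3
        · exact key3 w y x h3 h1 hyw.symm hxy.symm hxw.symm
  have hle : C.card ≤ G.edgeFinset.card := by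
    refine Finset.card_le_card_of_injOn (fun t => s(t.1, t.2)) (fun t ht => ?_) ?_
    · rw [Finset.mem_coe, SimpleGraph.mem_edgeFinset, SimpleGraph.mem_edgeSet]
      exact ⟨(hClt t ht).ne, Or.inl ht⟩
    · intro t ht u hu htu
      rcases Sym2.eq_iff.1 htu with ⟨h1, h2⟩ | ⟨h1, h2⟩
      · exact Prod.ext h1 h2
      · have a1 := hClt t ht
        have a2 := hClt u hu
        rw [h1, h2] at a1
        exact absurd a2 a1.not_gt
  refine hle.trans ?_
  have ht := SimpleGraph.CliqueFree.card_edgeFinset_le (r := 2) hfree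
  simp only [Fintype.card_fin] at ht
  have h2 : (k % 2).choose 2 = 0 := Nat.choose_eq_zero_of_lt (by omega)
  rw [h2, add_zero] at ht
  refine ht.trans ?_
  rw [show (2 - 1 : ℕ) = 1 from rfl, mul_one]
  exact Nat.div_le_div_right (Nat.sub_le _ _)

end Rep

end CfsgLib.UnitriRank
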